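import Groth.Agent.Lib.Helper84.DerivedT
import Mathlib.CategoryTheory.Triangulated.Triangulated

/-!
# Morphisms in the derived category that are isomorphisms on `H^i`, `i > m`, and epi on `H^m`
(helper15)

`IsMQI m φ` for `φ : X ⟶ Y` in `DerivedCategory C`.  Equivalent to: the cone of `φ` is `≤ m - 1`
for the canonical t-structure.
-/

set_option autoImplicit false
universe w v u

open CategoryTheory CategoryTheory.Limits CategoryTheory.Pretriangulated CategoryTheory.Triangulated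
open DerivedCategory

namespace Groth.Agent.Lib.Helper15.MQI

variable {C : Type u} [Category.{v} C] [Abelian C] [HasDerivedCategory.{w} C]

/-- `φ` induces isomorphisms on `H^i` for `i > m` and an epimorphism on `H^m`. -/
def IsMQI (m : ℤ) {X Y : DerivedCategory C} (φ : X ⟶ Y) : Prop :=
  (∀ i : ℤ, m < i → IsIso ((homologyFunctor C i).map φ)) ∧ Epi ((homologyFunctor C m).map φ)

lemma IsMQI.epi {m : ℤ} {X Y : DerivedCategory C} {φ : X ⟶ Y} (h : IsMQI m φ) (i : ℤ) (hi : m ≤ i) :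
    Epi ((homologyFunctor C i).map φ) := by
  rcases eq_or_lt_of_le hi with rfl | hi
  · exact h.2
  · have := h.1 i hi
    infer_instance

lemma IsMQI.mono {m : ℤ} {X Y : DerivedCategory C} {φ : X ⟶ Y} (h : IsMQI m φ) (i : ℤ) (hi : m < i) :
    Mono ((homologyFunctor C i).map φ) := by
  have := h.1 i hi
  infer_instance

lemma isMQI_iff_of_distTriang (m : ℤ) (T : Triangle (DerivedCategory C)) (hT : T ∈ distTriang _) :
    IsMQI m T.mor₁ ↔ T.obj₃.IsLE (m - 1) := by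
  constructor
  · intro h
    rw [isLE_iff]
    intro i hi
    exact Groth.Agent.Lib.Helper84.DerivedT.isZero_homology_obj₃ T hT i (i + 1) rfl
      (h.epi i (by lia)) (h.mono (i + 1) (by lia))
  · intro h
    have hz : ∀ i : ℤ, m ≤ i → IsZero ((homologyFunctor C i).obj T.obj₃) := fun i hi =>
      isZero_of_isLE T.obj₃ (m - 1) i (by lia)
    have hepi : ∀ i : ℤ, m ≤ i → Epi ((homologyFunctor C i).map T.mor₁) := fun i hi =>
      (HomologySequence.epi_homologyMap_mor₁_iff T hT i).2 ((hz i hi).eq_of_tgt _ _)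
    refine ⟨fun i hi => ?_, hepi m le_rfl⟩
    have hmono : Mono ((homologyFunctor C i).map T.mor₁) :=
      (HomologySequence.mono_homologyMap_mor₁_iff T hT (i - 1) i (by lia)).2
        ((hz (i - 1) (by lia)).eq_of_src _ _)
    have := hepi i hi.le
    exact isIso_of_mono_of_epi _

lemma IsMQI.comp {m : ℤ} {X Y Z : DerivedCategory C} {φ : X ⟶ Y} {ψ : Y ⟶ Z} (h₁ : IsMQI m φ)
    (h₂ : IsMQI m ψ) : IsMQI m (φ ≫ ψ) := by
  refine ⟨fun i hi => ?_, ?_⟩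
  · rw [Functor.map_comp]
    have := h₁.1 i hi
    have := h₂.1 i hi
    infer_instance
  · rw [Functor.map_comp]
    have := h₁.2
    have := h₂.2
    exact epi_comp _ _

lemma IsMQI.of_isIso (m : ℤ) {X Y : DerivedCategory C} (φ : X ⟶ Y) [IsIso φ] : IsMQI m φ :=
  ⟨fun _ _ => inferInstance, inferInstance⟩

lemma IsMQI.of_le {m m' : ℤ} (hm : m ≤ m') {X Y : DerivedCategory C} {φ : X ⟶ Y} (h : IsMQI m φ) :
    IsMQI m' φ :=
  ⟨fun i hi => h.1 i (by lia), h.epi m' hm⟩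

/-- A morphism with target in `D^{≤ m - 1}` from the zero object... more generally any morphism from
an object `≤ m - 1`... here: the zero morphism `0 ⟶ K` is an `m`-MQI when `K` is `≤ m - 1`. -/
lemma IsMQI.of_isLE (m : ℤ) {X Y : DerivedCategory C} (φ : X ⟶ Y) [X.IsLE (m - 1)] [Y.IsLE (m - 1)] :
    IsMQI m φ := by
  have hX : ∀ i : ℤ, m ≤ i → IsZero ((homologyFunctor C i).obj X) := fun i hi =>
    isZero_of_isLE X (m - 1) i (by lia)
  have hY : ∀ i : ℤ, m ≤ i → IsZero ((homologyFunctor C i).obj Y) := fun i hi =>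
    isZero_of_isLE Y (m - 1) i (by lia)
  refine ⟨fun i hi => ?_, ⟨fun _ _ _ => (hY m le_rfl).eq_of_src _ _⟩⟩
  exact ⟨0, (hX i hi.le).eq_of_src _ _, (hY i hi.le).eq_of_src _ _⟩

lemma IsMQI.shift {m : ℤ} {X Y : DerivedCategory C} {φ : X ⟶ Y} (h : IsMQI m φ) (n : ℤ) :
    IsMQI (m - n) (φ⟦n⟧') := by
  have key : ∀ i : ℤ, Arrow.mk ((homologyFunctor C i).map (φ⟦n⟧')) ≅
      Arrow.mk ((homologyFunctor C (i + n)).map φ) := fun i =>
    Arrow.isoMk (((homologyFunctor C 0).shiftIso n i (i + n) (by lia)).app X)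
      (((homologyFunctor C 0).shiftIso n i (i + n) (by lia)).app Y)
      (((homologyFunctor C 0).shiftIso n i (i + n) (by lia)).hom.naturality φ).symm
  refine ⟨fun i hi => ?_, ?_⟩
  · have := h.1 (i + n) (by lia)
    exact (MorphismProperty.isomorphisms (C)).arrow_mk_iso_iff (key i) |>.2 this
  · have : Epi ((homologyFunctor C (m - n + n)).map φ) := by
      have : m - n + n = m := by lia
      rw [this]; exact h.2
    exact (MorphismProperty.epimorphisms (C)).arrow_mk_iso_iff (key (m - n)) |>.2 this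

end Groth.Agent.Lib.Helper15.MQI

namespace Groth.Agent.Lib.Helper15.MQI

variable {C : Type u} [Category.{v} C] [Abelian C] [HasDerivedCategory.{w} C]

/-- Consequence of the octahedral axiom for `IsMQI`. -/
lemma exists_of_octahedron {X₁ X₂ X₃ Z₁₂ Z₂₃ Z₁₃ : DerivedCategory C}
    {u₁₂ : X₁ ⟶ X₂} {u₂₃ : X₂ ⟶ X₃} {u₁₃ : X₁ ⟶ X₃} (comm : u₁₂ ≫ u₂₃ = u₁₃)
    {v₁₂ : X₂ ⟶ Z₁₂} {w₁₂ : Z₁₂ ⟶ X₁⟦(1 : ℤ)⟧} (h₁₂ : Triangle.mk u₁₂ v₁₂ w₁₂ ∈ distTriang _)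
    {v₂₃ : X₃ ⟶ Z₂₃} {w₂₃ : Z₂₃ ⟶ X₂⟦(1 : ℤ)⟧} (h₂₃ : Triangle.mk u₂₃ v₂₃ w₂₃ ∈ distTriang _)
    {v₁₃ : X₃ ⟶ Z₁₃} {w₁₃ : Z₁₃ ⟶ X₁⟦(1 : ℤ)⟧} (h₁₃ : Triangle.mk u₁₃ v₁₃ w₁₃ ∈ distTriang _)
    (m : ℤ) :
    ∃ (m₁ : Z₁₂ ⟶ Z₁₃) (m₃ : Z₁₃ ⟶ Z₂₃), (IsMQI m u₂₃ → IsMQI m m₁) ∧
      (IsMQI (m + 1) u₁₂ → IsMQI m m₃) := by
  have oct := Triangulated.someOctahedron comm h₁₂ h₂₃ h₁₃
  refine ⟨oct.m₁, oct.m₃, fun h => ?_, fun h => ?_⟩
  · have h' : Z₂₃.IsLE (m - 1) := (isMQI_iff_of_distTriang m _ h₂₃).1 h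
    exact (isMQI_iff_of_distTriang m _ oct.mem).2 h'
  · have h' : Z₁₂.IsLE (m + 1 - 1) := (isMQI_iff_of_distTriang (m + 1) _ h₁₂).1 h
    have h'' : (Z₁₂⟦(1 : ℤ)⟧).IsLE (m - 1) :=
      TStructure.t.isLE_shift Z₁₂ (m + 1 - 1) 1 (m - 1) (by lia)
    exact (isMQI_iff_of_distTriang m _ (rot_of_distTriang _ oct.mem)).2 h''

end Groth.Agent.Lib.Helper15.MQI
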