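import Groth.Agent.Lib.Helper15.MQI
import Mathlib.Algebra.Homology.DerivedCategory.ExactFunctor

/-!
# Exact faithful functors on derived categories (helper15)

For an exact, additive, faithful functor `F : C₁ ⥤ C₂` between abelian categories:
`F.mapDerivedCategory` detects `IsLE` and `IsMQI`.  Also natural isomorphisms
`(F ⋙ G).mapDerivedCategory ≅ F.mapDerivedCategory ⋙ G.mapDerivedCategory`, etc.
-/

set_option autoImplicit false
universe w₁ w₂ w₃ v₁ v₂ v₃ u₁ u₂ u₃

open CategoryTheory CategoryTheory.Limits CategoryTheory.Pretriangulated DerivedCategory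

namespace Groth.Agent.Lib.Helper15.ExactFunctorD

open Groth.Agent.Lib.Helper15.MQI

section

variable {C₁ : Type u₁} [Category.{v₁} C₁] [Abelian C₁] [HasDerivedCategory.{w₁} C₁]
  {C₂ : Type u₂} [Category.{v₂} C₂] [Abelian C₂] [HasDerivedCategory.{w₂} C₂]
  (F : C₁ ⥤ C₂) [F.Additive] [PreservesFiniteLimits F] [PreservesFiniteColimits F]

lemma exactAt_map_iff [F.Faithful] (K : CochainComplex C₁ ℤ) (i : ℤ) :
    ((F.mapHomologicalComplex (ComplexShape.up ℤ)).obj K).ExactAt i ↔ K.ExactAt i := by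
  rw [HomologicalComplex.exactAt_iff, HomologicalComplex.exactAt_iff]
  exact ShortComplex.exact_map_iff_of_faithful (K.sc i) F

lemma isLE_map_iff [F.Faithful] (K : CochainComplex C₁ ℤ) (n : ℤ) :
    CochainComplex.IsLE ((F.mapHomologicalComplex (ComplexShape.up ℤ)).obj K) n ↔ K.IsLE n := by
  rw [CochainComplex.isLE_iff, CochainComplex.isLE_iff]
  exact forall₂_congr fun i _ => exactAt_map_iff F K i

lemma isLE_mapDerivedCategory_iff [F.Faithful] (X : DerivedCategory C₁) (n : ℤ) :
    (F.mapDerivedCategory.obj X).IsLE n ↔ X.IsLE n := by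
  obtain ⟨K, ⟨e⟩⟩ : ∃ K : CochainComplex C₁ ℤ, Nonempty (Q.obj K ≅ X) :=
    ⟨_, ⟨(DerivedCategory.Q (C := C₁)).objObjPreimageIso X⟩⟩
  have e' : F.mapDerivedCategory.obj X ≅
      Q.obj ((F.mapHomologicalComplex (ComplexShape.up ℤ)).obj K) :=
    F.mapDerivedCategory.mapIso e.symm ≪≫ F.mapDerivedCategoryFactors.app K
  constructor
  · intro h
    have h1 : (Q.obj ((F.mapHomologicalComplex (ComplexShape.up ℤ)).obj K)).IsLE n :=
      TStructure.t.isLE_of_iso e' n
    rw [isLE_Q_obj_iff, isLE_map_iff] at h1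
    have h2 : (Q.obj K).IsLE n := (isLE_Q_obj_iff K n).2 h1
    exact TStructure.t.isLE_of_iso e n
  · intro h
    have h2 : (Q.obj K).IsLE n := TStructure.t.isLE_of_iso e.symm n
    rw [isLE_Q_obj_iff] at h2
    have h1 : (Q.obj ((F.mapHomologicalComplex (ComplexShape.up ℤ)).obj K)).IsLE n := by
      rw [isLE_Q_obj_iff, isLE_map_iff]; exact h2
    exact TStructure.t.isLE_of_iso e'.symm n

lemma isMQI_mapDerivedCategory_iff [F.Faithful] {X Y : DerivedCategory C₁} (φ : X ⟶ Y) (m : ℤ) :
    IsMQI m (F.mapDerivedCategory.map φ) ↔ IsMQI m φ := by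
  obtain ⟨Z, g, h, hT⟩ := distinguished_cocone_triangle φ
  have hT' := F.mapDerivedCategory.map_distinguished _ hT
  exact Iff.trans (isMQI_iff_of_distTriang m _ hT')
    (Iff.trans (isLE_mapDerivedCategory_iff F Z (m - 1)) (isMQI_iff_of_distTriang m _ hT).symm)

end

end Groth.Agent.Lib.Helper15.ExactFunctorD

namespace Groth.Agent.Lib.Helper15.ExactFunctorD

section Iso

variable {C₁ : Type u₁} [Category.{v₁} C₁] [Abelian C₁] [HasDerivedCategory.{w₁} C₁]
  {C₂ : Type u₂} [Category.{v₂} C₂] [Abelian C₂] [HasDerivedCategory.{w₂} C₂]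
  {C₃ : Type u₃} [Category.{v₃} C₃] [Abelian C₃] [HasDerivedCategory.{w₃} C₃]

/-- An isomorphism of exact functors induces an isomorphism of the functors on derived
categories. -/
noncomputable def mapDerivedCategoryIso {F F' : C₁ ⥤ C₂} [F.Additive] [PreservesFiniteLimits F]
    [PreservesFiniteColimits F] [F'.Additive] [PreservesFiniteLimits F']
    [PreservesFiniteColimits F'] (e : F ≅ F') : F.mapDerivedCategory ≅ F'.mapDerivedCategory :=
  Localization.liftNatIso DerivedCategory.Q (HomologicalComplex.quasiIso C₁ (ComplexShape.up ℤ))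
    (F.mapHomologicalComplex _ ⋙ DerivedCategory.Q) (F'.mapHomologicalComplex _ ⋙ DerivedCategory.Q)
    _ _ (Functor.isoWhiskerRight (NatIso.mapHomologicalComplex e _) DerivedCategory.Q)

/-- composition -/
noncomputable def mapDerivedCategoryComp (F : C₁ ⥤ C₂) (G : C₂ ⥤ C₃) [F.Additive]
    [PreservesFiniteLimits F] [PreservesFiniteColimits F] [G.Additive] [PreservesFiniteLimits G]
    [PreservesFiniteColimits G] [PreservesFiniteLimits (F ⋙ G)] [PreservesFiniteColimits (F ⋙ G)] :
    (F ⋙ G).mapDerivedCategory ≅ F.mapDerivedCategory ⋙ G.mapDerivedCategory :=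
  letI : Localization.Lifting DerivedCategory.Q
      (HomologicalComplex.quasiIso C₁ (ComplexShape.up ℤ))
      (F.mapHomologicalComplex (ComplexShape.up ℤ) ⋙ G.mapHomologicalComplex (ComplexShape.up ℤ) ⋙
        DerivedCategory.Q) (F.mapDerivedCategory ⋙ G.mapDerivedCategory) :=
    ⟨(Functor.associator _ _ _).symm ≪≫
      Functor.isoWhiskerRight F.mapDerivedCategoryFactors G.mapDerivedCategory ≪≫
      Functor.associator _ _ _ ≪≫ Functor.isoWhiskerLeft _ G.mapDerivedCategoryFactors⟩
  Localization.liftNatIso DerivedCategory.Q (HomologicalComplex.quasiIso C₁ (ComplexShape.up ℤ))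
    ((F ⋙ G).mapHomologicalComplex _ ⋙ DerivedCategory.Q)
    (F.mapHomologicalComplex (ComplexShape.up ℤ) ⋙ G.mapHomologicalComplex (ComplexShape.up ℤ) ⋙
        DerivedCategory.Q) _ _
    (Functor.isoWhiskerRight (Functor.mapHomologicalComplexCompIso (Iso.refl (F ⋙ G)) _).symm
      DerivedCategory.Q ≪≫ Functor.associator _ _ _)

/-- identity -/
noncomputable def mapDerivedCategoryId :
    (𝟭 C₁).mapDerivedCategory ≅ 𝟭 (DerivedCategory C₁) :=
  letI : Localization.Lifting DerivedCategory.Q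
      (HomologicalComplex.quasiIso C₁ (ComplexShape.up ℤ))
      (DerivedCategory.Q) (𝟭 (DerivedCategory C₁)) := ⟨Functor.rightUnitor _⟩
  Localization.liftNatIso DerivedCategory.Q (HomologicalComplex.quasiIso C₁ (ComplexShape.up ℤ))
    ((𝟭 C₁).mapHomologicalComplex _ ⋙ DerivedCategory.Q) DerivedCategory.Q _ _
    (Functor.isoWhiskerRight (Functor.mapHomologicalComplexIdIso C₁ _) DerivedCategory.Q ≪≫
      Functor.leftUnitor _)

end Iso

end Groth.Agent.Lib.Helper15.ExactFunctorD
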