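import Groth.Prelude.Def_DRing2
import Groth.Agent.Lib.Helper15.MQI
import Groth.Agent.Lib.Helper84.KProj
import Groth.Agent.Lib.Helper84.ConeRep
import Groth.Agent.Lib.Helper84.DRingPC
import Groth.Agent.Lib.Helper84.DRingPerf
import Groth.Agent.Lib.Helper84.BrutalTrunc

/-!
# `m`-pseudo-coherent objects of `D(R)` (helper15)

Core theory of `DRing.IsPseudoCoherent R m K` (Stacks 15.64): invariance under isomorphisms,
shifts, monotonicity in `m`, normalisation of the approximating complex, two-out-of-three in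
distinguished triangles (Stacks 064V), direct summands (Stacks 064X).
-/

set_option autoImplicit false
universe u

open CategoryTheory CategoryTheory.Limits CategoryTheory.Pretriangulated DerivedCategory

attribute [local instance] HasDerivedCategory.standard

namespace Groth.Agent.Lib.Helper15.PseudoCoh

open DRing Groth.Agent.Lib.Helper84 Groth.Agent.Lib.Helper15.MQI
open scoped ZeroObject

variable {R : Type u} [CommRing R]

lemma isPseudoCoherent_iff (m : ℤ) (K : Dual.D R) :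
    IsPseudoCoherent R m K ↔ ∃ (E : Cx R) (a b : ℤ) (α : toD E ⟶ K),
      VanishesOutside E a b ∧ TermwiseFiniteFree E ∧ IsMQI m α := Iff.rfl

lemma of_iso {m : ℤ} {K L : Dual.D R} (e : K ≅ L) (h : IsPseudoCoherent R m K) :
    IsPseudoCoherent R m L := by
  obtain ⟨E, a, b, α, h1, h2, h3⟩ := (isPseudoCoherent_iff m K).1 h
  exact (isPseudoCoherent_iff m L).2 ⟨E, a, b, α ≫ e.hom, h1, h2, h3.comp (IsMQI.of_isIso m e.hom)⟩

lemma of_le {m m' : ℤ} (hm : m ≤ m') {K : Dual.D R} (h : IsPseudoCoherent R m K) :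
    IsPseudoCoherent R m' K := by
  obtain ⟨E, a, b, α, h1, h2, h3⟩ := (isPseudoCoherent_iff m K).1 h
  exact (isPseudoCoherent_iff m' K).2 ⟨E, a, b, α, h1, h2, h3.of_le hm⟩

lemma shift {m : ℤ} {K : Dual.D R} (h : IsPseudoCoherent R m K) (n : ℤ) :
    IsPseudoCoherent R (m - n) (K⟦n⟧) := by
  obtain ⟨E, a, b, α, h1, h2, h3⟩ := (isPseudoCoherent_iff m K).1 h
  refine (isPseudoCoherent_iff _ _).2 ⟨E⟦n⟧, a - n, b - n, (ConeRep.shiftIso E n).hom ≫ α⟦n⟧', ?_, ?_,
    (IsMQI.of_isIso _ _).comp (h3.shift n)⟩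
  · intro i hi
    exact h1 (i + n) (by lia)
  · intro i
    exact h2 (i + n)

lemma shift' {m m' : ℤ} {K : Dual.D R} (h : IsPseudoCoherent R m K) (n : ℤ) (hm : m' + n = m) :
    IsPseudoCoherent R m' (K⟦n⟧) := by
  obtain rfl : m' = m - n := by lia
  exact shift h n

lemma of_shift {m : ℤ} {K : Dual.D R} (n : ℤ) (h : IsPseudoCoherent R (m - n) (K⟦n⟧)) :
    IsPseudoCoherent R m K := by
  have h' := shift h (-n)
  have e : (K⟦n⟧)⟦-n⟧ ≅ K := (shiftEquiv (Dual.D R) n).unitIso.symm.app K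
  have := of_iso e h'
  have hm : m - n - -n = m := by lia
  rwa [hm] at this

/-- The zero complex. -/
lemma isZero_zeroCx (i : ℤ) : IsZero ((0 : Cx R).X i) :=
  Functor.map_isZero (HomologicalComplex.eval _ _ i) (isZero_zero _)

lemma of_isLE (m : ℤ) (K : Dual.D R) [K.IsLE (m - 1)] : IsPseudoCoherent R m K := by
  refine (isPseudoCoherent_iff m K).2 ⟨(0 : Cx R), 0, 0, 0, fun i _ => isZero_zeroCx i, fun i => ?_, ?_⟩
  · have : Subsingleton ((0 : Cx R).X i) := ModuleCat.subsingleton_of_isZero (isZero_zeroCx i)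
    exact ⟨inferInstance, inferInstance⟩
  · have hz : IsZero (toD (0 : Cx R)) := Functor.map_isZero _ (isZero_zero _)
    have : (toD (0 : Cx R)).IsLE (m - 1) := TStructure.t.isLE_of_isZero hz _
    exact IsMQI.of_isLE m _

end Groth.Agent.Lib.Helper15.PseudoCoh

namespace Groth.Agent.Lib.Helper15.PseudoCoh

open DRing Groth.Agent.Lib.Helper84 Groth.Agent.Lib.Helper15.MQI
open scoped ZeroObject

variable {R : Type u} [CommRing R]

/-- one step of brutal truncation from below -/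
lemma exists_truncate_step (m : ℤ) (K : Dual.D R) (E : Cx R) (a b : ℤ) (ha : a < m)
    (α : toD E ⟶ K) (h1 : VanishesOutside E a b) (h2 : TermwiseFiniteFree E) (h3 : IsMQI m α) :
    ∃ (E' : Cx R) (α' : toD E' ⟶ K), VanishesOutside E' (a + 1) b ∧ TermwiseFiniteFree E' ∧
      IsMQI m α' := by
  obtain ⟨E', f, g, δ, hT, hz, hiso⟩ :=
    BrutalTrunc.exists_bottom_truncation E a (fun i hi => h1 i (Or.inl hi))
  refine ⟨E', Q.map f ≫ α, ?_, ?_, ?_⟩
  · intro i hi
    rcases hi with hi | hi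
    · exact hz i (by lia)
    · by_cases hia : a < i
      · obtain ⟨e⟩ := hiso i hia
        exact IsZero.of_iso (h1 i (Or.inr hi)) e
      · exact hz i (by lia)
  · intro i
    by_cases hi : a < i
    · obtain ⟨e⟩ := hiso i hi
      exact DRingPC.finiteFree_of_iso e.symm (h2 i)
    · have : Subsingleton (E'.X i) := ModuleCat.subsingleton_of_isZero (hz i (by lia))
      exact ⟨inferInstance, inferInstance⟩
  · refine IsMQI.comp ?_ h3
    have hle : ((singleFunctor (ModuleCat.{u} R) a).obj (E.X a)).IsLE (m - 1) :=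
      TStructure.t.isLE_of_le _ a (m - 1) (by lia)
    exact (isMQI_iff_of_distTriang m _ hT).2 hle

end Groth.Agent.Lib.Helper15.PseudoCoh

namespace Groth.Agent.Lib.Helper15.PseudoCoh

open DRing Groth.Agent.Lib.Helper84 Groth.Agent.Lib.Helper15.MQI
open scoped ZeroObject

variable {R : Type u} [CommRing R]

lemma exists_truncate_aux (m : ℤ) (K : Dual.D R) (n : ℕ) :
    ∀ (E : Cx R) (a b : ℤ) (α : toD E ⟶ K), m - a ≤ n → VanishesOutside E a b →
      TermwiseFiniteFree E → IsMQI m α →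
      ∃ (E' : Cx R) (b' : ℤ) (α' : toD E' ⟶ K), VanishesOutside E' m b' ∧ TermwiseFiniteFree E' ∧
        IsMQI m α' := by
  induction n with
  | zero =>
    intro E a b α hn h1 h2 h3
    refine ⟨E, b, α, fun i hi => h1 i ?_, h2, h3⟩
    rcases hi with hi | hi
    · exact Or.inl (by lia)
    · exact Or.inr hi
  | succ n ih =>
    intro E a b α hn h1 h2 h3
    by_cases ha : a < m
    · obtain ⟨E', α', h1', h2', h3'⟩ := exists_truncate_step m K E a b ha α h1 h2 h3
      exact ih E' (a + 1) b α' (by push_cast at hn; lia) h1' h2' h3'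
    · refine ⟨E, b, α, fun i hi => h1 i ?_, h2, h3⟩
      rcases hi with hi | hi
      · exact Or.inl (by lia)
      · exact Or.inr hi

/-- Normalisation: the approximating complex may be taken to vanish below degree `m`. -/
lemma exists_normalized {m : ℤ} {K : Dual.D R} (h : IsPseudoCoherent R m K) :
    ∃ (E : Cx R) (b : ℤ) (α : toD E ⟶ K), VanishesOutside E m b ∧ TermwiseFiniteFree E ∧
      IsMQI m α := by
  obtain ⟨E, a, b, α, h1, h2, h3⟩ := (isPseudoCoherent_iff m K).1 h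
  exact exists_truncate_aux m K (m - a).toNat E a b α (by lia) h1 h2 h3

/-- Lifting morphisms from a bounded complex of finite free modules living in degrees `≥ m` along
an `m`-MQI. -/
lemma exists_lift (P : Cx R) (m b : ℤ) (hP : VanishesOutside P m b) (hPf : TermwiseFiniteFree P)
    {X Y : Dual.D R} (β : X ⟶ Y) (hβ : IsMQI m β) (φ : toD P ⟶ Y) :
    ∃ ψ : toD P ⟶ X, ψ ≫ β = φ := by
  obtain ⟨C, g, h, hT⟩ := distinguished_cocone_triangle β
  have hC : C.IsLE (m - 1) := (isMQI_iff_of_distTriang m _ hT).1 hβ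
  have h0 : φ ≫ g = 0 :=
    KProj.from_projective_eq_zero P m b (m - 1) (by lia) (fun i hi => hP i (Or.inl hi))
      (fun i hi => hP i (Or.inr hi)) (fun i => DRingPC.projective_of_finiteFree (hPf i)) C _
  obtain ⟨ψ, hψ⟩ := Triangle.coyoneda_exact₂ _ hT φ h0
  exact ⟨ψ, hψ.symm⟩

/-- Stacks 064V (1): in a distinguished triangle `K ⟶ L ⟶ M ⟶ K[1]`, if `K` is
`(m+1)`-pseudo-coherent and `L` is `m`-pseudo-coherent, then `M` is `m`-pseudo-coherent. -/
theorem obj₃ (m : ℤ) (T : Triangle (Dual.D R)) (hT : T ∈ distTriang _)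
    (h₁ : IsPseudoCoherent R (m + 1) T.obj₁) (h₂ : IsPseudoCoherent R m T.obj₂) :
    IsPseudoCoherent R m T.obj₃ := by
  obtain ⟨P, bP, α, hP1, hP2, hα⟩ := exists_normalized h₁
  obtain ⟨E, aE, bE, β, hE1, hE2, hβ⟩ := (isPseudoCoherent_iff m _).1 h₂
  have hP1' : VanishesOutside P m bP := fun i hi => hP1 i (by
    rcases hi with hi | hi
    · exact Or.inl (by lia)
    · exact Or.inr hi)
  obtain ⟨ψ, hψ⟩ := exists_lift P m bP hP1' hP2 β hβ (α ≫ T.mor₁)
  have := DRingPC.isKProjective_of_finiteFree P bP (fun i hi => hP1 i (Or.inr hi)) hP2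
  obtain ⟨a, rfl⟩ := KProj.exists_Q_map_eq P E ψ
  have hN := mappingCone_triangle_distinguished a
  obtain ⟨W, v₁₃, w₁₃, h₁₃⟩ := distinguished_cocone_triangle (Q.map a ≫ β)
  obtain ⟨Cβ, vβ, wβ, hTβ⟩ := distinguished_cocone_triangle β
  obtain ⟨Cα, vα, wα, hTα⟩ := distinguished_cocone_triangle α
  obtain ⟨m₁, _, hm₁, _⟩ := exists_of_octahedron (u₁₂ := Q.map a) (u₂₃ := β) rfl hN hTβ h₁₃ m
  obtain ⟨_, m₃, _, hm₃⟩ := exists_of_octahedron (u₁₂ := α) (u₂₃ := T.mor₁) hψ.symm hTα hT h₁₃ m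
  refine (isPseudoCoherent_iff m _).2 ⟨CochainComplex.mappingCone a, _, _, m₁ ≫ m₃,
    DRingPerf.vanishesOutside_mappingCone a (m + 1) bP aE bE hP1 hE1,
    DRingPC.termwiseFiniteFree_mappingCone a hP2 hE2, (hm₁ hβ).comp (hm₃ hα)⟩

end Groth.Agent.Lib.Helper15.PseudoCoh

namespace Groth.Agent.Lib.Helper15.PseudoCoh

open DRing Groth.Agent.Lib.Helper84 Groth.Agent.Lib.Helper15.MQI
open scoped ZeroObject

variable {R : Type u} [CommRing R]

/-- Stacks 064V (2). -/
theorem obj₂ (m : ℤ) (T : Triangle (Dual.D R)) (hT : T ∈ distTriang _)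
    (h₁ : IsPseudoCoherent R m T.obj₁) (h₃ : IsPseudoCoherent R m T.obj₃) :
    IsPseudoCoherent R m T.obj₂ := by
  have hT' := inv_rot_of_distTriang _ hT
  exact obj₃ m T.invRotate hT' (shift' h₃ (-1) (by lia)) h₁

/-- Stacks 064V (3). -/
theorem obj₁ (m : ℤ) (T : Triangle (Dual.D R)) (hT : T ∈ distTriang _)
    (h₂ : IsPseudoCoherent R (m + 1) T.obj₂) (h₃ : IsPseudoCoherent R m T.obj₃) :
    IsPseudoCoherent R (m + 1) T.obj₁ := by
  have hT' := rot_of_distTriang _ hT
  have h := obj₃ m T.rotate hT' h₂ h₃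
  exact of_shift (m := m + 1) (1 : ℤ) (by simpa using h)

lemma isLE_of_isPseudoCoherent {m : ℤ} {K : Dual.D R} (h : IsPseudoCoherent R m K) :
    ∃ n : ℤ, K.IsLE n := by
  obtain ⟨E, a, b, α, h1, h2, h3⟩ := (isPseudoCoherent_iff m K).1 h
  refine ⟨max m b, ?_⟩
  rw [isLE_iff]
  intro i hi
  have hEle : (toD E).IsLE b := by
    have : E.IsStrictlyLE b := by
      rw [CochainComplex.isStrictlyLE_iff]
      exact fun i hi => h1 i (Or.inr hi)
    infer_instance
  have := h3.1 i (lt_of_le_of_lt (le_max_left m b) hi)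
  exact IsZero.of_iso (isZero_of_isLE (toD E) b i (lt_of_le_of_lt (le_max_right m b) hi))
    (asIso ((homologyFunctor (ModuleCat.{u} R) i).map α)).symm

lemma isLE_of_biprod_left (K L : Dual.D R) [HasBinaryBiproduct K L] (n : ℤ) [(K ⊞ L).IsLE n] :
    K.IsLE n := by
  rw [isLE_iff]
  intro i hi
  have hz := isZero_of_isLE (K ⊞ L) n i hi
  rw [IsZero.iff_id_eq_zero]
  have : 𝟙 ((homologyFunctor (ModuleCat.{u} R) i).obj K) =
      (homologyFunctor (ModuleCat.{u} R) i).map (biprod.inl : K ⟶ K ⊞ L) ≫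
        (homologyFunctor (ModuleCat.{u} R) i).map (biprod.fst : K ⊞ L ⟶ K) := by
    rw [← Functor.map_comp, biprod.inl_fst, CategoryTheory.Functor.map_id]
  rw [this, hz.eq_of_tgt ((homologyFunctor (ModuleCat.{u} R) i).map (biprod.inl : K ⟶ K ⊞ L)) 0,
    zero_comp]

lemma isLE_of_biprod_right (K L : Dual.D R) [HasBinaryBiproduct K L] (n : ℤ) [(K ⊞ L).IsLE n] :
    L.IsLE n := by
  rw [isLE_iff]
  intro i hi
  have hz := isZero_of_isLE (K ⊞ L) n i hi
  rw [IsZero.iff_id_eq_zero]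
  have : 𝟙 ((homologyFunctor (ModuleCat.{u} R) i).obj L) =
      (homologyFunctor (ModuleCat.{u} R) i).map (biprod.inr : L ⟶ K ⊞ L) ≫
        (homologyFunctor (ModuleCat.{u} R) i).map (biprod.snd : K ⊞ L ⟶ L) := by
    rw [← Functor.map_comp, biprod.inr_snd, CategoryTheory.Functor.map_id]
  rw [this, hz.eq_of_tgt ((homologyFunctor (ModuleCat.{u} R) i).map (biprod.inr : L ⟶ K ⊞ L)) 0,
    zero_comp]

/-- the split triangle `L ⟶ K ⊞ L ⟶ K ⟶ L[1]` -/
lemma distTriang_inr_fst (K L : Dual.D R) [HasBinaryBiproduct K L] :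
    Triangle.mk (biprod.inr : L ⟶ K ⊞ L) (biprod.fst : K ⊞ L ⟶ K) 0 ∈ distTriang (Dual.D R) := by
  refine isomorphic_distinguished _ (binaryBiproductTriangle_distinguished L K) _ ?_
  refine Triangle.isoMk _ _ (Iso.refl _) (biprod.braiding K L) (Iso.refl _) ?_ ?_ ?_
  · change (biprod.inr : L ⟶ K ⊞ L) ≫ (biprod.braiding K L).hom = 𝟙 L ≫ biprod.inl
    rw [Category.id_comp]
    apply biprod.hom_ext <;> simp
  · change (biprod.fst : K ⊞ L ⟶ K) ≫ 𝟙 K = (biprod.braiding K L).hom ≫ biprod.snd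
    simp
  · change (0 : K ⟶ L⟦(1 : ℤ)⟧) ≫ (𝟙 L)⟦(1 : ℤ)⟧' = 𝟙 K ≫ 0
    simp

lemma biprod_aux (m : ℤ) (K L : Dual.D R) [HasBinaryBiproduct K L]
    (h : IsPseudoCoherent R m (K ⊞ L)) (n₁ : ℤ) [K.IsLE n₁] [L.IsLE n₁] (k : ℕ) :
    ∀ n : ℤ, n₁ + 1 ≤ n + k → m ≤ n → IsPseudoCoherent R n K ∧ IsPseudoCoherent R n L := by
  induction k with
  | zero =>
    intro n hn _
    have : K.IsLE (n - 1) := TStructure.t.isLE_of_le K n₁ (n - 1) (by push_cast at hn; lia)
    have : L.IsLE (n - 1) := TStructure.t.isLE_of_le L n₁ (n - 1) (by push_cast at hn; lia)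
    exact ⟨of_isLE n K, of_isLE n L⟩
  | succ k ih =>
    intro n hn hm
    obtain ⟨hK, hL⟩ := ih (n + 1) (by push_cast at hn ⊢; lia) (by lia)
    have hKL : IsPseudoCoherent R n (K ⊞ L) := of_le hm h
    refine ⟨?_, ?_⟩
    · exact obj₃ n _ (distTriang_inr_fst K L) hL hKL
    · exact obj₃ n _ (binaryBiproductTriangle_distinguished K L) hK hKL

/-- Stacks 064X: direct summands of an `m`-pseudo-coherent object are `m`-pseudo-coherent. -/
theorem of_biprod (m : ℤ) (K L : Dual.D R) [HasBinaryBiproduct K L]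
    (h : IsPseudoCoherent R m (K ⊞ L)) : IsPseudoCoherent R m K ∧ IsPseudoCoherent R m L := by
  obtain ⟨n₁, hn₁⟩ := isLE_of_isPseudoCoherent h
  have := isLE_of_biprod_left K L n₁
  have := isLE_of_biprod_right K L n₁
  exact biprod_aux m K L h n₁ (n₁ + 1 - m).toNat m (by lia) le_rfl

end Groth.Agent.Lib.Helper15.PseudoCoh

namespace Groth.Agent.Lib.Helper15.PseudoCoh

open DRing Groth.Agent.Lib.Helper84 Groth.Agent.Lib.Helper15.MQI
open scoped ZeroObject

variable {R : Type u} [CommRing R]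

/-- `K` is `m`-pseudo-coherent for every `m`. -/
def PCAll (R : Type u) [CommRing R] (K : Dual.D R) : Prop := ∀ m : ℤ, IsPseudoCoherent R m K

lemma PCAll.of_iso {K L : Dual.D R} (e : K ≅ L) (h : PCAll R K) : PCAll R L :=
  fun m => PseudoCoh.of_iso e (h m)

lemma PCAll.of_isZero {K : Dual.D R} (h : IsZero K) : PCAll R K := fun m => by
  have : K.IsLE (m - 1) := TStructure.t.isLE_of_isZero h _
  exact of_isLE m K

lemma PCAll.obj₂ (T : Triangle (Dual.D R)) (hT : T ∈ distTriang _) (h₁ : PCAll R T.obj₁)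
    (h₃ : PCAll R T.obj₃) : PCAll R T.obj₂ := fun m => PseudoCoh.obj₂ m T hT (h₁ m) (h₃ m)

lemma PCAll.obj₃ (T : Triangle (Dual.D R)) (hT : T ∈ distTriang _) (h₁ : PCAll R T.obj₁)
    (h₂ : PCAll R T.obj₂) : PCAll R T.obj₃ := fun m => PseudoCoh.obj₃ m T hT (h₁ (m + 1)) (h₂ m)

lemma PCAll.obj₁ (T : Triangle (Dual.D R)) (hT : T ∈ distTriang _) (h₂ : PCAll R T.obj₂)
    (h₃ : PCAll R T.obj₃) : PCAll R T.obj₁ := fun m => by
  have := PseudoCoh.obj₁ (m - 1) T hT (by simpa using h₂ m) (h₃ (m - 1))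
  simpa using this

lemma PCAll.shift {K : Dual.D R} (h : PCAll R K) (n : ℤ) : PCAll R (K⟦n⟧) := fun m =>
  PseudoCoh.shift' (h (m + n)) n rfl

/-- A bounded complex of finite free modules is pseudo-coherent in all degrees. -/
lemma pcAll_of_finiteFree (E : Cx R) (a b : ℤ) (h1 : VanishesOutside E a b)
    (h2 : TermwiseFiniteFree E) : PCAll R (toD E) := fun m =>
  (isPseudoCoherent_iff m _).2 ⟨E, a, b, 𝟙 _, h1, h2, IsMQI.of_isIso m _⟩

end Groth.Agent.Lib.Helper15.PseudoCoh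

namespace Groth.Agent.Lib.Helper15.PseudoCoh

open DRing Groth.Agent.Lib.Helper84 Groth.Agent.Lib.Helper15.MQI
open scoped ZeroObject

variable {R : Type u} [CommRing R]

/-- summands, split-triangle form -/
lemma of_split (m : ℤ) (T : Triangle (Dual.D R)) (hT : T ∈ distTriang _) (h0 : T.mor₃ = 0)
    (h : IsPseudoCoherent R m T.obj₂) :
    IsPseudoCoherent R m T.obj₁ ∧ IsPseudoCoherent R m T.obj₃ := by
  obtain ⟨e, -, -⟩ := exists_iso_binaryBiproduct_of_distTriang T hT h0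
  exact of_biprod m _ _ (of_iso e h)

end Groth.Agent.Lib.Helper15.PseudoCoh
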