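import Groth.Agent.Lib.Helper15.LDerived
import Groth.Agent.Lib.Helper25.KFlatQis
import Groth.Agent.Lib.Helper25.KFlatBC
import Groth.Agent.Lib.Helper25.KFlatFactor

/-!
# Derived base change is computed termwise on K-flat complexes
-/

set_option autoImplicit false
universe u

namespace Groth.Agent.Lib.Helper15.LBCKFlat

open CategoryTheory CategoryTheory.Limits MonoidalCategory CochainComplex
open DerivedCategory
open Groth.Agent.Lib.Helper25.TensorCx Groth.Agent.Lib.Helper25.KFlat
open Groth.Agent.Lib.Helper15.QhAdj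

attribute [local instance] HasDerivedCategory.standard

section

variable {R : Type u} [CommRing R]

/-- An acyclic K-flat complex stays acyclic after tensoring with any complex. -/
theorem acyclic_tensor_of_acyclic_of_isKFlat (C : Cx R) (hC : Groth.Agent.Lib.Helper25.KFlat.Acyclic C) (hK : IsKFlat C)
    (L : Cx R) : Groth.Agent.Lib.Helper25.KFlat.Acyclic (L ⊗ C : Cx R) := by
  obtain ⟨F, f, hF, -, hf, -⟩ := Groth.Agent.Lib.Helper25.KFlatRes.exists_kflat_resolution L
  have h1 : QuasiIso (f ▷ C) := quasiIso_whiskerRight_of_isKFlat C hK f hf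
  have h2 : Groth.Agent.Lib.Helper25.KFlat.Acyclic (F ⊗ C : Cx R) := acyclic_tensor_left_of_isKFlat F hF C hC
  intro i
  exact (h2 i).of_iso (asIso (HomologicalComplex.homologyMap (f ▷ C) i)).symm

end

variable {R R' : Type u} [CommRing R] [CommRing R'] (φ : R →+* R')

/-- Termwise extension of scalars of an acyclic K-flat complex is acyclic. -/
theorem acyclic_extCx (C : Cx R) (hC : Groth.Agent.Lib.Helper25.KFlat.Acyclic C) (hK : IsKFlat C) : Groth.Agent.Lib.Helper25.KFlat.Acyclic (extCx φ C) := by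
  have hac := acyclic_tensor_of_acyclic_of_isKFlat C hC hK (resCx φ (𝟙_ (Cx R')))
  have h1 : Groth.Agent.Lib.Helper25.KFlat.Acyclic (𝟙_ (Cx R') ⊗ extCx φ C : Cx R') := by
    rw [acyclic_iff] at hac ⊢
    intro n₀ n₁ n₂ h01 h12 z' hz'
    obtain ⟨z, rfl⟩ := (Psi_bijective φ (𝟙_ (Cx R')) C n₁).2 z'
    have hz : (resCx φ (𝟙_ (Cx R')) ⊗ C : Cx R).d n₁ n₂ z = 0 := by
      apply (Psi_bijective φ (𝟙_ (Cx R')) C n₂).1
      rw [← Psi_d φ (𝟙_ (Cx R')) C n₁ n₂ h12, hz', map_zero]
    obtain ⟨w, rfl⟩ := hac n₀ n₁ n₂ h01 h12 z hz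
    exact ⟨Psi φ (𝟙_ (Cx R')) C n₀ w, Psi_d φ (𝟙_ (Cx R')) C n₀ n₁ h01 w⟩
  exact acyclic_of_iso (λ_ (extCx φ C)) h1

/-- Termwise extension of scalars preserves quasi-isomorphisms between K-flat complexes. -/
theorem quasiIso_extCx_map {P Q : Cx R} (α : P ⟶ Q) (hP : IsKFlat P) (hQ : IsKFlat Q)
    (hα : QuasiIso α) :
    QuasiIso (((ModuleCat.extendScalars.{u, u, u} φ).mapHomologicalComplex
      (ComplexShape.up ℤ)).map α) := by
  rw [quasiIso_iff_acyclic_mappingCone] at hα ⊢
  have h1 := acyclic_extCx φ (mappingCone α) hα (isKFlat_mappingCone α hP hQ)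
  exact acyclic_of_iso (mappingCone.mapHomologicalComplexIso α
    (ModuleCat.extendScalars.{u, u, u} φ)) h1

/-- Derived base change is computed termwise on K-flat complexes. -/
theorem isIso_lbcMap_of_isKFlat [DRing.HasLBaseChange φ] (E : Cx R) (hE : IsKFlat E) :
    IsIso (LDerived.lbcMap φ E) := by
  obtain ⟨P, π, hP, hπ, hPK, -, -⟩ := KProjRes.exists_kprojective_resolution E
  have h1 : IsIso (Q.map π) := by rw [isIso_Q_map_iff_quasiIso]; exact hπ
  have h2 : IsIso (Q.map (((ModuleCat.extendScalars.{u, u, u} φ).mapHomologicalComplex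
      (ComplexShape.up ℤ)).map π)) := by
    rw [isIso_Q_map_iff_quasiIso]
    exact quasiIso_extCx_map φ π hPK hE hπ
  have h3 := LDerived.lbcMap_naturality φ π
  have h4 : IsIso ((DRing.LBaseChange φ).map (Q.map π) ≫ LDerived.lbcMap φ E) := by
    rw [h3]; infer_instance
  exact IsIso.of_isIso_comp_left ((DRing.LBaseChange φ).map (Q.map π)) _

/-- Derived base change of a K-flat complex. -/
noncomputable def lbcIsoOfIsKFlat [DRing.HasLBaseChange φ] (E : Cx R) (hE : IsKFlat E) :
    (DRing.LBaseChange φ).obj (DRing.toD E) ≅ DRing.toD (LDerived.extCx φ E) :=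
  have := isIso_lbcMap_of_isKFlat φ E hE
  asIso (LDerived.lbcMap φ E)

/-- Derived base change of a bounded above complex of flat modules. -/
noncomputable def lbcIsoOfFlat [DRing.HasLBaseChange φ] (E : Cx R) (b : ℤ)
    (hb : ∀ q, b < q → IsZero (E.X q)) (hfl : ∀ q, Module.Flat R (E.X q)) :
    (DRing.LBaseChange φ).obj (DRing.toD E) ≅ DRing.toD (LDerived.extCx φ E) :=
  lbcIsoOfIsKFlat φ E (isKFlat_of_boundedAbove_of_flat E b hb hfl)

end Groth.Agent.Lib.Helper15.LBCKFlat
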