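import Groth.Prelude.Def_DDual2
import Groth.Agent.Lib.Helper15.PseudoCoh
import Groth.Agent.Lib.Helper15.ExactFunctorD

/-!
# `m`-pseudo-coherence and restriction of scalars (helper15)
-/

set_option autoImplicit false
universe u

open CategoryTheory CategoryTheory.Limits CategoryTheory.Pretriangulated DerivedCategory

attribute [local instance] HasDerivedCategory.standard

namespace Groth.Agent.Lib.Helper15.PseudoCohRes

open DRing Groth.Agent.Lib.Helper84 Groth.Agent.Lib.Helper15.MQI Groth.Agent.Lib.Helper15.PseudoCoh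
open Groth.Agent.Lib.Helper15.ExactFunctorD
open scoped ZeroObject

variable {A B C : Type u} [CommRing A] [CommRing B] [CommRing C]

lemma isMQI_restrictD_iff (φ : A →+* B) {X Y : Dual.D B} (ψ : X ⟶ Y) (m : ℤ) :
    IsMQI m ((restrictD φ).map ψ) ↔ IsMQI m ψ :=
  isMQI_mapDerivedCategory_iff (ModuleCat.restrictScalars.{u} φ) ψ m

lemma isLE_restrictD_iff (φ : A →+* B) (X : Dual.D B) (n : ℤ) :
    ((restrictD φ).obj X).IsLE n ↔ X.IsLE n :=
  isLE_mapDerivedCategory_iff (ModuleCat.restrictScalars.{u} φ) X n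

/-- `restrictD` of a complex -/
noncomputable def restrictDQIso (φ : A →+* B) (E : Cx B) :
    (restrictD φ).obj (toD E) ≅ toD ((restrictCx φ).obj E) :=
  (ModuleCat.restrictScalars.{u} φ).mapDerivedCategoryFactors.app E

noncomputable def restrictDOfEq {f f' : A →+* B} (h : f = f') : restrictD f ≅ restrictD f' :=
  eqToIso (by rw [h])

noncomputable def restrictDComp (f : A →+* B) (g : B →+* C) :
    restrictD g ⋙ restrictD f ≅ restrictD (g.comp f) :=
  haveI : PreservesFiniteLimits (ModuleCat.restrictScalars.{u} g ⋙ ModuleCat.restrictScalars.{u} f) :=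
    comp_preservesFiniteLimits _ _
  haveI : PreservesFiniteColimits
      (ModuleCat.restrictScalars.{u} g ⋙ ModuleCat.restrictScalars.{u} f) :=
    comp_preservesFiniteColimits _ _
  (mapDerivedCategoryComp (ModuleCat.restrictScalars.{u} g) (ModuleCat.restrictScalars.{u} f)).symm ≪≫
    mapDerivedCategoryIso (ModuleCat.restrictScalarsComp'.{u} f g (g.comp f) rfl).symm

noncomputable def restrictDId : restrictD (RingHom.id A) ≅ 𝟭 (Dual.D A) :=
  mapDerivedCategoryIso (ModuleCat.restrictScalarsId'.{u} (RingHom.id A) rfl) ≪≫ mapDerivedCategoryId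

/-- For a retraction `π` of `ι`, restricting along `π` then along `ι` is the identity. -/
noncomputable def restrictDSection (ι : B →+* A) (π : A →+* B) (h : π.comp ι = RingHom.id B) :
    restrictD π ⋙ restrictD ι ≅ 𝟭 (Dual.D B) :=
  restrictDComp ι π ≪≫ restrictDOfEq h ≪≫ restrictDId

end Groth.Agent.Lib.Helper15.PseudoCohRes

namespace Groth.Agent.Lib.Helper15.PseudoCohRes

open DRing Groth.Agent.Lib.Helper84 Groth.Agent.Lib.Helper15.MQI Groth.Agent.Lib.Helper15.PseudoCoh
open Groth.Agent.Lib.Helper15.ExactFunctorD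
open scoped ZeroObject

variable {A B C : Type u} [CommRing A] [CommRing B] [CommRing C]

/-- restriction of scalars along a ring isomorphism preserves finite free modules -/
lemma finiteFree_restrictScalars_equiv (σ : A ≃+* B) (M : ModuleCat.{u} B)
    (h : Module.Finite B M ∧ Module.Free B M) :
    Module.Finite A ((ModuleCat.restrictScalars.{u} (σ : A →+* B)).obj M) ∧
      Module.Free A ((ModuleCat.restrictScalars.{u} (σ : A →+* B)).obj M) := by
  obtain ⟨h1, h2⟩ := h
  letI : Module A M := Module.compHom M (σ : A →+* B)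
  have hsm : ∀ (c : B) (x : M), (σ.symm c : A) • x = c • x := by
    intro c x
    change (σ : A →+* B) (σ.symm c) • x = c • x
    simp
  let b := (Module.Free.chooseBasis B M).mapCoeffs σ.symm hsm
  have hfree : Module.Free A M := Module.Free.of_basis b
  have hfin : Module.Finite A M := Module.Finite.of_basis b
  exact ⟨hfin, hfree⟩

/-- general transfer: if restriction of scalars along `φ` preserves finite free modules, then
it preserves `m`-pseudo-coherence. -/
lemma restrictD_of_preserves (φ : A →+* B)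
    (hφ : ∀ M : ModuleCat.{u} B, (Module.Finite B M ∧ Module.Free B M) →
      Module.Finite A ((ModuleCat.restrictScalars.{u} φ).obj M) ∧
        Module.Free A ((ModuleCat.restrictScalars.{u} φ).obj M))
    {m : ℤ} {K : Dual.D B} (h : IsPseudoCoherent B m K) :
    IsPseudoCoherent A m ((restrictD φ).obj K) := by
  obtain ⟨E, a, b, α, h1, h2, h3⟩ := (isPseudoCoherent_iff m K).1 h
  refine (isPseudoCoherent_iff m _).2 ⟨(restrictCx φ).obj E, a, b,
    (restrictDQIso φ E).inv ≫ (restrictD φ).map α, ?_, ?_, ?_⟩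
  · intro i hi
    exact Functor.map_isZero (ModuleCat.restrictScalars.{u} φ) (h1 i hi)
  · intro i
    exact hφ (E.X i) (h2 i)
  · exact (IsMQI.of_isIso m _).comp ((isMQI_restrictD_iff φ α m).2 h3)

/-- (T) `m`-pseudo-coherence is invariant under ring isomorphisms. -/
theorem isPseudoCoherent_restrictD_equiv (σ : A ≃+* B) (m : ℤ) (K : Dual.D B) :
    IsPseudoCoherent B m K ↔ IsPseudoCoherent A m ((restrictD (σ : A →+* B)).obj K) := by
  constructor
  · exact restrictD_of_preserves (σ : A →+* B) (finiteFree_restrictScalars_equiv σ)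
  · intro h
    have h' := restrictD_of_preserves (σ.symm : B →+* A) (finiteFree_restrictScalars_equiv σ.symm) h
    have hc : (σ : A →+* B).comp (σ.symm : B →+* A) = RingHom.id B := by
      ext x; simp
    exact of_iso ((restrictDSection (σ.symm : B →+* A) (σ : A →+* B) hc).app K) h'

end Groth.Agent.Lib.Helper15.PseudoCohRes

namespace Groth.Agent.Lib.Helper15.PseudoCohRes

open DRing Groth.Agent.Lib.Helper84 Groth.Agent.Lib.Helper15.MQI Groth.Agent.Lib.Helper15.PseudoCoh
open Groth.Agent.Lib.Helper15.ExactFunctorD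
open scoped ZeroObject

variable {A B : Type u} [CommRing A] [CommRing B] (φ : A →+* B)

/-- The property of objects of `D(B)`: the restriction to `A` is pseudo-coherent in all degrees. -/
def resProp : ObjectProperty (Dual.D B) := fun K => PCAll A ((restrictD φ).obj K)

instance : (resProp φ).IsClosedUnderIsomorphisms :=
  ⟨fun e h => PCAll.of_iso ((restrictD φ).mapIso e) h⟩

lemma resProp_of_isZero (K : Dual.D B) (hK : IsZero K) : resProp φ K :=
  PCAll.of_isZero (Functor.map_isZero _ hK)

lemma resProp_obj₂ (T : Triangle (Dual.D B)) (hT : T ∈ distTriang _) (h₁ : resProp φ T.obj₁)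
    (h₃ : resProp φ T.obj₃) : resProp φ T.obj₂ :=
  PCAll.obj₂ _ ((restrictD φ).map_distinguished _ hT) h₁ h₃

lemma resProp_shift (K : Dual.D B) (h : resProp φ K) (n : ℤ) : resProp φ (K⟦n⟧) :=
  PCAll.of_iso (((restrictD φ).commShiftIso n).app K).symm (PCAll.shift h n)

/-- The property of `B`-modules `M`: `M[0]` restricted to `A` is pseudo-coherent in all degrees. -/
def ResPC (M : ModuleCat.{u} B) : Prop :=
  resProp φ ((singleFunctor (ModuleCat.{u} B) 0).obj M)

lemma resPC_of_iso {M N : ModuleCat.{u} B} (e : M ≅ N) (h : ResPC φ M) : ResPC φ N :=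
  (resProp φ).prop_of_iso ((singleFunctor (ModuleCat.{u} B) 0).mapIso e) h

lemma resPC_of_isZero (M : ModuleCat.{u} B) (hM : IsZero M) : ResPC φ M :=
  resProp_of_isZero φ _ (Functor.map_isZero _ hM)

lemma resPC_of_shortExact (S : ShortComplex (ModuleCat.{u} B)) (hS : S.ShortExact)
    (h₁ : ResPC φ S.X₁) (h₃ : ResPC φ S.X₃) : ResPC φ S.X₂ :=
  resProp_obj₂ φ _ hS.singleTriangle_distinguished h₁ h₃

lemma resPC_prod (N₁ N₂ : Type u) [AddCommGroup N₁] [Module B N₁] [AddCommGroup N₂] [Module B N₂]
    (h₁ : ResPC φ (ModuleCat.of B N₁)) (h₂ : ResPC φ (ModuleCat.of B N₂)) :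
    ResPC φ (ModuleCat.of B (N₁ × N₂)) := by
  let S : ShortComplex (ModuleCat.{u} B) :=
    ModuleCat.shortComplexOfCompEqZero (LinearMap.inl B N₁ N₂) (LinearMap.snd B N₁ N₂)
      (by ext x; simp)
  have hS : S.ShortExact :=
    ModuleCat.shortComplex_shortExact S Function.Exact.inl_snd LinearMap.inl_injective
      LinearMap.snd_surjective
  exact resPC_of_shortExact φ S hS h₁ h₂

lemma resPC_pi (h : ResPC φ (ModuleCat.of B B)) (r : ℕ) : ResPC φ (ModuleCat.of B (Fin r → B)) := by
  induction r with
  | zero =>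
    apply resPC_of_isZero
    have : Subsingleton (ModuleCat.of B (Fin 0 → B)) :=
      inferInstanceAs (Subsingleton (Fin 0 → B))
    exact ModuleCat.isZero_of_subsingleton _
  | succ r ih =>
    have h' := resPC_prod φ B (Fin r → B) h ih
    exact resPC_of_iso φ (Fin.consLinearEquiv B (fun _ : Fin (r + 1) => B)).toModuleIso h'

lemma resPC_of_finiteFree (h : ResPC φ (ModuleCat.of B B)) (M : ModuleCat.{u} B)
    (hM : Module.Finite B M ∧ Module.Free B M) : ResPC φ M := by
  obtain ⟨h1, h2⟩ := hM
  let b := (Module.Free.chooseBasis B M).reindex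
    (Fintype.equivFin (Module.Free.ChooseBasisIndex B M))
  have e : (Fin (Fintype.card (Module.Free.ChooseBasisIndex B M)) → B) ≃ₗ[B] M := b.equivFun.symm
  have e' : ModuleCat.of B (Fin (Fintype.card (Module.Free.ChooseBasisIndex B M)) → B) ≅ M :=
    e.toModuleIso
  exact resPC_of_iso φ e' (resPC_pi φ h _)

lemma resProp_single_of_finiteFree (h : ResPC φ (ModuleCat.of B B)) (M : ModuleCat.{u} B)
    (hM : Module.Finite B M ∧ Module.Free B M) (i : ℤ) :
    resProp φ ((singleFunctor (ModuleCat.{u} B) i).obj M) :=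
  (resProp φ).prop_of_iso (((singleFunctors (ModuleCat.{u} B)).shiftIso (-i) i 0 (by lia)).app M)
    (resProp_shift φ _ (resPC_of_finiteFree φ h M hM) (-i))

/-- Stacks 15.64.11: if `B` is pseudo-coherent as an `A`-module, restriction of scalars preserves
`m`-pseudo-coherence. -/
theorem restrictD_of_pcAlgebra (h : ResPC φ (ModuleCat.of B B)) {m : ℤ} {K : Dual.D B}
    (hK : IsPseudoCoherent B m K) : IsPseudoCoherent A m ((restrictD φ).obj K) := by
  obtain ⟨E, a, b, α, h1, h2, h3⟩ := (isPseudoCoherent_iff m K).1 hK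
  obtain ⟨Z, g, δ, hT⟩ := distinguished_cocone_triangle α
  have hZ : Z.IsLE (m - 1) := (isMQI_iff_of_distTriang m _ hT).1 h3
  have hZ' : ((restrictD φ).obj Z).IsLE (m - 1) := (isLE_restrictD_iff φ Z (m - 1)).2 hZ
  have hE : resProp φ (toD E) :=
    Devissage.prop_of_bounded_complex (resProp φ) (resProp_of_isZero φ) (resProp_obj₂ φ) E a b h1
      (fun i => resProp_single_of_finiteFree φ h (E.X i) (h2 i) i)
  have hZ'' : IsPseudoCoherent A m ((restrictD φ).obj Z) := of_isLE m _
  exact PseudoCoh.obj₂ m _ ((restrictD φ).map_distinguished _ hT) (hE m) hZ''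

end Groth.Agent.Lib.Helper15.PseudoCohRes
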