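import Groth.Prelude.Def_GmPts

set_option autoImplicit false

universe u

open CategoryTheory CategoryTheory.Limits MonoidalCategory CartesianMonoidalCategory MonObj AlgebraicGeometry Opposite
open scoped TensorProduct

noncomputable section

namespace Groth.Agent.Lib.Helper15.GaPts

open GmPts (baseZ toBaseZ)

abbrev Coord : Type u := SymmetricAlgebra (ULift.{u} ℤ) (ULift.{u} ℤ)

abbrev GaZ : Over baseZ.{u} := Red.GaZ

abbrev gen : Coord.{u} := SymmetricAlgebra.ι (ULift.{u} ℤ) (ULift.{u} ℤ) (ULift.up 1)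

abbrev coordIso : Γ(Spec (CommRingCat.of Coord.{u}), ⊤) ≅ CommRingCat.of Coord.{u} :=
  Scheme.ΓSpecIso (CommRingCat.of Coord.{u})

theorem ringHom_ulift_ext {R : Type u} [CommRing R] (f g : ULift.{u} ℤ →+* R) : f = g := by
  have : f.comp (ULift.ringEquiv : ULift.{u} ℤ ≃+* ℤ).symm.toRingHom =
      g.comp (ULift.ringEquiv : ULift.{u} ℤ ≃+* ℤ).symm.toRingHom := RingHom.ext_int _ _
  ext r
  have h := congrArg (fun φ : ℤ →+* R => φ r.down) this
  exact h

theorem ringHom_ext_gen {R : Type u} [CommRing R] {f g : Coord.{u} →+* R} (h : f gen = g gen) :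
    f = g := by
  letI : Algebra (ULift.{u} ℤ) R := ULift.algebra' ℤ R
  let F : Coord.{u} →ₐ[ULift.{u} ℤ] R :=
    { f with
      commutes' := fun r => by
        have := ringHom_ulift_ext (f.comp (algebraMap (ULift.{u} ℤ) Coord.{u}))
          (algebraMap (ULift.{u} ℤ) R)
        exact congrArg (fun φ : ULift.{u} ℤ →+* R => φ r) this }
  let G : Coord.{u} →ₐ[ULift.{u} ℤ] R :=
    { g with
      commutes' := fun r => by
        have := ringHom_ulift_ext (g.comp (algebraMap (ULift.{u} ℤ) Coord.{u}))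
          (algebraMap (ULift.{u} ℤ) R)
        exact congrArg (fun φ : ULift.{u} ℤ →+* R => φ r) this }
  have key : F = G := by
    apply SymmetricAlgebra.algHom_ext
    apply LinearMap.ext_ring
    exact h
  ext c
  exact congrArg (fun φ : Coord.{u} →ₐ[ULift.{u} ℤ] R => φ c) key

def ringHomOfFn {R : Type u} [CommRing R] (a : R) : Coord.{u} →+* R :=
  letI : Algebra (ULift.{u} ℤ) R := ULift.algebra' ℤ R
  (SymmetricAlgebra.lift (LinearMap.toSpanSingleton (ULift.{u} ℤ) R a)).toRingHom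

theorem ringHomOfFn_gen {R : Type u} [CommRing R] (a : R) : ringHomOfFn a gen = a := by
  letI : Algebra (ULift.{u} ℤ) R := ULift.algebra' ℤ R
  change SymmetricAlgebra.lift (LinearMap.toSpanSingleton (ULift.{u} ℤ) R a)
    (SymmetricAlgebra.ι (ULift.{u} ℤ) (ULift.{u} ℤ) (ULift.up 1)) = a
  rw [SymmetricAlgebra.lift_ι_apply, LinearMap.toSpanSingleton_apply]
  change (1 : ℤ) • a = a
  simp

variable {S : Scheme.{u}} {T T' : Over S}

abbrev specPt (x : T ⟶ Red.Ga S) : T.left ⟶ Spec (CommRingCat.of Coord.{u}) :=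
  x.left ≫ pullback.fst GaZ.hom (toBaseZ S)

def ringHomOfPt (x : T ⟶ Red.Ga S) : Coord.{u} →+* Γ(T.left, ⊤) :=
  (coordIso.inv ≫ (specPt x).appTop).hom

theorem ringHomOfPt_gen (x : T ⟶ Red.Ga S) : ringHomOfPt x gen = Red.gaFn x := rfl

def homOfFn (a : Γ(T.left, ⊤)) : CommRingCat.of Coord.{u} ⟶ Γ(T.left, ⊤) :=
  CommRingCat.ofHom (ringHomOfFn a)

def specOfFn (a : Γ(T.left, ⊤)) : T.left ⟶ Spec (CommRingCat.of Coord.{u}) :=
  ΓSpec.adjunction.homEquiv T.left (op (CommRingCat.of Coord.{u})) (homOfFn a).op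

theorem coordIso_inv_specOfFn (a : Γ(T.left, ⊤)) :
    coordIso.inv ≫ (specOfFn a).appTop = homOfFn a :=
  ΓSpecIso_inv_ΓSpec_adjunction_homEquiv _

theorem specOfFn_w (a : Γ(T.left, ⊤)) : specOfFn a ≫ GaZ.hom = T.hom ≫ toBaseZ S :=
  specULiftZIsTerminal.hom_ext _ _

def ptOfFn (a : Γ(T.left, ⊤)) : T ⟶ Red.Ga S :=
  Over.homMk (pullback.lift (specOfFn a) T.hom (specOfFn_w a)) (pullback.lift_snd _ _ _)

theorem specPt_ptOfFn (a : Γ(T.left, ⊤)) : specPt (ptOfFn a) = specOfFn a :=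
  pullback.lift_fst _ _ _

theorem ringHomOfPt_ptOfFn (a : Γ(T.left, ⊤)) : ringHomOfPt (ptOfFn a) = ringHomOfFn a := by
  change (coordIso.inv ≫ (specPt (ptOfFn a)).appTop).hom = _
  rw [specPt_ptOfFn, coordIso_inv_specOfFn]
  rfl

theorem gaFn_ptOfFn (a : Γ(T.left, ⊤)) : Red.gaFn (ptOfFn a) = a := by
  change ringHomOfPt (ptOfFn a) gen = a
  rw [ringHomOfPt_ptOfFn, ringHomOfFn_gen]

theorem ringHomOfFn_gaFn (x : T ⟶ Red.Ga S) : ringHomOfFn (Red.gaFn x) = ringHomOfPt x :=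
  ringHom_ext_gen (by rw [ringHomOfFn_gen]; rfl)

theorem specOfFn_gaFn (x : T ⟶ Red.Ga S) : specOfFn (Red.gaFn x) = specPt x := by
  have h : (homOfFn (Red.gaFn x)).op =
      (ΓSpec.adjunction.homEquiv T.left (op (CommRingCat.of Coord.{u}))).symm (specPt x) := by
    rw [Adjunction.homEquiv_counit, ΓSpec.adjunction_counit_app]
    change (homOfFn (Red.gaFn x)).op = (coordIso.inv ≫ (specPt x).appTop).op
    congr 1
    ext1
    exact ringHomOfFn_gaFn x
  rw [specOfFn, h, Equiv.apply_symm_apply]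

theorem ptOfFn_gaFn (x : T ⟶ Red.Ga S) : ptOfFn (Red.gaFn x) = x := by
  ext1
  apply pullback.hom_ext
  · exact (specPt_ptOfFn _).trans (specOfFn_gaFn x)
  · exact (pullback.lift_snd _ _ _).trans (Over.w x).symm

theorem gaFn_injective : Function.Injective (fun x : T ⟶ Red.Ga S => Red.gaFn x) := by
  intro x y h
  have h' : Red.gaFn x = Red.gaFn y := h
  rw [← ptOfFn_gaFn x, ← ptOfFn_gaFn y, h']

theorem ringHomOfPt_comp (g : T' ⟶ T) (x : T ⟶ Red.Ga S) :
    ringHomOfPt (g ≫ x) = g.left.appTop.hom.comp (ringHomOfPt x) := by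
  change (coordIso.inv ≫ ((g ≫ x).left ≫ pullback.fst GaZ.hom (toBaseZ S)).appTop).hom = _
  rw [Over.comp_left, Category.assoc, Scheme.Hom.comp_appTop]
  rfl

theorem gaFn_comp (g : T' ⟶ T) (x : T ⟶ Red.Ga S) :
    Red.gaFn (g ≫ x) = g.left.appTop (Red.gaFn x) := by
  change ringHomOfPt (g ≫ x) gen = g.left.appTop.hom (ringHomOfPt x gen)
  rw [ringHomOfPt_comp]
  rfl

theorem specMap_appTop_coordIso_inv {R : CommRingCat.{u}} (φ : CommRingCat.of Coord.{u} ⟶ R)
    (c : Coord.{u}) :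
    (Spec.map φ).appTop (coordIso.inv c) = (Scheme.ΓSpecIso R).inv (φ c) := by
  have h := congrArg (fun ψ => (ConcreteCategory.hom ψ) c) (Scheme.ΓSpecIso_inv_naturality φ)
  exact h.symm

def pairPt (x y : T ⟶ Red.Ga S) : T.left ⟶ (GaZ ⊗ GaZ).left :=
  (lift x y).left ≫ (Functor.LaxMonoidal.μ (Over.pullback (toBaseZ S)) GaZ GaZ).left ≫
    pullback.fst (GaZ ⊗ GaZ).hom (toBaseZ S)

theorem specPt_mul (x y : T ⟶ Red.Ga S) : specPt (x * y) = pairPt x y ≫ μ[GaZ].left := by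
  have h1 : x * y = lift x y ≫ μ[Red.Ga S] := Hom.mul_def x y
  have h2 : μ[Red.Ga S] = Functor.LaxMonoidal.μ (Over.pullback (toBaseZ S)) GaZ GaZ ≫
      (Over.pullback (toBaseZ S)).map μ[GaZ] := rfl
  have h3 := GmPts.pullback_map_left_fst (S := S) μ[GaZ]
  rw [specPt, pairPt, h1, h2, Over.comp_left, Over.comp_left]
  simp only [Category.assoc]
  exact _ ≫= (_ ≫= h3)

theorem pairPt_fst (x y : T ⟶ Red.Ga S) :
    pairPt x y ≫ pullback.fst GaZ.hom GaZ.hom = specPt x := by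
  rw [pairPt, Category.assoc, Category.assoc, Over.μ_pullback_left_fst_fst, ← Category.assoc]
  congr 1
  rw [← Over.fst_left, ← Over.comp_left, lift_fst]

theorem pairPt_snd (x y : T ⟶ Red.Ga S) :
    pairPt x y ≫ pullback.snd GaZ.hom GaZ.hom = specPt y := by
  rw [pairPt, Category.assoc, Category.assoc, Over.μ_pullback_left_fst_snd, ← Category.assoc]
  congr 1
  rw [← Over.snd_left, ← Over.comp_left, lift_snd]

theorem mul_appTop_gen : μ[GaZ].left.appTop (coordIso.inv gen.{u}) =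
    (pullback.fst GaZ.hom GaZ.hom).appTop (coordIso.inv gen) +
      (pullback.snd GaZ.hom GaZ.hom).appTop (coordIso.inv gen) := by
  let CC : Type u := @TensorProduct (ULift.{u} ℤ) _ Coord.{u} Coord.{u} _ _
    Algebra.toModule Algebra.toModule
  let iL : Coord.{u} →+* CC := Algebra.TensorProduct.includeLeftRingHom
  let iR : Coord.{u} →+* CC :=
    ((Algebra.TensorProduct.includeRight (R := ULift.{u} ℤ) (A := Coord.{u}) (B := Coord.{u}) :
      Coord.{u} →ₐ[ULift.{u} ℤ] CC) : Coord.{u} →+* CC)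
  let fC : Spec (CommRingCat.of Coord.{u}) ⟶ baseZ.{u} :=
    Spec.map (CommRingCat.ofHom (algebraMap (ULift.{u} ℤ) Coord.{u}))
  let psi := pullbackSpecIso (ULift.{u} ℤ) Coord.{u} Coord.{u}
  have hfst : pullback.fst fC fC =
      psi.hom ≫ Spec.map (CommRingCat.ofHom (R := Coord.{u}) (S := CC) iL) := by
    rw [← pullbackSpecIso_inv_fst, Iso.hom_inv_id_assoc]
  have hsnd : pullback.snd fC fC =
      psi.hom ≫ Spec.map (CommRingCat.ofHom (R := Coord.{u}) (S := CC) iR) := by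
    rw [← pullbackSpecIso_inv_snd, Iso.hom_inv_id_assoc]
  have hc : (CommRingCat.ofHom (R := Coord.{u}) (S := CC)
      (Bialgebra.comulAlgHom (ULift.{u} ℤ) Coord.{u}).toRingHom) gen.{u} =
      (CommRingCat.ofHom (R := Coord.{u}) (S := CC) iL) gen.{u} +
        (CommRingCat.ofHom (R := Coord.{u}) (S := CC) iR) gen.{u} := by
    change (Bialgebra.comulAlgHom (ULift.{u} ℤ) Coord.{u}) gen.{u} = iL gen.{u} + iR gen.{u}
    exact SymmetricAlgebra.comul_ι _ _ _
  change (psi.hom ≫ Spec.map (CommRingCat.ofHom (R := Coord.{u}) (S := CC)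
      (Bialgebra.comulAlgHom (ULift.{u} ℤ) Coord.{u}).toRingHom)).appTop (coordIso.inv gen) =
    (pullback.fst fC fC).appTop (coordIso.inv gen) + (pullback.snd fC fC).appTop (coordIso.inv gen)
  rw [hfst, hsnd, GmPts.appTop_comp_apply, GmPts.appTop_comp_apply, GmPts.appTop_comp_apply,
    specMap_appTop_coordIso_inv, specMap_appTop_coordIso_inv, specMap_appTop_coordIso_inv, hc,
    map_add, map_add]

theorem gaFn_mul (x y : T ⟶ Red.Ga S) : Red.gaFn (x * y) = Red.gaFn x + Red.gaFn y := by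
  have e1 : Red.gaFn (x * y) = (pairPt x y).appTop (μ[GaZ].left.appTop (coordIso.inv gen)) := by
    change (specPt (x * y)).appTop (coordIso.inv gen) = _
    rw [specPt_mul]
    exact GmPts.appTop_comp_apply _ _ _
  rw [e1, mul_appTop_gen, map_add, ← GmPts.appTop_comp_apply, ← GmPts.appTop_comp_apply,
    pairPt_fst, pairPt_snd]
  rfl

def equiv (T : Over S) : (T ⟶ Red.Ga S) ≃* Multiplicative Γ(T.left, ⊤) where
  toFun x := Multiplicative.ofAdd (Red.gaFn x)
  invFun a := ptOfFn a.toAdd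
  left_inv := ptOfFn_gaFn
  right_inv a := gaFn_ptOfFn a.toAdd
  map_mul' := gaFn_mul

theorem gaFn_one : Red.gaFn (1 : T ⟶ Red.Ga S) = 0 :=
  congrArg Multiplicative.toAdd (map_one (equiv T))

theorem gaFn_inv (x : T ⟶ Red.Ga S) : Red.gaFn x⁻¹ = - Red.gaFn x :=
  congrArg Multiplicative.toAdd (map_inv (equiv T) x)

theorem gaFn_div (x y : T ⟶ Red.Ga S) : Red.gaFn (x / y) = Red.gaFn x - Red.gaFn y :=
  congrArg Multiplicative.toAdd (map_div (equiv T) x y)

theorem eq_of_gaFn_eq {x y : T ⟶ Red.Ga S} (h : Red.gaFn x = Red.gaFn y) : x = y :=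
  gaFn_injective h

theorem ptOfFn_add (a b : Γ(T.left, ⊤)) :
    (ptOfFn (a + b) : T ⟶ Red.Ga S) = ptOfFn a * ptOfFn b :=
  eq_of_gaFn_eq (by rw [gaFn_mul, gaFn_ptOfFn, gaFn_ptOfFn, gaFn_ptOfFn])

theorem ptOfFn_zero : (ptOfFn (0 : Γ(T.left, ⊤)) : T ⟶ Red.Ga S) = 1 :=
  eq_of_gaFn_eq (by rw [gaFn_one, gaFn_ptOfFn])

theorem ptOfFn_neg (a : Γ(T.left, ⊤)) : (ptOfFn (-a) : T ⟶ Red.Ga S) = (ptOfFn a)⁻¹ :=
  eq_of_gaFn_eq (by rw [gaFn_inv, gaFn_ptOfFn, gaFn_ptOfFn])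

theorem ptOfFn_comp (g : T' ⟶ T) (a : Γ(T.left, ⊤)) :
    g ≫ ptOfFn a = ptOfFn (g.left.appTop a) :=
  eq_of_gaFn_eq (by rw [gaFn_comp, gaFn_ptOfFn, gaFn_ptOfFn])


end Groth.Agent.Lib.Helper15.GaPts

end
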