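import Groth.Agent.Lib.Helper15.LBCFlat

/-!
# Base change along a pushout square commutes with restriction of scalars (helper15)

For a pushout square of commutative rings `P → A`, `P → P'`, `A' = P' ⊗_P A`
(`Algebra.IsPushout P P' A A'`), the natural isomorphism of functors `Mod A ⥤ Mod P'`
`restrictScalars (P → A) ⋙ extendScalars (P → P') ≅ extendScalars (A → A') ⋙ restrictScalars (P' → A')`
(`extRestrictIso`), and its derived version for flat `P → P'`, `A → A'` (`bcRestrictIso`).
-/

set_option autoImplicit false
universe u

namespace Groth.Agent.Lib.Helper15.BCSquare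

open CategoryTheory CategoryTheory.Limits DerivedCategory TensorProduct
open Groth.Agent.Lib.Helper84

attribute [local instance] HasDerivedCategory.standard

section Lin

variable (P P' A A' : Type u) [CommRing P] [CommRing P'] [CommRing A] [CommRing A']
  [Algebra P A] [Algebra P P'] [Algebra A A'] [Algebra P' A'] [Algebra P A']
  [IsScalarTower P A A'] [IsScalarTower P P' A'] [Algebra.IsPushout P P' A A']

/-- `P'` as a `P`-module through `restrictScalars` -/
abbrev rP' : Type u :=
  ((ModuleCat.restrictScalars.{u} (algebraMap P P')).obj (ModuleCat.of P' P'))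

/-- identification with the algebra module structure -/
def eP' : rP' P P' ≃ₗ[P] P' :=
  { AddEquiv.refl P' with
    map_smul' := fun a b => (Algebra.smul_def a (show P' from b)).symm }

@[simp] lemma eP'_apply (x : rP' P P') : eP' P P' x = (show P' from x) := rfl
@[simp] lemma eP'_symm_apply (x : P') : (eP' P P').symm x = (show rP' P P' from x) := rfl

variable (M : Type u) [AddCommGroup M] [Module A M] [Module P M] [IsScalarTower P A M]

/-- the canonical additive equivalence `P' ⊗_P M ≃ A' ⊗_A M` (with the module structures on
`P'`, `A'` coming from `restrictScalars`) -/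
noncomputable def lin : (rP' P P' ⊗[P] M) ≃+ (rP' A A' ⊗[A] M) :=
  (TensorProduct.congr (eP' P P') (LinearEquiv.refl P M)).toAddEquiv.trans
    ((Algebra.IsPushout.cancelBaseChange P P' A A' M).symm.toAddEquiv.trans
      (TensorProduct.congr (eP' A A').symm (LinearEquiv.refl A M)).toAddEquiv)

lemma lin_tmul (s : P') (m : M) :
    lin P P' A A' M ((show rP' P P' from s) ⊗ₜ[P] m) =
      (show rP' A A' from algebraMap P' A' s) ⊗ₜ[A] m := by
  unfold lin
  rw [AddEquiv.trans_apply, AddEquiv.trans_apply]
  have h1 : (TensorProduct.congr (eP' P P') (LinearEquiv.refl P M)).toAddEquiv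
      ((show rP' P P' from s) ⊗ₜ[P] m) = s ⊗ₜ[P] m := by
    change (TensorProduct.congr (eP' P P') (LinearEquiv.refl P M))
      ((show rP' P P' from s) ⊗ₜ[P] m) = s ⊗ₜ[P] m
    rw [TensorProduct.congr_tmul]
    rfl
  rw [h1]
  have h2 : (Algebra.IsPushout.cancelBaseChange P P' A A' M).symm.toAddEquiv (s ⊗ₜ[P] m) =
      algebraMap P' A' s ⊗ₜ[A] m :=
    Algebra.IsPushout.cancelBaseChange_symm_tmul P P' A A' M s m
  rw [h2]
  change (TensorProduct.congr (eP' A A').symm (LinearEquiv.refl A M))
      (algebraMap P' A' s ⊗ₜ[A] m) = _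
  rw [TensorProduct.congr_tmul]
  rfl

instance smulCommClass_rP' : SMulCommClass P P' (rP' P P') :=
  ⟨fun p q x => by
    change algebraMap P P' p * (q * (show P' from x)) = q * (algebraMap P P' p * (show P' from x))
    ring⟩

lemma lin_smul (q : P') (t : rP' P P' ⊗[P] M) :
    lin P P' A A' M (q • t) = (algebraMap P' A' q) • lin P P' A A' M t := by
  induction t using TensorProduct.induction_on with
  | zero => simp
  | tmul s m =>
    rw [TensorProduct.smul_tmul']
    have h1 : q • s = (show rP' P P' from q * (show P' from s)) := rfl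
    rw [h1, lin_tmul, map_mul]
    have h2 := lin_tmul P P' A A' M (show P' from s) m
    rw [h2, TensorProduct.smul_tmul']
    rfl
  | add x y hx hy => simp only [smul_add, map_add, hx, hy]

end Lin

section Cat

variable (P P' A A' : Type u) [CommRing P] [CommRing P'] [CommRing A] [CommRing A']
  [Algebra P A] [Algebra P P'] [Algebra A A'] [Algebra P' A'] [Algebra P A']
  [IsScalarTower P A A'] [IsScalarTower P P' A'] [Algebra.IsPushout P P' A A']

variable (M : ModuleCat.{u} A)

open ChangeOfRings

/-- the source `P' ⊗_P M` -/
noncomputable abbrev src : ModuleCat.{u} P' :=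
  (ModuleCat.extendScalars.{u, u, u} (algebraMap P P')).obj
    ((ModuleCat.restrictScalars.{u} (algebraMap P A)).obj M)

/-- the target `A' ⊗_A M` as a `P'`-module -/
noncomputable abbrev tgt : ModuleCat.{u} P' :=
  (ModuleCat.restrictScalars.{u} (algebraMap P' A')).obj
    ((ModuleCat.extendScalars.{u, u, u} (algebraMap A A')).obj M)

instance instTower : IsScalarTower P A ((ModuleCat.restrictScalars.{u} (algebraMap P A)).obj M) :=
  IsScalarTower.of_algebraMap_smul fun _ _ => rfl

/-- the additive equivalence -/
noncomputable def addEquiv : src P P' A M ≃+ tgt P' A A' M :=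
  lin P P' A A' ((ModuleCat.restrictScalars.{u} (algebraMap P A)).obj M)

open ChangeOfRings in
lemma addEquiv_tmul (s : P') (m : M) :
    addEquiv P P' A A' M (s ⊗ₜ[P,algebraMap P P'] m) =
      ((algebraMap P' A' s) ⊗ₜ[A,algebraMap A A'] m) :=
  lin_tmul P P' A A' ((ModuleCat.restrictScalars.{u} (algebraMap P A)).obj M) s m

/-- the `P'`-linear equivalence -/
noncomputable def linEquiv : src P P' A M ≃ₗ[P'] tgt P' A A' M :=
  { addEquiv P P' A A' M with
    map_smul' := fun q t =>
      lin_smul P P' A A' ((ModuleCat.restrictScalars.{u} (algebraMap P A)).obj M) q t }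

open ChangeOfRings in
lemma linEquiv_tmul (s : P') (m : M) :
    linEquiv P P' A A' M (s ⊗ₜ[P,algebraMap P P'] m) =
      ((algebraMap P' A' s) ⊗ₜ[A,algebraMap A A'] m) :=
  addEquiv_tmul P P' A A' M s m

/-- the natural isomorphism `restrictScalars ⋙ extendScalars ≅ extendScalars ⋙ restrictScalars`
for a pushout square -/
noncomputable def extRestrictIso :
    ModuleCat.restrictScalars.{u} (algebraMap P A) ⋙
        ModuleCat.extendScalars.{u, u, u} (algebraMap P P') ≅
      ModuleCat.extendScalars.{u, u, u} (algebraMap A A') ⋙
        ModuleCat.restrictScalars.{u} (algebraMap P' A') :=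
  NatIso.ofComponents (fun M => (linEquiv P P' A A' M).toModuleIso) (by
    intro M N g
    apply ModuleCat.ExtendScalars.hom_ext
    intro m
    change linEquiv P P' A A' N
        ((ModuleCat.extendScalars.{u, u, u} (algebraMap P P')).map
          ((ModuleCat.restrictScalars.{u} (algebraMap P A)).map g)
            ((1 : P') ⊗ₜ[P,algebraMap P P'] m)) =
      (ModuleCat.restrictScalars.{u} (algebraMap P' A')).map
        ((ModuleCat.extendScalars.{u, u, u} (algebraMap A A')).map g)
          (linEquiv P P' A A' M ((1 : P') ⊗ₜ[P,algebraMap P P'] m))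
    have h1 : (ModuleCat.extendScalars.{u, u, u} (algebraMap P P')).map
          ((ModuleCat.restrictScalars.{u} (algebraMap P A)).map g)
            ((1 : P') ⊗ₜ[P,algebraMap P P'] m) =
        ((1 : P') ⊗ₜ[P,algebraMap P P']
          (show ((ModuleCat.restrictScalars.{u} (algebraMap P A)).obj N) from g m)) := rfl
    rw [h1]
    have h2 := linEquiv_tmul P P' A A' N 1 (g m)
    have h3 := linEquiv_tmul P P' A A' M 1 m
    refine h2.trans ?_
    rw [h3]
    rfl)


section Derived

variable [PreservesFiniteLimits (FlatBC.ext (algebraMap P P'))]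
  [PreservesFiniteLimits (FlatBC.ext (algebraMap A A'))]

/-- flat base change along a pushout square commutes with restriction of scalars, on derived
categories -/
noncomputable def bcRestrictIso :
    DRing.restrictD (algebraMap P A) ⋙ FlatBC.bc (algebraMap P P') ≅
      FlatBC.bc (algebraMap A A') ⋙ DRing.restrictD (algebraMap P' A') :=
  haveI : PreservesFiniteColimits (FlatBC.ext (algebraMap P P')) :=
    haveI : (FlatBC.ext (algebraMap P P')).IsLeftAdjoint :=
      (ModuleCat.extendRestrictScalarsAdj (algebraMap P P')).isLeftAdjoint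
    inferInstance
  haveI : PreservesFiniteColimits (FlatBC.ext (algebraMap A A')) :=
    haveI : (FlatBC.ext (algebraMap A A')).IsLeftAdjoint :=
      (ModuleCat.extendRestrictScalarsAdj (algebraMap A A')).isLeftAdjoint
    inferInstance
  haveI : PreservesFiniteLimits (ModuleCat.restrictScalars.{u} (algebraMap P A) ⋙
      ModuleCat.extendScalars.{u, u, u} (algebraMap P P')) := comp_preservesFiniteLimits _ _
  haveI : PreservesFiniteColimits (ModuleCat.restrictScalars.{u} (algebraMap P A) ⋙
      ModuleCat.extendScalars.{u, u, u} (algebraMap P P')) := comp_preservesFiniteColimits _ _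
  haveI : PreservesFiniteLimits (ModuleCat.extendScalars.{u, u, u} (algebraMap A A') ⋙
      ModuleCat.restrictScalars.{u} (algebraMap P' A')) := comp_preservesFiniteLimits _ _
  haveI : PreservesFiniteColimits (ModuleCat.extendScalars.{u, u, u} (algebraMap A A') ⋙
      ModuleCat.restrictScalars.{u} (algebraMap P' A')) := comp_preservesFiniteColimits _ _
  (Groth.Agent.Lib.Helper15.ExactFunctorD.mapDerivedCategoryComp _ _).symm ≪≫
    Groth.Agent.Lib.Helper15.ExactFunctorD.mapDerivedCategoryIso (extRestrictIso P P' A A') ≪≫
      Groth.Agent.Lib.Helper15.ExactFunctorD.mapDerivedCategoryComp _ _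

end Derived

end Cat

end Groth.Agent.Lib.Helper15.BCSquare
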