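import Groth.Prelude.Def_DRing2
import Groth.Agent.Lib.Helper15.MQI
import Mathlib.Algebra.Homology.ShortComplex.ModuleCat

/-!
# A key `IsMQI` lemma for `K ⊞ K[1]` (helper15)

Given a distinguished triangle `Y --τ--> Y --p--> P --δ--> Y[1]` in `D(R)`, an `m`-MQI
`α : Y ⟶ K` with `τ ≫ α = 0` and a factorisation `p ≫ β₁ = α`, the morphism
`(β₁, δ ≫ α[1]) : P ⟶ K ⊞ K[1]` is an `m`-MQI.
-/

set_option autoImplicit false
universe u

open CategoryTheory CategoryTheory.Limits CategoryTheory.Pretriangulated DerivedCategory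

attribute [local instance] HasDerivedCategory.standard

namespace Groth.Agent.Lib.Helper15.KeyMQI

open Groth.Agent.Lib.Helper15.MQI

variable {R : Type u} [CommRing R]

/-- the homology functor -/
noncomputable abbrev Hm (R : Type u) [CommRing R] (i : ℤ) : Dual.D R ⥤ ModuleCat.{u} R :=
  homologyFunctor (ModuleCat.{u} R) i

lemma map_comp_apply (i : ℤ) {X Y Z : Dual.D R} (f : X ⟶ Y) (g : Y ⟶ Z)
    (x : ((Hm R i).obj X : ModuleCat.{u} R)) :
    ((Hm R i).map (f ≫ g)) x = ((Hm R i).map g) (((Hm R i).map f) x) := by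
  rw [Functor.map_comp]; rfl

lemma map_zero_apply (i : ℤ) {X Y : Dual.D R} (x : ((Hm R i).obj X : ModuleCat.{u} R)) :
    ((Hm R i).map (0 : X ⟶ Y)) x = 0 := by
  rw [Functor.map_zero]; rfl

lemma exact_apply (i : ℤ) (T : Triangle (Dual.D R)) (hT : T ∈ distTriang _)
    (x : ((Hm R i).obj T.obj₂ : ModuleCat.{u} R)) (hx : ((Hm R i).map T.mor₂) x = 0) :
    ∃ y : ((Hm R i).obj T.obj₁ : ModuleCat.{u} R), ((Hm R i).map T.mor₁) y = x :=
  (ShortComplex.moduleCat_exact_iff _).1 ((Hm R i).map_distinguished_exact T hT) x hx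

theorem isMQI_lift {Y P K : Dual.D R} (τ : Y ⟶ Y) (p : Y ⟶ P) (δ : P ⟶ Y⟦(1 : ℤ)⟧)
    (hT : Triangle.mk τ p δ ∈ distTriang (Dual.D R)) (m : ℤ) (α : Y ⟶ K) (hα : IsMQI m α)
    (hτ : τ ≫ α = 0) (β₁ : P ⟶ K) (hβ₁ : p ≫ β₁ = α) [HasBinaryBiproduct K (K⟦(1 : ℤ)⟧)] :
    IsMQI m (biprod.lift β₁ (δ ≫ α⟦(1 : ℤ)⟧')) := by
  have hα1 : IsMQI (m - 1) (α⟦(1 : ℤ)⟧') := hα.shift 1
  have hT1 := rot_of_distTriang _ hT
  have hT2 := rot_of_distTriang _ hT1
  have hpδ : p ≫ δ = 0 := comp_distTriang_mor_zero₂₃ _ hT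
  -- surjectivity in degrees `≥ m`
  have hsurj : ∀ i : ℤ, m ≤ i →
      Function.Surjective ((Hm R i).map (biprod.lift β₁ (δ ≫ α⟦(1 : ℤ)⟧'))) := by
    intro i hi z
    have hα1_inj : Function.Injective ((Hm R i).map (α⟦(1 : ℤ)⟧')) :=
      (ModuleCat.mono_iff_injective _).1 (hα1.mono i (by lia))
    have hα1_surj : Function.Surjective ((Hm R i).map (α⟦(1 : ℤ)⟧')) :=
      (ModuleCat.epi_iff_surjective _).1 (hα1.epi i (by lia))
    have hα_surj : Function.Surjective ((Hm R i).map α) :=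
      (ModuleCat.epi_iff_surjective _).1 (hα.epi i hi)
    obtain ⟨y', hy'⟩ := hα1_surj (((Hm R i).map (biprod.snd : K ⊞ K⟦(1 : ℤ)⟧ ⟶ K⟦(1 : ℤ)⟧)) z)
    have hτy' : ((Hm R i).map (τ⟦(1 : ℤ)⟧')) y' = 0 := by
      apply hα1_inj
      rw [← map_comp_apply, ← Functor.map_comp, hτ, Functor.map_zero, map_zero_apply, map_zero]
    obtain ⟨x₀, hx₀⟩ : ∃ x₀ : ((Hm R i).obj P : ModuleCat.{u} R), ((Hm R i).map δ) x₀ = y' :=
      exact_apply i _ hT2 y' (by
        change ((Hm R i).map (-τ⟦(1 : ℤ)⟧')) y' = 0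
        rw [Functor.map_neg]
        change -(((Hm R i).map (τ⟦(1 : ℤ)⟧')) y') = 0
        rw [hτy', neg_zero])
    obtain ⟨y, hy⟩ := hα_surj (((Hm R i).map (biprod.fst : K ⊞ K⟦(1 : ℤ)⟧ ⟶ K)) z -
      ((Hm R i).map β₁) x₀)
    refine ⟨x₀ + ((Hm R i).map p) y, ?_⟩
    -- joint injectivity of the projections
    have hjoint : ∀ w : ((Hm R i).obj (K ⊞ K⟦(1 : ℤ)⟧) : ModuleCat.{u} R),
        ((Hm R i).map (biprod.fst : K ⊞ K⟦(1 : ℤ)⟧ ⟶ K)) w = 0 →
        ((Hm R i).map (biprod.snd : K ⊞ K⟦(1 : ℤ)⟧ ⟶ K⟦(1 : ℤ)⟧)) w = 0 → w = 0 := by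
      intro w h1 h2
      have hid : w = ((Hm R i).map (𝟙 (K ⊞ K⟦(1 : ℤ)⟧))) w := by
        rw [CategoryTheory.Functor.map_id]; rfl
      rw [hid, ← biprod.total, Functor.map_add]
      change ((Hm R i).map (biprod.fst ≫ biprod.inl)) w + ((Hm R i).map (biprod.snd ≫ biprod.inr)) w = 0
      rw [map_comp_apply, map_comp_apply, h1, h2, map_zero, map_zero, add_zero]
    have hsub : ((Hm R i).map (biprod.lift β₁ (δ ≫ α⟦(1 : ℤ)⟧'))) (x₀ + ((Hm R i).map p) y) - z = 0 := by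
      apply hjoint
      · rw [map_sub, ← map_comp_apply, biprod.lift_fst, map_add, ← map_comp_apply, hβ₁, hy]
        abel
      · rw [map_sub, ← map_comp_apply, biprod.lift_snd, map_add, ← map_comp_apply,
          ← Category.assoc, hpδ, zero_comp, map_zero_apply, add_zero, map_comp_apply, hx₀, hy']
        abel
    exact sub_eq_zero.1 hsub
  -- injectivity in degrees `> m`
  have hinj : ∀ i : ℤ, m < i →
      Function.Injective ((Hm R i).map (biprod.lift β₁ (δ ≫ α⟦(1 : ℤ)⟧'))) := by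
    intro i hi
    rw [injective_iff_map_eq_zero]
    intro x hx
    have hα1_inj : Function.Injective ((Hm R i).map (α⟦(1 : ℤ)⟧')) :=
      (ModuleCat.mono_iff_injective _).1 (hα1.mono i (by lia))
    have hα_inj : Function.Injective ((Hm R i).map α) :=
      (ModuleCat.mono_iff_injective _).1 (hα.mono i hi)
    have h1 : ((Hm R i).map β₁) x = 0 := by
      have := congrArg ((Hm R i).map (biprod.fst : K ⊞ K⟦(1 : ℤ)⟧ ⟶ K)) hx
      rwa [← map_comp_apply, biprod.lift_fst, map_zero] at this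
    have h2 : ((Hm R i).map δ) x = 0 := by
      apply hα1_inj
      have := congrArg ((Hm R i).map (biprod.snd : K ⊞ K⟦(1 : ℤ)⟧ ⟶ K⟦(1 : ℤ)⟧)) hx
      rw [← map_comp_apply, biprod.lift_snd, map_zero, map_comp_apply] at this
      rw [this, map_zero]
    obtain ⟨y, hy⟩ : ∃ y : ((Hm R i).obj Y : ModuleCat.{u} R), ((Hm R i).map p) y = x :=
      exact_apply i _ hT1 x h2
    have hy1 : ((Hm R i).map α) y = 0 := by rw [← hβ₁, map_comp_apply, hy, h1]
    have hy0 : y = 0 := hα_inj (hy1.trans (map_zero _).symm)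
    rw [← hy, hy0]
    exact map_zero _
  refine ⟨fun i hi => ?_, (ModuleCat.epi_iff_surjective _).2 (hsurj m le_rfl)⟩
  exact (ConcreteCategory.isIso_iff_bijective _).2 ⟨hinj i hi, hsurj i hi.le⟩

end Groth.Agent.Lib.Helper15.KeyMQI
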