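import Mathlib.LinearAlgebra.Basis.Basic
import Mathlib.LinearAlgebra.FreeModule.Basic
import Mathlib.LinearAlgebra.FreeModule.Finite.Basic
import Mathlib.RingTheory.Ideal.Span
import Mathlib.RingTheory.Ideal.Maps
import Mathlib.RingTheory.Finiteness.Basic

/-!
# Algebra for a ring retraction `π : S → B` with section `ι` and `ker π = (t)` (helper15)

If `M` is a finite free `S`-module and `q : M → N` is a surjection with kernel `t M`, then `N`,
as a `B`-module through `ι`, is finite free.
-/

set_option autoImplicit false
universe u v

namespace Groth.Agent.Lib.Helper15.SectionAlg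

variable {S B : Type u} [CommRing S] [CommRing B] (ι : B →+* S) (π : S →+* B)
  (hπι : π.comp ι = RingHom.id B) (t : S) (ht : RingHom.ker π = Ideal.span {t})

include hπι ht in
theorem finite_free_of_quot {M N : Type v} [AddCommGroup M] [Module S M] [AddCommGroup N]
    [Module S N] [Module B N] (hBN : ∀ (b : B) (n : N), b • n = ι b • n)
    [Module.Finite S M] [Module.Free S M] (q : M →ₗ[S] N) (hq : Function.Surjective q)
    (hker : ∀ x : M, q x = 0 ↔ ∃ y : M, x = t • y) :
    Module.Finite B N ∧ Module.Free B N := by
  classical
  have hπt : π t = 0 := by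
    have : t ∈ RingHom.ker π := by rw [ht]; exact Ideal.subset_span rfl
    exact this
  have hπι' : ∀ b : B, π (ι b) = b := fun b => by
    have := congrArg (fun f => f b) hπι
    simpa using this
  let J := Module.Free.ChooseBasisIndex S M
  let e : Module.Basis J S M := Module.Free.chooseBasis S M
  let v : J → N := fun j => q (e j)
  have hli : LinearIndependent B v := by
    rw [Fintype.linearIndependent_iff]
    intro g hg
    have h1 : q (∑ j, ι (g j) • e j) = 0 := by
      rw [map_sum]
      rw [← hg]
      refine Finset.sum_congr rfl (fun j _ => ?_)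
      rw [map_smul, hBN]
    obtain ⟨y, hy⟩ := (hker _).1 h1
    intro j
    have h2 : ι (g j) = t * e.repr y j := by
      have := congrArg (fun z => e.repr z j) hy
      simp only [map_sum, map_smul, Finsupp.coe_finset_sum, Finsupp.coe_smul, Finset.sum_apply,
        Pi.smul_apply, Module.Basis.repr_self, smul_eq_mul] at this
      rw [← this]
      simp [Finsupp.single_apply]
    have h3 := congrArg π h2
    rw [hπι', map_mul, hπt, zero_mul] at h3
    exact h3
  have hsp : ⊤ ≤ Submodule.span B (Set.range v) := by
    intro n _
    obtain ⟨m, rfl⟩ := hq n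
    have hdecomp : ∀ s : S, ∃ u : S, s = ι (π s) + t * u := by
      intro s
      have hmem : s - ι (π s) ∈ RingHom.ker π := by
        rw [RingHom.mem_ker, map_sub, hπι', sub_self]
      rw [ht, Ideal.mem_span_singleton'] at hmem
      obtain ⟨a, ha⟩ := hmem
      exact ⟨a, by rw [mul_comm, ha]; ring⟩
    choose u hu using hdecomp
    have hm : m = ∑ j, e.repr m j • e j := (e.sum_repr m).symm
    have hm' : m = ∑ j, ι (π (e.repr m j)) • e j + t • ∑ j, u (e.repr m j) • e j := by
      conv_lhs => rw [hm]
      rw [Finset.smul_sum, ← Finset.sum_add_distrib]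
      refine Finset.sum_congr rfl (fun j _ => ?_)
      rw [smul_smul, ← add_smul, ← hu]
    have hq2 : q (t • ∑ j, u (e.repr m j) • e j) = 0 := (hker _).2 ⟨_, rfl⟩
    rw [hm', map_add, hq2, add_zero, map_sum]
    refine Submodule.sum_mem _ (fun j _ => ?_)
    rw [map_smul, ← hBN]
    exact Submodule.smul_mem _ _ (Submodule.subset_span ⟨j, rfl⟩)
  let b : Module.Basis J B N := Module.Basis.mk hli hsp
  exact ⟨Module.Finite.of_basis b, Module.Free.of_basis b⟩

end Groth.Agent.Lib.Helper15.SectionAlg
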