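import Groth.Agent.Lib.Helper15.PseudoCohRes
import Groth.Agent.Lib.Helper15.KeyMQI
import Groth.Agent.Lib.Helper15.SectionAlg
import Mathlib.Algebra.Homology.DerivedCategory.SingleTriangle
import Mathlib.Algebra.Homology.DerivedCategory.ShortExact
import Mathlib.Algebra.Homology.ShortComplex.ModuleCat
import Mathlib.Algebra.Category.ModuleCat.Kernels
import Mathlib.RingTheory.Flat.TorsionFree

/-!
# Pseudo-coherence along a ring retraction with principal regular kernel (helper15)

Let `π : S → B` be a ring homomorphism with a section `ι : B → S` whose kernel is generated by a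
nonzerodivisor `t` (e.g. `S = B[X]`, `π = eval_f`, `t = X - f`).  Then `K ∈ D(B)` is
`m`-pseudo-coherent over `B` iff its restriction along `π` is `m`-pseudo-coherent over `S`.
-/

set_option autoImplicit false
universe u

open CategoryTheory CategoryTheory.Limits CategoryTheory.Pretriangulated DerivedCategory

attribute [local instance] HasDerivedCategory.standard

namespace Groth.Agent.Lib.Helper15.PseudoCohSection

open DRing Groth.Agent.Lib.Helper84 Groth.Agent.Lib.Helper15.MQI Groth.Agent.Lib.Helper15.PseudoCoh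
open Groth.Agent.Lib.Helper15.ExactFunctorD Groth.Agent.Lib.Helper15.PseudoCohRes
open scoped ZeroObject

section Single

variable {R : Type u} [CommRing R]

lemma pcAll_single_of_finiteFree (M : ModuleCat.{u} R) (hM : Module.Finite R M ∧ Module.Free R M)
    (i : ℤ) : PCAll R ((singleFunctor (ModuleCat.{u} R) i).obj M) := by
  refine PCAll.of_iso ((singleFunctorIsoCompQ (ModuleCat.{u} R) i).app M).symm ?_
  refine pcAll_of_finiteFree _ i i ?_ ?_
  · intro j hj
    exact HomologicalComplex.isZero_single_obj_X (ComplexShape.up ℤ) i M j (by lia)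
  · intro j
    by_cases hj : j = i
    · subst hj
      exact DRingPC.finiteFree_of_iso (HomologicalComplex.singleObjXSelf (ComplexShape.up ℤ) j M).symm hM
    · have hz := HomologicalComplex.isZero_single_obj_X (ComplexShape.up ℤ) i M j hj
      have : Subsingleton (((CochainComplex.singleFunctor (ModuleCat.{u} R) i).obj M).X j) :=
        ModuleCat.subsingleton_of_isZero hz
      exact ⟨inferInstance, inferInstance⟩

end Single

end Groth.Agent.Lib.Helper15.PseudoCohSection

namespace Groth.Agent.Lib.Helper15.PseudoCohSection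

open DRing Groth.Agent.Lib.Helper84 Groth.Agent.Lib.Helper15.MQI Groth.Agent.Lib.Helper15.PseudoCoh
open Groth.Agent.Lib.Helper15.ExactFunctorD Groth.Agent.Lib.Helper15.PseudoCohRes
open scoped ZeroObject

variable {S B : Type u} [CommRing S] [CommRing B] (ι : B →+* S) (π : S →+* B)
  (hπι : π.comp ι = RingHom.id B) (t : S) (ht : RingHom.ker π = Ideal.span {t})
  (htreg : IsRegular t)

/-- `π` as an `S`-linear map `S → B` where `B` is an `S`-module through `π`. -/
noncomputable def piLin :
    S →ₗ[S] ((ModuleCat.restrictScalars.{u} π).obj (ModuleCat.of B B)) where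
  toFun s := (π s : B)
  map_add' x y := map_add π x y
  map_smul' s x := by
    change π (s * x) = π s * π x
    exact map_mul π s x

/-- `π` as a morphism of `S`-modules. -/
noncomputable def piHom :
    ModuleCat.of S S ⟶ (ModuleCat.restrictScalars.{u} π).obj (ModuleCat.of B B) :=
  ModuleCat.ofHom (Y := ((ModuleCat.restrictScalars.{u} π).obj (ModuleCat.of B B))) (piLin π)

include hπι ht htreg in
lemma resPC_self : ResPC π (ModuleCat.of B B) := by
  have hsurj : Function.Surjective π := fun b => ⟨ι b, by
    have := congrArg (fun f => f b) hπι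
    simpa using this⟩
  let Sc : ShortComplex (ModuleCat.{u} S) :=
    { X₁ := ModuleCat.of S S
      X₂ := ModuleCat.of S S
      X₃ := (ModuleCat.restrictScalars.{u} π).obj (ModuleCat.of B B)
      f := ModuleCat.ofHom (LinearMap.lsmul S S t)
      g := piHom π
      zero := by
        ext
        change π (t • (1 : S)) = 0
        have : t ∈ RingHom.ker π := by rw [ht]; exact Ideal.subset_span rfl
        rw [smul_eq_mul, mul_one]; exact this }
  have hSc : Sc.ShortExact := by
    refine ModuleCat.shortComplex_shortExact Sc ?_ ?_ ?_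
    · intro x
      change π x = 0 ↔ ∃ y : S, t • y = x
      rw [← RingHom.mem_ker (f := π), ht, Ideal.mem_span_singleton']
      constructor
      · rintro ⟨a, ha⟩
        exact ⟨a, by rw [smul_eq_mul, mul_comm, ha]⟩
      · rintro ⟨y, hy⟩
        exact ⟨y, by rw [← hy, smul_eq_mul, mul_comm]⟩
    · exact htreg.left
    · exact hsurj
  have hfree : Module.Finite S (ModuleCat.of S S) ∧ Module.Free S (ModuleCat.of S S) :=
    ⟨inferInstanceAs (Module.Finite S S), inferInstanceAs (Module.Free S S)⟩
  have h1 : PCAll S ((singleFunctor (ModuleCat.{u} S) 0).obj (ModuleCat.of S S)) :=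
    pcAll_single_of_finiteFree _ hfree 0
  have h3 : PCAll S ((singleFunctor (ModuleCat.{u} S) 0).obj
      ((ModuleCat.restrictScalars.{u} π).obj (ModuleCat.of B B))) :=
    PCAll.obj₃ _ hSc.singleTriangle_distinguished h1 h1
  exact PCAll.of_iso
    (((ModuleCat.restrictScalars.{u} π).mapDerivedCategorySingleFunctor 0).app (ModuleCat.of B B)).symm h3

include hπι ht htreg in
/-- `(⇒)`: restriction along `π` preserves `m`-pseudo-coherence. -/
theorem restrictD_pi {m : ℤ} {K : Dual.D B} (hK : IsPseudoCoherent B m K) :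
    IsPseudoCoherent S m ((restrictD π).obj K) :=
  restrictD_of_pcAlgebra π (resPC_self ι π hπι t ht htreg) hK

end Groth.Agent.Lib.Helper15.PseudoCohSection

namespace Groth.Agent.Lib.Helper15.PseudoCohSection

open DRing Groth.Agent.Lib.Helper84 Groth.Agent.Lib.Helper15.MQI Groth.Agent.Lib.Helper15.PseudoCoh
open Groth.Agent.Lib.Helper15.ExactFunctorD Groth.Agent.Lib.Helper15.PseudoCohRes
open scoped ZeroObject

variable {S B : Type u} [CommRing S] [CommRing B] (ι : B →+* S) (π : S →+* B)
  (hπι : π.comp ι = RingHom.id B) (t : S) (ht : RingHom.ker π = Ideal.span {t})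
  (htreg : IsRegular t)

/-- elements of `ker π` act by zero on objects restricted along `π`. -/
lemma smul_id_restrictD_eq_zero (s : S) (hs : π s = 0) (K : Dual.D B) :
    s • 𝟙 ((restrictD π).obj K) = 0 := by
  obtain ⟨K', ⟨e⟩⟩ : ∃ K' : Cx B, Nonempty (Q.obj K' ≅ K) :=
    ⟨_, ⟨(DerivedCategory.Q (C := ModuleCat.{u} B)).objObjPreimageIso K⟩⟩
  let e' : (restrictD π).obj K ≅ toD ((restrictCx π).obj K') :=
    (restrictD π).mapIso e.symm ≪≫ restrictDQIso π K'
  have h0 : s • 𝟙 ((restrictCx π).obj K') = 0 := by
    ext i x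
    change s • x = 0
    have hx : s • x = π s • (show K'.X i from x) :=
      ModuleCat.restrictScalars.smul_def (M := K'.X i) π s x
    rw [hx, hs, zero_smul]
    rfl
  have h1 : s • 𝟙 (toD ((restrictCx π).obj K')) = 0 := by
    have : s • 𝟙 (toD ((restrictCx π).obj K')) = Q.map (s • 𝟙 ((restrictCx π).obj K')) := by
      rw [Functor.map_smul, CategoryTheory.Functor.map_id]
    rw [this, h0, Functor.map_zero]
  have h2 : s • 𝟙 ((restrictD π).obj K) = e'.hom ≫ (s • 𝟙 _) ≫ e'.inv := by
    rw [Linear.smul_comp, Linear.comp_smul, Category.id_comp, e'.hom_inv_id]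
  rw [h2, h1, zero_comp, comp_zero]

end Groth.Agent.Lib.Helper15.PseudoCohSection

namespace Groth.Agent.Lib.Helper15.PseudoCohSection

open DRing Groth.Agent.Lib.Helper84 Groth.Agent.Lib.Helper15.MQI Groth.Agent.Lib.Helper15.PseudoCoh
open Groth.Agent.Lib.Helper15.ExactFunctorD Groth.Agent.Lib.Helper15.PseudoCohRes
open scoped ZeroObject

variable {S B : Type u} [CommRing S] [CommRing B] (ι : B →+* S) (π : S →+* B)
  (hπι : π.comp ι = RingHom.id B) (t : S) (ht : RingHom.ker π = Ideal.span {t})
  (htreg : IsRegular t)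

include hπι ht htreg in
/-- `(⇐)`: if the restriction of `K` along `π` is `m`-pseudo-coherent over `S`, then `K` is
`m`-pseudo-coherent over `B`. -/
theorem of_restrictD_pi {m : ℤ} {K : Dual.D B}
    (hK : IsPseudoCoherent S m ((restrictD π).obj K)) : IsPseudoCoherent B m K := by
  obtain ⟨E, a, b, α, h1, h2, h3⟩ := (isPseudoCoherent_iff m _).1 hK
  let φt : E ⟶ E := t • 𝟙 E
  have hφt : ∀ (i : ℤ) (x : E.X i), (φt.f i) x = t • x := fun i x => rfl
  have hmono : Mono φt := by
    refine HomologicalComplex.mono_of_mono_f _ (fun i => (ModuleCat.mono_iff_injective _).2 ?_)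
    haveI := (h2 i).2
    have hreg : IsSMulRegular (E.X i) t := Module.Flat.isSMulRegular_of_isRegular htreg
    intro x y hxy
    exact hreg (by simpa [hφt] using hxy)
  let Sc : ShortComplex (Cx S) := ShortComplex.mk φt (cokernel.π φt) (cokernel.condition φt)
  have hSc : Sc.ShortExact :=
    { exact := ShortComplex.exact_cokernel φt
      mono_f := hmono
      epi_g := inferInstanceAs (Epi (cokernel.π φt)) }
  have hT := triangleOfSES_distinguished hSc
  -- termwise analysis of the cokernel
  have hterm : ∀ i : ℤ, (Sc.map (HomologicalComplex.eval (ModuleCat.{u} S) (ComplexShape.up ℤ) i)).ShortExact :=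
    fun i => hSc.map_of_exact _
  have hq : ∀ i : ℤ, Function.Surjective ((cokernel.π φt).f i) := fun i =>
    (hterm i).moduleCat_surjective_g
  have hker : ∀ (i : ℤ) (x : E.X i), ((cokernel.π φt).f i) x = 0 ↔ ∃ y : E.X i, x = t • y := by
    intro i x
    have hex := (ShortComplex.ShortExact.moduleCat_exact_iff_function_exact _).1 (hterm i).exact x
    change ((cokernel.π φt).f i) x = 0 ↔ x ∈ Set.range (φt.f i) at hex
    rw [hex]
    constructor
    · rintro ⟨y, hy⟩
      exact ⟨y, by rw [← hy, hφt]⟩
    · rintro ⟨y, hy⟩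
      exact ⟨y, by rw [hy, hφt]⟩
  let Ebar : Cx B := (restrictCx ι).obj (cokernel φt)
  have hvan : VanishesOutside Ebar a b := by
    intro i hi
    have hz : IsZero ((cokernel φt).X i) := by
      rw [ModuleCat.isZero_iff_subsingleton]
      have := ModuleCat.subsingleton_of_isZero (h1 i hi)
      exact (hq i).subsingleton
    exact Functor.map_isZero (ModuleCat.restrictScalars.{u} ι) hz
  have hff : TermwiseFiniteFree Ebar := by
    intro i
    have := (h2 i).1
    have := (h2 i).2
    exact Groth.Agent.Lib.Helper15.SectionAlg.finite_free_of_quot ι π hπι t ht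
      (M := E.X i) (N := ((ModuleCat.restrictScalars.{u} ι).obj ((cokernel φt).X i)))
      (fun b n => rfl) ((cokernel.π φt).f i).hom (hq i) (hker i)
  -- derived category level
  have hτα : Q.map φt ≫ α = 0 := by
    have hQ : Q.map φt = t • 𝟙 (toD E) := by
      rw [Functor.map_smul, CategoryTheory.Functor.map_id]
    rw [hQ, Linear.smul_comp, Category.id_comp, ← Category.comp_id α, ← Linear.comp_smul,
      smul_id_restrictD_eq_zero π t (by
        have : t ∈ RingHom.ker π := by rw [ht]; exact Ideal.subset_span rfl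
        exact this) K, comp_zero]
  obtain ⟨β₁', hβ₁'⟩ := Triangle.yoneda_exact₂ _ hT α hτα
  have hT' := (restrictD ι).map_distinguished _ hT
  let ε := restrictDSection ι π hπι
  let αbar : (restrictD ι).obj (toD E) ⟶ K := (restrictD ι).map α ≫ ε.hom.app K
  have hαbar : IsMQI m αbar := ((isMQI_restrictD_iff ι α m).2 h3).comp (IsMQI.of_isIso m _)
  let β₁bar : (restrictD ι).obj (Q.obj (cokernel φt)) ⟶ K := (restrictD ι).map β₁' ≫ ε.hom.app K
  have key := Groth.Agent.Lib.Helper15.KeyMQI.isMQI_lift
    ((restrictD ι).map (Q.map φt)) ((restrictD ι).map (Q.map (cokernel.π φt)))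
    ((restrictD ι).map (triangleOfSESδ hSc) ≫ ((restrictD ι).commShiftIso (1 : ℤ)).hom.app _) hT' m
    αbar hαbar
    (by
      change (restrictD ι).map (Q.map φt) ≫ (restrictD ι).map α ≫ ε.hom.app K = 0
      rw [← Category.assoc, ← Functor.map_comp, hτα, Functor.map_zero, zero_comp])
    β₁bar
    (by
      change (restrictD ι).map (Q.map (cokernel.π φt)) ≫ (restrictD ι).map β₁' ≫ ε.hom.app K =
        (restrictD ι).map α ≫ ε.hom.app K
      rw [← Category.assoc, ← Functor.map_comp]
      congr 2
      exact hβ₁'.symm)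
  have hKK : IsPseudoCoherent B m (K ⊞ K⟦(1 : ℤ)⟧) :=
    (isPseudoCoherent_iff m _).2 ⟨Ebar, a, b, (restrictDQIso ι (cokernel φt)).inv ≫ _, hvan, hff,
      (IsMQI.of_isIso m _).comp key⟩
  exact (of_biprod m K (K⟦(1 : ℤ)⟧) hKK).1

include hπι ht htreg in
/-- Pseudo-coherence over `B` can be tested after restriction along the retraction `π : S → B`. -/
theorem isPseudoCoherent_iff_restrictD_pi (m : ℤ) (K : Dual.D B) :
    IsPseudoCoherent B m K ↔ IsPseudoCoherent S m ((restrictD π).obj K) :=
  ⟨restrictD_pi ι π hπι t ht htreg, of_restrictD_pi ι π hπι t ht htreg⟩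

end Groth.Agent.Lib.Helper15.PseudoCohSection
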