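import Groth.Agent.Lib.Helper15.QhAdj
import Groth.Prelude.Def_DDual2

/-!
# Computing `DRing.LBaseChange` and `DRing.LTensor`

The hypotheses `DRing.HasLBaseChange φ`, `DRing.HasLTensor A M` always hold, and the derived
functors are computed termwise on K-projective complexes.
-/

set_option autoImplicit false
universe u

namespace Groth.Agent.Lib.Helper15.LDerived

open CategoryTheory CategoryTheory.Limits DerivedCategory
open Groth.Agent.Lib.Helper15.QhAdj

attribute [local instance] HasDerivedCategory.standard

section BaseChange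

variable {A B : Type u} [CommRing A] [CommRing B] (φ : A →+* B)

/-- The derived base change always exists. -/
instance hasLBaseChange : DRing.HasLBaseChange φ :=
  QhAdj.hasLeftDerivedFunctor (DRing.baseChangeKh φ)

/-- termwise extension of scalars of a complex -/
noncomputable abbrev extCx (P : DRing.Cx A) : DRing.Cx B :=
  ((ModuleCat.extendScalars.{u, u, u} φ).mapHomologicalComplex (ComplexShape.up ℤ)).obj P

/-- the canonical map `K ⊗^L B ⟶ K ⊗ B` -/
noncomputable def lbcMap [DRing.HasLBaseChange φ] (P : DRing.Cx A) :
    (DRing.LBaseChange φ).obj (DRing.toD P) ⟶ DRing.toD (extCx φ P) :=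
  (DRing.LBaseChange φ).map ((quotientCompQhIso _).inv.app P) ≫
    ((DRing.baseChangeKh φ).totalLeftDerivedCounit Qh (W A)).app ((quot A).obj P) ≫
      (quotientCompQhIso _).hom.app (extCx φ P)

instance [DRing.HasLBaseChange φ] (P : DRing.Cx A) [CochainComplex.IsKProjective P] :
    IsIso (lbcMap φ P) := by
  unfold lbcMap
  have h1 : IsIso (((DRing.baseChangeKh φ).totalLeftDerivedCounit Qh (W A)).app
    ((quot A).obj P)) := inferInstance
  have h2 : IsIso ((quotientCompQhIso _).hom.app (extCx φ P)) := inferInstance
  have h3 : IsIso ((DRing.LBaseChange φ).map ((quotientCompQhIso _).inv.app P)) := inferInstance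
  exact @IsIso.comp_isIso _ _ _ _ _ _ _ h3 (@IsIso.comp_isIso _ _ _ _ _ _ _ h1 h2)

/-- Derived base change is computed termwise on K-projective complexes. -/
noncomputable def lbcIso [DRing.HasLBaseChange φ] (P : DRing.Cx A)
    [CochainComplex.IsKProjective P] :
    (DRing.LBaseChange φ).obj (DRing.toD P) ≅ DRing.toD (extCx φ P) :=
  asIso (lbcMap φ P)

theorem lbcMap_naturality [DRing.HasLBaseChange φ] {P P' : DRing.Cx A} (f : P ⟶ P') :
    (DRing.LBaseChange φ).map (Q.map f) ≫ lbcMap φ P' =
      lbcMap φ P ≫ Q.map (((ModuleCat.extendScalars.{u, u, u} φ).mapHomologicalComplex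
        (ComplexShape.up ℤ)).map f) := by
  unfold lbcMap
  have h1 := ((DRing.baseChangeKh φ).totalLeftDerivedCounit Qh (W A)).naturality
    ((quot A).map f)
  have h2 := (quotientCompQhIso (ModuleCat.{u} A)).inv.naturality f
  have h3 := (quotientCompQhIso (ModuleCat.{u} B)).hom.naturality
    (((ModuleCat.extendScalars.{u, u, u} φ).mapHomologicalComplex (ComplexShape.up ℤ)).map f)
  dsimp at h1 h2 h3
  rw [← Functor.map_comp_assoc, h2, Functor.map_comp_assoc, reassoc_of% h1]
  simp only [Category.assoc]
  congr 2

end BaseChange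

section Tensor

variable (A : Type u) [CommRing A] (M : ModuleCat.{u} A)

/-- The derived tensor product with a module always exists. -/
instance hasLTensor : DRing.HasLTensor A M :=
  QhAdj.hasLeftDerivedFunctor (DRing.tensorKh A M)

/-- termwise tensor product of a complex with a module -/
noncomputable abbrev tensorCx (P : DRing.Cx A) : DRing.Cx A :=
  ((MonoidalCategory.tensorRight M).mapHomologicalComplex (ComplexShape.up ℤ)).obj P

/-- the canonical map `K ⊗^L M ⟶ K ⊗ M` -/
noncomputable def ltMap [DRing.HasLTensor A M] (P : DRing.Cx A) :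
    (DRing.LTensor A M).obj (DRing.toD P) ⟶ DRing.toD (tensorCx A M P) :=
  (DRing.LTensor A M).map ((quotientCompQhIso _).inv.app P) ≫
    ((DRing.tensorKh A M).totalLeftDerivedCounit Qh (W A)).app ((quot A).obj P) ≫
      (quotientCompQhIso _).hom.app (tensorCx A M P)

instance [DRing.HasLTensor A M] (P : DRing.Cx A) [CochainComplex.IsKProjective P] :
    IsIso (ltMap A M P) := by
  unfold ltMap
  have h1 : IsIso (((DRing.tensorKh A M).totalLeftDerivedCounit Qh (W A)).app
    ((quot A).obj P)) := inferInstance
  have h2 : IsIso ((quotientCompQhIso _).hom.app (tensorCx A M P)) := inferInstance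
  have h3 : IsIso ((DRing.LTensor A M).map ((quotientCompQhIso _).inv.app P)) := inferInstance
  exact @IsIso.comp_isIso _ _ _ _ _ _ _ h3 (@IsIso.comp_isIso _ _ _ _ _ _ _ h1 h2)

/-- Derived tensor product with a module is computed termwise on K-projective complexes. -/
noncomputable def ltIso [DRing.HasLTensor A M] (P : DRing.Cx A)
    [CochainComplex.IsKProjective P] :
    (DRing.LTensor A M).obj (DRing.toD P) ≅ DRing.toD (tensorCx A M P) :=
  asIso (ltMap A M P)

theorem ltMap_naturality [DRing.HasLTensor A M] {P P' : DRing.Cx A} (f : P ⟶ P') :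
    (DRing.LTensor A M).map (Q.map f) ≫ ltMap A M P' =
      ltMap A M P ≫ Q.map (((MonoidalCategory.tensorRight M).mapHomologicalComplex
        (ComplexShape.up ℤ)).map f) := by
  unfold ltMap
  have h1 := ((DRing.tensorKh A M).totalLeftDerivedCounit Qh (W A)).naturality
    ((quot A).map f)
  have h2 := (quotientCompQhIso (ModuleCat.{u} A)).inv.naturality f
  have h3 := (quotientCompQhIso (ModuleCat.{u} A)).hom.naturality
    (((MonoidalCategory.tensorRight M).mapHomologicalComplex (ComplexShape.up ℤ)).map f)
  dsimp at h1 h2 h3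
  rw [← Functor.map_comp_assoc, h2, Functor.map_comp_assoc, reassoc_of% h1]
  simp only [Category.assoc]
  congr 2

end Tensor

end Groth.Agent.Lib.Helper15.LDerived
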