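import Groth.Agent.Lib.Helper15.LBCKFlat
import Groth.Agent.Lib.Helper25.KFlatFP

/-!
# Derived tensor product with a module is computed termwise on K-flat complexes
-/

set_option autoImplicit false
universe u

namespace Groth.Agent.Lib.Helper15.LTKFlat

open CategoryTheory CategoryTheory.Limits MonoidalCategory CochainComplex TensorProduct
open DerivedCategory
open Groth.Agent.Lib.Helper25.TensorCx Groth.Agent.Lib.Helper25.KFlat
open Groth.Agent.Lib.Helper25.KFlatFP
open Groth.Agent.Lib.Helper15.QhAdj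

attribute [local instance] HasDerivedCategory.standard

variable {R : Type u} [CommRing R]

/-- If `L` is concentrated in degree `0` with `L^0 ≃ M` and `L ⊗ C` is acyclic, then the rows
`M ⊗ C^•` are exact. -/
theorem rowExact_of_acyclic_tensor (L C : Cx R) (M : Type u) [AddCommGroup M] [Module R M]
    (e : M ≃ₗ[R] L.X 0) (hL : ∀ p : ℤ, p ≠ 0 → Subsingleton (L.X p))
    (hac : Groth.Agent.Lib.Helper25.KFlat.Acyclic (L ⊗ C : Cx R)) : RowExact C M := by
  intro q₀ q₁ q₂ h01 h12 t ht
  subst h01 h12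
  rw [acyclic_iff] at hac
  set t' : L.X 0 ⊗[R] C.X (q₀ + 1) := LinearMap.rTensor (C.X (q₀ + 1)) e.toLinearMap t with ht'
  set z := inc L C 0 (q₀ + 1) (q₀ + 1) (zero_add _) t' with hz
  have hdz : (L ⊗ C : Cx R).d (q₀ + 1) (q₀ + 1 + 1) z = 0 := by
    have h1 := congrArg (fun f => f t') (congrArg ModuleCat.Hom.hom
      (ι_d L C 0 (q₀ + 1) (q₀ + 1) (q₀ + 1 + 1) (zero_add _) rfl))
    have h2 : ((L.d 0 (0 + 1) ▷ C.X (q₀ + 1)).hom t' : (L.X (0 + 1) ⊗ C.X (q₀ + 1) : ModuleCat R)) = 0 := by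
      have := hL (0 + 1) (by norm_num)
      exact tensor_eq_zero_of_subsingleton_left _
    have h3 : ((L.X 0 ◁ C.d (q₀ + 1) (q₀ + 1 + 1)).hom t' :
        (L.X 0 ⊗ C.X (q₀ + 1 + 1) : ModuleCat R)) = 0 := by
      change LinearMap.lTensor (L.X 0) (C.d (q₀ + 1) (q₀ + 1 + 1)).hom
        (LinearMap.rTensor (C.X (q₀ + 1)) e.toLinearMap t) = 0
      rw [lTensor_rTensor_comm, ht, map_zero]
    refine h1.trans ?_
    change (HomologicalComplex.ιTensorObj L C (0 + 1) (q₀ + 1) (q₀ + 1 + 1) _).hom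
        ((L.d 0 (0 + 1) ▷ C.X (q₀ + 1)).hom t') +
      ((0 : ℤ).negOnePow : ℤˣ) • (HomologicalComplex.ιTensorObj L C 0 (q₀ + 1 + 1) (q₀ + 1 + 1) _).hom
        ((L.X 0 ◁ C.d (q₀ + 1) (q₀ + 1 + 1)).hom t') = 0
    rw [h2, h3, map_zero, map_zero, smul_zero, add_zero]
  obtain ⟨w, hw⟩ := hac q₀ (q₀ + 1) (q₀ + 1 + 1) rfl rfl z hdz
  refine ⟨LinearMap.rTensor (C.X q₀) e.symm.toLinearMap (comp L C 0 q₀ q₀ (zero_add _) w), ?_⟩
  have h4 := comp_d L C (-1) 0 q₀ (q₀ + 1) q₀ (q₀ + 1) (by norm_num) rfl rfl (zero_add _) w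
  have h5 : comp L C (-1) (q₀ + 1) q₀ (by omega) w = 0 := by
    have := hL (-1) (by norm_num)
    exact tensor_eq_zero_of_subsingleton_left _
  rw [hw, hz, comp_inc_self, h5, map_zero, zero_add, Int.negOnePow_zero, one_smul] at h4
  rw [lTensor_rTensor_comm, ← h4, ht', ← LinearMap.rTensor_comp_apply]
  have : e.symm.toLinearMap ∘ₗ e.toLinearMap = LinearMap.id := by
    ext x; simp
  rw [this, LinearMap.rTensor_id_apply]

/-- The rows `M ⊗ C^•` of an acyclic K-flat complex are exact. -/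
theorem rowExact_of_acyclic_of_isKFlat (C : Cx R)
    (hC : Groth.Agent.Lib.Helper25.KFlat.Acyclic C) (hK : IsKFlat C)
    (M : Type u) [AddCommGroup M] [Module R M] : RowExact C M := by
  let L : Cx R := (HomologicalComplex.single (ModuleCat.{u} R) (ComplexShape.up ℤ) 0).obj
    (ModuleCat.of R M)
  have e : M ≃ₗ[R] L.X 0 :=
    (HomologicalComplex.singleObjXSelf (ComplexShape.up ℤ) 0 (ModuleCat.of R M)).symm.toLinearEquiv
  refine rowExact_of_acyclic_tensor L C M e (fun p hp => ?_)
    (LBCKFlat.acyclic_tensor_of_acyclic_of_isKFlat C hC hK L)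
  exact ModuleCat.subsingleton_of_isZero
    (HomologicalComplex.isZero_single_obj_X (ComplexShape.up ℤ) 0 (ModuleCat.of R M) p hp)

/-- termwise tensor product with a module -/
noncomputable abbrev tensorCx (M : ModuleCat.{u} R) (P : Cx R) : Cx R :=
  ((MonoidalCategory.tensorRight M).mapHomologicalComplex (ComplexShape.up ℤ)).obj P

/-- Termwise tensoring an acyclic K-flat complex with a module gives an acyclic complex. -/
theorem acyclic_tensorCx (M : ModuleCat.{u} R) (C : Cx R)
    (hC : Groth.Agent.Lib.Helper25.KFlat.Acyclic C) (hK : IsKFlat C) :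
    Groth.Agent.Lib.Helper25.KFlat.Acyclic (tensorCx M C) := by
  have hrow := rowExact_of_acyclic_of_isKFlat C hC hK M
  rw [acyclic_iff]
  intro n₀ n₁ n₂ h01 h12 z hz
  change C.X n₁ ⊗[R] M at z
  have hz' : LinearMap.rTensor M (C.d n₁ n₂).hom z = 0 := hz
  obtain ⟨s, hs⟩ := hrow n₀ n₁ n₂ h01 h12 (TensorProduct.comm R _ _ z) (by
    rw [LinearMap.lTensor_comm, hz', map_zero])
  refine ⟨(TensorProduct.comm R _ _).symm s, ?_⟩
  change LinearMap.rTensor M (C.d n₀ n₁).hom ((TensorProduct.comm R _ _).symm s) = z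
  apply (TensorProduct.comm R _ _).injective
  rw [← LinearMap.lTensor_comm, LinearEquiv.apply_symm_apply, hs]

/-- Termwise tensoring with a module preserves quasi-isomorphisms between K-flat complexes. -/
theorem quasiIso_tensorCx_map (M : ModuleCat.{u} R) {P Q : Cx R} (α : P ⟶ Q) (hP : IsKFlat P)
    (hQ : IsKFlat Q) (hα : QuasiIso α) :
    QuasiIso (((MonoidalCategory.tensorRight M).mapHomologicalComplex
      (ComplexShape.up ℤ)).map α) := by
  rw [quasiIso_iff_acyclic_mappingCone] at hα ⊢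
  have h1 := acyclic_tensorCx M (mappingCone α) hα (isKFlat_mappingCone α hP hQ)
  exact acyclic_of_iso (mappingCone.mapHomologicalComplexIso α
    (MonoidalCategory.tensorRight M)) h1

/-- Derived tensor product with a module is computed termwise on K-flat complexes. -/
theorem isIso_ltMap_of_isKFlat (M : ModuleCat.{u} R) [DRing.HasLTensor R M] (E : Cx R)
    (hE : IsKFlat E) : IsIso (LDerived.ltMap R M E) := by
  obtain ⟨P, π, hP, hπ, hPK, -, -⟩ := KProjRes.exists_kprojective_resolution E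
  have h1 : IsIso (Q.map π) := by rw [isIso_Q_map_iff_quasiIso]; exact hπ
  have h2 : IsIso (Q.map (((MonoidalCategory.tensorRight M).mapHomologicalComplex
      (ComplexShape.up ℤ)).map π)) := by
    rw [isIso_Q_map_iff_quasiIso]
    exact quasiIso_tensorCx_map M π hPK hE hπ
  have h3 := LDerived.ltMap_naturality R M π
  have h4 : IsIso ((DRing.LTensor R M).map (Q.map π) ≫ LDerived.ltMap R M E) := by
    rw [h3]; infer_instance
  exact IsIso.of_isIso_comp_left ((DRing.LTensor R M).map (Q.map π)) _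

/-- Derived tensor product of a K-flat complex with a module. -/
noncomputable def ltIsoOfIsKFlat (M : ModuleCat.{u} R) [DRing.HasLTensor R M] (E : Cx R)
    (hE : IsKFlat E) :
    (DRing.LTensor R M).obj (DRing.toD E) ≅ DRing.toD (tensorCx M E) :=
  have := isIso_ltMap_of_isKFlat M E hE
  asIso (LDerived.ltMap R M E)

/-- Derived tensor product of a bounded above complex of flat modules with a module. -/
noncomputable def ltIsoOfFlat (M : ModuleCat.{u} R) [DRing.HasLTensor R M] (E : Cx R) (b : ℤ)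
    (hb : ∀ q, b < q → IsZero (E.X q)) (hfl : ∀ q, Module.Flat R (E.X q)) :
    (DRing.LTensor R M).obj (DRing.toD E) ≅ DRing.toD (tensorCx M E) :=
  ltIsoOfIsKFlat M E (isKFlat_of_boundedAbove_of_flat E b hb hfl)

end Groth.Agent.Lib.Helper15.LTKFlat
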