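import Mathlib.Tactic
import Mathlib.Algebra.TrivSqZeroExt.Basic
import Mathlib.RingTheory.Finiteness.ModuleFinitePresentation
import Mathlib.Algebra.Homology.DerivedCategory.SingleTriangle
import Groth.Agent.S7100
import Groth.Agent.S2066
import Groth.Agent.Lib.Helper15.PseudoCoh
import Groth.Agent.Lib.Helper43.PerfAmp
import Groth.Agent.Lib.Helper43.RestrictSingle
import Groth.Agent.Lib.Helper43.TorAmpDescent
import Groth.Agent.Lib.Helper15.ExactFunctorD

/-!
# Relatively perfect complexes over a flat finitely presented algebra (helper15)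

* `pc_of_fp_flat_aux` / `pcAll_single_of_fp_flat`: for `R → A` flat of finite presentation, a finitely
  presented `A`-module which is flat over `R` is pseudo-coherent over `A` (idealization trick:
  `A ⊕ M` is a flat finitely presented `R`-algebra, then `S7100` and two-out-of-three on
  `0 → M → A ⊕ M → A → 0`).
* `relPerfect_of_complex`: a bounded complex of such modules is pseudo-coherent with finite tor
  dimension over `R`.
* `exists_complex_of_relPerfect`: conversely (truncation of a finite free resolution).
-/

set_option autoImplicit false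
set_option linter.style.haveILetI false
universe u
open CategoryTheory CategoryTheory.Limits DerivedCategory
attribute [local instance] HasDerivedCategory.standard

namespace Groth.Agent.Lib.Helper15.RelPerfFP

open Groth.Agent.Lib.Helper15.PseudoCoh

section Ideal
variable (R A : Type u) [CommRing R] [CommRing A] [Algebra R A] (M : Type u) [AddCommGroup M]
  [Module A M] [Module Aᵐᵒᵖ M] [IsCentralScalar A M] [Module R M] [IsScalarTower R A M]

attribute [local instance] TrivSqZeroExt.algebraBase

instance : IsScalarTower R (TrivSqZeroExt A M) A :=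
  IsScalarTower.of_algebraMap_eq (fun _ => rfl)

/-- `M` as a module over the idealization -/
@[reducible] noncomputable def modB : Module (TrivSqZeroExt A M) M :=
  Module.compHom M (algebraMap (TrivSqZeroExt A M) A)

attribute [local instance] modB

instance : IsScalarTower (TrivSqZeroExt A M) A M :=
  IsScalarTower.of_algebraMap_smul (fun _ _ => rfl)

/-- the short exact sequence `0 → M → A ⊕ M → A → 0` of modules over the idealization -/
noncomputable def sesB : ShortComplex (ModuleCat.{u} (TrivSqZeroExt A M)) :=
  ShortComplex.mk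
    (ModuleCat.ofHom (X := ModuleCat.of (TrivSqZeroExt A M) M)
      (Y := ModuleCat.of (TrivSqZeroExt A M) (TrivSqZeroExt A M))
      { toFun := fun m => TrivSqZeroExt.inr m
        map_add' := fun _ _ => TrivSqZeroExt.inr_add _ _ _
        map_smul' := fun b m => by
          change TrivSqZeroExt.inr (TrivSqZeroExt.fst b • m) = b * TrivSqZeroExt.inr m
          ext
          · simp
          · simp })
    (ModuleCat.ofHom (X := ModuleCat.of (TrivSqZeroExt A M) (TrivSqZeroExt A M))
      (Y := ModuleCat.of (TrivSqZeroExt A M) A)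
      { toFun := fun b => TrivSqZeroExt.fst b
        map_add' := fun _ _ => rfl
        map_smul' := fun b b' => by
          change TrivSqZeroExt.fst (b * b') = TrivSqZeroExt.fst b * TrivSqZeroExt.fst b'
          simp })
    (by
      ext m
      change TrivSqZeroExt.fst (TrivSqZeroExt.inr (m : M)) = (0 : A)
      simp)

lemma sesB_shortExact : (sesB A M).ShortExact := by
  refine ShortComplex.ShortExact.mk' ?_ ?_ ?_
  · rw [ShortComplex.moduleCat_exact_iff]
    intro (x : TrivSqZeroExt A M) hx
    have hx' : TrivSqZeroExt.fst x = 0 := hx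
    refine ⟨(TrivSqZeroExt.snd x : M), ?_⟩
    change TrivSqZeroExt.inr (TrivSqZeroExt.snd x) = x
    ext
    · simp [hx']
    · simp
  · rw [ModuleCat.mono_iff_injective]
    intro (m : M) (m' : M) h
    exact TrivSqZeroExt.inr_injective h
  · rw [ModuleCat.epi_iff_surjective]
    intro (a : A)
    exact ⟨TrivSqZeroExt.inl a, TrivSqZeroExt.fst_inl M a⟩


open Groth.Agent.Lib.Helper84 in
/-- **Lemma Z**: a finitely presented module over a flat finitely presented `R`-algebra `A` which is
flat over `R` is a pseudo-coherent `A`-module (idealization trick). -/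
theorem pc_of_fp_flat_aux [Module.Flat R A] [Algebra.FinitePresentation R A]
    [Module.FinitePresentation A M] [Module.Flat R M] :
    DRing.IsPseudoCoherent' A (Dual.inD A M) := by
  haveI : Module.Flat R (TrivSqZeroExt A M) :=
    (TensCx.flat_prod A M : Module.Flat R (A × M))
  haveI : Module.FinitePresentation A (TrivSqZeroExt A M) :=
    inferInstanceAs (Module.FinitePresentation A (A × M))
  haveI : Algebra.FinitePresentation A (TrivSqZeroExt A M) := inferInstance
  haveI : Algebra.FinitePresentation R (TrivSqZeroExt A M) :=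
    Algebra.FinitePresentation.trans R A _
  have hsurj : Function.Surjective (algebraMap (TrivSqZeroExt A M) A) :=
    fun a => ⟨TrivSqZeroExt.inl a, rfl⟩
  have key := fun K => (Groth.Agent.S7100.result R (TrivSqZeroExt A M) A hsurj K).1
  -- `A[0]` is pseudo-coherent over `B`
  have hA : PCAll (TrivSqZeroExt A M) (Dual.inD (TrivSqZeroExt A M) A) := by
    have h1 : DRing.IsPseudoCoherent' A (Dual.inD A A) :=
      (Groth.Agent.S2066.result _).1.1
        (Groth.Agent.Lib.Helper43.PerfAmp.pcAll_single_of_finiteProjective (ModuleCat.of A A)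
          ⟨inferInstanceAs (Module.Finite A A), inferInstanceAs (Module.Projective A A)⟩ 0)
    have h2 := (key _).1 h1
    exact (Groth.Agent.S2066.result _).1.2 (DRingPC.isPseudoCoherent'_of_iso
      (Groth.Agent.Lib.Helper43.RestrictSingle.restrictSingleIso (TrivSqZeroExt A M) A A) h2)
  have hB : PCAll (TrivSqZeroExt A M) (Dual.inD (TrivSqZeroExt A M) (TrivSqZeroExt A M)) :=
    Groth.Agent.Lib.Helper43.PerfAmp.pcAll_single_of_finiteProjective
      (ModuleCat.of (TrivSqZeroExt A M) (TrivSqZeroExt A M))
      ⟨inferInstanceAs (Module.Finite (TrivSqZeroExt A M) (TrivSqZeroExt A M)),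
        inferInstanceAs (Module.Projective (TrivSqZeroExt A M) (TrivSqZeroExt A M))⟩ 0
  have hM : PCAll (TrivSqZeroExt A M) (Dual.inD (TrivSqZeroExt A M) M) :=
    PCAll.obj₁ _ (sesB_shortExact A M).singleTriangle_distinguished hB hA
  have h3 : DRing.IsPseudoCoherent' (TrivSqZeroExt A M)
      ((DRing.restrictD (algebraMap (TrivSqZeroExt A M) A)).obj (Dual.inD A M)) :=
    DRingPC.isPseudoCoherent'_of_iso
      (Groth.Agent.Lib.Helper43.RestrictSingle.restrictSingleIso (TrivSqZeroExt A M) A M).symm
      ((Groth.Agent.S2066.result _).1.1 hM)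
  exact (key _).2 h3


end Ideal

section Main

open DRing Groth.Agent.Lib.Helper84 Groth.Agent.Lib.Helper84.FlatAmp Groth.Agent.Lib.Helper84.TensCx
  Groth.Agent.Lib.Helper43 CochainComplex

variable (R A : Type u) [CommRing R] [CommRing A] [Algebra R A]

/-- a finitely presented `A`-module, flat over `R`, placed in any degree is pseudo-coherent -/
theorem pcAll_single_of_fp_flat [Module.Flat R A] [Algebra.FinitePresentation R A]
    (M : ModuleCat.{u} A) (hfp : Module.FinitePresentation A M)
    (hfl : Module.Flat R ((ModuleCat.restrictScalars (algebraMap R A)).obj M)) (i : ℤ) :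
    PCAll A ((DerivedCategory.singleFunctor (ModuleCat.{u} A) i).obj M) := by
  letI : Module Aᵐᵒᵖ M := Module.compHom _ ((RingHom.id A).fromOpposite mul_comm)
  haveI : IsCentralScalar A M := ⟨fun _ _ => rfl⟩
  letI : Module R M := Module.compHom M (algebraMap R A)
  haveI : IsScalarTower R A M := IsScalarTower.of_algebraMap_smul (fun _ _ => rfl)
  haveI : Module.Flat R M := hfl
  have h0 : PCAll A ((DerivedCategory.singleFunctor (ModuleCat.{u} A) 0).obj M) :=
    (Groth.Agent.S2066.result _).1.2 (pc_of_fp_flat_aux R A M)
  exact PCAll.of_iso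
    (((DerivedCategory.singleFunctors (ModuleCat.{u} A)).shiftIso (-i) i 0 (by lia)).app M)
    (h0.shift (-i))

/-- a bounded complex of finitely presented `A`-modules flat over `R` is relatively perfect -/
theorem relPerfect_of_complex [Module.Flat R A] [Algebra.FinitePresentation R A]
    (E : Cx A) (a b : ℤ) (hE : VanishesOutside E a b)
    (hterms : ∀ i : ℤ, Module.FinitePresentation A (E.X i) ∧
      Module.Flat R ((ModuleCat.restrictScalars (algebraMap R A)).obj (E.X i))) :
    IsPseudoCoherent' A (toD E) ∧
      HasTorAmplitudeIn R a b ((restrictD (algebraMap R A)).obj (toD E)) := by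
  constructor
  · refine (Groth.Agent.S2066.result _).1.1 ?_
    exact Devissage.prop_of_bounded_complex (PerfAmp.pcAllProp A)
      (fun X hX => PCAll.of_isZero hX)
      (fun T hT h₁ h₃ => PCAll.obj₂ T hT h₁ h₃) E a b hE
      (fun i => pcAll_single_of_fp_flat R A (E.X i) (hterms i).1 (hterms i).2 i)
  · refine ⟨((ModuleCat.restrictScalars.{u} (algebraMap R A)).mapHomologicalComplex
      (ComplexShape.up ℤ)).obj E, ?_, ?_,
      ⟨((ModuleCat.restrictScalars.{u} (algebraMap R A)).mapDerivedCategoryFactors.app E).symm⟩⟩
    · intro i hi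
      exact Functor.map_isZero (ModuleCat.restrictScalars.{u} (algebraMap R A)) (hE i hi)
    · intro i
      exact (hterms i).2

end Main


section Conv

open DRing Groth.Agent.Lib.Helper84 Groth.Agent.Lib.Helper84.FlatAmp Groth.Agent.Lib.Helper84.TensCx
  Groth.Agent.Lib.Helper43 CochainComplex

variable (R A : Type u) [CommRing R] [CommRing A] [Algebra R A]

/-- the property of the terms -/
def FPFlat (M : ModuleCat.{u} A) : Prop :=
  Module.FinitePresentation A M ∧
    Module.Flat R ((ModuleCat.restrictScalars (algebraMap R A)).obj M)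

variable {R A}

lemma FPFlat.of_iso {M N : ModuleCat.{u} A} (e : M ≅ N) (h : FPFlat R A M) : FPFlat R A N := by
  obtain ⟨h1, h2⟩ := h
  refine ⟨Module.FinitePresentation.of_equiv e.toLinearEquiv, ?_⟩
  exact flat_of_iso ((ModuleCat.restrictScalars (algebraMap R A)).mapIso e)

lemma FPFlat.of_isZero {M : ModuleCat.{u} A} (h : IsZero M) : FPFlat R A M := by
  haveI := ModuleCat.isZero_iff_subsingleton.1 h
  exact ⟨inferInstance, flat_of_isZero
    (Functor.map_isZero (ModuleCat.restrictScalars (algebraMap R A)) h)⟩

lemma FPFlat.of_finiteFree [Module.Flat R A] {M : ModuleCat.{u} A}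
    (h : Module.Finite A M ∧ Module.Free A M) : FPFlat R A M := by
  obtain ⟨h1, h2⟩ := h
  haveI : Module.Projective A M := Module.Projective.of_free
  exact ⟨Module.finitePresentation_of_projective A M, FlatFPPC.flat_res_of_free R A M h2⟩

variable (R A)

/-- a pseudo-coherent object of finite tor dimension over `R` is represented by a bounded complex
of finitely presented `A`-modules which are flat over `R` -/
theorem exists_complex_of_relPerfect [Module.Flat R A] (K : Dual.D A)
    (hpc : IsPseudoCoherent' A K) (a b : ℤ)
    (htor : HasTorAmplitudeIn R a b ((restrictD (algebraMap R A)).obj K)) :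
    ∃ (E : Cx A) (b' : ℤ), VanishesOutside E a b' ∧ (∀ i : ℤ, FPFlat R A (E.X i)) ∧
      Nonempty (toD E ≅ K) := by
  obtain ⟨E₀, b₀, hb₀, hff, ⟨e₀⟩⟩ := hpc
  let Fres := ModuleCat.restrictScalars.{u} (algebraMap R A)
  let F : Cx R := (Fres.mapHomologicalComplex (ComplexShape.up ℤ)).obj E₀
  have hFb : VanishesAbove F b₀ := fun i hi => Functor.map_isZero Fres (hb₀ i hi)
  have hFfl : TermwiseFlat F := fun i => FlatFPPC.flat_res_of_free R A (E₀.X i) (hff i).2
  have hFtor : HasTorAmplitudeIn R a b (toD F) :=
    torAmp_of_iso htor ((restrictD (algebraMap R A)).mapIso e₀.symm ≪≫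
      Fres.mapDerivedCategoryFactors.app E₀)
  obtain ⟨hop, hex⟩ := TorAmpDescent.flat_opcycles_of_hasTorAmplitudeIn F b₀ hFb hFfl a b hFtor
  haveI : E₀.IsGE a := by
    rw [CochainComplex.isGE_iff]
    intro i hi
    exact (ExactFunctorD.exactAt_map_iff Fres E₀ i).1 (hex i hi)
  haveI : QuasiIso (E₀.πTruncGE a) := inferInstance
  haveI : IsIso (Q.map (E₀.πTruncGE a)) := by
    rw [isIso_Q_map_iff_quasiIso]
    infer_instance
  refine ⟨E₀.truncGE a, b₀, ?_, ?_, ⟨(asIso (Q.map (E₀.πTruncGE a))).symm ≪≫ e₀⟩⟩
  · intro i hi
    rcases lt_trichotomy i a with hlt | rfl | hgt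
    · exact CochainComplex.isZero_of_isStrictlyGE _ a i hlt
    · have hi' : b₀ < i := by
        rcases hi with hi | hi
        · exact absurd hi (lt_irrefl _)
        · exact hi
      exact IsZero.of_iso (IsZero.of_epi (E₀.pOpcycles i) (hb₀ i hi')) (E₀.truncGEXIsoOpcycles i)
    · have hi' : b₀ < i := by
        rcases hi with hi | hi
        · lia
        · exact hi
      exact IsZero.of_iso (hb₀ i hi') (E₀.truncGEXIso a i hgt)
  · intro i
    rcases lt_trichotomy i a with hlt | rfl | hgt
    · exact FPFlat.of_isZero (CochainComplex.isZero_of_isStrictlyGE _ a i hlt)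
    · refine FPFlat.of_iso (E₀.truncGEXIsoOpcycles i).symm ⟨?_, ?_⟩
      · let e := opcyclesIsoCoker E₀ (i - 1) i (by lia)
        haveI := (hff i).1
        haveI := (hff i).2
        haveI := (hff (i - 1)).1
        haveI : Module.FinitePresentation A (E₀.X i ⧸ LinearMap.range (E₀.d (i - 1) i).hom) := by
          refine Module.finitePresentation_of_free_of_surjective
            (LinearMap.range (E₀.d (i - 1) i).hom).mkQ (Submodule.mkQ_surjective _) ?_
          rw [Submodule.ker_mkQ, LinearMap.range_eq_map]
          exact (Module.Finite.fg_top).map _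
        exact Module.FinitePresentation.of_equiv e.toLinearEquiv.symm
      · have hop' : Module.Flat R ((E₀.sc i).map Fres).opcycles := hop
        exact @flat_of_iso R _ _ _ ((E₀.sc i).mapOpcyclesIso Fres) hop'
    · exact FPFlat.of_iso (E₀.truncGEXIso a i hgt).symm (FPFlat.of_finiteFree (hff i))

end Conv

end Groth.Agent.Lib.Helper15.RelPerfFP
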