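import Groth.Prelude.Def_WeakSerre
import Groth.Prelude.Def_Coh
import Groth.Agent.S2384
import Groth.Agent.Lib.Helper21.Devissage
import Groth.Agent.Lib.Helper21.CohNoeth
import Groth.Agent.Lib.Helper21.QCohSections
import Groth.Agent.Lib.Lead.CohAff3

/-!
# Coherent modules on a locally Noetherian scheme form a weak Serre subcategory (helper15)
-/

set_option autoImplicit false
set_option linter.style.haveILetI false
universe u

open CategoryTheory CategoryTheory.Limits AlgebraicGeometry
open scoped ZeroObject

namespace Groth.Agent.Lib.Helper15.CohWSerre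

open Groth.Agent.Lib.Lead.CohAff Groth.Agent.Lib.Helper21.QCohSections
  Groth.Agent.Lib.Helper21.Devissage

variable {X : Scheme.{u}}

/-- quasi-coherent modules of finite type are closed under extensions -/
theorem isCoh_of_shortExact (S : ShortComplex X.Modules) (hS : S.ShortExact)
    (h1 : Coh.IsCoh S.X₁) (h3 : Coh.IsCoh S.X₃) : Coh.IsCoh S.X₂ := by
  haveI q1 : S.X₁.IsQuasicoherent := h1.1
  haveI q3 : S.X₃.IsQuasicoherent := h3.1
  haveI q2 : S.X₂.IsQuasicoherent := Groth.Agent.S2384.result S hS h1.1 h3.1
  refine ⟨q2, ?_⟩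
  rw [isFiniteType_iff_finite_sections]
  intro U hU
  haveI := finite_sections_of_isFiniteType S.X₁ h1.2 hU
  haveI := finite_sections_of_isFiniteType S.X₃ h3.2 hU
  have hex : Function.Exact (appL S.f U) (appL S.g U) := sections_exact S hS U
  haveI : Epi S.g := hS.epi_g
  have hsurj : Function.Surjective (appL S.g U) := app_surjective_of_epi S.g hU
  exact Module.Finite.of_exact hex hsurj

instance [IsLocallyNoetherian X] :
    WSerre.IsWeakSerre (fun M : X.Modules => Coh.IsCoh M) where
  exists_zero := ⟨0, isZero_zero _, isCoh_of_isZero (isZero_zero _)⟩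
  kernels_le := by
    rintro _ ⟨f, k, hk, hf⟩
    have e : k.pt ≅ kernel f := IsLimit.conePointUniqueUpToIso hk (limit.isLimit _)
    exact isCoh_of_iso e.symm (isCoh_kernel f hf.1 hf.2)
  cokernels_le := by
    rintro _ ⟨f, k, hk, hf⟩
    have e : k.pt ≅ cokernel f := IsColimit.coconePointUniqueUpToIso hk (colimit.isColimit _)
    exact isCoh_of_iso e.symm (isCoh_cokernel f hf.1 hf.2)
  prop_X₂_of_shortExact hS h₁ h₃ := isCoh_of_shortExact _ hS h₁ h₃

end Groth.Agent.Lib.Helper15.CohWSerre
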