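import Groth.Agent.Lib.Helper2.DCohHom
import Groth.Agent.Lib.Helper2.FinLocFreeAff
import Groth.Agent.Lib.Helper15.CohWSerre
import Groth.Agent.Lib.Helper40.QCohCoprod

/-!
# Local-to-global for coherent cohomology of perfect complexes on schemes (helper15)
-/

set_option autoImplicit false
set_option linter.style.haveILetI false
universe u

open CategoryTheory CategoryTheory.Limits AlgebraicGeometry
attribute [local instance] HasDerivedCategory.standard

namespace Groth.Agent.Lib.Helper15.DCohLocal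

open Groth.Agent.Lib.Lead.CohAff Groth.Agent.Lib.Helper21.QCohSections
  Groth.Agent.Lib.Helper21.Devissage Groth.Agent.Lib.Helper2.DCohHom

variable {X : Scheme.{u}}

theorem isCoh_of_isFinLocFree (M : X.Modules) (h : FlatMod.IsFinLocFree M) : Coh.IsCoh M := by
  haveI : M.IsQuasicoherent :=
    Groth.Agent.Lib.Helper2.RankSections.isQuasicoherent_of_isFinLocFree M h
  refine ⟨inferInstance, ?_⟩
  rw [isFiniteType_iff_finite_sections]
  intro U hU
  haveI := Groth.Agent.Lib.Helper2.FinLocFreeAff.finitePresentation_sections_of_isFinLocFree M h hU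
  infer_instance

theorem isCoh_homology [IsLocallyNoetherian X] (E : CochainComplex X.Modules ℤ)
    (hE : ∀ i, Coh.IsCoh (E.X i)) (i : ℤ) : Coh.IsCoh (E.homology i) := by
  have hc : Coh.IsCoh (E.cycles i) :=
    isCoh_of_iso (cyclesIsoKernel E i).symm (isCoh_kernel _ (hE i) (hE (i + 1)))
  exact isCoh_of_iso (homologyIsoCokernel E i).symm (isCoh_cokernel _ (hE (i - 1)) hc)

/-- if `M|_V` is zero then the stalks of `M` at points of `V` vanish -/
theorem subsingleton_stalk_of_isZero_restrict (M : X.Modules) (V : X.Opens)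
    (hz : IsZero (M.restrict V.ι)) (x : ↥V) : Subsingleton (M.presheaf.stalk (V.ι x)) := by
  have e := (Scheme.Modules.restrictStalkNatIso V.ι x).app M
  have h1 : Subsingleton ((M.restrict V.ι).presheaf.stalk x) := by
    refine ⟨fun a b => ?_⟩
    obtain ⟨U, hxU, s, rfl⟩ := TopCat.Presheaf.exists_germ_eq ((M.restrict V.ι).presheaf) a
    obtain ⟨U', hxU', t, rfl⟩ := TopCat.Presheaf.exists_germ_eq ((M.restrict V.ι).presheaf) b
    haveI := subsingleton_sections_of_isZero hz U
    haveI := subsingleton_sections_of_isZero hz U'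
    rw [Subsingleton.elim s 0, Subsingleton.elim t 0, map_zero, map_zero]
  exact @Equiv.subsingleton _ _ (e.symm.addCommGroupIsoToAddEquiv.toEquiv) h1

theorem isZero_of_forall_restrict (M : X.Modules)
    (h : ∀ x : X, ∃ V : X.Opens, x ∈ V ∧ IsZero (M.restrict V.ι)) : IsZero M := by
  apply isZero_of_support_eq_empty
  rw [Set.eq_empty_iff_forall_notMem]
  intro x hx
  obtain ⟨V, hxV, hz⟩ := h x
  apply hx
  exact subsingleton_stalk_of_isZero_restrict M V hz ⟨x, hxV⟩

/-- sections of `M.restrict f` over `W` vs. sections of `M` over `f ''ᵁ W`: finiteness transfers -/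
theorem finite_image_of_finite_restrict {Y : Scheme.{u}} (M : X.Modules) (f : Y ⟶ X)
    [IsOpenImmersion f] (W : Y.Opens) (h : Module.Finite Γ(Y, W) Γ(M.restrict f, W)) :
    Module.Finite Γ(X, f ''ᵁ W) Γ(M, f ''ᵁ W) := by
  let σ : Γ(Y, W) →+* Γ(X, f ''ᵁ W) := (f.appIso W).inv.hom
  haveI : RingHomSurjective σ :=
    ⟨(ConcreteCategory.bijective_of_isIso (f.appIso W).inv).2⟩
  let g : Γ(M.restrict f, W) →ₛₗ[σ] Γ(M, f ''ᵁ W) :=
    { toFun := fun m => (M.restrictAppIso f W).hom m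
      map_add' := fun a b => map_add _ a b
      map_smul' := fun r m => Scheme.Modules.smul_restrictAppIso_hom_apply f M W r m }
  exact Module.Finite.of_surjective g
    (ConcreteCategory.bijective_of_isIso (M.restrictAppIso f W).hom).2

theorem isCoh_of_forall_restrict (M : X.Modules)
    (h : ∀ x : X, ∃ V : X.Opens, x ∈ V ∧ Coh.IsCoh (M.restrict V.ι)) : Coh.IsCoh M := by
  choose V hxV hV using h
  have hcov : TopologicalSpace.IsOpenCover V := by
    change ⨆ x, V x = ⊤
    exact top_le_iff.1 fun x _ => TopologicalSpace.Opens.mem_iSup.2 ⟨x, hxV x⟩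
  haveI : M.IsQuasicoherent :=
    Groth.Agent.Lib.Helper40.QCohCoprod.isQuasicoherent_of_isOpenCover M V hcov (fun x => (hV x).1)
  refine ⟨inferInstance, ?_⟩
  apply isFiniteType_of_finite_sections
  intro x
  haveI : (M.restrict (V x).ι).IsQuasicoherent := (hV x).1
  obtain ⟨_, ⟨W, hW : IsAffineOpen W, rfl⟩, hxW, -⟩ :=
    ((V x : Scheme.{u}).isBasis_affineOpens).exists_subset_of_mem_open
      (Set.mem_univ (⟨x, hxV x⟩ : ↥(V x))) isOpen_univ
  have hfin : Module.Finite Γ(↑(V x), W) Γ(M.restrict (V x).ι, W) :=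
    finite_sections_of_isFiniteType (M.restrict (V x).ι) (hV x).2 hW
  refine ⟨(V x).ι ''ᵁ W, hW.image_of_isOpenImmersion (V x).ι, ⟨⟨x, hxV x⟩, hxW, rfl⟩, ?_⟩
  exact finite_image_of_finite_restrict M (V x).ι W hfin

/-- the cohomology sheaves of a perfect complex on a locally Noetherian scheme are coherent -/
theorem isCoh_HD_of_isPerfect [IsLocallyNoetherian X] (K : DCoh.D X) (hK : DCoh.IsPerfect K)
    (i : ℤ) : Coh.IsCoh (DCoh.HD K i) := by
  obtain ⟨F₀, ⟨e₀⟩⟩ := Groth.Agent.Lib.Helper2.DCohBase.exists_rep K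
  apply isCoh_of_forall_restrict
  intro x
  obtain ⟨V, hxV, hV⟩ := hK x
  obtain ⟨E, hE, ⟨ε⟩⟩ := hV F₀ ⟨e₀⟩
  refine ⟨V, hxV, ?_⟩
  have iso := homRestrictIso K F₀ e₀ V.ι i ≪≫
    (DerivedCategory.homologyFunctor _ i).mapIso ε ≪≫
    (DerivedCategory.homologyFunctorFactors _ i).app E
  haveI : IsLocallyNoetherian (↑V : Scheme.{u}) := inferInstance
  exact isCoh_of_iso iso.symm (isCoh_homology E (fun k => isCoh_of_isFinLocFree _ (hE.2 k)) i)

/-- local vanishing of the cohomology sheaves of a perfect complex -/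
theorem exists_local_bounds_of_isPerfect (K : DCoh.D X) (hK : DCoh.IsPerfect K) (x : X) :
    ∃ (V : X.Opens) (a b : ℤ), x ∈ V ∧
      ∀ i : ℤ, i < a ∨ b < i → IsZero ((DCoh.HD K i).restrict V.ι) := by
  obtain ⟨F₀, ⟨e₀⟩⟩ := Groth.Agent.Lib.Helper2.DCohBase.exists_rep K
  obtain ⟨V, hxV, hV⟩ := hK x
  obtain ⟨E, hE, ⟨ε⟩⟩ := hV F₀ ⟨e₀⟩
  obtain ⟨⟨a, b, hab⟩, -⟩ := hE
  refine ⟨V, a, b, hxV, fun i hi => ?_⟩
  have iso := homRestrictIso K F₀ e₀ V.ι i ≪≫
    (DerivedCategory.homologyFunctor _ i).mapIso ε ≪≫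
    (DerivedCategory.homologyFunctorFactors _ i).app E
  refine IsZero.of_iso ?_ iso
  exact ShortComplex.isZero_homology_of_isZero_X₂ _ (hab i hi)

/-- a perfect complex on a quasi-compact scheme has bounded cohomology -/
theorem exists_bounds_of_isPerfect [CompactSpace X] (K : DCoh.D X) (hK : DCoh.IsPerfect K) :
    ∃ a b : ℤ, ∀ i : ℤ, i < a ∨ b < i → IsZero (DCoh.HD K i) := by
  choose V a b hxV hV using exists_local_bounds_of_isPerfect K hK
  obtain ⟨s, hs⟩ := isCompact_univ.elim_finite_subcover (fun x => (V x : Set X))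
    (fun x => (V x).isOpen) (fun x _ => Set.mem_iUnion.2 ⟨x, hxV x⟩)
  obtain ⟨A, hA⟩ := (s.image (fun x => -a x)).exists_le
  obtain ⟨B, hB⟩ := (s.image b).exists_le
  refine ⟨-A, B, fun i hi => ?_⟩
  apply isZero_of_forall_restrict
  intro y
  obtain ⟨x, hx⟩ := Set.mem_iUnion.1 (hs (Set.mem_univ y))
  obtain ⟨hxs, hyV⟩ := Set.mem_iUnion.1 hx
  refine ⟨V x, hyV, hV x i ?_⟩
  have h1 := hA (-a x) (Finset.mem_image_of_mem (fun x => -a x) hxs)
  have h2 := hB (b x) (Finset.mem_image_of_mem b hxs)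
  omega

end Groth.Agent.Lib.Helper15.DCohLocal
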