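import Groth.Agent.Lib.Helper2.DCohSingle
import Groth.Agent.Lib.Helper2.FinTypeAff
import Groth.Agent.Lib.Helper2.FinLocFreeAff
import Groth.Agent.Lib.Helper15.ExactFunctorD
import Groth.Agent.Lib.Helper15.PseudoCoh
import Groth.Agent.Lib.Helper15.DCohLocal
import Groth.Agent.Lib.Helper43.PCApprox
import Groth.Agent.S0890

/-!
# `M~` is `m`-pseudo-coherent on `Spec A` iff `M` is `m`-pseudo-coherent (helper15)
-/

set_option autoImplicit false
set_option linter.style.haveILetI false
universe u

open CategoryTheory CategoryTheory.Limits AlgebraicGeometry Opposite TopologicalSpace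
open CategoryTheory.Pretriangulated
attribute [local instance] HasDerivedCategory.standard

namespace Groth.Agent.Lib.Helper15.TildePC

open Groth.Agent.Lib.Helper2.DCohBase Groth.Agent.Lib.Helper2.DCohPC
  Groth.Agent.Lib.Helper2.DCohSingle Groth.Agent.Lib.Helper15.MQI
  Groth.Agent.Lib.Helper15.ExactFunctorD DRing

variable (R : CommRingCat.{u})

theorem isFinLocFree_tilde_of_finite_free (N : ModuleCat.{u} R) (hN : Module.Finite R N ∧ Module.Free R N) :
    FlatMod.IsFinLocFree ((tilde.functor R).obj N) := by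
  obtain ⟨h1, h2⟩ := hN
  let ι := Module.Free.ChooseBasisIndex R N
  let b := Module.Free.chooseBasis R N
  have e : N ≅ ModuleCat.of R (ι →₀ R) := b.repr.toModuleIso
  have h3 := isFinLocFree_free (Y := Spec R) ι
  exact Groth.Agent.Lib.Helper7.FinLocFree.isFinLocFree_of_iso
    (((tilde.functor R).mapIso e ≪≫ tildeFinsupp ι).symm) h3

variable [PreservesFiniteLimits (tilde.functor R)]

/-- the tilde of a representing complex represents `tildeD` -/
noncomputable def tildeDQIso (F : Cx R) :
    (DCoh.tildeD R).obj (DerivedCategory.Q.obj F) ≅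
      DerivedCategory.Q.obj (((tilde.functor R).mapHomologicalComplex (ComplexShape.up ℤ)).obj F) :=
  (tilde.functor R).mapDerivedCategoryFactors.app F

/-- cohomology sheaves of `tildeD M` -/
noncomputable def homTildeIso (M : Dual.D R) (i : ℤ) :
    DCoh.HD ((DCoh.tildeD R).obj M) i ≅
      (tilde.functor R).obj ((DerivedCategory.homologyFunctor (ModuleCat.{u} R) i).obj M) :=
  let F := DerivedCategory.Q.objPreimage M
  let e : DerivedCategory.Q.obj F ≅ M := DerivedCategory.Q.objObjPreimageIso M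
  (DerivedCategory.homologyFunctor _ i).mapIso ((DCoh.tildeD R).mapIso e.symm ≪≫ tildeDQIso R F) ≪≫
    (DerivedCategory.homologyFunctorFactors _ i).app _ ≪≫
    (homCx (tilde.functor R) i).app F ≪≫
    (tilde.functor R).mapIso (((DerivedCategory.homologyFunctorFactors _ i).app F).symm ≪≫
      (DerivedCategory.homologyFunctor _ i).mapIso e)

/-- ring-level pseudo-coherence gives a global pseudo-coherence datum for `tildeD M` -/
theorem pcData_tildeD (M : Dual.D R) (m : ℤ) (h : DRing.IsPseudoCoherent R m M) :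
    PCData m ((DCoh.tildeD R).obj M) := by
  obtain ⟨E, a, b, α, h1, h2, h3⟩ := (Groth.Agent.Lib.Helper15.PseudoCoh.isPseudoCoherent_iff m M).1 h
  have h4 : IsMQI m ((tildeDQIso R E).inv ≫ (DCoh.tildeD R).map α) :=
    (IsMQI.of_isIso m _).comp ((isMQI_mapDerivedCategory_iff (tilde.functor R) α m).2 h3)
  refine ⟨((tilde.functor R).mapHomologicalComplex (ComplexShape.up ℤ)).obj E,
    (tildeDQIso R E).inv ≫ (DCoh.tildeD R).map α, ⟨⟨a, b, fun i hi => ?_⟩, fun i => ?_⟩, h4.1, h4.2⟩
  · exact Functor.map_isZero (tilde.functor R) (h1 i hi)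
  · exact isFinLocFree_tilde_of_finite_free R (E.X i) (h2 i)

section Bound

open Groth.Agent.Lib.Helper2.DCohHom Groth.Agent.Lib.Helper15.DCohLocal

variable {X : Scheme.{u}}

theorem exists_local_bound_of_isPseudoCoherentD (K : DCoh.D X) (m : ℤ)
    (hK : DCoh.IsPseudoCoherentD m K) (x : X) :
    ∃ (V : X.Opens) (b : ℤ), x ∈ V ∧ ∀ i : ℤ, b < i → IsZero ((DCoh.HD K i).restrict V.ι) := by
  obtain ⟨F₀, ⟨e₀⟩⟩ := Groth.Agent.Lib.Helper2.DCohBase.exists_rep K
  obtain ⟨V, hxV, hV⟩ := hK x
  obtain ⟨E, α, ⟨⟨a, b, hab⟩, -⟩, hiso, -⟩ := hV F₀ ⟨e₀⟩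
  refine ⟨V, max b m, hxV, fun i hi => ?_⟩
  haveI := hiso i (by lia)
  have iso := homRestrictIso K F₀ e₀ V.ι i ≪≫
    (asIso ((DerivedCategory.homologyFunctor _ i).map α)).symm ≪≫
    (DerivedCategory.homologyFunctorFactors _ i).app E
  refine IsZero.of_iso ?_ iso
  exact ShortComplex.isZero_homology_of_isZero_X₂ _ (hab i (Or.inr (by lia)))

theorem exists_bound_of_isPseudoCoherentD [CompactSpace X] (K : DCoh.D X) (m : ℤ)
    (hK : DCoh.IsPseudoCoherentD m K) : ∃ b : ℤ, ∀ i : ℤ, b < i → IsZero (DCoh.HD K i) := by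
  choose V b hxV hV using exists_local_bound_of_isPseudoCoherentD K m hK
  obtain ⟨s, hs⟩ := isCompact_univ.elim_finite_subcover (fun x => (V x : Set X))
    (fun x => (V x).isOpen) (fun x _ => Set.mem_iUnion.2 ⟨x, hxV x⟩)
  obtain ⟨B, hB⟩ := (s.image b).exists_le
  refine ⟨B, fun i hi => ?_⟩
  apply isZero_of_forall_restrict
  intro y
  obtain ⟨x, hx⟩ := Set.mem_iUnion.1 (hs (Set.mem_univ y))
  obtain ⟨hxs, hyV⟩ := Set.mem_iUnion.1 hx
  refine ⟨V x, hyV, hV x i ?_⟩
  have h2 := hB (b x) (Finset.mem_image_of_mem b hxs)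
  omega

theorem pcAt_of_le {m m' : ℤ} (hm : m ≤ m') {K : DCoh.D X} {x : X} (h : PCAt m K x) :
    PCAt m' K x := by
  obtain ⟨n, rfl⟩ : ∃ n : ℕ, m' = m + n := ⟨(m' - m).toNat, by omega⟩
  induction n with
  | zero => simpa using h
  | succ n ih =>
    have := pcAt_succ (ih (by omega))
    convert this using 1
    push_cast
    ring

end Bound

section Finite

/-- if `tilde N` is of finite type then `N` is finitely generated -/
theorem finite_of_isFT_tilde (N : ModuleCat.{u} R) (h : CohB1.IsFT ((tilde.functor R).obj N)) :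
    Module.Finite R N := by
  haveI : SheafOfModules.IsFiniteType (R := (Spec R).ringCatSheaf) (tilde N) := h
  rw [Groth.Agent.Lib.Helper2.FinLocFreeAff.finite_iff_tilde]
  exact Groth.Agent.Lib.Helper2.FinTypeAff.finite_sections (tilde N) (isAffineOpen_top (Spec R))

/-- top cohomology of `M` with `tildeD M` `j`-pseudo-coherent is finitely generated -/
theorem finite_homology_of_pc (M : Dual.D R) (j : ℤ)
    (hpc : DCoh.IsPseudoCoherentD j ((DCoh.tildeD R).obj M))
    (hz : ∀ i : ℤ, j < i → IsZero ((DerivedCategory.homologyFunctor (ModuleCat.{u} R) i).obj M)) :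
    Module.Finite R ((DerivedCategory.homologyFunctor (ModuleCat.{u} R) j).obj M) := by
  apply finite_of_isFT_tilde
  have h1 := (Groth.Agent.S0890.result j _ hpc).1 (fun i hi =>
    IsZero.of_iso (Functor.map_isZero _ (hz i hi)) (homTildeIso R M i))
  exact Groth.Agent.Lib.Helper2.DCohFP.isFiniteType_of_epi (homTildeIso R M j).hom h1

end Finite

section Main

open DerivedCategory CochainComplex Groth.Agent.Lib.Helper43.PCApprox

theorem pcAt_tildeD_finiteFree (F : Cx R) (a b : ℤ) (hF : VanishesOutside F a b)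
    (hff : TermwiseFiniteFree F) (m : ℤ) (x : Spec R) :
    PCAt m ((DCoh.tildeD R).obj (Q.obj F)) x :=
  (pcData_tildeD R _ m (Groth.Agent.Lib.Helper15.PseudoCoh.pcAll_of_finiteFree F a b hF hff m)).pcAt x

theorem pcAt_tildeD_cone {F L : Cx R} (α : F ⟶ L) (a b : ℤ) (hF : VanishesOutside F a b)
    (hff : TermwiseFiniteFree F) (m : ℤ)
    (hL : ∀ x, PCAt m ((DCoh.tildeD R).obj (Q.obj L)) x) :
    ∀ x, PCAt m ((DCoh.tildeD R).obj (Q.obj (mappingCone α))) x := by
  have hT := DerivedCategory.mappingCone_triangle_distinguished α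
  have hT' := (DCoh.tildeD R).map_distinguished _ hT
  exact isPseudoCoherentD_obj₃ _ hT' m
    (fun x => pcAt_tildeD_finiteFree R F a b hF hff (m + 1) x) hL

theorem isZero_of_isZero_HD_tildeD (M : Dual.D R) (i : ℤ)
    (h : IsZero (DCoh.HD ((DCoh.tildeD R).obj M) i)) :
    IsZero ((DerivedCategory.homologyFunctor (ModuleCat.{u} R) i).obj M) :=
  IsZero.of_full_of_faithful_of_isZero (tilde.functor R) _ (IsZero.of_iso h (homTildeIso R M i).symm)

open Groth.Agent.Lib.Helper84 in
open scoped ZeroObject in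
/-- scheme-level pseudo-coherence of `tildeD M` implies ring-level pseudo-coherence of `M` -/
theorem isPseudoCoherent_of_tildeD (M : Dual.D R) (m : ℤ)
    (h : DCoh.IsPseudoCoherentD m ((DCoh.tildeD R).obj M)) : DRing.IsPseudoCoherent R m M := by
  let L : Cx R := Q.objPreimage M
  let e : Q.obj L ≅ M := Q.objObjPreimageIso M
  have hL : ∀ x, PCAt m ((DCoh.tildeD R).obj (Q.obj L)) x := fun x =>
    pcAt_of_iso ((DCoh.tildeD R).mapIso e.symm) ((isPseudoCoherentD_iff m _).1 h x)
  obtain ⟨b, hb⟩ := exists_bound_of_isPseudoCoherentD _ m h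
  have hbL : ∀ i : ℤ, b < i → IsZero ((homologyFunctor (ModuleCat.{u} R) i).obj (Q.obj L)) :=
    fun i hi => IsZero.of_iso (isZero_of_isZero_HD_tildeD R M i (hb i hi))
      ((homologyFunctor _ i).mapIso e)
  have key : ∀ n : ℕ, (n : ℤ) ≤ max (b - m + 1) 0 → ∃ (F : Cx R) (α : F ⟶ L),
      VanishesOutside F (b - n + 1) b ∧ TermwiseFiniteFree F ∧
      ∀ i : ℤ, b - n < i →
        IsZero ((homologyFunctor (ModuleCat.{u} R) i).obj (Q.obj (mappingCone α))) := by
    intro n
    induction n with
    | zero =>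
      intro _
      refine ⟨0, 0, fun i _ => Groth.Agent.Lib.Helper15.PseudoCoh.isZero_zeroCx i, fun i => ?_,
        fun i hi => ?_⟩
      · have : Subsingleton ((0 : Cx R).X i) :=
          ModuleCat.subsingleton_of_isZero (Groth.Agent.Lib.Helper15.PseudoCoh.isZero_zeroCx i)
        exact ⟨inferInstance, inferInstance⟩
      · have hT := DerivedCategory.mappingCone_triangle_distinguished (0 : (0 : Cx R) ⟶ L)
        refine DerivedT.isZero_homology_obj₃_of_isZero _ hT i (i + 1) rfl ?_ ?_
        · exact hbL i (by simpa using hi)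
        · have hz : IsZero (Q.obj (0 : Cx R)) := Functor.map_isZero _ (isZero_zero _)
          exact Functor.map_isZero _ hz
    | succ n ih =>
      intro hn
      obtain ⟨F, α, hF, hff, hα⟩ := ih (by omega)
      have hjm : m ≤ b - n := by
        push_cast at hn
        omega
      have hpc : DCoh.IsPseudoCoherentD (b - n)
          ((DCoh.tildeD R).obj (Q.obj (mappingCone α))) :=
        (isPseudoCoherentD_iff (b - n) _).2
          (fun x => pcAt_of_le hjm (pcAt_tildeD_cone R α _ _ hF hff m hL x))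
      have hfin := finite_homology_of_pc R (Q.obj (mappingCone α)) (b - n) hpc hα
      obtain ⟨P, hP1, hP2, φ, α', h1, h2⟩ := stepModule α (b - n) hfin hα
      refine ⟨mappingCone φ, α', ?_, termwiseFiniteFree_cone_single hff P ⟨hP1, hP2⟩ _ φ, ?_⟩
      · have h3 := vanishesOutside_cone_single (b - n) b hF P φ
        have h4 : max b (b - (n : ℤ)) = b := max_eq_left (by omega)
        rw [h4] at h3
        have h5 : b - ((n + 1 : ℕ) : ℤ) + 1 = b - n := by push_cast; ring
        rw [h5]
        exact h3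
      · intro i hi
        exact h2 i (by push_cast at hi; omega)
  obtain ⟨F, α, hF, hff, hα⟩ := key (max (b - m + 1) 0).toNat (by simp)
  refine isPseudoCoherent_of_cone α e m _ _ hF hff (fun i hi => hα i ?_)
  have := Int.self_le_toNat (max (b - m + 1) 0)
  have h6 := le_max_left (b - m + 1) 0
  omega

theorem isPseudoCoherentD_tildeD_iff (M : Dual.D R) (m : ℤ) :
    DCoh.IsPseudoCoherentD m ((DCoh.tildeD R).obj M) ↔ DRing.IsPseudoCoherent R m M :=
  ⟨isPseudoCoherent_of_tildeD R M m, fun h =>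
    (isPseudoCoherentD_iff m _).2 (fun x => (pcData_tildeD R M m h).pcAt x)⟩

end Main

end Groth.Agent.Lib.Helper15.TildePC
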