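import Groth.Agent.Lib.Helper15.RelPerfLoc
import Groth.Agent.Lib.Helper15.RelPerfFP
import Groth.Agent.Lib.Helper15.TildePC
import Groth.Agent.Lib.Lead.QCohAff5
import Groth.Agent.Lib.Lead.PullbackAff2
import Groth.Agent.S9498
import Groth.Agent.Lib.Helper84.Devissage

/-!
# Finitely presented modules flat over the base are pseudo-coherent (helper15)

For `g : W ⟶ S` flat and locally of finite presentation:
* `pcAt_single_of_fpFlatOver`: a finitely presented `O_W`-module flat over `S`, placed in any
  degree, is pseudo-coherent (via `RelPerfFP.pcAll_single_of_fp_flat` on affine charts and `tildeD`);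
* `pcAt_of_fpFlat_complex`: so is a bounded complex of such modules;
* `pcAt_of_rpAt`: relatively perfect near `x` ⇒ pseudo-coherent near `x`.
-/

set_option autoImplicit false
set_option linter.style.haveILetI false
universe u
open CategoryTheory Limits AlgebraicGeometry HomologicalComplex Opposite
attribute [local instance] HasDerivedCategory.standard

namespace Groth.Agent.Lib.Helper15.RelPerfSLZ

open Scheme.Modules
open Groth.Agent.Lib.Helper2.DCohBase Groth.Agent.Lib.Helper2.DCohPC Groth.Agent.Lib.Helper2.DCohPerf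
open Groth.Agent.Lib.Helper2.DCohFP
open Groth.Agent.Lib.Helper15.RelAmp Groth.Agent.Lib.Helper15.RelResJ
open Groth.Agent.Lib.Helper15.RelPerfLoc
open Groth.Agent.Lib.Lead.PullbackAff Groth.Agent.Lib.Lead.QCohAff

section Module

variable {W S : Scheme.{u}} (g : W ⟶ S)

theorem isPseudoCoherentD_of_iso {m : ℤ} {K K' : DCoh.D W} (e : K ≅ K')
    (h : DCoh.IsPseudoCoherentD m K) : DCoh.IsPseudoCoherentD m K' :=
  (isPseudoCoherentD_iff m K').2 (fun x => pcAt_of_iso e ((isPseudoCoherentD_iff m K).1 h x))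

/-- **sheaf version of Lemma Z**: a finitely presented module which is flat over the base of a
flat morphism locally of finite presentation is pseudo-coherent -/
theorem pcAt_single_of_fpFlatOver [Flat g] [LocallyOfFinitePresentation g]
    (M : W.Modules) (hM : FPFlatOver g M) (i m : ℤ) (y : W) :
    PCAt m ((DerivedCategory.singleFunctor W.Modules i).obj M) y := by
  obtain ⟨hfp, hfl⟩ := hM
  obtain ⟨_, ⟨V, hV : IsAffineOpen V, rfl⟩, hgyV, -⟩ :=
    S.isBasis_affineOpens.exists_subset_of_mem_open (Set.mem_univ (g y)) isOpen_univ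
  obtain ⟨_, ⟨U, hU : IsAffineOpen U, rfl⟩, hyU, hUV⟩ :=
    W.isBasis_affineOpens.exists_subset_of_mem_open (show y ∈ (g ⁻¹ᵁ V : Set W) from hgyV)
      (g ⁻¹ᵁ V).isOpen
  have hUV' : U ≤ g ⁻¹ᵁ V := hUV
  have hy : y ∈ Set.range hU.fromSpec := by
    rw [hU.range_fromSpec]
    exact hyU
  obtain ⟨y', rfl⟩ := hy
  apply pcAt_of_resD hU.fromSpec
  haveI : PreservesFiniteLimits (tilde.functor Γ(W, U)) := (Groth.Agent.S9498.key Γ(W, U)).1
  haveI : M.IsQuasicoherent := by
    obtain ⟨σ, hσ⟩ := hfp.exists_quasicoherentData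
    exact σ.isQuasicoherent
  haveI hiso : IsIso (M.restrict hU.fromSpec).fromTildeΓ := inferInstance
  let M' : (Spec Γ(W, U)).Modules := M.restrict hU.fromSpec
  let N : ModuleCat.{u} Γ(W, U) := moduleSpecΓFunctor.obj M'
  let eN : (tilde.functor Γ(W, U)).obj N ≅ M' := @asIso _ _ _ _ _ hiso
  -- the ring map
  let ψ : Γ(S, V) →+* Γ(W, U) := (g.appLE V U hUV').hom
  have hψfl : ψ.Flat := Flat.flat_appLE g hV hU hUV'
  have hψfp : ψ.FinitePresentation := g.finitePresentation_appLE hV hU hUV'
  letI : Algebra Γ(S, V) Γ(W, U) := ψ.toAlgebra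
  haveI : Module.Flat Γ(S, V) Γ(W, U) := hψfl
  haveI : Algebra.FinitePresentation Γ(S, V) Γ(W, U) := hψfp
  -- finite presentation of `N`
  haveI : SheafOfModules.IsFinitePresentation (R := W.ringCatSheaf) M := hfp
  haveI : Module.FinitePresentation Γ(W, U) Γ(M, U) :=
    Groth.Agent.Lib.Helper2.FinTypeAff.finitePresentation_sections M hU
  have hNfp : Module.FinitePresentation Γ(W, U) N :=
    Module.FinitePresentation.of_equiv (secEquiv hU M).symm
  -- flatness of `N`
  have hNfl : Module.Flat Γ(S, V)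
      ((ModuleCat.restrictScalars (algebraMap Γ(S, V) Γ(W, U))).obj N) := by
    letI : Module Γ(S, V) Γ(M, U) := Module.compHom Γ(M, U) (g.appLE V U hUV').hom
    haveI : Module.Flat Γ(S, V) Γ(M, U) :=
      (flat_sections_iff g M hU hV hUV').2 (fun x _ => hfl x)
    let e : ((ModuleCat.restrictScalars (algebraMap Γ(S, V) Γ(W, U))).obj N) ≃ₗ[Γ(S, V)] Γ(M, U) :=
      { toFun := fun n => secEquiv hU M n
        invFun := fun s => (secEquiv hU M).symm s
        map_add' := fun a b => map_add (secEquiv hU M) a b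
        map_smul' := fun r n => (secEquiv hU M).map_smul (ψ r) n
        left_inv := (secEquiv hU M).left_inv
        right_inv := (secEquiv hU M).right_inv }
    exact Module.Flat.of_linearEquiv e
  have hpc := Groth.Agent.Lib.Helper15.RelPerfFP.pcAll_single_of_fp_flat Γ(S, V) Γ(W, U) N hNfp hNfl i
  have h1 : DCoh.IsPseudoCoherentD m ((DCoh.tildeD Γ(W, U)).obj
      ((DerivedCategory.singleFunctor (ModuleCat.{u} Γ(W, U)) i).obj N)) :=
    (Groth.Agent.Lib.Helper15.TildePC.isPseudoCoherentD_tildeD_iff Γ(W, U) _ m).2 (hpc m)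
  let ε : (DCoh.tildeD Γ(W, U)).obj ((DerivedCategory.singleFunctor (ModuleCat.{u} Γ(W, U)) i).obj N) ≅
      (resD hU.fromSpec).obj ((DerivedCategory.singleFunctor W.Modules i).obj M) :=
    ((tilde.functor Γ(W, U)).mapDerivedCategorySingleFunctor i).app N ≪≫
      (DerivedCategory.singleFunctor (Spec Γ(W, U)).Modules i).mapIso eN ≪≫
      (((restrictFunctor hU.fromSpec).mapDerivedCategorySingleFunctor i).app M).symm
  exact (isPseudoCoherentD_iff m _).1 (isPseudoCoherentD_of_iso ε h1) y'

end Module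


section Complex

variable {W S : Scheme.{u}} (g : W ⟶ S)

/-- the object property "pseudo-coherent near every point, in all degrees" -/
def pcAllD (W : Scheme.{u}) : ObjectProperty (DCoh.D W) := fun K => ∀ (m : ℤ) (x : W), PCAt m K x

instance : (pcAllD W).IsClosedUnderIsomorphisms where
  of_iso e h := fun m x => pcAt_of_iso e (h m x)

/-- a bounded complex of finitely presented modules flat over the base is pseudo-coherent -/
theorem pcAt_of_fpFlat_complex [Flat g] [LocallyOfFinitePresentation g]
    (G : CochainComplex W.Modules ℤ) (a b : ℤ) (hG : DCoh.VanishesOutside G a b)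
    (hterms : ∀ i : ℤ, FPFlatOver g (G.X i)) (m : ℤ) (y : W) :
    PCAt m (DerivedCategory.Q.obj G) y := by
  refine Groth.Agent.Lib.Helper84.Devissage.prop_of_bounded_complex (pcAllD W) ?_ ?_ G a b hG
    (fun i m y => pcAt_single_of_fpFlatOver g (G.X i) (hterms i) i m y) m y
  · intro K hK m x
    exact (pcData_of_isZero_homology K m (fun i _ => Functor.map_isZero _ hK)).pcAt x
  · intro T hT h₁ h₃ m
    exact isPseudoCoherentD_obj₂ T hT m (h₁ m) (h₃ m)

end Complex

section Converse

variable {X S : Scheme.{u}} (f : X ⟶ S)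

/-- relatively perfect near `x` ⇒ pseudo-coherent near `x` -/
theorem pcAt_of_rpAt [Flat f] [LocallyOfFinitePresentation f] (E : DCoh.D X) (x : X)
    (h : RPAt f E x) (m : ℤ) : PCAt m E x := by
  obtain ⟨U, j, hj, ⟨y, rfl⟩, G, a, b, h1, h2, ⟨ε⟩⟩ := h
  haveI := hj
  apply pcAt_of_resD j
  exact pcAt_of_iso ε.symm (pcAt_of_fpFlat_complex (j ≫ f) G a b h1 h2 m y)

end Converse

end Groth.Agent.Lib.Helper15.RelPerfSLZ
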