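import Groth.Agent.Lib.Helper15.ChartMod
import Groth.Agent.Lib.Helper15.RelPerfSLZ
import Groth.Agent.Lib.Helper21.RelFPSch
import Groth.Agent.Lib.Helper21.RelFP6
import Groth.Agent.Lib.Helper2.BrutalTrunc

/-!
# The chart test for a bounded above complex of flat relatively finitely presented modules
(helper15)

* `chartPC_of_rep`: the chart test for `toD E` can be checked on the representative `E`;
* `isRelFP_of_isPseudoCoherentRel_single`: `M[0]` relatively `(-1)`-pseudo-coherent (`M`
  quasi-coherent) ⇒ `Flatn.IsRelFP f M`; hence (helper21's cover independence) the module of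
  sections on every affine chart is finitely presented over the polynomial ring;
* `chartPC_single_of_fp_flat`: chart test for `M[i₀]`, all `m`;
* `chartPC_of_boundedAbove`: chart test, all `m`, for a bounded above complex of such modules;
* `isPseudoCoherentRelAll_of_boundedAbove`: the global statement.
-/

set_option autoImplicit false
set_option linter.style.haveILetI false
universe u
open CategoryTheory Limits AlgebraicGeometry Opposite
attribute [local instance] HasDerivedCategory.standard

namespace Groth.Agent.Lib.Helper15.ChartD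

open Scheme.Modules Groth.Agent.Lib.Helper15.ChartPCAff Groth.Agent.Lib.Helper15.ChartUnit
  Groth.Agent.Lib.Helper15.ChartMod
  Groth.Agent.Lib.Helper15.PseudoCoh Groth.Agent.Lib.Lead.QCohAff
  Groth.Agent.Lib.Helper2.DCohBase Groth.Agent.Lib.Helper2.DCohPC Groth.Agent.Lib.Helper2.DCohPerf
  Groth.Agent.Lib.Helper15.RelPerfSLZ

section Push

variable {Z W : Scheme.{u}} (c : Z ⟶ W)

theorem preservesFiniteLimits_pushforward : PreservesFiniteLimits (pushforward c) := by
  haveI : PreservesLimitsOfSize.{u, u} (pushforward c) :=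
    (pullbackPushforwardAdjunction c).rightAdjoint_preservesLimits
  exact PreservesLimitsOfSize.preservesFiniteLimits _

theorem preservesFiniteColimits_pushforward [IsClosedImmersion c] :
    PreservesFiniteColimits (pushforward c) := by
  haveI : PreservesColimitsOfSize.{u, u} (pushforward c) :=
    Groth.Agent.Lib.Helper13.ClosedPushMod.preservesColimitsOfSize_pushforward _
  exact PreservesColimitsOfSize.preservesFiniteColimits _

end Push

section Rep

variable {X W : Scheme.{u}} {U : X.Opens} (c : (U : Scheme.{u}) ⟶ W) [IsClosedImmersion c]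

/-- the chart object only depends on the class in the derived category -/
theorem nonempty_chartObj_iso (G E : CochainComplex X.Modules ℤ)
    (e : DCoh.toD X G ≅ DCoh.toD X E) :
    Nonempty (DerivedCategory.Q.obj ((DerSch.pushCx c).obj ((DCoh.restrictCx U).obj G)) ≅
      DerivedCategory.Q.obj ((DerSch.pushCx c).obj ((DCoh.restrictCx U).obj E))) := by
  haveI := preservesFiniteLimits_pushforward c
  haveI := preservesFiniteColimits_pushforward c
  let pushD := (pushforward c).mapDerivedCategory
  have e1 : ∀ G : CochainComplex X.Modules ℤ,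
      DerivedCategory.Q.obj ((DerSch.pushCx c).obj ((DCoh.restrictCx U).obj G)) ≅
        pushD.obj ((resD U.ι).obj (DerivedCategory.Q.obj G)) := fun G =>
    ((pushforward c).mapDerivedCategoryFactors.app _).symm ≪≫ pushD.mapIso (resDQ U.ι G).symm
  exact ⟨e1 G ≪≫ pushD.mapIso ((resD U.ι).mapIso e) ≪≫ (e1 E).symm⟩

end Rep

section Chart

variable {X Y : Scheme.{u}} (f : X ⟶ Y) {U : X.Opens} (hU : IsAffineOpen U) {V : Y.Opens}
  (hV : IsAffineOpen V) (h : U ≤ f ⁻¹ᵁ V) {n : ℕ}
  (φ : MvPolynomial (Fin n) Γ(Y, V) →+* Γ(X, U)) (hc : DerSch.IsChart f U V h φ)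

include hU hc in
theorem isClosedImmersion_chartImm : IsClosedImmersion (DerSch.chartImm U φ) :=
  isClosedImmersion_chart hU (CommRingCat.ofHom φ) hc.1

include hU hc in
/-- the chart test can be checked on a given representative -/
theorem chartPC_of_rep (m : ℤ) (E : CochainComplex X.Modules ℤ)
    (hE : DCoh.IsPseudoCoherentD m
      (DCoh.toD (Spec (CommRingCat.of (MvPolynomial (Fin n) Γ(Y, V))))
        ((DerSch.pushCx (DerSch.chartImm U φ)).obj ((DCoh.restrictCx U).obj E)))) :
    DerSch.ChartPC m (DCoh.toD X E) U V φ := by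
  haveI := isClosedImmersion_chartImm f hU h φ hc
  intro G ⟨e⟩
  obtain ⟨e'⟩ := nonempty_chartObj_iso (DerSch.chartImm U φ) G E e
  exact Groth.Agent.Lib.Helper15.ChartPCAff.isPseudoCoherentD_of_iso e'.symm hE

include hU hV hc in
/-- chart test for a quasi-coherent module, flat over the base, with finitely presented sections
over the polynomial ring, placed in any degree -/
theorem chartPC_single_of_fp_flat (M : X.Modules) [M.IsQuasicoherent]
    (hfl : ∀ (x : X) (_ : x ∈ U), FlatMod.IsFlatOverAt f M x)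
    (hfp : Module.FinitePresentation (MvPolynomial (Fin n) Γ(Y, V))
      ((ModuleCat.restrictScalars φ).obj (ModuleCat.of Γ(X, U) Γ(M, U))))
    (m i₀ : ℤ) :
    DerSch.ChartPC m ((DerivedCategory.singleFunctor X.Modules i₀).obj M) U V φ := by
  let N : ModuleCat.{u} (MvPolynomial (Fin n) Γ(Y, V)) :=
    (ModuleCat.restrictScalars φ).obj (ModuleCat.of Γ(X, U) Γ(M, U))
  have hNfl : Module.Flat Γ(Y, V)
      ((ModuleCat.restrictScalars (algebraMap Γ(Y, V) (MvPolynomial (Fin n) Γ(Y, V)))).obj N) := by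
    letI : Module Γ(Y, V) Γ(M, U) := Module.compHom Γ(M, U) (f.appLE V U h).hom
    haveI : Module.Flat Γ(Y, V) Γ(M, U) := (flat_sections_iff f M hU hV h).2 hfl
    let e : ((ModuleCat.restrictScalars
        (algebraMap Γ(Y, V) (MvPolynomial (Fin n) Γ(Y, V)))).obj N) ≃ₗ[Γ(Y, V)] Γ(M, U) :=
      { toFun := fun s => s
        invFun := fun s => s
        map_add' := fun _ _ => rfl
        map_smul' := fun r s => by
          have hr : φ (MvPolynomial.C r) = (f.appLE V U h).hom r := congr($(hc.2) r)
          change (φ (MvPolynomial.C r)) • (show Γ(M, U) from s) = ((f.appLE V U h).hom r) • _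
          rw [hr]
        left_inv := fun _ => rfl
        right_inv := fun _ => rfl }
    exact Module.Flat.of_linearEquiv e
  have hall := Groth.Agent.Lib.Helper15.RelPerfFP.pcAll_single_of_fp_flat Γ(Y, V)
    (MvPolynomial (Fin n) Γ(Y, V)) N hfp hNfl i₀
  exact (chartPC_single_iff hU V φ hc.1 M m i₀).2 (hall m)

end Chart

section Downstairs

open Groth.Agent.Lib.Helper2 Groth.Agent.Lib.Helper84

variable {W : Scheme.{u}}

/-- `m`-pseudo-coherence transfers along a map inducing isomorphisms on `H^i`, `i > m`, and an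
epimorphism on `H^m` -/
theorem pcAt_of_map {m : ℤ} {K' K : DCoh.D W} (β : K' ⟶ K)
    (hiso : ∀ i : ℤ, m < i → IsIso ((DerivedCategory.homologyFunctor W.Modules i).map β))
    (hepi : Epi ((DerivedCategory.homologyFunctor W.Modules m).map β))
    {x : W} (h : PCAt m K' x) : PCAt m K x := by
  obtain ⟨U, j, hj, hx, E, α, hE, hiso', hepi'⟩ := h
  haveI := hj
  refine ⟨U, j, hj, hx, E, α ≫ (resD j).map β, hE, fun i hi => ?_, ?_⟩
  · rw [Functor.map_comp]
    haveI := hiso' i hi
    haveI := isIso_homology_resD j β i (hiso i hi)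
    infer_instance
  · rw [Functor.map_comp]
    haveI := hepi'
    haveI := epi_homology_resD j β m hepi
    infer_instance

/-- a bounded above complex whose terms, placed in their degrees, are pseudo-coherent, is
pseudo-coherent -/
theorem pcAt_of_boundedAbove (G : CochainComplex W.Modules ℤ) (b : ℤ)
    (hb : ∀ i : ℤ, b < i → IsZero (G.X i))
    (hterms : ∀ i : ℤ, pcAllD W ((DerivedCategory.singleFunctor W.Modules i).obj (G.X i)))
    (m : ℤ) (x : W) : PCAt m (DerivedCategory.Q.obj G) x := by
  have hzero : ∀ K : DCoh.D W, IsZero K → pcAllD W K := fun K hK m x =>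
    (pcData_of_isZero_homology K m (fun i _ => Functor.map_isZero _ hK)).pcAt x
  have hT : pcAllD W (DerivedCategory.Q.obj (BrutalTrunc.trunc G m)) := by
    refine Devissage.prop_of_bounded_complex (pcAllD W) hzero ?_ (BrutalTrunc.trunc G m) m
      (max b m) ?_ ?_
    · intro T hT h₁ h₃ m
      exact isPseudoCoherentD_obj₂ T hT m (h₁ m) (h₃ m)
    · intro i hi
      rcases hi with hi | hi
      · exact BrutalTrunc.isZero_trunc_X G m i hi
      · exact IsZero.of_iso (hb i (lt_of_le_of_lt (le_max_left _ _) hi))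
          (BrutalTrunc.truncXIso G m i ((le_max_right _ _).trans hi.le))
    · intro i
      by_cases hi : m ≤ i
      · exact (pcAllD W).prop_of_iso
          ((DerivedCategory.singleFunctor W.Modules i).mapIso
            (BrutalTrunc.truncXIso G m i hi).symm) (hterms i)
      · exact hzero _ (Functor.map_isZero _ (BrutalTrunc.isZero_trunc_X G m i (by lia)))
  exact pcAt_of_map (DerivedCategory.Q.map (BrutalTrunc.ι G m))
    (fun i hi => isIso_homology_Q_map _ i (BrutalTrunc.isIso_homologyMap_ι G m i hi))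
    (epi_homology_Q_map _ m (BrutalTrunc.epi_homologyMap_ι G m)) (hT m x)

end Downstairs

section Complex

variable {X Y : Scheme.{u}} (f : X ⟶ Y) {U : X.Opens} (hU : IsAffineOpen U) {V : Y.Opens}
  (hV : IsAffineOpen V) (h : U ≤ f ⁻¹ᵁ V) {n : ℕ}
  (φ : MvPolynomial (Fin n) Γ(Y, V) →+* Γ(X, U)) (hc : DerSch.IsChart f U V h φ)

/-- the chart object of a module placed in one degree -/
theorem isPseudoCoherentD_single_of_chartPC (M : X.Modules) (m i₀ : ℤ)
    (hpc : DerSch.ChartPC m ((DerivedCategory.singleFunctor X.Modules i₀).obj M) U V φ) :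
    DCoh.IsPseudoCoherentD m
      ((DerivedCategory.singleFunctor
        (Spec (CommRingCat.of (MvPolynomial (Fin n) Γ(Y, V)))).Modules i₀).obj
          ((pushforward (DerSch.chartImm U φ)).obj ((restrictFunctor U.ι).obj M))) := by
  have h1 := hpc ((HomologicalComplex.single X.Modules (ComplexShape.up ℤ) i₀).obj M)
    ⟨((DerivedCategory.singleFunctorIsoCompQ X.Modules i₀).app M).symm⟩
  let e1 : (DerSch.pushCx (DerSch.chartImm U φ)).obj ((DCoh.restrictCx U).obj
      ((HomologicalComplex.single X.Modules (ComplexShape.up ℤ) i₀).obj M)) ≅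
      (HomologicalComplex.single _ (ComplexShape.up ℤ) i₀).obj
        ((pushforward (DerSch.chartImm U φ)).obj ((restrictFunctor U.ι).obj M)) :=
    (DerSch.pushCx (DerSch.chartImm U φ)).mapIso
      ((HomologicalComplex.singleMapHomologicalComplex (restrictFunctor U.ι)
        (ComplexShape.up ℤ) i₀).app M) ≪≫
    (HomologicalComplex.singleMapHomologicalComplex (pushforward (DerSch.chartImm U φ))
      (ComplexShape.up ℤ) i₀).app _
  exact Groth.Agent.Lib.Helper15.ChartPCAff.isPseudoCoherentD_of_iso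
    (DerivedCategory.Q.mapIso e1 ≪≫
      ((DerivedCategory.singleFunctorIsoCompQ _ i₀).app _).symm) h1

include hU hc in
/-- **chart test for a bounded above complex from the chart tests of its terms** -/
theorem chartPC_of_boundedAbove (E : CochainComplex X.Modules ℤ) (b : ℤ)
    (hb : ∀ i : ℤ, b < i → IsZero (E.X i))
    (hsingle : ∀ (i m : ℤ),
      DerSch.ChartPC m ((DerivedCategory.singleFunctor X.Modules i).obj (E.X i)) U V φ)
    (m : ℤ) : DerSch.ChartPC m (DCoh.toD X E) U V φ := by
  apply chartPC_of_rep f hU h φ hc m E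
  rw [isPseudoCoherentD_iff]
  intro x
  refine pcAt_of_boundedAbove _ b ?_ ?_ m x
  · intro i hi
    exact Functor.map_isZero (pushforward (DerSch.chartImm U φ))
      (Functor.map_isZero (restrictFunctor U.ι) (hb i hi))
  · intro i m x
    exact (isPseudoCoherentD_iff m _).1
      (isPseudoCoherentD_single_of_chartPC φ (E.X i) m i (hsingle i m)) x

end Complex

section Global

variable {X Y : Scheme.{u}} (f : X ⟶ Y)

/-- the `AlgHom` underlying a chart -/
noncomputable def chartAlgHom {U : X.Opens} {V : Y.Opens} (h : U ≤ f ⁻¹ᵁ V) {n : ℕ}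
    (φ : MvPolynomial (Fin n) Γ(Y, V) →+* Γ(X, U)) (hc : DerSch.IsChart f U V h φ) :
    letI : Algebra Γ(Y, V) Γ(X, U) := (f.appLE V U h).hom.toAlgebra
    MvPolynomial (Fin n) Γ(Y, V) →ₐ[Γ(Y, V)] Γ(X, U) :=
  letI : Algebra Γ(Y, V) Γ(X, U) := (f.appLE V U h).hom.toAlgebra
  { φ with commutes' := fun r => congr($(hc.2) r) }

theorem isRelFP_of_isPseudoCoherentRel_single (M : X.Modules) [M.IsQuasicoherent]
    (hpc : DerSch.IsPseudoCoherentRel f (-1)
      (DCoh.toD X ((HomologicalComplex.single X.Modules (ComplexShape.up ℤ) 0).obj M))) :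
    Flatn.IsRelFP f M := by
  obtain ⟨-, 𝒱, h𝒱, H⟩ := hpc
  refine ⟨𝒱, h𝒱, fun V hV => ?_⟩
  obtain ⟨𝒰, h𝒰, H'⟩ := H V hV
  refine ⟨𝒰, h𝒰, fun U hU hle => ?_⟩
  obtain ⟨n, φ, hc, hpcU⟩ := H' U hU hle
  have h1 : DRing.IsPseudoCoherent (MvPolynomial (Fin n) Γ(Y, (V : Y.Opens))) (-1)
      ((DerivedCategory.singleFunctor _ 0).obj
        ((ModuleCat.restrictScalars φ).obj
          (ModuleCat.of Γ(X, (U : X.Opens)) Γ(M, (U : X.Opens))))) :=
    (chartPC_single_iff U.2 (V : Y.Opens) φ hc.1 M (-1) 0).1
      (chartPC_of_iso (V : Y.Opens) φ (toDSingleIso M) hpcU)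
  have hfp := (Groth.Agent.S6935.result (MvPolynomial (Fin n) Γ(Y, (V : Y.Opens)))
    ((ModuleCat.restrictScalars φ).obj
      (ModuleCat.of Γ(X, (U : X.Opens)) Γ(M, (U : X.Opens))))).2.1 h1
  exact ⟨n, chartAlgHom f hle φ hc, hc.1, hfp⟩

theorem fp_sections_of_isRelFP [LocallyOfFiniteType f] (M : X.Modules) [M.IsQuasicoherent]
    (hM : Flatn.IsRelFP f M) {U : X.Opens} (hU : IsAffineOpen U) {V : Y.Opens}
    (hV : IsAffineOpen V) (h : U ≤ f ⁻¹ᵁ V) {n : ℕ}
    (φ : MvPolynomial (Fin n) Γ(Y, V) →+* Γ(X, U)) (hc : DerSch.IsChart f U V h φ) :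
    Module.FinitePresentation (MvPolynomial (Fin n) Γ(Y, V))
      ((ModuleCat.restrictScalars φ).obj (ModuleCat.of Γ(X, U) Γ(M, U))) := by
  have h1 := (Groth.Agent.Lib.Helper21.RelFPSch.isRelFP_iff_forall f M).1 hM ⟨U, hU⟩ ⟨V, hV⟩ h
  letI : Algebra Γ(Y, V) Γ(X, U) := (f.appLE V U h).hom.toAlgebra
  exact Groth.Agent.Lib.Helper21.RelFinitePresentation.forall h1 (chartAlgHom f h φ hc) hc.1

/-- **a bounded above complex of modules flat over the base and finitely presented relative to
`f` is pseudo-coherent relative to `f`** -/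
theorem isPseudoCoherentRelAll_of_boundedAbove [LocallyOfFiniteType f]
    (E : CochainComplex X.Modules ℤ) (b : ℤ) (hb : ∀ i : ℤ, b < i → IsZero (E.X i))
    (hfl : ∀ i : ℤ, FlatMod.IsFlatOver f (E.X i))
    (hfp : ∀ i : ℤ, DerSch.IsPseudoCoherentRel f (-1)
      (DCoh.toD X ((HomologicalComplex.single _ (ComplexShape.up ℤ) 0).obj (E.X i)))) :
    DerSch.IsPseudoCoherentRelAll f (DCoh.toD X E) := by
  have hq : ∀ i : ℤ, (E.X i).IsQuasicoherent := fun i =>
    isQuasicoherent_of_isPseudoCoherentRel_single f _ (hfp i)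
  have hrel : ∀ i : ℤ, Flatn.IsRelFP f (E.X i) := fun i =>
    haveI := hq i
    isRelFP_of_isPseudoCoherentRel_single f _ (hfp i)
  intro m
  refine ⟨inferInstance, Set.univ, iSup_univ_affineOpens,
    fun V _ => ⟨{U : X.affineOpens | (U : X.Opens) ≤ f ⁻¹ᵁ (V : Y.Opens)},
      iSup_affineOpens_le_preimage f (V : Y.Opens), fun U _ hle => ?_⟩⟩
  obtain ⟨n, φ, hc⟩ := exists_isChart f U.2 V.2 hle
  refine ⟨n, φ, hc, ?_⟩
  refine chartPC_of_boundedAbove f U.2 hle φ hc E b hb (fun i m => ?_) m
  haveI := hq i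
  exact chartPC_single_of_fp_flat f U.2 V.2 hle φ hc (E.X i) (fun x _ => hfl i x)
    (fp_sections_of_isRelFP f (E.X i) (hrel i) U.2 V.2 hle φ hc) m i

end Global

end Groth.Agent.Lib.Helper15.ChartD
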