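import Groth.Agent.Lib.Helper15.RelAmp
import Groth.Agent.Lib.Helper84.FlatAmpDim
import Groth.Agent.Lib.Helper12.StalkTor

/-!
# Tor amplitude in `[0, 0]` of a module placed in degree `0` (helper15)

* `flat_of_torAmp_zero_single`, `torAmp_zero_single_iff`: over a ring, `M[0]` has tor amplitude in
  `[0, 0]` iff `M` is flat;
* `hasTorAmplitude_single_iff`: relative to `f`, `M[0]` has tor amplitude in `[0, 0]` iff `M` is
  flat over the base;
* `hasTorAmplitude_unit_iff`: `O_X[0]` has tor amplitude in `[0, 0]` relative to `f` iff `f` flat.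
-/

set_option autoImplicit false
set_option linter.style.haveILetI false
universe u
open CategoryTheory Limits AlgebraicGeometry
attribute [local instance] HasDerivedCategory.standard

namespace Groth.Agent.Lib.Helper15.TorAmpZero

open DRing DerivedCategory Groth.Agent.Lib.Helper84.TensCx Groth.Agent.Lib.Helper84.FlatAmp

section Ring

variable {R : Type u} [CommRing R]

/-- a complex vanishing outside `[0, 0]` has `H^0` equal to its degree `0` term -/
noncomputable def homologyZeroIso (E : Cx R) (hv : VanishesOutside E 0 0) :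
    E.homology 0 ≅ E.X 0 :=
  (E.isoHomologyπ (-1) 0 (by simp) ((hv (-1) (Or.inl (by lia))).eq_of_src _ _)).symm ≪≫
    E.iCyclesIso 0 1 (by simp) ((hv 1 (Or.inr (by lia))).eq_of_tgt _ _)

theorem flat_of_torAmp_zero_single (M : ModuleCat.{u} R)
    (h : HasTorAmplitudeIn R 0 0 ((singleFunctor (ModuleCat.{u} R) 0).obj M)) :
    Module.Flat R M := by
  obtain ⟨E, hv, hfl, ⟨e⟩⟩ := h
  have e1 : E.X 0 ≅ M :=
    (homologyZeroIso E hv).symm ≪≫
      ((homologyFunctorFactors (ModuleCat.{u} R) 0).app E).symm ≪≫
      (homologyFunctor (ModuleCat.{u} R) 0).mapIso e ≪≫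
      (singleFunctorCompHomologyFunctorIso (ModuleCat.{u} R) 0).app M
  haveI := hfl 0
  exact flat_of_iso e1

theorem torAmp_zero_single_iff (M : ModuleCat.{u} R) :
    HasTorAmplitudeIn R 0 0 ((singleFunctor (ModuleCat.{u} R) 0).obj M) ↔ Module.Flat R M :=
  ⟨flat_of_torAmp_zero_single M, fun h => by haveI := h; exact torAmp_single_of_flat M 0⟩

end Ring

section Scheme

open Groth.Agent.Lib.Helper12.StalkTor

variable {X S : Scheme.{u}} (f : X ⟶ S)

theorem hasTorAmplitudeAt_single_iff (M : X.Modules) (x : X) :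
    DerSch.HasTorAmplitudeAt f 0 0
      ((HomologicalComplex.single X.Modules (ComplexShape.up ℤ) 0).obj M) x ↔
      FlatMod.IsFlatOverAt f M x := by
  rw [Groth.Agent.Lib.Helper15.RelAmp.isFlatOverAt_iff, ← torAmp_zero_single_iff]
  have e := toDSingleIso (DerSch.stalkOver f x) M
  exact ⟨fun h => torAmp_of_iso h e, fun h => torAmp_of_iso h e.symm⟩

theorem hasTorAmplitude_single_iff (M : X.Modules) :
    DerSch.HasTorAmplitude f 0 0
      ((HomologicalComplex.single X.Modules (ComplexShape.up ℤ) 0).obj M) ↔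
      FlatMod.IsFlatOver f M :=
  forall_congr' fun x => hasTorAmplitudeAt_single_iff f M x

theorem isFlatOverAt_unit_iff (x : X) :
    FlatMod.IsFlatOverAt f (Coh.structureModule X) x ↔ (f.stalkMap x).hom.Flat := by
  rw [Groth.Agent.Lib.Helper15.RelAmp.isFlatOverAt_iff]
  letI := (f.stalkMap x).hom.toAlgebra
  have e := unitStalkModIso f x
  constructor
  · intro h
    haveI := h
    have := flat_of_iso e
    exact this
  · intro h
    haveI : Module.Flat (S.presheaf.stalk (f.base x))
        (ModuleCat.of (S.presheaf.stalk (f.base x)) (X.presheaf.stalk x)) := h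
    exact flat_of_iso e.symm

theorem hasTorAmplitude_unit_iff :
    DerSch.HasTorAmplitude f 0 0 (DerSch.unitCx X) ↔ Flat f := by
  rw [Flat.iff_flat_stalkMap]
  exact forall_congr' fun x =>
    (hasTorAmplitudeAt_single_iff f (Coh.structureModule X) x).trans (isFlatOverAt_unit_iff f x)

end Scheme

end Groth.Agent.Lib.Helper15.TorAmpZero
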