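import Groth.Agent.Lib.Helper15.ChartUnit
import Groth.Agent.Lib.Helper15.RelPerfFP
import Groth.Agent.Lib.Helper15.TorAmpZero
import Groth.Agent.Lib.Lead.QCohAff5

/-!
# Chart form of relative pseudo-coherence for a flat quasi-coherent module (helper15)

* `chartPC_single_of_flat_of_negOne`: on an affine chart, for `M` quasi-coherent and flat over the
  base along `U`, the `(-1)` chart test for `M[0]` implies the `m` chart test for every `m`
  (the module of sections is finitely presented over the polynomial ring and flat over the base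
  ring, hence pseudo-coherent: `RelPerfFP.pcAll_single_of_fp_flat`);
* `isQuasicoherent_of_isPseudoCoherentRel_single`: `M[0]` relatively `(-1)`-pseudo-coherent ⇒ `M`
  quasi-coherent;
* `isPseudoCoherentRelAll_single_of_flat`: the global consequence.
-/

set_option autoImplicit false
set_option linter.style.haveILetI false
universe u
open CategoryTheory Limits AlgebraicGeometry Opposite
attribute [local instance] HasDerivedCategory.standard

namespace Groth.Agent.Lib.Helper15.ChartMod

open Scheme.Modules Groth.Agent.Lib.Helper15.ChartPCAff Groth.Agent.Lib.Helper15.ChartUnit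
  Groth.Agent.Lib.Helper15.PseudoCoh Groth.Agent.Lib.Lead.QCohAff

variable {X Y : Scheme.{u}} (f : X ⟶ Y)

theorem chartPC_single_of_flat_of_negOne {U : X.Opens} (hU : IsAffineOpen U) {V : Y.Opens}
    (hV : IsAffineOpen V) (h : U ≤ f ⁻¹ᵁ V) {n : ℕ}
    (φ : MvPolynomial (Fin n) Γ(Y, V) →+* Γ(X, U)) (hc : DerSch.IsChart f U V h φ)
    (M : X.Modules) [M.IsQuasicoherent] (hfl : ∀ (x : X) (_ : x ∈ U), FlatMod.IsFlatOverAt f M x)
    (hpc : DerSch.ChartPC (-1) ((DerivedCategory.singleFunctor X.Modules 0).obj M) U V φ)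
    (m : ℤ) :
    DerSch.ChartPC m ((DerivedCategory.singleFunctor X.Modules 0).obj M) U V φ := by
  let N : ModuleCat.{u} (MvPolynomial (Fin n) Γ(Y, V)) :=
    (ModuleCat.restrictScalars φ).obj (ModuleCat.of Γ(X, U) Γ(M, U))
  have h1 : DRing.IsPseudoCoherent (MvPolynomial (Fin n) Γ(Y, V)) (-1)
      ((DerivedCategory.singleFunctor _ 0).obj N) :=
    (chartPC_single_iff hU V φ hc.1 M (-1) 0).1 hpc
  have hfp : Module.FinitePresentation (MvPolynomial (Fin n) Γ(Y, V)) N :=
    (Groth.Agent.S6935.result (MvPolynomial (Fin n) Γ(Y, V)) N).2.1 h1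
  have hNfl : Module.Flat Γ(Y, V)
      ((ModuleCat.restrictScalars (algebraMap Γ(Y, V) (MvPolynomial (Fin n) Γ(Y, V)))).obj N) := by
    letI : Module Γ(Y, V) Γ(M, U) := Module.compHom Γ(M, U) (f.appLE V U h).hom
    haveI : Module.Flat Γ(Y, V) Γ(M, U) := (flat_sections_iff f M hU hV h).2 hfl
    let e : ((ModuleCat.restrictScalars
        (algebraMap Γ(Y, V) (MvPolynomial (Fin n) Γ(Y, V)))).obj N) ≃ₗ[Γ(Y, V)] Γ(M, U) :=
      { toFun := fun s => s
        invFun := fun s => s
        map_add' := fun _ _ => rfl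
        map_smul' := fun r s => by
          have hr : φ (MvPolynomial.C r) = (f.appLE V U h).hom r := congr($(hc.2) r)
          change (φ (MvPolynomial.C r)) • (show Γ(M, U) from s) = ((f.appLE V U h).hom r) • _
          rw [hr]
        left_inv := fun _ => rfl
        right_inv := fun _ => rfl }
    exact Module.Flat.of_linearEquiv e
  have hall := Groth.Agent.Lib.Helper15.RelPerfFP.pcAll_single_of_fp_flat Γ(Y, V)
    (MvPolynomial (Fin n) Γ(Y, V)) N hfp hNfl 0
  exact (chartPC_single_iff hU V φ hc.1 M m 0).2 (hall m)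

/-- `toD` of a module placed in degree `0` -/
noncomputable def toDSingleIso (M : X.Modules) :
    DCoh.toD X ((HomologicalComplex.single X.Modules (ComplexShape.up ℤ) 0).obj M) ≅
      (DerivedCategory.singleFunctor X.Modules 0).obj M :=
  ((DerivedCategory.singleFunctorIsoCompQ X.Modules 0).app M).symm

theorem isQuasicoherent_of_isPseudoCoherentRel_single (M : X.Modules)
    (hpc : DerSch.IsPseudoCoherentRel f (-1)
      (DCoh.toD X ((HomologicalComplex.single X.Modules (ComplexShape.up ℤ) 0).obj M))) :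
    M.IsQuasicoherent := by
  have hq := Groth.Agent.Lib.Helper15.PCRelQCoh.isQuasicoherent_HD_of_isPseudoCoherentRel f (-1)
    _ hpc 0 (by lia)
  have e : DCoh.HD (DCoh.toD X
      ((HomologicalComplex.single X.Modules (ComplexShape.up ℤ) 0).obj M)) 0 ≅ M :=
    (DerivedCategory.homologyFunctor X.Modules 0).mapIso (toDSingleIso M) ≪≫
      (DerivedCategory.singleFunctorCompHomologyFunctorIso X.Modules 0).app M
  exact ObjectProperty.prop_of_iso (SheafOfModules.isQuasicoherent X.ringCatSheaf) e hq

/-- **a module flat over the base which is finitely presented relative to `f` is pseudo-coherent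
relative to `f`** -/
theorem isPseudoCoherentRelAll_single_of_flat (M : X.Modules) (hfl : FlatMod.IsFlatOver f M)
    (hpc : DerSch.IsPseudoCoherentRel f (-1)
      (DCoh.toD X ((HomologicalComplex.single X.Modules (ComplexShape.up ℤ) 0).obj M))) :
    DerSch.IsPseudoCoherentRelAll f
      (DCoh.toD X ((HomologicalComplex.single X.Modules (ComplexShape.up ℤ) 0).obj M)) := by
  haveI := isQuasicoherent_of_isPseudoCoherentRel_single f M hpc
  intro m
  obtain ⟨hlft, 𝒱, h𝒱, H⟩ := hpc
  refine ⟨hlft, 𝒱, h𝒱, fun V hV => ?_⟩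
  obtain ⟨𝒰, h𝒰, H'⟩ := H V hV
  refine ⟨𝒰, h𝒰, fun U hU hle => ?_⟩
  obtain ⟨n, φ, hc, hpcU⟩ := H' U hU hle
  refine ⟨n, φ, hc, ?_⟩
  exact chartPC_of_iso (V : Y.Opens) φ (toDSingleIso M).symm
    (chartPC_single_of_flat_of_negOne f U.2 V.2 hle φ hc M (fun x _ => hfl x)
      (chartPC_of_iso (V : Y.Opens) φ (toDSingleIso M) hpcU) m)

end Groth.Agent.Lib.Helper15.ChartMod
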