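import Groth.Agent.Lib.Helper15.PCRelQCoh
import Groth.Agent.Lib.Helper15.TildePC
import Groth.Agent.Lib.Lead.PullbackAff2
import Groth.Agent.Lib.Lead.QCohPush
import Groth.Agent.S9498

/-!
# The chart test of relative pseudo-coherence on an affine chart (helper15)

* `chartΓIso`: global sections over `Spec P` of `(U ⟶ Spec Γ(X,U) ⟶ Spec P)_* (M|_U)` are `Γ(M, U)`
  with scalars restricted along `φ : P ⟶ Γ(X, U)`;
* `nonempty_chartObjIso`: for quasi-coherent `M`, `U` affine and `φ` surjective, the chart object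
  of `M[i₀]` is `tildeD` of that module placed in degree `i₀`;
* `chartPC_single_iff`: `DerSch.ChartPC m (M[i₀]) U V φ ↔` ring-level `m`-pseudo-coherence of
  `Γ(M, U)[i₀]` over the polynomial ring.
-/

set_option autoImplicit false
set_option linter.style.haveILetI false
universe u
open CategoryTheory Limits AlgebraicGeometry Opposite
attribute [local instance] HasDerivedCategory.standard

namespace Groth.Agent.Lib.Helper15.ChartPCAff

open Scheme.Modules
open Groth.Agent.Lib.Lead.PullbackAff

section PushIso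

variable {Y Z : Scheme.{u}} (e : Y ⟶ Z) [IsIso e]

/-- pushforward along an isomorphism is restriction along its inverse -/
noncomputable def pushIsoRestrict (N : Y.Modules) :
    (pushforward e).obj N ≅ (restrictFunctor (inv e)).obj N :=
  ((restrictFunctorId (X := Z)).app ((pushforward e).obj N)).symm ≪≫
    (restrictFunctorCongr (IsIso.inv_hom_id e).symm).app ((pushforward e).obj N) ≪≫
    (restrictFunctorComp (inv e) e).app ((pushforward e).obj N) ≪≫
    (restrictFunctor (inv e)).mapIso ((restrictFunctorAdjCounitIso e).app N)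

end PushIso

section Sections

variable {X : Scheme.{u}} {U : X.Opens} (hU : IsAffineOpen U)

theorem fromSpec_eq [IsIso U.toSpecΓ] : hU.fromSpec = inv U.toSpecΓ ≫ U.ι := by
  rw [IsIso.eq_inv_comp]
  exact hU.toSpecΓ_fromSpec

/-- the pushforward to `Spec Γ(X, U)` of the restriction to `U` is the restriction along
`fromSpec` -/
noncomputable def pushToSpecΓIso (M : X.Modules) :
    (pushforward U.toSpecΓ).obj (M.restrict U.ι) ≅ M.restrict hU.fromSpec :=
  haveI : IsIso U.toSpecΓ := Groth.Agent.Lib.Helper15.PCRelQCoh.isIso_toSpecΓ hU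
  pushIsoRestrict U.toSpecΓ (M.restrict U.ι) ≪≫
    ((restrictFunctorComp (inv U.toSpecΓ) U.ι).app M).symm ≪≫
    (restrictFunctorCongr (fromSpec_eq hU).symm).app M

variable {P : CommRingCat.{u}} (φ : P ⟶ Γ(X, U))

/-- global sections over `Spec P` of the chart pushforward of `M|_U`: the module `Γ(M, U)` with
scalars restricted along `φ` -/
noncomputable def chartΓIso (M : X.Modules) :
    (moduleSpecΓFunctor (R := P)).obj
        ((pushforward (U.toSpecΓ ≫ Spec.map φ)).obj (M.restrict U.ι)) ≅
      (ModuleCat.restrictScalars φ.hom).obj (ModuleCat.of Γ(X, U) Γ(M, U)) :=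
  moduleSpecΓFunctor.mapIso ((pushforwardComp U.toSpecΓ (Spec.map φ)).app
      (M.restrict U.ι)).symm ≪≫
    (pushforwardΓIso φ).app ((pushforward U.toSpecΓ).obj (M.restrict U.ι)) ≪≫
    (ModuleCat.restrictScalars φ.hom).mapIso
      (moduleSpecΓFunctor.mapIso (pushToSpecΓIso hU M) ≪≫ (secEquiv hU M).toModuleIso)

end Sections

section Main

open Groth.Agent.Lib.Helper2.DCohBase Groth.Agent.Lib.Helper2.DCohPC Groth.Agent.Lib.Helper2.DCohPerf

variable {X : Scheme.{u}} {U : X.Opens} (hU : IsAffineOpen U) {P : CommRingCat.{u}}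
  (φ : P ⟶ Γ(X, U)) (hφ : Function.Surjective φ.hom)

include hU hφ in
theorem isClosedImmersion_chart : IsClosedImmersion (U.toSpecΓ ≫ Spec.map φ) := by
  haveI := Groth.Agent.Lib.Helper15.PCRelQCoh.isIso_toSpecΓ hU
  haveI : IsClosedImmersion (Spec.map φ) := IsClosedImmersion.spec_of_surjective _ hφ
  infer_instance

include hU hφ in
/-- the chart object attached to a quasi-coherent module placed in one degree is the tilde of the
module of sections -/
theorem nonempty_chartObjIso [PreservesFiniteLimits (tilde.functor P)]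
    (M : X.Modules) [M.IsQuasicoherent] (i₀ : ℤ)
    (G : CochainComplex X.Modules ℤ)
    (e : DCoh.toD X G ≅ (DerivedCategory.singleFunctor X.Modules i₀).obj M) :
    Nonempty (DerivedCategory.Q.obj ((DerSch.pushCx (U.toSpecΓ ≫ Spec.map φ)).obj
        ((DCoh.restrictCx U).obj G)) ≅
      (DCoh.tildeD P).obj
        ((DerivedCategory.singleFunctor (ModuleCat.{u} P) i₀).obj
          ((ModuleCat.restrictScalars φ.hom).obj (ModuleCat.of Γ(X, U) Γ(M, U))))) := by
  haveI hci : IsClosedImmersion (U.toSpecΓ ≫ Spec.map φ) := isClosedImmersion_chart hU φ hφ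
  haveI : PreservesColimitsOfSize.{u, u} (pushforward (U.toSpecΓ ≫ Spec.map φ)) :=
    Groth.Agent.Lib.Helper13.ClosedPushMod.preservesColimitsOfSize_pushforward _
  haveI : PreservesFiniteColimits (pushforward (U.toSpecΓ ≫ Spec.map φ)) :=
    PreservesColimitsOfSize.preservesFiniteColimits _
  haveI : PreservesLimitsOfSize.{u, u} (pushforward (U.toSpecΓ ≫ Spec.map φ)) :=
    (pullbackPushforwardAdjunction (U.toSpecΓ ≫ Spec.map φ)).rightAdjoint_preservesLimits
  haveI : PreservesFiniteLimits (pushforward (U.toSpecΓ ≫ Spec.map φ)) :=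
    PreservesLimitsOfSize.preservesFiniteLimits _
  let pushD := (pushforward (U.toSpecΓ ≫ Spec.map φ)).mapDerivedCategory
  let e1 : DerivedCategory.Q.obj ((DerSch.pushCx (U.toSpecΓ ≫ Spec.map φ)).obj
      ((DCoh.restrictCx U).obj G)) ≅ pushD.obj (DerivedCategory.Q.obj ((DCoh.restrictCx U).obj G)) :=
    ((pushforward (U.toSpecΓ ≫ Spec.map φ)).mapDerivedCategoryFactors.app _).symm
  let e2 : DerivedCategory.Q.obj ((DCoh.restrictCx U).obj G) ≅
      (DerivedCategory.singleFunctor (U : Scheme.{u}).Modules i₀).obj (M.restrict U.ι) :=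
    (resDQ U.ι G).symm ≪≫ (resD U.ι).mapIso e ≪≫
      ((restrictFunctor U.ι).mapDerivedCategorySingleFunctor i₀).app M
  let e5 : pushD.obj ((DerivedCategory.singleFunctor (U : Scheme.{u}).Modules i₀).obj
      (M.restrict U.ι)) ≅ (DerivedCategory.singleFunctor _ i₀).obj
        ((pushforward (U.toSpecΓ ≫ Spec.map φ)).obj (M.restrict U.ι)) :=
    ((pushforward (U.toSpecΓ ≫ Spec.map φ)).mapDerivedCategorySingleFunctor i₀).app _
  haveI hq : ((pushforward (U.toSpecΓ ≫ Spec.map φ)).obj (M.restrict U.ι)).IsQuasicoherent :=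
    inferInstance
  haveI hiso : IsIso (Scheme.Modules.fromTildeΓ (R := P)
      ((pushforward (U.toSpecΓ ≫ Spec.map φ)).obj (M.restrict U.ι))) :=
    Scheme.Modules.isIso_fromTildeΓ_of_isQuasicoherent _
  let e6 : (tilde.functor P).obj
      ((ModuleCat.restrictScalars φ.hom).obj (ModuleCat.of Γ(X, U) Γ(M, U))) ≅
      (pushforward (U.toSpecΓ ≫ Spec.map φ)).obj (M.restrict U.ι) :=
    (tilde.functor P).mapIso (chartΓIso hU φ M).symm ≪≫ @asIso _ _ _ _ _ hiso
  exact ⟨e1 ≪≫ pushD.mapIso e2 ≪≫ e5 ≪≫ (DerivedCategory.singleFunctor _ i₀).mapIso e6.symm ≪≫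
    (((tilde.functor P).mapDerivedCategorySingleFunctor i₀).app _).symm⟩

end Main


section Iff

open Groth.Agent.Lib.Helper2.DCohBase Groth.Agent.Lib.Helper2.DCohPC

variable {X Y : Scheme.{u}} {U : X.Opens} (hU : IsAffineOpen U) (V : Y.Opens) {n : ℕ}
  (φ : MvPolynomial (Fin n) Γ(Y, V) →+* Γ(X, U)) (hφ : Function.Surjective φ)

theorem isPseudoCoherentD_of_iso {W : Scheme.{u}} {m : ℤ} {K K' : DCoh.D W} (e : K ≅ K')
    (h : DCoh.IsPseudoCoherentD m K) : DCoh.IsPseudoCoherentD m K' :=
  (isPseudoCoherentD_iff m K').2 (fun x => pcAt_of_iso e ((isPseudoCoherentD_iff m K).1 h x))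

include hU hφ in
/-- **the chart test for a quasi-coherent module placed in one degree is the ring-level
pseudo-coherence of its module of sections over the polynomial ring** -/
theorem chartPC_single_iff (M : X.Modules) [M.IsQuasicoherent] (m i₀ : ℤ) :
    DerSch.ChartPC m ((DerivedCategory.singleFunctor X.Modules i₀).obj M) U V φ ↔
      DRing.IsPseudoCoherent (MvPolynomial (Fin n) Γ(Y, V)) m
        ((DerivedCategory.singleFunctor (ModuleCat.{u} (MvPolynomial (Fin n) Γ(Y, V))) i₀).obj
          ((ModuleCat.restrictScalars φ).obj (ModuleCat.of Γ(X, U) Γ(M, U)))) := by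
  haveI : PreservesFiniteLimits (tilde.functor (CommRingCat.of (MvPolynomial (Fin n) Γ(Y, V)))) :=
    (Groth.Agent.S9498.key _).1
  have key := fun G e => nonempty_chartObjIso hU (CommRingCat.ofHom φ) hφ M i₀ G e
  have tpc := Groth.Agent.Lib.Helper15.TildePC.isPseudoCoherentD_tildeD_iff
    (CommRingCat.of (MvPolynomial (Fin n) Γ(Y, V)))
    ((DerivedCategory.singleFunctor (ModuleCat.{u} (MvPolynomial (Fin n) Γ(Y, V))) i₀).obj
      ((ModuleCat.restrictScalars φ).obj (ModuleCat.of Γ(X, U) Γ(M, U)))) m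
  constructor
  · intro h
    obtain ⟨G, ⟨e⟩⟩ := exists_rep ((DerivedCategory.singleFunctor X.Modules i₀).obj M)
    obtain ⟨ε⟩ := key G e
    exact tpc.1 (isPseudoCoherentD_of_iso ε (h G ⟨e⟩))
  · intro h G ⟨e⟩
    obtain ⟨ε⟩ := key G e
    exact isPseudoCoherentD_of_iso ε.symm (tpc.2 h)

end Iff

end Groth.Agent.Lib.Helper15.ChartPCAff
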