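import Groth.Agent.Lib.Helper15.ChartPCAff
import Groth.Agent.S6935
import Groth.Agent.Lib.Helper15.PseudoCoh

/-!
# Chart form of relative pseudo-coherence for the structure sheaf (helper15)

* `isPseudoCoherent_negOne_selfObj_iff`: for `φ : P → A` surjective, `A[0]` is `(-1)`-pseudo-coherent
  over `P` iff `ker φ` is finitely generated;
* `ker_fg_iff_finitePresentation_appLE`, `chartPC_unit_iff`;
* `exists_isChart`, `exists_chart_of_isPseudoCoherentRel`, cover lemmas.
-/

set_option autoImplicit false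
set_option linter.style.haveILetI false
universe u
open CategoryTheory Limits AlgebraicGeometry Opposite
attribute [local instance] HasDerivedCategory.standard

namespace Groth.Agent.Lib.Helper15.ChartUnit

open Scheme.Modules Groth.Agent.Lib.Helper15.ChartPCAff

section Ring

variable {P A : Type u} [CommRing P] [CommRing A] (φ : P →+* A) (hφ : Function.Surjective φ)

/-- `A` as a `P`-module through `φ`, as an object placed in degree `0` -/
noncomputable abbrev selfObj : Dual.D P :=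
  (DerivedCategory.singleFunctor (ModuleCat.{u} P) 0).obj
    ((ModuleCat.restrictScalars φ).obj (ModuleCat.of A A))

include hφ in
theorem isPseudoCoherent_negOne_selfObj_iff :
    DRing.IsPseudoCoherent P (-1) (selfObj φ) ↔ (RingHom.ker φ).FG := by
  letI : Algebra P A := φ.toAlgebra
  have h1 := (Groth.Agent.S6935.result P A).2
  change DRing.IsPseudoCoherentModule P (-1) A ↔ _
  rw [h1]
  have hsurj : Function.Surjective (Algebra.linearMap P A) := hφ
  have hker : LinearMap.ker (Algebra.linearMap P A) = (RingHom.ker φ).restrictScalars P := by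
    ext x
    rfl
  constructor
  · intro h
    have := Module.FinitePresentation.fg_ker (Algebra.linearMap P A) hsurj
    rw [hker] at this
    exact this
  · intro h
    refine Module.finitePresentation_of_surjective (Algebra.linearMap P A) hsurj ?_
    rw [hker]
    exact h

end Ring


section Chart

open Groth.Agent.Lib.Helper15.PseudoCoh

variable {X Y : Scheme.{u}} (f : X ⟶ Y) {U : X.Opens} (hU : IsAffineOpen U) (V : Y.Opens)
  (h : U ≤ f ⁻¹ᵁ V) {n : ℕ} (φ : MvPolynomial (Fin n) Γ(Y, V) →+* Γ(X, U))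

theorem ker_fg_iff_finitePresentation_appLE (hc : DerSch.IsChart f U V h φ) :
    (RingHom.ker φ).FG ↔ (f.appLE V U h).hom.FinitePresentation := by
  letI : Algebra Γ(Y, V) Γ(X, U) := (f.appLE V U h).hom.toAlgebra
  let ψ : MvPolynomial (Fin n) Γ(Y, V) →ₐ[Γ(Y, V)] Γ(X, U) :=
    { φ with commutes' := fun r => congr($(hc.2) r) }
  have hψ : Function.Surjective ψ := hc.1
  constructor
  · intro hk
    exact Algebra.FinitePresentation.of_surjective (f := ψ) hψ hk
  · intro hfp
    haveI : Algebra.FinitePresentation Γ(Y, V) Γ(X, U) := hfp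
    exact Algebra.FinitePresentation.ker_fG_of_surjective ψ hψ

theorem chartPC_of_iso {m : ℤ} {K K' : DCoh.D X} (e : K ≅ K')
    (hK : DerSch.ChartPC m K U V φ) : DerSch.ChartPC m K' U V φ :=
  fun G ⟨e'⟩ => hK G ⟨e' ≪≫ e.symm⟩

/-- sections of the structure module -/
noncomputable def unitSecIso :
    ModuleCat.of Γ(X, U) Γ(Coh.structureModule X, U) ≅ ModuleCat.of Γ(X, U) Γ(X, U) :=
  Iso.refl _

include hU in
/-- the chart test for the structure sheaf -/
theorem chartPC_unit_iff (hφ : Function.Surjective φ) (m : ℤ) :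
    DerSch.ChartPC m (DCoh.toD X (DerSch.unitCx X)) U V φ ↔
      DRing.IsPseudoCoherent (MvPolynomial (Fin n) Γ(Y, V)) m (selfObj φ) := by
  have e : DCoh.toD X (DerSch.unitCx X) ≅
      (DerivedCategory.singleFunctor X.Modules 0).obj (Coh.structureModule X) :=
    ((DerivedCategory.singleFunctorIsoCompQ X.Modules 0).app _).symm
  haveI : (Coh.structureModule X).IsQuasicoherent := by
    have h : (SheafOfModules.free (R := X.ringCatSheaf) PUnit.{u+1}).IsQuasicoherent :=
      inferInstance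
    exact ObjectProperty.prop_of_iso (SheafOfModules.isQuasicoherent X.ringCatSheaf)
      (coproductUniqueIso (fun _ : PUnit.{u+1} => SheafOfModules.unit X.ringCatSheaf)) h
  have h1 := chartPC_single_iff hU V φ hφ (Coh.structureModule X) m 0
  have e2 : (DerivedCategory.singleFunctor (ModuleCat.{u} (MvPolynomial (Fin n) Γ(Y, V))) 0).obj
      ((ModuleCat.restrictScalars φ).obj
        (ModuleCat.of Γ(X, U) Γ(Coh.structureModule X, U))) ≅ selfObj φ :=
    (DerivedCategory.singleFunctor _ 0).mapIso ((ModuleCat.restrictScalars φ).mapIso unitSecIso)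
  constructor
  · intro hK
    exact of_iso e2 (h1.1 (chartPC_of_iso V φ e hK))
  · intro hK
    exact chartPC_of_iso V φ e.symm (h1.2 (of_iso e2.symm hK))

end Chart


section Covers

variable {X Y : Scheme.{u}} (f : X ⟶ Y)

theorem iSup_univ_affineOpens :
    (⨆ V ∈ (Set.univ : Set Y.affineOpens), (V : Y.Opens)) = ⊤ := by
  rw [iSup_univ]
  exact iSup_affineOpens_eq_top Y

theorem iSup_affineOpens_le_preimage (V : Y.Opens) :
    (⨆ U ∈ {U : X.affineOpens | (U : X.Opens) ≤ f ⁻¹ᵁ V}, (U : X.Opens)) = f ⁻¹ᵁ V := by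
  apply le_antisymm
  · exact iSup₂_le fun U hU => hU
  · intro x hx
    obtain ⟨_, ⟨U, hU, rfl⟩, hxU, hUV⟩ :=
      X.isBasis_affineOpens.exists_subset_of_mem_open (show x ∈ (f ⁻¹ᵁ V : Set X) from hx)
        (f ⁻¹ᵁ V).isOpen
    exact TopologicalSpace.Opens.mem_iSup.2 ⟨⟨U, hU⟩, TopologicalSpace.Opens.mem_iSup.2 ⟨hUV, hxU⟩⟩

/-- charts exist on affine opens of a morphism locally of finite type -/
theorem exists_isChart [LocallyOfFiniteType f] {U : X.Opens} (hU : IsAffineOpen U) {V : Y.Opens}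
    (hV : IsAffineOpen V) (h : U ≤ f ⁻¹ᵁ V) :
    ∃ (n : ℕ) (φ : MvPolynomial (Fin n) Γ(Y, V) →+* Γ(X, U)), DerSch.IsChart f U V h φ := by
  letI : Algebra Γ(Y, V) Γ(X, U) := (f.appLE V U h).hom.toAlgebra
  haveI : Algebra.FiniteType Γ(Y, V) Γ(X, U) := f.finiteType_appLE hV hU h
  obtain ⟨n, ψ, hψ⟩ := (Algebra.FiniteType.iff_quotient_mvPolynomial'' (R := Γ(Y, V))
    (S := Γ(X, U))).1 inferInstance
  exact ⟨n, ψ.toRingHom, hψ, RingHom.ext fun r => ψ.commutes r⟩

/-- extracting a chart at a point from the covers of `IsPseudoCoherentRel` -/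
theorem exists_chart_of_isPseudoCoherentRel {m : ℤ} {K : DCoh.D X}
    (hK : DerSch.IsPseudoCoherentRel f m K) (x : X) :
    ∃ (V : Y.affineOpens) (U : X.affineOpens) (_ : x ∈ (U : X.Opens))
      (h : (U : X.Opens) ≤ f ⁻¹ᵁ (V : Y.Opens)) (n : ℕ)
      (φ : MvPolynomial (Fin n) Γ(Y, (V : Y.Opens)) →+* Γ(X, (U : X.Opens))),
      DerSch.IsChart f (U : X.Opens) (V : Y.Opens) h φ ∧
        DerSch.ChartPC m K (U : X.Opens) (V : Y.Opens) φ := by
  obtain ⟨-, 𝒱, h𝒱, H⟩ := hK
  have hx : f.base x ∈ (⨆ V ∈ 𝒱, (V : Y.Opens)) := by rw [h𝒱]; trivial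
  obtain ⟨V, hx⟩ := TopologicalSpace.Opens.mem_iSup.1 hx
  obtain ⟨hV, hx⟩ := TopologicalSpace.Opens.mem_iSup.1 hx
  obtain ⟨𝒰, h𝒰, H'⟩ := H V hV
  have hx' : x ∈ (⨆ U ∈ 𝒰, (U : X.Opens)) := by rw [h𝒰]; exact hx
  obtain ⟨U, hx'⟩ := TopologicalSpace.Opens.mem_iSup.1 hx'
  obtain ⟨hU, hx'⟩ := TopologicalSpace.Opens.mem_iSup.1 hx'
  have hle : (U : X.Opens) ≤ f ⁻¹ᵁ (V : Y.Opens) := by
    rw [← h𝒰]; exact le_iSup₂ (f := fun (U : X.affineOpens) _ => (U : X.Opens)) U hU
  obtain ⟨n, φ, hc, hpc⟩ := H' U hU hle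
  exact ⟨V, U, hx', hle, n, φ, hc, hpc⟩

end Covers

end Groth.Agent.Lib.Helper15.ChartUnit
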