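import Groth.Agent.Lib.Helper15.DCohLocal
import Groth.Agent.Lib.Helper62.K0Derived
import Groth.Agent.Lib.Helper84.Devissage
import Groth.Agent.Lib.Helper21.CohSupport
import Groth.Agent.Lib.Helper21.QuotIdeal
import Groth.Agent.Lib.Helper21.K0Dev
import Groth.Agent.Lib.Helper2.DCohPerf

/-!
# Coherent modules with support in a fixed subset: weak Serre class, and comparison of
`D^b` with cohomology in that class with perfect complexes (helper15)
-/

set_option autoImplicit false
set_option linter.style.haveILetI false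
universe u

open CategoryTheory CategoryTheory.Limits AlgebraicGeometry
open scoped ZeroObject
attribute [local instance] HasDerivedCategory.standard

namespace Groth.Agent.Lib.Helper15.CohSuppK0

open Groth.Agent.Lib.Lead.CohAff Groth.Agent.Lib.Helper21.QCohSections
  Groth.Agent.Lib.Helper21.Devissage Groth.Agent.Lib.Helper21.CohSupport
  Groth.Agent.Lib.Helper21.QuotIdeal Groth.Agent.Lib.Helper21.K0Dev
  Groth.Agent.Lib.Helper15.DCohLocal

variable {X : Scheme.{u}}

/-- coherent with support in `Y'` -/
abbrev CohSupp (X : Scheme.{u}) (Y' : Set X) : ObjectProperty X.Modules :=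
  fun G : X.Modules => Coh.IsCoh G ∧ CohB1.support G ⊆ Y'

theorem support_kernel_subset {A B : X.Modules} (f : A ⟶ B) :
    CohB1.support (kernel f) ⊆ CohB1.support A := by
  have h := support_shortExact _ (shortExact_mono_cokernel (kernel.ι f))
  intro x hx
  have : x ∈ CohB1.support (kernel f) ∪ CohB1.support (cokernel (kernel.ι f)) := Or.inl hx
  rw [← h] at this
  exact this

theorem support_cokernel_subset {A B : X.Modules} (f : A ⟶ B) :
    CohB1.support (cokernel f) ⊆ CohB1.support B := by
  have h := support_shortExact _ (shortExact_kernel_epi (cokernel.π f))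
  intro x hx
  have : x ∈ CohB1.support (kernel (cokernel.π f)) ∪ CohB1.support (cokernel f) := Or.inr hx
  rw [← h] at this
  exact this

theorem support_subset_of_iso {A B : X.Modules} (e : A ≅ B) :
    CohB1.support A ⊆ CohB1.support B := by
  haveI : Epi (0 : B ⟶ (0 : X.Modules)) := ⟨fun g h _ => (isZero_zero _).eq_of_src g h⟩
  have hS : (ShortComplex.mk e.hom (0 : B ⟶ (0 : X.Modules)) (by simp)).ShortExact :=
    ShortComplex.ShortExact.mk' ((ShortComplex.exact_iff_epi _ rfl).2 (inferInstance : Epi e.hom))
      (inferInstance : Mono e.hom) (inferInstance : Epi (0 : B ⟶ (0 : X.Modules)))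
  have h := support_shortExact _ hS
  intro x hx
  have : x ∈ CohB1.support A ∪ CohB1.support (0 : X.Modules) := Or.inl hx
  rw [← h] at this
  exact this

instance instWSerre [IsLocallyNoetherian X] (Y' : Set X) : WSerre.IsWeakSerre (CohSupp X Y') where
  exists_zero := ⟨0, isZero_zero _, isCoh_of_isZero (isZero_zero _),
    support_subset_of_isZero (isZero_zero _) Y'⟩
  kernels_le := by
    rintro _ ⟨f, k, hk, hf⟩
    have e : k.pt ≅ kernel f := IsLimit.conePointUniqueUpToIso hk (limit.isLimit _)
    exact ⟨isCoh_of_iso e.symm (isCoh_kernel f hf.1.1 hf.2.1),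
      (support_subset_of_iso e).trans ((support_kernel_subset f).trans hf.1.2)⟩
  cokernels_le := by
    rintro _ ⟨f, k, hk, hf⟩
    have e : k.pt ≅ cokernel f := IsColimit.coconePointUniqueUpToIso hk (colimit.isColimit _)
    exact ⟨isCoh_of_iso e.symm (isCoh_cokernel f hf.1.1 hf.2.1),
      (support_subset_of_iso e).trans ((support_cokernel_subset f).trans hf.2.2)⟩
  prop_X₂_of_shortExact {S} hS h₁ h₃ :=
    ⟨Groth.Agent.Lib.Helper15.CohWSerre.isCoh_of_shortExact _ hS h₁.1 h₃.1, by
      rw [support_shortExact S hS]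
      exact Set.union_subset h₁.2 h₃.2⟩

open Groth.Agent.Lib.Helper2.DCohPerf Groth.Agent.Lib.Helper84 Groth.Agent.Lib.Helper62 DerivedCategory

/-- perfectness as an object property of `D(O_X)` -/
def perfProp (X : Scheme.{u}) : ObjectProperty (DCoh.D X) := fun K => DCoh.IsPerfect K

instance : (perfProp X).IsClosedUnderIsomorphisms := ⟨fun e h => isPerfect_of_iso e h⟩

/-- bounded complexes with cohomology in `CohSupp X Y'` are perfect, if all such sheaves are -/
theorem isPerfect_of_qP [IsLocallyNoetherian X] (Y' : Set X)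
    (hperf : ∀ G : X.Modules, Coh.IsCoh G → CohB1.support G ⊆ Y' →
      DCoh.IsPerfect (DCoh.inD X G))
    (K : DCoh.D X) (hK : K0D.QP (CohSupp X Y') K) : DCoh.IsPerfect K := by
  obtain ⟨hP, a, b, ha, hb⟩ := hK
  have hz : ∀ K : DCoh.D X, IsZero K → perfProp X K := by
    intro K hK
    have h0 := hperf 0 (isCoh_of_isZero (isZero_zero _))
      (support_subset_of_isZero (isZero_zero _) Y')
    exact isPerfect_of_iso ((Functor.map_isZero _ (isZero_zero _)).iso hK) h0
  refine Devissage.prop_of_bounded_homology (perfProp X) hz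
    (fun T hT h1 h3 => isPerfect_obj₂ T hT h1 h3) K a b ?_ ?_
  · rintro i (hi | hi)
    · exact K.isZero_of_isGE a i hi
    · exact K.isZero_of_isLE b i hi
  · intro i
    have h := hperf _ (hP i).1 (hP i).2
    exact isPerfect_of_iso (((singleFunctors X.Modules).shiftIso (-i) i 0 (by lia)).app _)
      (isPerfect_shift h (-i))

/-- perfect complexes on a Noetherian scheme with cohomology supported in `Y'` are bounded with
cohomology in `CohSupp X Y'` -/
theorem qP_of_isPerfect [IsNoetherian X] (Y' : Set X) (K : DCoh.D X) (hK : DCoh.IsPerfect K)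
    (hsupp : ∀ i : ℤ, CohB1.support (DCoh.HD K i) ⊆ Y') : K0D.QP (CohSupp X Y') K := by
  haveI : IsLocallyNoetherian X := inferInstance
  haveI : CompactSpace X := inferInstance
  obtain ⟨a, b, hab⟩ := exists_bounds_of_isPerfect K hK
  refine ⟨fun i => ⟨isCoh_HD_of_isPerfect K hK i, hsupp i⟩, a, b, ?_, ?_⟩
  · change K.IsGE a
    rw [isGE_iff]
    exact fun i hi => hab i (Or.inl hi)
  · change K.IsLE b
    rw [isLE_iff]
    exact fun i hi => hab i (Or.inr hi)

theorem qP_eq [IsNoetherian X] (Y' : Set X)
    (hperf : ∀ G : X.Modules, Coh.IsCoh G → CohB1.support G ⊆ Y' →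
      DCoh.IsPerfect (DCoh.inD X G)) :
    (fun K : DCoh.D X => DCoh.IsPerfect K ∧ ∀ i : ℤ, CohB1.support (DCoh.HD K i) ⊆ Y') =
      K0D.QP (CohSupp X Y') := by
  haveI : IsLocallyNoetherian X := inferInstance
  funext K
  apply propext
  constructor
  · rintro ⟨h1, h2⟩
    exact qP_of_isPerfect Y' K h1 h2
  · intro h
    exact ⟨isPerfect_of_qP Y' hperf K h, fun i => (h.1 i).2⟩

end Groth.Agent.Lib.Helper15.CohSuppK0
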