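import Mathlib.RingTheory.AdicCompletion.Basic
import Mathlib.RingTheory.ReesAlgebra
import Mathlib.RingTheory.Polynomial.Basic
import Mathlib.RingTheory.FiniteType

/-!
# A ring complete for a finitely generated ideal with Noetherian quotient is Noetherian (helper15)
-/

set_option autoImplicit false
universe u

open Polynomial

namespace Groth.Agent.Lib.Helper15.CompleteNoeth

variable {A : Type u} [CommRing A] (I : Ideal A)

theorem smodEq_iff {n : ℕ} {x y : A} :
    x ≡ y [SMOD (I ^ n • ⊤ : Submodule A A)] ↔ x - y ∈ I ^ n := by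
  rw [SModEq.sub_mem, smul_eq_mul, Ideal.mul_top]

theorem eq_of_forall_sub_mem [IsHausdorff I A] {x y : A} (h : ∀ n, x - y ∈ I ^ n) : x = y := by
  rw [← sub_eq_zero]
  apply IsHausdorff.haus ‹_›
  intro n
  rw [smodEq_iff]
  simpa using h n

theorem exists_limit [IsPrecomplete I A] (f : ℕ → A) (h : ∀ m n, m ≤ n → f n - f m ∈ I ^ m) :
    ∃ L : A, ∀ n, f n - L ∈ I ^ n := by
  obtain ⟨L, hL⟩ := IsPrecomplete.prec ‹_› (f := f) (fun {m n} hmn => by
    rw [smodEq_iff]
    have := h m n hmn
    rw [← neg_sub]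
    exact (I ^ m).neg_mem this)
  exact ⟨L, fun n => (smodEq_iff I).mp (hL n)⟩

theorem span_eq_of_approx [IsHausdorff I A] [IsPrecomplete I A] (J : Ideal A) {ι : Type*}
    [Fintype ι] (g : ι → A) (hg : ∀ i, g i ∈ J) (D : ℕ)
    (hap : ∀ n, ∀ x ∈ J, x ∈ I ^ n →
      ∃ c : ι → A, (∀ i, c i ∈ I ^ (n - D)) ∧ x - ∑ i, c i * g i ∈ I ^ (n + 1)) :
    J = Ideal.span (Set.range g) := by
  classical
  apply le_antisymm
  swap
  · rw [Ideal.span_le]
    rintro _ ⟨i, rfl⟩
    exact hg i
  intro x hx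
  have hstep : ∀ n, ∀ y : {y : A // y ∈ J ∧ y ∈ I ^ n},
      ∃ c : ι → A, (∀ i, c i ∈ I ^ (n - D)) ∧ y.1 - ∑ i, c i * g i ∈ I ^ (n + 1) :=
    fun n y => hap n y.1 y.2.1 y.2.2
  let next : ∀ n, {y : A // y ∈ J ∧ y ∈ I ^ n} → {y : A // y ∈ J ∧ y ∈ I ^ (n + 1)} :=
    fun n y => ⟨y.1 - ∑ i, (Classical.choose (hstep n y)) i * g i,
      J.sub_mem y.2.1 (J.sum_mem fun i _ => J.mul_mem_left _ (hg i)),
      (Classical.choose_spec (hstep n y)).2⟩
  let seq : ∀ n, {y : A // y ∈ J ∧ y ∈ I ^ n} := fun n =>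
    Nat.rec (motive := fun n => {y : A // y ∈ J ∧ y ∈ I ^ n}) ⟨x, hx, by simp⟩ (fun n y => next n y) n
  let c : ℕ → ι → A := fun n => Classical.choose (hstep n (seq n))
  have hc : ∀ n i, c n i ∈ I ^ (n - D) := fun n => (Classical.choose_spec (hstep n (seq n))).1
  have hseq : ∀ n, (seq (n + 1)).1 = (seq n).1 - ∑ i, c n i * g i := fun n => rfl
  let s : ℕ → ι → A := fun N i => ∑ m ∈ Finset.range N, c m i
  have htel : ∀ N, x - ∑ i, s N i * g i = (seq N).1 := by
    intro N
    induction N with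
    | zero => simp [s, seq]
    | succ N ih =>
      rw [hseq, ← ih]
      simp only [s, Finset.sum_range_succ, add_mul, Finset.sum_add_distrib]
      ring
  have hs : ∀ i M N, M ≤ N → s N i - s M i ∈ I ^ (M - D) := by
    intro i M N hMN
    induction N, hMN using Nat.le_induction with
    | base => simp
    | succ N hMN ih =>
      have : s (N + 1) i - s M i = (s N i - s M i) + c N i := by
        simp only [s, Finset.sum_range_succ]
        ring
      rw [this]
      exact (I ^ (M - D)).add_mem ih (Ideal.pow_le_pow_right (by lia) (hc N i))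
  have hL : ∀ i, ∃ L : A, ∀ n, s (n + D) i - L ∈ I ^ n := by
    intro i
    refine exists_limit I (fun n => s (n + D) i) (fun m n hmn => ?_)
    have := hs i (m + D) (n + D) (by lia)
    simpa using this
  choose L hLs using hL
  have hx' : x = ∑ i, L i * g i := by
    apply eq_of_forall_sub_mem I
    intro n
    have e : x - ∑ i, L i * g i =
        (seq (n + D)).1 + ∑ i, (s (n + D) i - L i) * g i := by
      rw [← htel]
      simp only [sub_mul, Finset.sum_sub_distrib]
      ring
    rw [e]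
    refine (I ^ n).add_mem (Ideal.pow_le_pow_right (by lia) (seq (n + D)).2.2)
      ((I ^ n).sum_mem fun i _ => Ideal.mul_mem_right _ _ (hLs i n))
  rw [hx']
  exact Ideal.sum_mem _ fun i _ => Ideal.mul_mem_left _ _ (Ideal.subset_span ⟨i, rfl⟩)

abbrev Gr : Type _ := reesAlgebra I ⧸ (I.map (algebraMap A (reesAlgebra I)))

theorem isNoetherianRing_gr (hI : I.FG) [IsNoetherianRing (A ⧸ I)] : IsNoetherianRing (Gr I) := by
  have hfg : (reesAlgebra I).FG := reesAlgebra.fg hI
  haveI : Algebra.FiniteType A (reesAlgebra I) := ⟨(reesAlgebra I).fg_top.mpr hfg⟩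
  obtain ⟨n, f, hf⟩ := Algebra.FiniteType.iff_quotient_mvPolynomial''.mp
    (inferInstance : Algebra.FiniteType A (reesAlgebra I))
  let K := I.map (algebraMap A (reesAlgebra I))
  let π : reesAlgebra I →+* Gr I := Ideal.Quotient.mk K
  let φ₀ : A ⧸ I →+* Gr I := Ideal.Quotient.lift I (π.comp (algebraMap A _)) (fun a ha => by
    show π (algebraMap A _ a) = 0
    exact Ideal.Quotient.eq_zero_iff_mem.mpr (Ideal.mem_map_of_mem _ ha))
  let ψ : MvPolynomial (Fin n) (A ⧸ I) →+* Gr I :=
    MvPolynomial.eval₂Hom φ₀ (fun i => π (f (MvPolynomial.X i)))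
  have hcomp : ψ.comp (MvPolynomial.map (Ideal.Quotient.mk I)) = π.comp f.toRingHom := by
    apply MvPolynomial.ringHom_ext
    · intro a
      simp [ψ, φ₀]
    · intro i
      simp [ψ]
  have hsurj : Function.Surjective ψ := by
    intro y
    obtain ⟨r, rfl⟩ := Ideal.Quotient.mk_surjective y
    obtain ⟨q, rfl⟩ := hf r
    refine ⟨MvPolynomial.map (Ideal.Quotient.mk I) q, ?_⟩
    have := RingHom.congr_fun hcomp q
    simpa using this
  exact isNoetherianRing_of_surjective _ _ ψ hsurj

def coeffIdeal (J : Ideal A) : Ideal (reesAlgebra I) where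
  carrier := {p | ∀ n, (p : A[X]).coeff n ∈ J}
  add_mem' := fun {p q} hp hq n => by
    show ((p + q : reesAlgebra I) : A[X]).coeff n ∈ J
    rw [Subalgebra.coe_add, Polynomial.coeff_add]
    exact J.add_mem (hp n) (hq n)
  zero_mem' := fun n => by
    show ((0 : reesAlgebra I) : A[X]).coeff n ∈ J
    simp
  smul_mem' := fun r p hp n => by
    show ((r * p : reesAlgebra I) : A[X]).coeff n ∈ J
    rw [Subalgebra.coe_mul, Polynomial.coeff_mul]
    exact J.sum_mem fun ij _ => J.mul_mem_left _ (hp _)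

theorem coeff_mem_of_mem_map (κ : reesAlgebra I)
    (hκ : κ ∈ I.map (algebraMap A (reesAlgebra I))) (n : ℕ) :
    (κ : A[X]).coeff n ∈ I ^ (n + 1) := by
  induction hκ using Submodule.span_induction generalizing n with
  | mem x hx =>
    obtain ⟨a, ha, rfl⟩ := hx
    show (algebraMap A A[X] a).coeff n ∈ I ^ (n + 1)
    rw [Polynomial.algebraMap_apply, Algebra.algebraMap_self, RingHom.id_apply, Polynomial.coeff_C]
    split_ifs with h
    · subst h
      simpa using ha
    · exact zero_mem _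
  | zero => simp
  | add x y _ _ hx hy =>
    rw [Subalgebra.coe_add, Polynomial.coeff_add]
    exact (I ^ (n + 1)).add_mem (hx n) (hy n)
  | smul r y _ hy =>
    show ((r * y : reesAlgebra I) : A[X]).coeff n ∈ I ^ (n + 1)
    rw [Subalgebra.coe_mul, Polynomial.coeff_mul]
    refine (I ^ (n + 1)).sum_mem fun ij hij => ?_
    have h1 : (r : A[X]).coeff ij.1 ∈ I ^ ij.1 := (mem_reesAlgebra_iff I _).mp r.2 ij.1
    have h2 := hy ij.2
    have h3 : ij.1 + (ij.2 + 1) = n + 1 := by
      have := Finset.mem_antidiagonal.mp hij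
      lia
    rw [← h3, pow_add]
    exact Ideal.mul_mem_mul h1 h2

theorem exists_approx_family (hI : I.FG) [IsNoetherianRing (A ⧸ I)] (J : Ideal A) :
    ∃ (ι : Type u) (_ : Fintype ι) (g : ι → A) (D : ℕ), (∀ i, g i ∈ J) ∧
      ∀ n, ∀ x ∈ J, x ∈ I ^ n →
        ∃ c : ι → A, (∀ i, c i ∈ I ^ (n - D)) ∧ x - ∑ i, c i * g i ∈ I ^ (n + 1) := by
  classical
  haveI := isNoetherianRing_gr I hI
  let K := I.map (algebraMap A (reesAlgebra I))
  let π : reesAlgebra I →+* Gr I := Ideal.Quotient.mk K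
  have hπ : Function.Surjective π := Ideal.Quotient.mk_surjective
  let 𝔍 := coeffIdeal I J
  obtain ⟨S, hS⟩ : (𝔍.map π).FG := IsNoetherian.noetherian _
  have hlift : ∀ s : Gr I, ∃ q : reesAlgebra I, s ∈ S → (q ∈ 𝔍 ∧ π q = s) := by
    intro s
    by_cases hs : s ∈ S
    · have : s ∈ 𝔍.map π := by
        rw [← hS]
        exact Submodule.subset_span hs
      obtain ⟨q, hq, rfl⟩ := (Ideal.mem_map_iff_of_surjective π hπ).mp this
      exact ⟨q, fun _ => ⟨hq, rfl⟩⟩
    · exact ⟨0, fun h => absurd h hs⟩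
  choose lift hlift' using hlift
  let Q : Finset (reesAlgebra I) := S.image lift
  have hQ𝔍 : ∀ q ∈ Q, q ∈ 𝔍 := by
    intro q hq
    obtain ⟨s, hs, rfl⟩ := Finset.mem_image.mp hq
    exact (hlift' s hs).1
  have hcover : ∀ p ∈ 𝔍, ∃ p' ∈ Ideal.span (Q : Set (reesAlgebra I)), p - p' ∈ K := by
    intro p hp
    have h1 : π p ∈ (Ideal.span (Q : Set (reesAlgebra I))).map π := by
      rw [Ideal.map_span]
      have h2 : π p ∈ Ideal.span (S : Set (Gr I)) := by
        have : π p ∈ 𝔍.map π := Ideal.mem_map_of_mem π hp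
        rw [← hS] at this
        exact this
      refine Ideal.span_mono ?_ h2
      intro s hs
      refine ⟨lift s, ?_, (hlift' s hs).2⟩
      exact Finset.mem_coe.mpr (Finset.mem_image_of_mem lift hs)
    obtain ⟨p', hp', e⟩ := (Ideal.mem_map_iff_of_surjective π hπ).mp h1
    refine ⟨p', hp', ?_⟩
    rw [← Ideal.Quotient.eq]
    exact e.symm
  let D : ℕ := Q.sup fun q => (q : A[X]).natDegree
  refine ⟨{q // q ∈ Q} × Fin (D + 1), inferInstance,
    fun i => (i.1.1 : A[X]).coeff i.2, D, fun i => hQ𝔍 i.1.1 i.1.2 _, ?_⟩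
  intro n x hxJ hxI
  let p : reesAlgebra I := ⟨monomial n x, reesAlgebra.monomial_mem.mpr hxI⟩
  have hp : p ∈ 𝔍 := by
    intro m
    show (monomial n x).coeff m ∈ J
    rw [Polynomial.coeff_monomial]
    split_ifs
    · exact hxJ
    · exact zero_mem _
  obtain ⟨p', hp', hκ⟩ := hcover p hp
  obtain ⟨r, -, hr⟩ := Submodule.mem_span_finset.mp hp'
  have hcoef : x = (∑ q ∈ Q, ((r q * q : reesAlgebra I) : A[X]).coeff n) +
      ((p - p' : reesAlgebra I) : A[X]).coeff n := by
    have e1 : (p : A[X]).coeff n = x := by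
      show (monomial n x).coeff n = x
      simp
    have e2 : (p' : A[X]) = ∑ q ∈ Q, ((r q * q : reesAlgebra I) : A[X]) := by
      rw [← hr]
      simp [smul_eq_mul]
    rw [Subalgebra.coe_sub, Polynomial.coeff_sub, e1, e2, Polynomial.finsetSum_coeff]
    ring
  have hterm : ∀ q ∈ Q, ((r q * q : reesAlgebra I) : A[X]).coeff n =
      ∑ k : Fin (D + 1), (if (k : ℕ) ≤ n then (r q : A[X]).coeff (n - k) else 0) *
        (q : A[X]).coeff k := by
    intro q hq
    have hdeg : ∀ k, D < k → (q : A[X]).coeff k = 0 := fun k hk =>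
      Polynomial.coeff_eq_zero_of_natDegree_lt
        (lt_of_le_of_lt (Finset.le_sup (f := fun q : reesAlgebra I => (q : A[X]).natDegree) hq) hk)
    rw [Subalgebra.coe_mul, mul_comm, Polynomial.coeff_mul,
      Finset.Nat.sum_antidiagonal_eq_sum_range_succ_mk]
    set F : ℕ → A := fun k => (if k ≤ n then (r q : A[X]).coeff (n - k) else 0) *
      (q : A[X]).coeff k with hF
    have h1 : ∑ k ∈ Finset.range (n + 1), (q : A[X]).coeff k * (r q : A[X]).coeff (n - k) =
        ∑ k ∈ Finset.range (n + 1), F k := by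
      refine Finset.sum_congr rfl fun k hk => ?_
      have : k ≤ n := Nat.lt_succ_iff.mp (Finset.mem_range.mp hk)
      simp only [hF, this, if_true]
      ring
    have h2 : ∑ k ∈ Finset.range (n + 1), F k = ∑ k ∈ Finset.range (max n D + 1), F k := by
      refine Finset.sum_subset (Finset.range_mono (by lia)) fun k _ hk => ?_
      have : ¬ k ≤ n := by
        intro h
        exact hk (Finset.mem_range.mpr (by lia))
      simp only [hF, this, if_false, zero_mul]
    have h3 : ∑ k ∈ Finset.range (D + 1), F k = ∑ k ∈ Finset.range (max n D + 1), F k := by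
      refine Finset.sum_subset (Finset.range_mono (by lia)) fun k _ hk => ?_
      have : D < k := by
        by_contra h
        exact hk (Finset.mem_range.mpr (by lia))
      simp only [hF, hdeg k this, mul_zero]
    rw [h1, h2, ← h3, Finset.sum_range]
  refine ⟨fun i => if (i.2 : ℕ) ≤ n then (r i.1.1 : A[X]).coeff (n - i.2) else 0, ?_, ?_⟩
  · intro i
    dsimp only
    split_ifs with h
    · have h1 : (r i.1.1 : A[X]).coeff (n - i.2) ∈ I ^ (n - i.2) :=
        (mem_reesAlgebra_iff I _).mp (r i.1.1).2 _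
      refine Ideal.pow_le_pow_right ?_ h1
      have := i.2.2
      lia
    · exact zero_mem _
  · have e : ∑ i : {q // q ∈ Q} × Fin (D + 1),
        (if (i.2 : ℕ) ≤ n then (r i.1.1 : A[X]).coeff (n - i.2) else 0) *
          (i.1.1 : A[X]).coeff i.2 = ∑ q ∈ Q, ((r q * q : reesAlgebra I) : A[X]).coeff n := by
      rw [Fintype.sum_prod_type, ← Finset.sum_coe_sort Q]
      refine Finset.sum_congr rfl fun q _ => ?_
      rw [hterm q.1 q.2]
    rw [e]
    have : x - ∑ q ∈ Q, ((r q * q : reesAlgebra I) : A[X]).coeff n =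
        ((p - p' : reesAlgebra I) : A[X]).coeff n := by
      rw [sub_eq_iff_eq_add']
      exact hcoef
    rw [this]
    exact coeff_mem_of_mem_map I _ hκ n

theorem isNoetherianRing_of_isAdicComplete (hI : I.FG) [IsNoetherianRing (A ⧸ I)]
    [IsHausdorff I A] [IsPrecomplete I A] : IsNoetherianRing A := by
  classical
  rw [isNoetherianRing_iff_ideal_fg]
  intro J
  obtain ⟨ι, _, g, D, hg, hap⟩ := exists_approx_family I hI J
  rw [span_eq_of_approx I J g hg D hap]
  exact ⟨Finset.univ.image g, by simp⟩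

end Groth.Agent.Lib.Helper15.CompleteNoeth
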