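import Groth.Agent.Lib.Helper15.PseudoCohTensor
import Groth.Agent.Lib.Helper15.BCSquare
import Groth.Agent.Lib.Helper15.LBCKFlat
import Groth.Agent.Lib.Helper43.FreeRes

/-!
# Relative pseudo-coherence and derived base change (helper15)

* `extRestrictTensorIso φ : extendScalars φ ⋙ restrictScalars φ ≅ tensorLeft (B as A-module)`.
* `pc_restrict_LBaseChange` (Step 2): for `μ : Q₀ → A`, `φ : A → B` with `B` a pseudo-coherent
  `A`-module and `L ∈ D(A)` with `res_μ L` `m`-pseudo-coherent, `res_μ res_φ (L ⊗^L_A B)` is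
  `m`-pseudo-coherent.
-/

set_option autoImplicit false
universe u

open CategoryTheory CategoryTheory.Limits CategoryTheory.Pretriangulated DerivedCategory
  MonoidalCategory TensorProduct

attribute [local instance] HasDerivedCategory.standard

namespace Groth.Agent.Lib.Helper15.PseudoCohBC

open DRing Groth.Agent.Lib.Helper84 Groth.Agent.Lib.Helper15.MQI
  Groth.Agent.Lib.Helper15.PseudoCoh Groth.Agent.Lib.Helper15.PseudoCohRes Groth.Agent.Lib.Helper43
  Groth.Agent.Lib.Helper15.PseudoCohTensor Groth.Agent.Lib.Helper15.PseudoCohFinite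

variable {A B : Type u} [CommRing A] [CommRing B] (φ : A →+* B)

section Lin

/-- `B` as an `A`-module through `restrictScalars` -/
abbrev rB : Type u := ((ModuleCat.restrictScalars.{u} φ).obj (ModuleCat.of B B))

instance smulCommClass_rB : SMulCommClass A B (rB φ) :=
  ⟨fun p q x => by
    change φ p * (q * (show B from x)) = q * (φ p * (show B from x))
    ring⟩

variable (X : Type u) [AddCommGroup X] [Module A X]

lemma smul_eq (a : A) (t : rB φ ⊗[A] X) : (φ a) • t = a • t := by
  induction t using TensorProduct.induction_on with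
  | zero => simp
  | tmul n x =>
    rw [TensorProduct.smul_tmul', TensorProduct.smul_tmul']
    rfl
  | add x y hx hy => simp only [smul_add, hx, hy]

end Lin

/-- the `A`-linear identification `res (B ⊗_A X) = (B as A-module) ⊗_A X` -/
noncomputable def linEquiv (X : ModuleCat.{u} A) :
    ((ModuleCat.restrictScalars.{u} φ).obj ((ModuleCat.extendScalars.{u, u, u} φ).obj X)) ≃ₗ[A]
      (((ModuleCat.restrictScalars.{u} φ).obj (ModuleCat.of B B)) ⊗ X : ModuleCat.{u} A) :=
  { AddEquiv.refl (rB φ ⊗[A] X) with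
    map_smul' := fun a t => smul_eq φ X a t }

/-- `extendScalars φ ⋙ restrictScalars φ ≅ (B ⊗_A -)` -/
noncomputable def extRestrictTensorIso :
    ModuleCat.extendScalars.{u, u, u} φ ⋙ ModuleCat.restrictScalars.{u} φ ≅
      tensorLeft ((ModuleCat.restrictScalars.{u} φ).obj (ModuleCat.of B B)) :=
  NatIso.ofComponents (fun X => (linEquiv φ X).toModuleIso) (by
    intro X Y g
    ext t
    rfl)

/-- **Step 2**: derived base change along a ring map with pseudo-coherent target preserves
`m`-pseudo-coherence over an auxiliary ring. -/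
theorem pc_restrict_LBaseChange {Q₀ : Type u} [CommRing Q₀] (μ : Q₀ →+* A)
    (hφ : ResPC φ (ModuleCat.of B B)) (m : ℤ) (L : Dual.D A)
    (h : IsPseudoCoherent Q₀ m ((restrictD μ).obj L)) :
    IsPseudoCoherent Q₀ m
      ((restrictD μ).obj ((restrictD φ).obj ((LBaseChange φ).obj L))) := by
  obtain ⟨n, hn⟩ := isLE_of_isPseudoCoherent h
  haveI hL : L.IsLE n := (isLE_restrictD_iff μ L n).1 hn
  obtain ⟨F, hF1, hF2, ⟨e⟩⟩ := FreeRes.exists_free_representative L n
    (fun i hi => isZero_of_isLE L n i hi)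
  have hfl : TermwiseFlat F := fun i => by
    haveI := hF2 i
    infer_instance
  have h' : IsPseudoCoherent Q₀ m ((restrictD μ).obj (toD F)) :=
    of_iso ((restrictD μ).mapIso e.symm) h
  have hN := (resPC_iff φ _).1 hφ
  have key := devissage hfl n m hF1 h' _ hN
  have e1 : (LBaseChange φ).obj L ≅ toD (LDerived.extCx φ F) :=
    (LBaseChange φ).mapIso e.symm ≪≫ LBCKFlat.lbcIsoOfFlat φ F n hF1 hfl
  have e2 : (restrictD φ).obj (toD (LDerived.extCx φ F)) ≅
      toD ((restrictCx φ).obj (LDerived.extCx φ F)) := restrictDQIso φ _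
  have e3 : (restrictCx φ).obj (LDerived.extCx φ F) ≅
      (tF F).obj ((ModuleCat.restrictScalars.{u} φ).obj (ModuleCat.of B B)) :=
    (Functor.mapHomologicalComplexCompIso (extRestrictTensorIso φ) (ComplexShape.up ℤ)).app F
  exact of_iso ((restrictD μ).mapIso
    (Q.mapIso e3.symm ≪≫ e2.symm ≪≫ (restrictD φ).mapIso e1.symm)) key

section Step1

variable (P P' A₀ A' : Type u) [CommRing P] [CommRing P'] [CommRing A₀] [CommRing A']
  [Algebra P A₀] [Algebra P P'] [Algebra A₀ A'] [Algebra P' A'] [Algebra P A']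
  [IsScalarTower P A₀ A'] [IsScalarTower P P' A'] [Algebra.IsPushout P P' A₀ A']
  [Module.Flat P P'] [Module.Flat A₀ A']

/-- **Step 1**: flat base change along a pushout square preserves `m`-pseudo-coherence of the
restriction. -/
theorem pc_restrict_LBaseChange_flat (m : ℤ) (K : Dual.D A₀)
    (h : IsPseudoCoherent P m ((restrictD (algebraMap P A₀)).obj K)) :
    IsPseudoCoherent P' m
      ((restrictD (algebraMap P' A')).obj ((LBaseChange (algebraMap A₀ A')).obj K)) := by
  haveI : PreservesFiniteLimits (FlatBC.ext (algebraMap P P')) :=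
    FlatBC.preservesFiniteLimits_ext _ (RingHom.flat_algebraMap_iff.2 inferInstance)
  haveI : PreservesFiniteLimits (FlatBC.ext (algebraMap A₀ A')) :=
    FlatBC.preservesFiniteLimits_ext _ (RingHom.flat_algebraMap_iff.2 inferInstance)
  have h1 := FlatBC.isPseudoCoherent_bc (algebraMap P P') m _ h
  have e : (restrictD (algebraMap P' A')).obj ((LBaseChange (algebraMap A₀ A')).obj K) ≅
      (FlatBC.bc (algebraMap P P')).obj ((restrictD (algebraMap P A₀)).obj K) :=
    (restrictD (algebraMap P' A')).mapIso ((LBCFlat.lbcFlatIso (algebraMap A₀ A')).app K) ≪≫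
      ((BCSquare.bcRestrictIso P P' A₀ A').app K).symm
  exact of_iso e.symm h1

end Step1

section Main

open DerCA Groth.Agent.Lib.Helper15.PseudoCohRel

attribute [local instance] MvPolynomial.algebraMvPolynomial

variable {R A₀ B₀ : Type u} [CommRing R] [CommRing A₀] [CommRing B₀] [Algebra R A₀] [Algebra A₀ B₀]
  [Algebra R B₀] [IsScalarTower R A₀ B₀]

/-- Stacks 15.81.13: if `B` is pseudo-coherent relative to `A`, derived base change `- ⊗^L_A B`
preserves relative `m`-pseudo-coherence over `R`. -/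
theorem rel_LBaseChange [Algebra.FiniteType R A₀] [Algebra.FiniteType A₀ B₀]
    (hB : IsRelPseudoCoherentModuleAll A₀ B₀ B₀) (K : Dual.D A₀) (m : ℤ)
    (h : IsRelPseudoCoherent R A₀ m K) :
    IsRelPseudoCoherent R B₀ m ((LBaseChange (algebraMap A₀ B₀)).obj K) := by
  obtain ⟨n, α, hα⟩ := exists_presentation R A₀
  obtain ⟨k, β', hβ'⟩ := exists_presentation A₀ B₀
  have hres : ResPC (β' : MvPolynomial (Fin k) A₀ →+* B₀) (ModuleCat.of B₀ B₀) := fun m' =>
    (isRel_iff_via β' hβ' m' _).1 (hB m')
  have hK : IsPseudoCoherent (MvPolynomial (Fin n) R) m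
      ((restrictD (α : MvPolynomial (Fin n) R →+* A₀)).obj K) := (isRel_iff_via α hα m K).1 h
  -- Step 1
  letI : Algebra (MvPolynomial (Fin n) R) A₀ := (α : MvPolynomial (Fin n) R →+* A₀).toAlgebra
  have hL := pc_restrict_LBaseChange_flat (MvPolynomial (Fin n) R)
    (MvPolynomial (Fin k) (MvPolynomial (Fin n) R)) A₀ (MvPolynomial (Fin k) A₀) m K hK
  -- Step 2
  have hX := pc_restrict_LBaseChange (β' : MvPolynomial (Fin k) A₀ →+* B₀)
    (algebraMap (MvPolynomial (Fin k) (MvPolynomial (Fin n) R)) (MvPolynomial (Fin k) A₀)) hres m _ hL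
  -- composition of base changes
  have hcomp : (β' : MvPolynomial (Fin k) A₀ →+* B₀).comp
      (algebraMap A₀ (MvPolynomial (Fin k) A₀)) = algebraMap A₀ B₀ := β'.comp_algebraMap
  have eX : (LBaseChange (β' : MvPolynomial (Fin k) A₀ →+* B₀)).obj
      ((LBaseChange (algebraMap A₀ (MvPolynomial (Fin k) A₀))).obj K) ≅
      (LBaseChange (algebraMap A₀ B₀)).obj K :=
    (LBCFlat.lbcComp _ _ ≪≫ LBCFlat.lbcOfEq hcomp).app K
  have hX' := of_iso ((restrictD _).mapIso ((restrictD _).mapIso eX)) hX
  -- the presentation of `B₀` over `R`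
  obtain ⟨σ, -⟩ : ∃ σ : MvPolynomial (Fin (k + n)) R ≃ₐ[R]
      MvPolynomial (Fin k) (MvPolynomial (Fin n) R),
    σ = (MvPolynomial.renameEquiv R finSumFinEquiv.symm).trans
      (MvPolynomial.sumAlgEquiv R (Fin k) (Fin n)) := ⟨_, rfl⟩
  obtain ⟨μ, hμ⟩ : ∃ μ : MvPolynomial (Fin k) (MvPolynomial (Fin n) R) →+* MvPolynomial (Fin k) A₀,
    μ = algebraMap (MvPolynomial (Fin k) (MvPolynomial (Fin n) R)) (MvPolynomial (Fin k) A₀) :=
    ⟨_, rfl⟩
  rw [← hμ] at hX'
  have hμ' : μ = MvPolynomial.map (α : MvPolynomial (Fin n) R →+* A₀) := hμ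
  have hμsurj : Function.Surjective μ := by
    rw [hμ']
    exact MvPolynomial.map_surjective _ hα
  have hμC : ∀ x, μ (MvPolynomial.C x) = MvPolynomial.C (α x) := fun x => by
    rw [hμ']
    exact MvPolynomial.map_C _ x
  let β'' : MvPolynomial (Fin (k + n)) R →ₐ[R] B₀ :=
    { toRingHom := ((β' : MvPolynomial (Fin k) A₀ →+* B₀).comp μ).comp
        (σ : MvPolynomial (Fin (k + n)) R →+* _)
      commutes' := fun r => by
        change β' (μ (σ (algebraMap R _ r))) = _
        rw [AlgEquiv.commutes, MvPolynomial.algebraMap_apply, hμC, AlgHom.commutes,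
          ← MvPolynomial.algebraMap_eq, AlgHom.commutes, ← IsScalarTower.algebraMap_apply] }
  have hβ'' : Function.Surjective β'' := (hβ'.comp hμsurj).comp σ.surjective
  rw [isRel_iff_via β'' hβ'']
  unfold IsRelPseudoCoherentVia
  rw [← pc_restrictD_comp_iff (σ.toRingEquiv : MvPolynomial (Fin (k + n)) R →+* _)
    ((β' : MvPolynomial (Fin k) A₀ →+* B₀).comp μ) (β'' : MvPolynomial (Fin (k + n)) R →+* B₀) rfl,
    ← isPseudoCoherent_restrictD_equiv σ.toRingEquiv,
    ← pc_restrictD_comp_iff μ (β' : MvPolynomial (Fin k) A₀ →+* B₀) _ rfl]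
  exact hX'

end Main

section FlatModule

open Groth.Agent.Lib.Helper15.BCSquare

variable (A B : Type u) [CommRing A] [CommRing B] [Algebra A B]
variable (M : Type u) [AddCommGroup M] [Module A M]

lemma congr_smul (b : B) (t : rP' A B ⊗[A] M) :
    TensorProduct.congr (eP' A B) (LinearEquiv.refl A M) (b • t) =
      b • TensorProduct.congr (eP' A B) (LinearEquiv.refl A M) t := by
  induction t using TensorProduct.induction_on with
  | zero => simp
  | tmul n m =>
    rw [TensorProduct.smul_tmul', TensorProduct.congr_tmul, TensorProduct.congr_tmul,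
      TensorProduct.smul_tmul']
    rfl
  | add x y hx hy => simp only [smul_add, map_add, hx, hy]

/-- `extendScalars` of a module, in terms of the algebra tensor product -/
noncomputable def extModuleIso :
    (ModuleCat.extendScalars.{u, u, u} (algebraMap A B)).obj (ModuleCat.of A M) ≅
      ModuleCat.of B (B ⊗[A] M) :=
  LinearEquiv.toModuleIso
    { (TensorProduct.congr (eP' A B) (LinearEquiv.refl A M)).toAddEquiv with
      map_smul' := fun b t => congr_smul A B M b t }

/-- derived base change of a module along a flat algebra -/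
noncomputable def lbcModuleIso [Module.Flat A B] :
    (LBaseChange (algebraMap A B)).obj (Dual.inD A M) ≅ Dual.inD B (B ⊗[A] M) :=
  haveI : PreservesFiniteLimits (FlatBC.ext (algebraMap A B)) :=
    FlatBC.preservesFiniteLimits_ext _ (RingHom.flat_algebraMap_iff.2 inferInstance)
  (LBCFlat.lbcFlatIso (algebraMap A B)).app _ ≪≫
    FlatBC.bcSingle (algebraMap A B) (ModuleCat.of A M) 0 ≪≫
      (DerivedCategory.singleFunctor (ModuleCat.{u} B) 0).mapIso (extModuleIso A B M)

end FlatModule

end Groth.Agent.Lib.Helper15.PseudoCohBC
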