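import Mathlib
import Groth.Agent.Lib.Helper15.PseudoCohBC

/-!
# helper15: reduction modulo an ideal, and termwise reduction of a complex
-/

set_option autoImplicit false
universe u

open CategoryTheory CategoryTheory.Limits TensorProduct

namespace Groth.Agent.Lib.Helper15.LiftExt

variable {R : Type u} [CommRing R] (I : Ideal R)

section Red

variable (M : Type u) [AddCommGroup M] [Module R M]

/-- `x ↦ 1 ⊗ x`. -/
noncomputable def red : M →ₗ[R] (R ⧸ I) ⊗[R] M := TensorProduct.mk R (R ⧸ I) M 1

@[simp] theorem red_apply (x : M) : red I M x = (1 : R ⧸ I) ⊗ₜ[R] x := rfl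

theorem red_surjective : Function.Surjective (red I M) := by
  intro t
  induction t using TensorProduct.induction_on with
  | zero => exact ⟨0, by simp⟩
  | tmul s x =>
    obtain ⟨r, rfl⟩ := Ideal.Quotient.mk_surjective s
    refine ⟨r • x, ?_⟩
    rw [red_apply, ← TensorProduct.smul_tmul]
    congr 1
    rw [Algebra.smul_def, mul_one]; rfl
  | add a b ha hb =>
    obtain ⟨x, rfl⟩ := ha
    obtain ⟨y, rfl⟩ := hb
    exact ⟨x + y, map_add _ _ _⟩

theorem ker_red : LinearMap.ker (red I M) = I • ⊤ := by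
  have h := TensorProduct.quotTensorEquivQuotSMul_comp_mk (M := M) I
  have : LinearMap.ker (red I M) =
      LinearMap.ker ((TensorProduct.quotTensorEquivQuotSMul M I).toLinearMap ∘ₗ red I M) := by
    rw [LinearMap.ker_comp]
    ext x
    simp
  rw [this]
  change LinearMap.ker ((TensorProduct.quotTensorEquivQuotSMul M I).toLinearMap ∘ₗ
    TensorProduct.mk R (R ⧸ I) M 1) = _
  rw [h, Submodule.ker_mkQ]

end Red

section Prod

variable {M N : Type u} [AddCommGroup M] [Module R M] [AddCommGroup N] [Module R N]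

theorem mem_smul_top_prod_iff (a : M × N) :
    a ∈ I • (⊤ : Submodule R (M × N)) ↔
      a.1 ∈ I • (⊤ : Submodule R M) ∧ a.2 ∈ I • (⊤ : Submodule R N) := by
  constructor
  · intro h
    constructor
    · have := Submodule.mem_map_of_mem (f := LinearMap.fst R M N) h
      rw [Submodule.map_smul''] at this
      exact Submodule.smul_mono le_rfl le_top this
    · have := Submodule.mem_map_of_mem (f := LinearMap.snd R M N) h
      rw [Submodule.map_smul''] at this
      exact Submodule.smul_mono le_rfl le_top this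
  · rintro ⟨h1, h2⟩
    have e : a = LinearMap.inl R M N a.1 + LinearMap.inr R M N a.2 := by
      apply Prod.ext <;> simp
    rw [e]
    apply Submodule.add_mem
    · have := Submodule.mem_map_of_mem (f := LinearMap.inl R M N) h1
      rw [Submodule.map_smul''] at this
      exact Submodule.smul_mono le_rfl le_top this
    · have := Submodule.mem_map_of_mem (f := LinearMap.inr R M N) h2
      rw [Submodule.map_smul''] at this
      exact Submodule.smul_mono le_rfl le_top this

end Prod

section Ext

/-- Termwise reduction of a complex built from `CochainComplex.of`. -/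
theorem nonempty_ext_iso (F : ℤ → ModuleCat.{u} R) (d : ∀ j, F j ⟶ F (j + 1))
    (sq : ∀ j, d j ≫ d (j + 1) = 0)
    (E : CochainComplex (ModuleCat.{u} (R ⧸ I)) ℤ)
    (e : ∀ j, ((R ⧸ I) ⊗[R] (F j)) ≃ₗ[R ⧸ I] E.X j)
    (h : ∀ j (x : F j), e (j + 1) ((1 : R ⧸ I) ⊗ₜ[R] (d j).hom x) =
      (E.d j (j + 1)).hom (e j ((1 : R ⧸ I) ⊗ₜ[R] x))) :
    Nonempty ((((ModuleCat.extendScalars (Ideal.Quotient.mk I)).mapHomologicalComplex
      (ComplexShape.up ℤ)).obj (CochainComplex.of F d sq)) ≅ E) := by
  refine ⟨HomologicalComplex.Hom.isoOfComponents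
    (fun j => PseudoCohBC.extModuleIso R (R ⧸ I) (F j) ≪≫ (e j).toModuleIso) ?_⟩
  rintro i _ rfl
  apply ModuleCat.ExtendScalars.hom_ext
  intro m
  simp only [Functor.mapHomologicalComplex_obj_d, CochainComplex.of_d]
  exact (h i m).symm

end Ext

end Groth.Agent.Lib.Helper15.LiftExt

namespace Groth.Agent.Lib.Helper15.LiftExt

variable {R : Type u} [CommRing R] (I : Ideal R)

section RedTo

variable {M : ModuleCat.{u} R} {N : ModuleCat.{u} (R ⧸ I)} (e : ((R ⧸ I) ⊗[R] M) ≃ₗ[R ⧸ I] N)

/-- The reduction map `M → N`, `x ↦ e (1 ⊗ x)`, as an `R`-linear map to the restriction of scalars. -/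
noncomputable def redTo : M →ₗ[R] (ModuleCat.restrictScalars (Ideal.Quotient.mk I)).obj N where
  toFun x := e ((1 : R ⧸ I) ⊗ₜ[R] x)
  map_add' x y := by rw [TensorProduct.tmul_add, map_add]; rfl
  map_smul' r x := by
    change e ((1 : R ⧸ I) ⊗ₜ[R] (r • x)) = (Ideal.Quotient.mk I r) • e ((1 : R ⧸ I) ⊗ₜ[R] x)
    rw [← map_smul e]
    congr 1
    rw [TensorProduct.smul_tmul', ← TensorProduct.smul_tmul, smul_eq_mul, Algebra.smul_def]
    rfl

@[simp] theorem redTo_apply (x : M) : redTo I e x = e ((1 : R ⧸ I) ⊗ₜ[R] x) := rfl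

theorem redTo_surjective : Function.Surjective (redTo I e) := by
  intro y
  obtain ⟨t, rfl⟩ := e.surjective y
  obtain ⟨x, rfl⟩ := red_surjective I M t
  exact ⟨x, rfl⟩

theorem ker_redTo : LinearMap.ker (redTo I e) = I • ⊤ := by
  rw [← ker_red I M]
  ext x
  simp only [LinearMap.mem_ker, redTo_apply, red_apply]
  exact e.map_eq_zero_iff

end RedTo

end Groth.Agent.Lib.Helper15.LiftExt
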