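import Mathlib
import Groth.Agent.Lib.Helper15.LiftExt
import Groth.Agent.Lib.Helper15.PseudoCohBC

/-!
# helper15: a bounded complex of finite projective modules is defined over a finitely generated
subring; descent of perfect complexes along filtered colimits of rings
-/

set_option autoImplicit false
universe u

open CategoryTheory CategoryTheory.Limits TensorProduct Matrix

namespace Groth.Agent.Lib.Helper15.DescendCx

section Idem

variable {R : Type u} [CommRing R] (A : Type u) [CommRing A] [Algebra A R]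

/-- `R ⊗ Aⁿ ≃ Rⁿ` -/
noncomputable abbrev psr (n : ℕ) : R ⊗[A] (Fin n → A) ≃ₗ[R] (Fin n → R) :=
  TensorProduct.piScalarRight A R R (Fin n)

theorem psr_tmul (n : ℕ) (r : R) (v : Fin n → A) : psr A n (r ⊗ₜ v) = fun k => v k • r := by
  rw [psr, TensorProduct.piScalarRight_apply, TensorProduct.piScalarRightHom_tmul]

theorem psr_baseChange {m n : ℕ} (M₀ : Matrix (Fin m) (Fin n) A) (z : R ⊗[A] (Fin n → A)) :
    psr A m ((Matrix.toLin' M₀).baseChange R z) =
      Matrix.toLin' (M₀.map (algebraMap A R)) (psr A n z) := by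
  induction z using TensorProduct.induction_on with
  | zero => simp
  | tmul r v =>
    rw [LinearMap.baseChange_tmul, psr_tmul, psr_tmul, Matrix.toLin'_apply, Matrix.toLin'_apply]
    ext i
    simp only [Matrix.mulVec, dotProduct, Matrix.map_apply, Algebra.smul_def, map_sum, map_mul,
      Finset.sum_mul, mul_assoc]
  | add x y hx hy => simp only [map_add, hx, hy]

variable {A}
variable {n : ℕ} {P : Type u} [AddCommGroup P] [Module R P]
  (s : (Fin n → R) →ₗ[R] P) (t : P →ₗ[R] (Fin n → R))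
  (e₀ : Matrix (Fin n) (Fin n) A)

/-- the descended module: the range of the idempotent matrix -/
abbrev X₀ : Submodule A (Fin n → A) := LinearMap.range (Matrix.toLin' e₀)

/-- the comparison map -/
noncomputable def Φ : R ⊗[A] (X₀ e₀) →ₗ[R] P :=
  s ∘ₗ (psr A n).toLinearMap ∘ₗ ((X₀ e₀).subtype.baseChange R)

theorem Φ_one_tmul (x : X₀ e₀) :
    Φ s e₀ ((1 : R) ⊗ₜ x) = s (fun k => algebraMap A R (x.1 k)) := by
  simp only [Φ, LinearMap.coe_comp, LinearEquiv.coe_coe, Function.comp_apply,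
    LinearMap.baseChange_tmul, Submodule.coe_subtype, psr_tmul]
  congr 1
  ext k
  rw [Algebra.smul_def, mul_one]

variable (hst : s ∘ₗ t = LinearMap.id)
  (he₀ : e₀.map (algebraMap A R) = LinearMap.toMatrix' (t ∘ₗ s))
  (hinj : Function.Injective (algebraMap A R))

include hst he₀ hinj in
theorem idem : e₀ * e₀ = e₀ := by
  apply Matrix.map_injective hinj
  change (e₀ * e₀).map (algebraMap A R) = e₀.map (algebraMap A R)
  rw [Matrix.map_mul, he₀, ← LinearMap.toMatrix'_comp]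
  congr 1
  rw [LinearMap.comp_assoc, ← LinearMap.comp_assoc s t s, hst, LinearMap.id_comp]

include hst he₀ hinj in
theorem Φ_bijective : Function.Bijective (Φ s e₀) := by
  have hid := idem s t e₀ hst he₀ hinj
  have hε : Matrix.toLin' (e₀.map (algebraMap A R)) = t ∘ₗ s := by
    rw [he₀, Matrix.toLin'_toMatrix']
  -- the projection onto the range
  let π₀ : (Fin n → A) →ₗ[A] X₀ e₀ := (Matrix.toLin' e₀).rangeRestrict
  have h1 : (X₀ e₀).subtype ∘ₗ π₀ = Matrix.toLin' e₀ := LinearMap.subtype_comp_codRestrict _ _ _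
  have h2 : π₀ ∘ₗ (X₀ e₀).subtype = LinearMap.id := by
    ext ⟨_, ⟨y, rfl⟩⟩ : 1
    apply Subtype.ext
    change Matrix.toLin' e₀ (Matrix.toLin' e₀ y) = Matrix.toLin' e₀ y
    rw [← LinearMap.comp_apply, ← Matrix.toLin'_mul, hid]
  have h3 : Matrix.toLin' e₀ ∘ₗ (X₀ e₀).subtype = (X₀ e₀).subtype := by
    rw [← h1, LinearMap.comp_assoc, h2, LinearMap.comp_id]
  have hb1 : ∀ z, (π₀.baseChange R) (((X₀ e₀).subtype.baseChange R) z) = z := fun z => by
    rw [← LinearMap.comp_apply, ← LinearMap.baseChange_comp, h2, LinearMap.baseChange_id,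
      LinearMap.id_apply]
  have hb2 : ∀ z, ((X₀ e₀).subtype.baseChange R) ((π₀.baseChange R) z) =
      (Matrix.toLin' e₀).baseChange R z := fun z => by
    rw [← LinearMap.comp_apply, ← LinearMap.baseChange_comp, h1]
  have hb3 : ∀ z, ((Matrix.toLin' e₀).baseChange R) (((X₀ e₀).subtype.baseChange R) z) =
      ((X₀ e₀).subtype.baseChange R) z := fun z => by
    rw [← LinearMap.comp_apply, ← LinearMap.baseChange_comp, h3]
  constructor
  · rw [← LinearMap.ker_eq_bot, LinearMap.ker_eq_bot']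
    intro z hz
    set w := psr A n (((X₀ e₀).subtype.baseChange R) z) with hw
    have hsw : s w = 0 := hz
    have hεw : w = t (s w) := by
      conv_lhs => rw [hw, ← hb3 z, psr_baseChange, hε]
      rfl
    rw [hsw, map_zero] at hεw
    have : ((X₀ e₀).subtype.baseChange R) z = 0 := (psr A n).injective (by rw [← hw, hεw, map_zero])
    rw [← hb1 z, this, map_zero]
  · intro y
    refine ⟨(π₀.baseChange R) ((psr A n).symm (t y)), ?_⟩
    change s (psr A n (((X₀ e₀).subtype.baseChange R) ((π₀.baseChange R) ((psr A n).symm (t y))))) = y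
    rw [hb2, psr_baseChange, hε, LinearEquiv.apply_symm_apply, LinearMap.comp_apply]
    have : ∀ y, s (t y) = y := fun y => LinearMap.congr_fun hst y
    rw [this, this]

end Idem

section Ext

variable {R : Type u} [CommRing R] (S : Type u) [CommRing S] [Algebra R S]

/-- Termwise base change of a complex built from `CochainComplex.of` (general algebra). -/
theorem nonempty_ext_iso' (F : ℤ → ModuleCat.{u} R) (d : ∀ j, F j ⟶ F (j + 1))
    (sq : ∀ j, d j ≫ d (j + 1) = 0)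
    (E : CochainComplex (ModuleCat.{u} S) ℤ)
    (e : ∀ j, (S ⊗[R] (F j)) ≃ₗ[S] E.X j)
    (h : ∀ j (x : F j), e (j + 1) ((1 : S) ⊗ₜ[R] (d j).hom x) =
      (E.d j (j + 1)).hom (e j ((1 : S) ⊗ₜ[R] x))) :
    Nonempty ((((ModuleCat.extendScalars.{u, u, u} (algebraMap R S)).mapHomologicalComplex
      (ComplexShape.up ℤ)).obj (CochainComplex.of F d sq)) ≅ E) := by
  refine ⟨HomologicalComplex.Hom.isoOfComponents
    (fun j => PseudoCohBC.extModuleIso R S (F j) ≪≫ (e j).toModuleIso) ?_⟩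
  rintro i _ rfl
  apply ModuleCat.ExtendScalars.hom_ext
  intro m
  simp only [Functor.mapHomologicalComplex_obj_d, CochainComplex.of_d]
  exact (h i m).symm

end Ext

section Complex

variable {R : Type u} [CommRing R] {A : Type u} [CommRing A] [Algebra A R]
  (hinj : Function.Injective (algebraMap A R))
  (E : CochainComplex (ModuleCat.{u} R) ℤ) (n : ℤ → ℕ)
  (s : ∀ i, (Fin (n i) → R) →ₗ[R] E.X i) (t : ∀ i, E.X i →ₗ[R] (Fin (n i) → R))
  (hst : ∀ i, s i ∘ₗ t i = LinearMap.id)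
  (e₀ : ∀ i, Matrix (Fin (n i)) (Fin (n i)) A)
  (he₀ : ∀ i, (e₀ i).map (algebraMap A R) = LinearMap.toMatrix' (t i ∘ₗ s i))
  (D₀ : ∀ i, Matrix (Fin (n (i + 1))) (Fin (n i)) A)
  (hD₀ : ∀ i, (D₀ i).map (algebraMap A R) =
    LinearMap.toMatrix' (t (i + 1) ∘ₗ (E.d i (i + 1)).hom ∘ₗ s i))

include hinj hst he₀ hD₀ in
theorem rel2 (i : ℤ) : e₀ (i + 1) * D₀ i = D₀ i := by
  apply Matrix.map_injective hinj
  change (e₀ (i + 1) * D₀ i).map (algebraMap A R) = (D₀ i).map (algebraMap A R)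
  rw [Matrix.map_mul, he₀, hD₀, ← LinearMap.toMatrix'_comp]
  congr 1
  rw [LinearMap.comp_assoc, ← LinearMap.comp_assoc _ (t (i + 1)) (s (i + 1)), hst,
    LinearMap.id_comp]

include hinj hst hD₀ in
theorem rel4 (i : ℤ) : D₀ (i + 1) * D₀ i = 0 := by
  apply Matrix.map_injective hinj
  change (D₀ (i + 1) * D₀ i).map (algebraMap A R) = (0 : Matrix _ _ A).map (algebraMap A R)
  rw [Matrix.map_mul, hD₀, hD₀, ← LinearMap.toMatrix'_comp, Matrix.map_zero _ (map_zero _)]
  have : (t (i + 1 + 1) ∘ₗ (E.d (i + 1) (i + 1 + 1)).hom ∘ₗ s (i + 1)) ∘ₗ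
      (t (i + 1) ∘ₗ (E.d i (i + 1)).hom ∘ₗ s i) = 0 := by
    have hd : (E.d (i + 1) (i + 1 + 1)).hom ∘ₗ (E.d i (i + 1)).hom = 0 := by
      rw [← ModuleCat.hom_comp, E.d_comp_d]
      rfl
    rw [LinearMap.comp_assoc, LinearMap.comp_assoc, ← LinearMap.comp_assoc _ (t (i + 1)) (s (i + 1)),
      hst, LinearMap.id_comp, ← LinearMap.comp_assoc _ _ (E.d (i + 1) (i + 1 + 1)).hom, hd,
      LinearMap.zero_comp, LinearMap.comp_zero]
  rw [this]
  exact (LinearMap.toMatrix' (R := R)).map_zero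

/-- the differential of the descended complex -/
noncomputable def d₀ (h2 : ∀ i, e₀ (i + 1) * D₀ i = D₀ i) (i : ℤ) :
    X₀ (e₀ i) →ₗ[A] X₀ (e₀ (i + 1)) :=
  (Matrix.toLin' (D₀ i)).codRestrict (X₀ (e₀ (i + 1))) (fun x => by
    rw [← h2 i, Matrix.toLin'_mul, LinearMap.comp_apply]
    exact LinearMap.mem_range_self _ _) ∘ₗ (X₀ (e₀ i)).subtype

theorem d₀_coe (h2 : ∀ i, e₀ (i + 1) * D₀ i = D₀ i) (i : ℤ) (x : X₀ (e₀ i)) :
    ((d₀ n e₀ D₀ h2 i x : X₀ (e₀ (i + 1))) : Fin (n (i + 1)) → A) = D₀ i *ᵥ x.1 := by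
  simp [d₀, Matrix.toLin'_apply]

/-- the descended complex -/
noncomputable def E₀ (h2 : ∀ i, e₀ (i + 1) * D₀ i = D₀ i) (h4 : ∀ i, D₀ (i + 1) * D₀ i = 0) :
    CochainComplex (ModuleCat.{u} A) ℤ :=
  CochainComplex.of (fun i => ModuleCat.of A (X₀ (e₀ i)))
    (fun i => ModuleCat.ofHom (d₀ n e₀ D₀ h2 i))
    (fun i => by
      refine ModuleCat.hom_ext (LinearMap.ext fun x => ?_)
      apply Subtype.ext
      change ((d₀ n e₀ D₀ h2 (i + 1) (d₀ n e₀ D₀ h2 i x) : X₀ (e₀ (i + 1 + 1))) :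
        Fin (n (i + 1 + 1)) → A) = 0
      rw [d₀_coe, d₀_coe, Matrix.mulVec_mulVec, h4, Matrix.zero_mulVec])

theorem E₀_X (h2 : ∀ i, e₀ (i + 1) * D₀ i = D₀ i) (h4 : ∀ i, D₀ (i + 1) * D₀ i = 0) (i : ℤ) :
    (E₀ n e₀ D₀ h2 h4).X i = ModuleCat.of A (X₀ (e₀ i)) := rfl

include hinj hst he₀ hD₀ in
theorem nonempty_iso (h2 : ∀ i, e₀ (i + 1) * D₀ i = D₀ i) (h4 : ∀ i, D₀ (i + 1) * D₀ i = 0) :
    Nonempty ((((ModuleCat.extendScalars.{u, u, u} (algebraMap A R)).mapHomologicalComplex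
      (ComplexShape.up ℤ)).obj (E₀ n e₀ D₀ h2 h4)) ≅ E) := by
  unfold E₀
  refine nonempty_ext_iso' R _ _ _ E
    (fun j => LinearEquiv.ofBijective (Φ (s j) (e₀ j))
      (Φ_bijective (s j) (t j) (e₀ j) (hst j) (he₀ j) hinj)) ?_
  intro j x
  change Φ (s (j + 1)) (e₀ (j + 1)) ((1 : R) ⊗ₜ[A] (d₀ n e₀ D₀ h2 j x)) =
    (E.d j (j + 1)).hom (Φ (s j) (e₀ j) ((1 : R) ⊗ₜ[A] x))
  rw [Φ_one_tmul, Φ_one_tmul]
  have h1 : (fun k => algebraMap A R ((d₀ n e₀ D₀ h2 j x : X₀ (e₀ (j + 1))).1 k)) =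
      (D₀ j).map (algebraMap A R) *ᵥ (fun k => algebraMap A R (x.1 k)) := by
    ext k
    rw [d₀_coe]
    exact RingHom.map_mulVec (algebraMap A R) (D₀ j) x.1 k
  rw [h1, hD₀, ← Matrix.toLin'_apply, Matrix.toLin'_toMatrix']
  simp only [LinearMap.coe_comp, Function.comp_apply]
  exact LinearMap.congr_fun (hst (j + 1)) _

theorem finite_X₀ (i : ℤ) : Module.Finite A (X₀ (e₀ i)) := inferInstance

theorem projective_X₀ (i : ℤ) (hid : e₀ i * e₀ i = e₀ i) : Module.Projective A (X₀ (e₀ i)) := by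
  refine Module.Projective.of_split (X₀ (e₀ i)).subtype (Matrix.toLin' (e₀ i)).rangeRestrict ?_
  ext ⟨_, ⟨y, rfl⟩⟩ : 1
  apply Subtype.ext
  change Matrix.toLin' (e₀ i) (Matrix.toLin' (e₀ i) y) = Matrix.toLin' (e₀ i) y
  rw [← LinearMap.comp_apply, ← Matrix.toLin'_mul, hid]

theorem subsingleton_X₀ (i : ℤ) (hi : n i = 0) : Subsingleton (X₀ (e₀ i)) := by
  haveI : IsEmpty (Fin (n i)) := by rw [hi]; infer_instance
  infer_instance

end Complex

section Exists

variable {R : Type u} [CommRing R]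

/-- **A bounded complex of finite projective modules is defined over a finitely generated
subring.** -/
theorem exists_descent (E : DRing.Cx R) (a b : ℤ) (hE : DRing.VanishesOutside E a b)
    (hfp : DRing.TermwiseFiniteProjective E) :
    ∃ (A : Subalgebra ℤ R) (_ : A.FG) (E' : DRing.Cx A), DRing.VanishesOutside E' a b ∧
      DRing.TermwiseFiniteProjective E' ∧
      Nonempty ((((ModuleCat.extendScalars.{u, u, u} (algebraMap A R)).mapHomologicalComplex
        (ComplexShape.up ℤ)).obj E') ≅ E) := by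
  classical
  have hch : ∀ i, ∃ (n : ℕ) (s : (Fin n → R) →ₗ[R] E.X i) (t : E.X i →ₗ[R] (Fin n → R)),
      s ∘ₗ t = LinearMap.id ∧ ((i < a ∨ b < i) → n = 0) := by
    intro i
    by_cases hi : i < a ∨ b < i
    · haveI : Subsingleton (E.X i) := ModuleCat.subsingleton_of_isZero (hE i hi)
      exact ⟨0, 0, 0, LinearMap.ext fun x => Subsingleton.elim _ _, fun _ => rfl⟩
    · haveI := (hfp i).1
      haveI := (hfp i).2
      obtain ⟨n, s, hs⟩ := Module.Finite.exists_fin' R (E.X i)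
      obtain ⟨t, ht⟩ := Module.projective_lifting_property s LinearMap.id hs
      exact ⟨n, s, t, ht, fun h => absurd h hi⟩
  choose n s t hst hn using hch
  let e : ∀ i, Matrix (Fin (n i)) (Fin (n i)) R := fun i => LinearMap.toMatrix' (t i ∘ₗ s i)
  let D : ∀ i, Matrix (Fin (n (i + 1))) (Fin (n i)) R :=
    fun i => LinearMap.toMatrix' (t (i + 1) ∘ₗ (E.d i (i + 1)).hom ∘ₗ s i)
  let Sset : Set R :=
    (⋃ i ∈ Finset.Icc a b, Set.range (fun kl : Fin (n i) × Fin (n i) => e i kl.1 kl.2)) ∪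
    (⋃ i ∈ Finset.Icc a b, Set.range (fun kl : Fin (n (i + 1)) × Fin (n i) => D i kl.1 kl.2))
  have hfin : Sset.Finite :=
    (Set.Finite.biUnion (Finset.finite_toSet _) (fun i _ => Set.finite_range _)).union
      (Set.Finite.biUnion (Finset.finite_toSet _) (fun i _ => Set.finite_range _))
  let A : Subalgebra ℤ R := Algebra.adjoin ℤ Sset
  have hA : A.FG := Subalgebra.fg_def.2 ⟨Sset, hfin, rfl⟩
  have he : ∀ i k l, e i k l ∈ A := by
    intro i k l
    by_cases hi : i < a ∨ b < i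
    · haveI : IsEmpty (Fin (n i)) := by rw [hn i hi]; infer_instance
      exact isEmptyElim k
    · apply Algebra.subset_adjoin
      left
      simp only [Set.mem_iUnion]
      exact ⟨i, by simp only [Finset.mem_Icc]; omega, ⟨(k, l), rfl⟩⟩
  have hD : ∀ i k l, D i k l ∈ A := by
    intro i k l
    by_cases hi : i < a ∨ b < i
    · haveI : IsEmpty (Fin (n i)) := by rw [hn i hi]; infer_instance
      exact isEmptyElim l
    · apply Algebra.subset_adjoin
      right
      simp only [Set.mem_iUnion]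
      exact ⟨i, by simp only [Finset.mem_Icc]; omega, ⟨(k, l), rfl⟩⟩
  let e₀ : ∀ i, Matrix (Fin (n i)) (Fin (n i)) A := fun i k l => ⟨e i k l, he i k l⟩
  let D₀ : ∀ i, Matrix (Fin (n (i + 1))) (Fin (n i)) A := fun i k l => ⟨D i k l, hD i k l⟩
  have he₀ : ∀ i, (e₀ i).map (algebraMap A R) = LinearMap.toMatrix' (t i ∘ₗ s i) := fun i => rfl
  have hD₀ : ∀ i, (D₀ i).map (algebraMap A R) =
      LinearMap.toMatrix' (t (i + 1) ∘ₗ (E.d i (i + 1)).hom ∘ₗ s i) := fun i => rfl
  have hinj : Function.Injective (algebraMap A R) := Subtype.val_injective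
  have h2 := rel2 hinj E n s t hst e₀ he₀ D₀ hD₀
  have h4 := rel4 hinj E n s t hst D₀ hD₀
  refine ⟨A, hA, E₀ n e₀ D₀ h2 h4, ?_, ?_, nonempty_iso hinj E n s t hst e₀ he₀ D₀ hD₀ h2 h4⟩
  · intro i hi
    haveI : Subsingleton (ModuleCat.of A (X₀ (e₀ i))) := subsingleton_X₀ n e₀ i (hn i hi)
    exact ModuleCat.isZero_of_subsingleton (ModuleCat.of A (X₀ (e₀ i)))
  · intro i
    exact ⟨finite_X₀ n e₀ i,
      projective_X₀ n e₀ i (idem (s i) (t i) (e₀ i) (hst i) (he₀ i) hinj)⟩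

end Exists

end Groth.Agent.Lib.Helper15.DescendCx
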