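import Mathlib.Algebra.Category.ModuleCat.Ext.HasExt
import Mathlib.Algebra.Homology.DerivedCategory.Ext.ExactSequences
import Mathlib.Algebra.Homology.DerivedCategory.Ext.EnoughProjectives
import Mathlib.Algebra.Homology.ShortComplex.ModuleCat
import Mathlib.RingTheory.Filtration

/-!
# Artin–Rees for Ext (Stacks, More on Algebra) (helper15)

For `A` Noetherian, `M` finite, `N` arbitrary, `p ≥ 0`: there is `c` such that for `n = k + c` the
map `Ext^p(M, N) → Ext^p(I^n M, N)` factors through `Ext^p(I^n M, I^k N)`.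
-/

set_option autoImplicit false
universe u

namespace Groth.Agent.Lib.Helper15.ExtArtinRees

open CategoryTheory Abelian

variable {A : Type u} [CommRing A] (I : Ideal A)

section Basics

variable {X Y : Type u} [AddCommGroup X] [Module A X] [AddCommGroup Y] [Module A Y]

lemma map_mem_pw (g : X →ₗ[A] Y) (m : ℕ) {x : X} (hx : x ∈ (I ^ m • ⊤ : Submodule A X)) :
    g x ∈ (I ^ m • ⊤ : Submodule A Y) := by
  have h1 : g x ∈ (I ^ m • ⊤ : Submodule A X).map g := Submodule.mem_map_of_mem hx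
  rw [Submodule.map_smul''] at h1
  exact Submodule.smul_mono le_rfl le_top h1

/-- restriction of a linear map to `I^m X → I^m Y` -/
noncomputable def resPw (g : X →ₗ[A] Y) (m : ℕ) :
    ↥(I ^ m • ⊤ : Submodule A X) →ₗ[A] ↥(I ^ m • ⊤ : Submodule A Y) :=
  g.restrict (fun _ hx => map_mem_pw I g m hx)

lemma resPw_surjective (g : X →ₗ[A] Y) (hg : Function.Surjective g) (m : ℕ) :
    Function.Surjective (resPw I g m) := by
  rintro ⟨y, hy⟩
  have h1 : (I ^ m • ⊤ : Submodule A Y) = (I ^ m • ⊤ : Submodule A X).map g := by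
    rw [Submodule.map_smul'', Submodule.map_top, LinearMap.range_eq_top.2 hg]
  rw [h1] at hy
  obtain ⟨x, hx, rfl⟩ := hy
  exact ⟨⟨x, hx⟩, rfl⟩

lemma mem_pw_subtype (K : Submodule A X) (m : ℕ) (k : K)
    (hk : (k : X) ∈ I ^ m • K) : k ∈ (I ^ m • ⊤ : Submodule A K) := by
  have h1 : (I ^ m • ⊤ : Submodule A K).map K.subtype = I ^ m • K := by
    rw [Submodule.map_smul'', Submodule.map_top, Submodule.range_subtype]
  rw [← h1] at hk
  obtain ⟨k', hk', hkk⟩ := hk
  have : k' = k := Subtype.ext hkk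
  rwa [← this]

end Basics

section AR

variable [IsNoetherianRing A] {F : Type u} [AddCommGroup F] [Module A F] [Module.Finite A F]

/-- Artin–Rees in the form we use -/
theorem ar (K : Submodule A F) : ∃ c₀ : ℕ, ∀ n m : ℕ, n = m + c₀ → ∀ k : K,
    (k : F) ∈ (I ^ n • ⊤ : Submodule A F) → k ∈ (I ^ m • ⊤ : Submodule A K) := by
  obtain ⟨c₀, hc₀⟩ := Ideal.exists_pow_inf_eq_pow_smul I K
  refine ⟨c₀, fun n m hnm k hk => ?_⟩
  apply mem_pw_subtype
  have h1 : (k : F) ∈ (I ^ n • ⊤ ⊓ K : Submodule A F) := ⟨hk, k.2⟩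
  rw [hc₀ n (by lia)] at h1
  have h2 : n - c₀ = m := by lia
  rw [h2] at h1
  exact Submodule.smul_mono le_rfl inf_le_right h1

end AR

variable (N : Type u) [AddCommGroup N] [Module A N]

/-- the factorization property -/
def P (p : ℕ) (X : Type u) [AddCommGroup X] [Module A X] (c : ℕ) : Prop :=
  ∀ n k : ℕ, n = k + c → ∀ x : Ext.{u} (ModuleCat.of A X) (ModuleCat.of A N) p,
    ∃ x' : Ext.{u} (ModuleCat.of A ↥(I ^ n • ⊤ : Submodule A X))
        (ModuleCat.of A ↥(I ^ k • ⊤ : Submodule A N)) p,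
      x'.comp (Ext.mk₀ (ModuleCat.ofHom (I ^ k • ⊤ : Submodule A N).subtype)) (add_zero p) =
        (Ext.mk₀ (ModuleCat.ofHom (I ^ n • ⊤ : Submodule A X).subtype)).comp x (zero_add p)

theorem P_zero (X : Type u) [AddCommGroup X] [Module A X] : P I N 0 X 0 := by
  intro n k hnk x
  obtain rfl : n = k := by lia
  refine ⟨Ext.mk₀ (ModuleCat.ofHom (resPw I (Ext.homEquiv₀ x).hom n)), ?_⟩
  conv_rhs => rw [← Ext.mk₀_homEquiv₀_apply x]
  rw [Ext.mk₀_comp_mk₀, Ext.mk₀_comp_mk₀]
  congr 1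

section Step

variable [IsNoetherianRing A] {M : Type u} [AddCommGroup M] [Module A M]
  {F : Type u} [AddCommGroup F] [Module A F] [Module.Finite A F] [Module.Projective A F]
  (π : F →ₗ[A] M) (hπ : Function.Surjective π)

/-- `K_n → K` -/
noncomputable def tau1 (n : ℕ) : LinearMap.ker (resPw I π n) →ₗ[A] LinearMap.ker π :=
  LinearMap.codRestrict (LinearMap.ker π)
    ((I ^ n • ⊤ : Submodule A F).subtype ∘ₗ (LinearMap.ker (resPw I π n)).subtype)
    (fun k => by
      have h := k.2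
      rw [LinearMap.mem_ker] at h ⊢
      exact congrArg Subtype.val h)

/-- the morphism of short exact sequences -/
noncomputable def scMor (n : ℕ) : (resPw I π n).shortComplexKer ⟶ π.shortComplexKer where
  τ₁ := ModuleCat.ofHom (tau1 I π n)
  τ₂ := ModuleCat.ofHom (I ^ n • ⊤ : Submodule A F).subtype
  τ₃ := ModuleCat.ofHom (I ^ n • ⊤ : Submodule A M).subtype
  comm₁₂ := by ext; rfl
  comm₂₃ := by ext; rfl

include hπ in
theorem step (p c₁ : ℕ) (hK : P I N p ↥(LinearMap.ker π) c₁) :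
    ∃ c, P I N (p + 1) M c := by
  obtain ⟨c₀, hc₀⟩ := ar I (LinearMap.ker π)
  refine ⟨c₁ + c₀, fun n k hnk x => ?_⟩
  have hS := LinearMap.shortExact_shortComplexKer hπ
  have hSn := LinearMap.shortExact_shortComplexKer (resPw_surjective I π hπ n)
  -- x comes from Ext^p(K, N)
  have hx0 : (Ext.mk₀ π.shortComplexKer.g).comp x (zero_add (p + 1)) = 0 :=
    haveI : Projective (ModuleCat.of A F) := inferInstance
    Ext.eq_zero_of_projective _
  obtain ⟨x₁, hx₁⟩ := Ext.contravariant_sequence_exact₃ hS _ x hx0 (add_comm 1 p)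
  -- apply the hypothesis to `K`
  obtain ⟨y, hy⟩ := hK (k + c₁) k rfl x₁
  -- the map `K_n → I^(k + c₁) K`
  let j : LinearMap.ker (resPw I π n) →ₗ[A] ↥(I ^ (k + c₁) • ⊤ : Submodule A (LinearMap.ker π)) :=
    LinearMap.codRestrict _ (tau1 I π n)
      (fun z => hc₀ n (k + c₁) (by lia) (tau1 I π n z) z.1.2)
  have hj : ModuleCat.ofHom j ≫
      ModuleCat.ofHom (I ^ (k + c₁) • ⊤ : Submodule A (LinearMap.ker π)).subtype =
      (scMor I π n).τ₁ := by
    ext; rfl
  have hnat := ShortComplex.ShortExact.extClass_naturality hSn hS (scMor I π n)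
  refine ⟨hSn.extClass.comp ((Ext.mk₀ (ModuleCat.ofHom j)).comp y (zero_add p)) (add_comm 1 p), ?_⟩
  have e1 : ((Ext.mk₀ (ModuleCat.ofHom j)).comp y (zero_add p)).comp
      (Ext.mk₀ (ModuleCat.ofHom (I ^ k • ⊤ : Submodule A N).subtype)) (add_zero p) =
      (Ext.mk₀ (scMor I π n).τ₁).comp x₁ (zero_add p) := by
    rw [Ext.comp_assoc_of_third_deg_zero, hy, Ext.mk₀_comp_mk₀_assoc, hj]
  have e2 : hSn.extClass.comp ((Ext.mk₀ (scMor I π n).τ₁).comp x₁ (zero_add p)) (add_comm 1 p) =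
      (Ext.mk₀ (scMor I π n).τ₃).comp x (zero_add (p + 1)) := by
    rw [← Ext.comp_assoc_of_second_deg_zero, hnat,
      Ext.comp_assoc (Ext.mk₀ (scMor I π n).τ₃) hS.extClass x₁ (zero_add 1) (add_comm 1 p)
        (by lia), hx₁]
  rw [Ext.comp_assoc_of_third_deg_zero, e1, e2]
  rfl

end Step

theorem exists_c [IsNoetherianRing A] (p : ℕ) :
    ∀ (M : Type u) [AddCommGroup M] [Module A M] [Module.Finite A M], ∃ c, P I N p M c := by
  induction p with
  | zero => exact fun M _ _ _ => ⟨0, P_zero I N M⟩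
  | succ p ih =>
    intro M _ _ _
    obtain ⟨t, π, hπ⟩ := Module.Finite.exists_fin' A M
    obtain ⟨c₁, hc₁⟩ := ih ↥(LinearMap.ker π)
    exact step I N π hπ p c₁ hc₁

end Groth.Agent.Lib.Helper15.ExtArtinRees
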