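import Mathlib.RingTheory.Flat.FaithfullyFlat.Basic
import Mathlib.RingTheory.LocalRing.RingHom.Basic
import Mathlib.RingTheory.LocalRing.MaximalIdeal.Basic

/-!
# Faithfully flat modules relative to a base: commutative algebra (helper15)

* `flat_of_faithfullyFlat_module`: if `M` is a faithfully flat `S`-module which is flat over `R`
  (for `R → S`), then `S` is flat over `R`.
* `smul_top_ne_top_of_isLocalHom`: for a local homomorphism `φ : R → S` of local rings and an
  `S`-module `M` with `𝔪_S M ≠ M`, also `𝔪_R M ≠ M`.
* `faithfullyFlat_of_local`: over a local ring, flat and `𝔪 M ≠ M` is faithfully flat.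
-/

set_option autoImplicit false
universe u

open TensorProduct

namespace Groth.Agent.Lib.Helper15.FFRel

theorem flat_of_faithfullyFlat_module (R S M : Type u) [CommRing R] [CommRing S] [Algebra R S]
    [AddCommGroup M] [Module S M] [Module R M] [IsScalarTower R S M]
    [Module.FaithfullyFlat S M] [Module.Flat R M] : Module.Flat R S := by
  rw [Module.Flat.iff_lTensor_preserves_injective_linearMap]
  intro N P _ _ _ _ f hf
  have h1 : Function.Injective (f.lTensor M) :=
    Module.Flat.lTensor_preserves_injective_linearMap f hf
  have h2 : Function.Injective ((f.baseChange S).lTensor M) := by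
    have h4 : ∀ t, (AlgebraTensorModule.cancelBaseChange R S S M P)
        (((f.baseChange S).lTensor M) t) =
        (f.lTensor M) ((AlgebraTensorModule.cancelBaseChange R S S M N) t) := by
      intro t
      induction t using TensorProduct.induction_on with
      | zero => simp
      | tmul m t =>
        induction t using TensorProduct.induction_on with
        | zero => simp
        | tmul s n => simp [AlgebraTensorModule.cancelBaseChange_tmul]
        | add a b ha hb =>
          simp only [tmul_add, map_add, ha, hb]
      | add a b ha hb =>
        simp only [map_add, ha, hb]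
    intro a b hab
    have h3 := congrArg (AlgebraTensorModule.cancelBaseChange R S S M P) hab
    rw [h4, h4] at h3
    exact (AlgebraTensorModule.cancelBaseChange R S S M N).injective (h1 h3)
  have h5 : Function.Injective (f.baseChange S) :=
    (Module.FaithfullyFlat.lTensor_injective_iff_injective S M (f.baseChange S)).1 h2
  intro a b hab
  apply h5
  have : ∀ t, (f.baseChange S) t = (f.lTensor S) t := fun t => by
    rw [LinearMap.baseChange_eq_ltensor]
  rw [this, this]
  exact hab

theorem smul_top_ne_top_of_isLocalHom {R S M : Type u} [CommRing R] [CommRing S]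
    [IsLocalRing R] [IsLocalRing S] (φ : R →+* S) [IsLocalHom φ]
    [AddCommGroup M] [Module S M] [Module R M] (hc : ∀ (r : R) (m : M), r • m = φ r • m)
    (h : IsLocalRing.maximalIdeal S • (⊤ : Submodule S M) ≠ ⊤) :
    IsLocalRing.maximalIdeal R • (⊤ : Submodule R M) ≠ ⊤ := by
  intro htop
  apply h
  rw [eq_top_iff]
  intro m _
  have hm : m ∈ IsLocalRing.maximalIdeal R • (⊤ : Submodule R M) := by
    rw [htop]; trivial
  refine Submodule.smul_induction_on hm ?_ ?_
  · intro r hr n _
    rw [hc]
    refine Submodule.smul_mem_smul ?_ trivial
    rw [IsLocalRing.mem_maximalIdeal, mem_nonunits_iff] at hr ⊢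
    intro hu
    exact hr (isUnit_of_map_unit φ r hu)
  · intro a b ha hb
    exact Submodule.add_mem _ ha hb

theorem faithfullyFlat_of_local {R M : Type u} [CommRing R] [IsLocalRing R]
    [AddCommGroup M] [Module R M] [Module.Flat R M]
    (h : IsLocalRing.maximalIdeal R • (⊤ : Submodule R M) ≠ ⊤) : Module.FaithfullyFlat R M where
  submodule_ne_top m hm := by
    rw [IsLocalRing.eq_maximalIdeal hm]
    exact h

end Groth.Agent.Lib.Helper15.FFRel
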