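import Mathlib.RingTheory.Flat.FaithfullyFlat.Basic
import Mathlib.LinearAlgebra.TensorProduct.Tower
import Mathlib.LinearAlgebra.TensorProduct.Quotient

/-!
# Flatness and fibre non-vanishing of `P ⊗[B] M` over `A` for `A → B` (helper15)

`P` a `B`-module (also an `A`-module through `B`), `M` an `A`- and `B`-module; `A` acts on
`P ⊗[B] M` through the left factor.

* `flat_tensor_of_flat`: `P` flat over `B`, `M` flat over `A` ⟹ `P ⊗[B] M` flat over `A`.
* `flat_of_flat_tensor`: `P` faithfully flat over `B`, `P ⊗[B] M` flat over `A` ⟹ `M` flat over `A`.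
* `smul_top_ne_top_tensor`: `P` faithfully flat over `B`, `I M ≠ M` ⟹ `I (P ⊗[B] M) ≠ P ⊗[B] M`.
* `smul_top_ne_top_of_tensor`: `I (P ⊗[B] M) ≠ P ⊗[B] M` ⟹ `I M ≠ M`.
-/

set_option autoImplicit false

open TensorProduct

namespace Groth.Agent.Lib.Helper15.FFTensor

universe u

variable {A B P M : Type u} [CommRing A] [CommRing B] [Algebra A B]
  [AddCommGroup P] [Module A P] [Module B P] [IsScalarTower A B P]
  [AddCommGroup M] [Module A M] [Module B M] [IsScalarTower A B M]

section

variable {N Q : Type u} [AddCommGroup N] [AddCommGroup Q] [Module A N] [Module A Q]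
  (f : N →ₗ[A] Q)

/-- The `B`-linear version of `f.lTensor M`. -/
noncomputable def lTensorB : M ⊗[A] N →ₗ[B] M ⊗[A] Q :=
  TensorProduct.AlgebraTensorModule.map (LinearMap.id : M →ₗ[B] M) f

variable (B M) in
theorem lTensorB_apply (z : M ⊗[A] N) : lTensorB (B := B) (M := M) f z = f.lTensor M z := rfl

variable (B P M) in
theorem assoc_lTensor (z : (P ⊗[B] M) ⊗[A] N) :
    (lTensorB (B := B) (M := M) f).lTensor P
        (TensorProduct.AlgebraTensorModule.assoc A B B P M N z) =
      TensorProduct.AlgebraTensorModule.assoc A B B P M Q (f.lTensor (P ⊗[B] M) z) := by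
  induction z using TensorProduct.induction_on with
  | zero => simp
  | add x y hx hy => simp only [map_add, hx, hy]
  | tmul cm n =>
    induction cm using TensorProduct.induction_on with
    | zero => simp
    | add x y hx hy => simp only [add_tmul, map_add, hx, hy]
    | tmul c m => rfl

end

variable (A B P M)

theorem flat_tensor_of_flat [Module.Flat B P] [Module.Flat A M] : Module.Flat A (P ⊗[B] M) := by
  rw [Module.Flat.iff_lTensor_preserves_injective_linearMap]
  intro N Q _ _ _ _ f hf
  have h1 : Function.Injective (lTensorB (B := B) (M := M) f) :=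
    Module.Flat.lTensor_preserves_injective_linearMap f hf
  have h2 : Function.Injective ((lTensorB (B := B) (M := M) f).lTensor P) :=
    Module.Flat.lTensor_preserves_injective_linearMap _ h1
  intro a b hab
  apply (TensorProduct.AlgebraTensorModule.assoc A B B P M N).injective
  apply h2
  rw [assoc_lTensor, assoc_lTensor, hab]

theorem flat_of_flat_tensor [Module.FaithfullyFlat B P] [Module.Flat A (P ⊗[B] M)] :
    Module.Flat A M := by
  rw [Module.Flat.iff_lTensor_preserves_injective_linearMap]
  intro N Q _ _ _ _ f hf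
  have h0 : Function.Injective (f.lTensor (P ⊗[B] M)) :=
    Module.Flat.lTensor_preserves_injective_linearMap f hf
  change Function.Injective (lTensorB (B := B) (M := M) f)
  rw [← Module.FaithfullyFlat.lTensor_injective_iff_injective B P]
  intro a b hab
  obtain ⟨a', rfl⟩ := (TensorProduct.AlgebraTensorModule.assoc A B B P M N).surjective a
  obtain ⟨b', rfl⟩ := (TensorProduct.AlgebraTensorModule.assoc A B B P M N).surjective b
  rw [assoc_lTensor, assoc_lTensor] at hab
  rw [h0 ((TensorProduct.AlgebraTensorModule.assoc A B B P M Q).injective hab)]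

theorem smul_top_ne_top_tensor [Module.FaithfullyFlat B P] (I : Ideal A)
    (h : I • (⊤ : Submodule A M) ≠ ⊤) : I • (⊤ : Submodule A (P ⊗[B] M)) ≠ ⊤ := by
  haveI h1 : Nontrivial (M ⊗[A] (A ⧸ I)) :=
    (TensorProduct.tensorQuotEquivQuotSMul M I).toEquiv.nontrivial_congr.2
      (Submodule.Quotient.nontrivial_iff.2 h)
  haveI h2 : Nontrivial (P ⊗[B] (M ⊗[A] (A ⧸ I))) :=
    Module.FaithfullyFlat.lTensor_nontrivial B P _
  haveI h3 : Nontrivial ((P ⊗[B] M) ⊗[A] (A ⧸ I)) :=
    (TensorProduct.AlgebraTensorModule.assoc A B B P M (A ⧸ I)).toEquiv.nontrivial_congr.2 h2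
  exact Submodule.Quotient.nontrivial_iff.1
    ((TensorProduct.tensorQuotEquivQuotSMul (P ⊗[B] M) I).toEquiv.nontrivial_congr.1 h3)

theorem smul_top_ne_top_of_tensor (I : Ideal A)
    (h : I • (⊤ : Submodule A (P ⊗[B] M)) ≠ ⊤) : I • (⊤ : Submodule A M) ≠ ⊤ := by
  intro htop
  apply h
  rw [eq_top_iff]
  intro z _
  induction z using TensorProduct.induction_on with
  | zero => exact Submodule.zero_mem _
  | tmul p m =>
    have hm : m ∈ I • (⊤ : Submodule A M) := by rw [htop]; trivial
    refine Submodule.smul_induction_on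
      (p := fun m => p ⊗ₜ[B] m ∈ I • (⊤ : Submodule A (P ⊗[B] M))) hm ?_ ?_
    · intro a ha n _
      rw [← TensorProduct.smul_tmul, ← TensorProduct.smul_tmul']
      exact Submodule.smul_mem_smul ha trivial
    · intro a b ha hb
      rw [tmul_add]
      exact Submodule.add_mem _ ha hb
  | add x y hx hy => exact Submodule.add_mem _ (hx trivial) (hy trivial)

end Groth.Agent.Lib.Helper15.FFTensor
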