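import Groth.Agent.Lib.Helper15.FFTensor
import Groth.Agent.Lib.Helper15.FFRel
import Groth.Agent.Lib.Helper12.SkyT7
import Groth.Agent.Lib.Lead.PullbackAff6

/-!
# Stalks of `P ⊗ q^* G'` (helper15)
-/

set_option autoImplicit false
universe u
open CategoryTheory CategoryTheory.Limits AlgebraicGeometry TopologicalSpace TensorProduct

namespace Groth.Agent.Lib.Helper15.FFTensorSch

open Groth.Agent.Lib.Helper15.FFTensor

variable {X' Y' : Scheme.{u}} (q : X' ⟶ Y') (P₀ : X'.Modules) (G' : Y'.Modules)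
  [G'.IsQuasicoherent] (x' : X')

/-- `(P₀ ⊗ q^* G')_{x'} ≃ (P₀)_{x'} ⊗[O_{Y', q x'}] G'_{q x'}`, linearly over `O_{X', x'}`. -/
theorem nonempty_stalk_tensor_pullback_equiv :
    letI := (q.stalkMap x').hom.toAlgebra
    letI : Module (Y'.presheaf.stalk (q x')) (P₀.presheaf.stalk x') :=
      FlatMod.moduleStalkOver q P₀ x'
    haveI : IsScalarTower (Y'.presheaf.stalk (q x')) (X'.presheaf.stalk x')
        (P₀.presheaf.stalk x') := IsScalarTower.of_algebraMap_smul fun r m => rfl
    Nonempty ((CohB1.tensorMod P₀ ((Scheme.Modules.pullback q).obj G')).presheaf.stalk x'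
      ≃ₗ[X'.presheaf.stalk x']
      (P₀.presheaf.stalk x') ⊗[Y'.presheaf.stalk (q x')] (G'.presheaf.stalk (q x'))) := by
  letI := (q.stalkMap x').hom.toAlgebra
  letI : Module (Y'.presheaf.stalk (q x')) (P₀.presheaf.stalk x') :=
    FlatMod.moduleStalkOver q P₀ x'
  haveI : IsScalarTower (Y'.presheaf.stalk (q x')) (X'.presheaf.stalk x')
      (P₀.presheaf.stalk x') := IsScalarTower.of_algebraMap_smul fun r m => rfl
  obtain ⟨e2⟩ := Groth.Agent.Lib.Lead.PullbackAff.nonempty_stalk_pullback_equiv q G' x'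
  let e1 : (CohB1.tensorMod P₀ ((Scheme.Modules.pullback q).obj G')).presheaf.stalk x'
      ≃ₗ[X'.presheaf.stalk x']
      (P₀.presheaf.stalk x') ⊗[X'.presheaf.stalk x']
        (((Scheme.Modules.pullback q).obj G').presheaf.stalk x') :=
    (Groth.Agent.Lib.Helper12.Sky.stalkTensorIso x' P₀
      ((Scheme.Modules.pullback q).obj G')).toLinearEquiv
  let e3 : (P₀.presheaf.stalk x') ⊗[X'.presheaf.stalk x']
        (((Scheme.Modules.pullback q).obj G').presheaf.stalk x') ≃ₗ[X'.presheaf.stalk x']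
      (P₀.presheaf.stalk x') ⊗[X'.presheaf.stalk x']
        ((X'.presheaf.stalk x') ⊗[Y'.presheaf.stalk (q x')] (G'.presheaf.stalk (q x'))) :=
    TensorProduct.AlgebraTensorModule.congr (LinearEquiv.refl _ _) e2
  let e4 := TensorProduct.AlgebraTensorModule.cancelBaseChange (Y'.presheaf.stalk (q x'))
    (X'.presheaf.stalk x') (X'.presheaf.stalk x') (P₀.presheaf.stalk x')
    (G'.presheaf.stalk (q x'))
  exact ⟨e1 ≪≫ₗ e3 ≪≫ₗ e4⟩

theorem smul_top_eq_top_congr {A M M' : Type u} [CommRing A] [AddCommGroup M] [AddCommGroup M']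
    [Module A M] [Module A M'] (e : M ≃ₗ[A] M') (I : Ideal A)
    (h : I • (⊤ : Submodule A M) = ⊤) : I • (⊤ : Submodule A M') = ⊤ := by
  have h1 := Submodule.map_smul'' I (⊤ : Submodule A M) e.toLinearMap
  rw [h, Submodule.map_top, LinearEquiv.range] at h1
  exact h1.symm

variable {Z : Scheme.{u}} (h : Y' ⟶ Z)

set_option maxHeartbeats 800000 in
/-- The four stalk-level facts about `P₀ ⊗ q^* G'` at `x'` relative to `Z`. -/
theorem stalk_facts :
    (FlatMod.IsFlatOverAt q P₀ x' → FlatMod.IsFlatOverAt h G' (q x') →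
      FlatMod.IsFlatOverAt (q ≫ h) (CohB1.tensorMod P₀ ((Scheme.Modules.pullback q).obj G')) x') ∧
    (FlatMod.IsFlatOverAt q P₀ x' →
      (letI := FlatMod.moduleStalkOver q P₀ x'
       IsLocalRing.maximalIdeal (Y'.presheaf.stalk (q x')) •
        (⊤ : Submodule (Y'.presheaf.stalk (q x')) (P₀.presheaf.stalk x')) ≠ ⊤) →
      FlatMod.IsFlatOverAt (q ≫ h) (CohB1.tensorMod P₀ ((Scheme.Modules.pullback q).obj G')) x' →
      FlatMod.IsFlatOverAt h G' (q x')) ∧
    (FlatMod.IsFlatOverAt q P₀ x' →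
      (letI := FlatMod.moduleStalkOver q P₀ x'
       IsLocalRing.maximalIdeal (Y'.presheaf.stalk (q x')) •
        (⊤ : Submodule (Y'.presheaf.stalk (q x')) (P₀.presheaf.stalk x')) ≠ ⊤) →
      (letI := FlatMod.moduleStalkOver h G' (q x')
       IsLocalRing.maximalIdeal (Z.presheaf.stalk (h (q x'))) •
        (⊤ : Submodule (Z.presheaf.stalk (h (q x'))) (G'.presheaf.stalk (q x'))) ≠ ⊤) →
      (letI := FlatMod.moduleStalkOver (q ≫ h)
        (CohB1.tensorMod P₀ ((Scheme.Modules.pullback q).obj G')) x';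
       IsLocalRing.maximalIdeal (Z.presheaf.stalk ((q ≫ h) x')) •
        (⊤ : Submodule (Z.presheaf.stalk ((q ≫ h) x'))
          ((CohB1.tensorMod P₀ ((Scheme.Modules.pullback q).obj G')).presheaf.stalk x')) ≠ ⊤)) ∧
    ((letI := FlatMod.moduleStalkOver (q ≫ h)
        (CohB1.tensorMod P₀ ((Scheme.Modules.pullback q).obj G')) x';
       IsLocalRing.maximalIdeal (Z.presheaf.stalk ((q ≫ h) x')) •
        (⊤ : Submodule (Z.presheaf.stalk ((q ≫ h) x'))
          ((CohB1.tensorMod P₀ ((Scheme.Modules.pullback q).obj G')).presheaf.stalk x')) ≠ ⊤) →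
      (letI := FlatMod.moduleStalkOver h G' (q x')
       IsLocalRing.maximalIdeal (Z.presheaf.stalk (h (q x'))) •
        (⊤ : Submodule (Z.presheaf.stalk (h (q x'))) (G'.presheaf.stalk (q x'))) ≠ ⊤)) := by
  letI algR'B' : Algebra (Y'.presheaf.stalk (q x')) (X'.presheaf.stalk x') :=
    (q.stalkMap x').hom.toAlgebra
  letI algZR' : Algebra (Z.presheaf.stalk (h (q x'))) (Y'.presheaf.stalk (q x')) :=
    (h.stalkMap (q x')).hom.toAlgebra
  letI algZB' : Algebra (Z.presheaf.stalk (h (q x'))) (X'.presheaf.stalk x') :=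
    ((q ≫ h).stalkMap x').hom.toAlgebra
  haveI tZRB : IsScalarTower (Z.presheaf.stalk (h (q x'))) (Y'.presheaf.stalk (q x'))
      (X'.presheaf.stalk x') := IsScalarTower.of_algebraMap_eq' (by
    change ((q ≫ h).stalkMap x').hom = ((q.stalkMap x').hom).comp ((h.stalkMap (q x')).hom)
    rw [Scheme.Hom.stalkMap_comp]
    rfl)
  letI modR'P : Module (Y'.presheaf.stalk (q x')) (P₀.presheaf.stalk x') :=
    FlatMod.moduleStalkOver q P₀ x'
  letI modZP : Module (Z.presheaf.stalk (h (q x'))) (P₀.presheaf.stalk x') :=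
    FlatMod.moduleStalkOver (q ≫ h) P₀ x'
  haveI tRBP : IsScalarTower (Y'.presheaf.stalk (q x')) (X'.presheaf.stalk x')
      (P₀.presheaf.stalk x') := IsScalarTower.of_algebraMap_smul fun r m => rfl
  haveI tZBP : IsScalarTower (Z.presheaf.stalk (h (q x'))) (X'.presheaf.stalk x')
      (P₀.presheaf.stalk x') := IsScalarTower.of_algebraMap_smul fun r m => rfl
  haveI tZRP : IsScalarTower (Z.presheaf.stalk (h (q x'))) (Y'.presheaf.stalk (q x'))
      (P₀.presheaf.stalk x') := IsScalarTower.of_algebraMap_smul fun r m => by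
    change ((q.stalkMap x').hom ((h.stalkMap (q x')).hom r)) • m =
      (((q ≫ h).stalkMap x').hom r) • m
    rw [Scheme.Hom.stalkMap_comp]
    rfl
  letI modZG : Module (Z.presheaf.stalk (h (q x'))) (G'.presheaf.stalk (q x')) :=
    FlatMod.moduleStalkOver h G' (q x')
  haveI tZRG : IsScalarTower (Z.presheaf.stalk (h (q x'))) (Y'.presheaf.stalk (q x'))
      (G'.presheaf.stalk (q x')) := IsScalarTower.of_algebraMap_smul fun r m => rfl
  letI modZE : Module (Z.presheaf.stalk (h (q x')))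
      ((CohB1.tensorMod P₀ ((Scheme.Modules.pullback q).obj G')).presheaf.stalk x') :=
    FlatMod.moduleStalkOver (q ≫ h) (CohB1.tensorMod P₀ ((Scheme.Modules.pullback q).obj G')) x'
  haveI tZBE : IsScalarTower (Z.presheaf.stalk (h (q x'))) (X'.presheaf.stalk x')
      ((CohB1.tensorMod P₀ ((Scheme.Modules.pullback q).obj G')).presheaf.stalk x') :=
    IsScalarTower.of_algebraMap_smul fun r m => rfl
  obtain ⟨e⟩ := nonempty_stalk_tensor_pullback_equiv q P₀ G' x'
  let eZ : ((CohB1.tensorMod P₀ ((Scheme.Modules.pullback q).obj G')).presheaf.stalk x')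
      ≃ₗ[Z.presheaf.stalk (h (q x'))]
      (P₀.presheaf.stalk x') ⊗[Y'.presheaf.stalk (q x')] (G'.presheaf.stalk (q x')) :=
    e.restrictScalars (Z.presheaf.stalk (h (q x')))
  refine ⟨?_, ?_, ?_, ?_⟩
  · intro hP hG
    haveI : Module.Flat (Y'.presheaf.stalk (q x')) (P₀.presheaf.stalk x') := hP
    haveI : Module.Flat (Z.presheaf.stalk (h (q x'))) (G'.presheaf.stalk (q x')) := hG
    haveI := flat_tensor_of_flat (Z.presheaf.stalk (h (q x'))) (Y'.presheaf.stalk (q x'))
      (P₀.presheaf.stalk x') (G'.presheaf.stalk (q x'))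
    have key : Module.Flat (Z.presheaf.stalk (h (q x')))
        ((CohB1.tensorMod P₀ ((Scheme.Modules.pullback q).obj G')).presheaf.stalk x') :=
      Module.Flat.of_linearEquiv eZ
    exact key
  · intro hP hne hE
    haveI : Module.Flat (Y'.presheaf.stalk (q x')) (P₀.presheaf.stalk x') := hP
    haveI : Module.FaithfullyFlat (Y'.presheaf.stalk (q x')) (P₀.presheaf.stalk x') :=
      Groth.Agent.Lib.Helper15.FFRel.faithfullyFlat_of_local hne
    haveI : Module.Flat (Z.presheaf.stalk (h (q x')))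
        ((CohB1.tensorMod P₀ ((Scheme.Modules.pullback q).obj G')).presheaf.stalk x') := hE
    haveI : Module.Flat (Z.presheaf.stalk (h (q x')))
        ((P₀.presheaf.stalk x') ⊗[Y'.presheaf.stalk (q x')] (G'.presheaf.stalk (q x'))) :=
      Module.Flat.of_linearEquiv eZ.symm
    exact flat_of_flat_tensor (Z.presheaf.stalk (h (q x'))) (Y'.presheaf.stalk (q x'))
      (P₀.presheaf.stalk x') (G'.presheaf.stalk (q x'))
  · intro hP hne hG
    haveI : Module.Flat (Y'.presheaf.stalk (q x')) (P₀.presheaf.stalk x') := hP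
    haveI : Module.FaithfullyFlat (Y'.presheaf.stalk (q x')) (P₀.presheaf.stalk x') :=
      Groth.Agent.Lib.Helper15.FFRel.faithfullyFlat_of_local hne
    have h1 := smul_top_ne_top_tensor (Z.presheaf.stalk (h (q x'))) (Y'.presheaf.stalk (q x'))
      (P₀.presheaf.stalk x') (G'.presheaf.stalk (q x')) _ hG
    intro htop
    exact h1 (smul_top_eq_top_congr eZ _ htop)
  · intro hE htop
    apply hE
    have h1 : IsLocalRing.maximalIdeal (Z.presheaf.stalk (h (q x'))) •
        (⊤ : Submodule (Z.presheaf.stalk (h (q x')))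
          ((P₀.presheaf.stalk x') ⊗[Y'.presheaf.stalk (q x')] (G'.presheaf.stalk (q x')))) = ⊤ := by
      by_contra hne
      exact smul_top_ne_top_of_tensor (Z.presheaf.stalk (h (q x'))) (Y'.presheaf.stalk (q x'))
        (P₀.presheaf.stalk x') (G'.presheaf.stalk (q x')) _ hne htop
    exact smul_top_eq_top_congr eZ.symm _ h1

end Groth.Agent.Lib.Helper15.FFTensorSch
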