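import Mathlib

/-!
# Non-vanishing of fibres of modules under base change: commutative algebra (helper15)

* `smul_top_ne_top_of_nontrivial_tensor`: `T ⊗[A] K ≠ 0` and `P ↦ 0` in `K` give `P T ≠ T`.
* `exists_prime_fibre_ne`: if `N' ⊗[A'] K' ≠ 0` (`N'` a `C`-module, `K'` a "residue field of `P'`")
  there is a prime `Q'` of `C` over `P'` with `P' N'_{Q'} ≠ N'_{Q'}`.
* `nontrivial_tensor_residue`: `𝔪 T ≠ T` gives `T ⊗[R] K' ≠ 0` for a field `K'` killing `𝔪`.
* `nontrivial_tensor_of_chart`: chart level transfer of non-vanishing through a pushout square.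
-/

set_option autoImplicit false
universe u

open TensorProduct

namespace Groth.Agent.Lib.Helper15.FibNe

theorem smul_top_ne_top_of_nontrivial_tensor {A T K : Type u} [CommRing A] [AddCommGroup T]
    [Module A T] [CommRing K] [Algebra A K] (P : Ideal A)
    (h0 : ∀ a ∈ P, algebraMap A K a = 0) [Nontrivial (T ⊗[A] K)] :
    P • (⊤ : Submodule A T) ≠ ⊤ := by
  intro htop
  have hsub : Subsingleton (T ⊗[A] K) := by
    refine subsingleton_of_forall_eq 0 fun z => ?_
    induction z using TensorProduct.induction_on with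
    | zero => rfl
    | tmul t c =>
      have ht : t ∈ P • (⊤ : Submodule A T) := by rw [htop]; trivial
      refine Submodule.smul_induction_on (p := fun t => t ⊗ₜ[A] c = 0) ht ?_ ?_
      · intro a ha n _
        rw [TensorProduct.smul_tmul, Algebra.smul_def, h0 a ha, zero_mul, tmul_zero]
      · intro a b ha hb
        rw [add_tmul, ha, hb, add_zero]
    | add a b ha hb => rw [ha, hb, add_zero]
  exact not_subsingleton _ hsub

theorem exists_prime_fibre_ne {A' C N' K' : Type u} [CommRing A'] [CommRing C] [Algebra A' C]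
    [AddCommGroup N'] [Module C N'] [Module A' N'] [IsScalarTower A' C N'] [CommRing K']
    [Algebra A' K'] (P' : Ideal A') [P'.IsPrime]
    (h0 : ∀ a ∈ P', algebraMap A' K' a = 0) (hu : ∀ a, a ∉ P' → IsUnit (algebraMap A' K' a))
    (hN : Nontrivial (N' ⊗[A'] K')) :
    ∃ (Q' : Ideal C) (_ : Q'.IsPrime), Q'.comap (algebraMap A' C) = P' ∧
      ∀ (T' : Type u) [AddCommGroup T'] [Module C T'] [Module A' T'] [IsScalarTower A' C T']
        (l' : N' →ₗ[C] T'), IsLocalizedModule Q'.primeCompl l' →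
          P' • (⊤ : Submodule A' T') ≠ ⊤ := by
  obtain ⟨l, hl⟩ : ∃ l : N' ⊗[A'] K', l ≠ 0 := exists_ne 0
  -- elements of `P'` kill the tensor product
  have hkill : ∀ a ∈ P', ∀ z : N' ⊗[A'] K', a • z = 0 := by
    intro a ha z
    induction z using TensorProduct.induction_on with
    | zero => simp
    | tmul n c =>
      rw [← TensorProduct.tmul_smul, Algebra.smul_def, h0 a ha, zero_mul, tmul_zero]
    | add x y hx hy => rw [smul_add, hx, hy, add_zero]
  -- elements outside `P'` act injectively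
  have hinj : ∀ a, a ∉ P' → ∀ z : N' ⊗[A'] K', a • z = 0 → z = 0 := by
    intro a ha z hz
    obtain ⟨v, hv⟩ := hu a ha
    let ψ : N' ⊗[A'] K' →ₗ[A'] N' ⊗[A'] K' :=
      LinearMap.lTensor N' (LinearMap.mulLeft A' ((↑v⁻¹ : K')))
    have hψ : ∀ w : N' ⊗[A'] K', ψ (a • w) = w := by
      intro w
      induction w using TensorProduct.induction_on with
      | zero => simp
      | tmul n c =>
        rw [← TensorProduct.tmul_smul]
        change n ⊗ₜ[A'] ((↑v⁻¹ : K') * (a • c)) = _
        rw [Algebra.smul_def, ← hv, ← mul_assoc, Units.inv_mul, one_mul]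
      | add x y hx hy => rw [smul_add, map_add, hx, hy]
    rw [← hψ z, hz, map_zero]
  let I : Ideal C := LinearMap.ker (LinearMap.toSpanSingleton C (N' ⊗[A'] K') l)
  have hI : ∀ c : C, c ∈ I ↔ c • l = 0 := fun c => by
    change LinearMap.toSpanSingleton C (N' ⊗[A'] K') l c = 0 ↔ _
    rw [LinearMap.toSpanSingleton_apply]
  have hdisj : Disjoint (I : Set C)
      (Algebra.algebraMapSubmonoid C P'.primeCompl : Set C) := by
    rw [Set.disjoint_left]
    rintro c hc ⟨a, ha, rfl⟩
    have h1 : (algebraMap A' C a) • l = 0 := (hI _).1 hc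
    rw [algebraMap_smul] at h1
    exact hl (hinj a ha l h1)
  obtain ⟨Q', hQ', hIQ', hdisj'⟩ := Ideal.exists_le_prime_disjoint I _ hdisj
  haveI := hQ'
  refine ⟨Q', hQ', ?_, ?_⟩
  · ext a
    rw [Ideal.mem_comap]
    constructor
    · intro ha
      by_contra hna
      exact Set.disjoint_left.1 hdisj' ha ⟨a, hna, rfl⟩
    · intro ha
      apply hIQ'
      rw [hI, algebraMap_smul]
      exact hkill a ha l
  · intro T' _ _ _ _ l' hloc
    haveI := hloc
    haveI : IsLocalizedModule Q'.primeCompl (AlgebraTensorModule.rTensor A' K' l') :=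
      inferInstance
    have hne : (AlgebraTensorModule.rTensor A' K' l') l ≠ 0 := by
      intro h
      obtain ⟨s, hs⟩ := (IsLocalizedModule.eq_zero_iff Q'.primeCompl
        (AlgebraTensorModule.rTensor A' K' l')).1 h
      exact s.2 (hIQ' ((hI _).2 hs))
    haveI : Nontrivial (T' ⊗[A'] K') := ⟨⟨_, 0, hne⟩⟩
    exact smul_top_ne_top_of_nontrivial_tensor P' h0

theorem nontrivial_tensor_residue {R T K' : Type u} [CommRing R] [IsLocalRing R]
    [AddCommGroup T] [Module R T] [Field K'] [Algebra R K']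
    (h0 : ∀ r ∈ IsLocalRing.maximalIdeal R, algebraMap R K' r = 0)
    (hT : IsLocalRing.maximalIdeal R • (⊤ : Submodule R T) ≠ ⊤) :
    Nontrivial (T ⊗[R] K') := by
  haveI h1 : Nontrivial (T ⊗[R] (R ⧸ IsLocalRing.maximalIdeal R)) :=
    (TensorProduct.tensorQuotEquivQuotSMul T (IsLocalRing.maximalIdeal R)).toEquiv.nontrivial_congr.2
      (Submodule.Quotient.nontrivial_iff.2 hT)
  let φ : (R ⧸ IsLocalRing.maximalIdeal R) →+* K' :=
    Ideal.Quotient.lift (IsLocalRing.maximalIdeal R) (algebraMap R K') h0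
  letI : Field (R ⧸ IsLocalRing.maximalIdeal R) := Ideal.Quotient.field _
  letI algκ : Algebra (R ⧸ IsLocalRing.maximalIdeal R) K' := φ.toAlgebra
  haveI : IsScalarTower R (R ⧸ IsLocalRing.maximalIdeal R) K' :=
    IsScalarTower.of_algebraMap_eq fun r => rfl
  obtain ⟨g, hg⟩ := (Algebra.linearMap (R ⧸ IsLocalRing.maximalIdeal R) K').exists_leftInverse_of_injective
    (LinearMap.ker_eq_bot.2 (algebraMap (R ⧸ IsLocalRing.maximalIdeal R) K').injective)
  let ι : (R ⧸ IsLocalRing.maximalIdeal R) →ₗ[R] K' :=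
    (Algebra.linearMap (R ⧸ IsLocalRing.maximalIdeal R) K').restrictScalars R
  let ρ : K' →ₗ[R] (R ⧸ IsLocalRing.maximalIdeal R) := g.restrictScalars R
  have hρι : ρ ∘ₗ ι = LinearMap.id := by
    ext x
    exact LinearMap.congr_fun hg _
  by_contra hnot
  rw [not_nontrivial_iff_subsingleton] at hnot
  have : Subsingleton (T ⊗[R] (R ⧸ IsLocalRing.maximalIdeal R)) := by
    refine subsingleton_of_forall_eq 0 fun z => ?_
    have h2 : (LinearMap.lTensor T ρ) ((LinearMap.lTensor T ι) z) = z := by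
      rw [← LinearMap.comp_apply, ← LinearMap.lTensor_comp, hρι, LinearMap.lTensor_id]
      rfl
    rw [← h2, Subsingleton.elim ((LinearMap.lTensor T ι) z) 0, map_zero]
  exact not_subsingleton _ this

theorem nontrivial_tensor_of_chart
    {A A' B C R K' N N' T : Type u} [CommRing A] [CommRing A'] [CommRing B] [CommRing C]
    [CommRing R] [IsLocalRing R] [Field K']
    [Algebra A A'] [Algebra A B] [Algebra A C] [Algebra B C] [Algebra A' C]
    [IsScalarTower A B C] [IsScalarTower A A' C] [Algebra.IsPushout A A' B C]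
    [Algebra A R] (P : Ideal A) [P.IsPrime] [IsLocalization.AtPrime R P]
    [Algebra A K'] [Algebra A' K'] [IsScalarTower A A' K'] [Algebra R K'] [IsScalarTower A R K']
    (h0 : ∀ r ∈ IsLocalRing.maximalIdeal R, algebraMap R K' r = 0)
    [AddCommGroup N] [Module A N] [Module B N] [IsScalarTower A B N]
    [AddCommGroup N'] [Module C N'] [Module A' N'] [IsScalarTower A' C N']
    (e : N' ≃ₗ[C] C ⊗[B] N)
    [AddCommGroup T] [Module A T] [Module B T] [IsScalarTower A B T] [Module R T]
    [IsScalarTower A R T]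
    (S : Submonoid B) (l : N →ₗ[B] T) [IsLocalizedModule S l]
    (hT : IsLocalRing.maximalIdeal R • (⊤ : Submodule R T) ≠ ⊤) :
    Nontrivial (N' ⊗[A'] K') := by
  haveI h1 : Nontrivial (T ⊗[R] K') := nontrivial_tensor_residue h0 hT
  haveI h2 : Nontrivial (T ⊗[A] K') :=
    (IsLocalization.moduleTensorEquiv P.primeCompl R T K').toEquiv.nontrivial_congr.1 h1
  haveI hloc : IsLocalizedModule S (AlgebraTensorModule.rTensor A K' l) := inferInstance
  haveI h3 : Nontrivial (N ⊗[A] K') := by
    by_contra hnot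
    rw [not_nontrivial_iff_subsingleton] at hnot
    have : Subsingleton (T ⊗[A] K') := by
      refine subsingleton_of_forall_eq 0 fun z => ?_
      obtain ⟨⟨m, s⟩, hms⟩ := IsLocalizedModule.surj S (AlgebraTensorModule.rTensor A K' l) z
      rw [Subsingleton.elim m 0, map_zero] at hms
      have hu := IsLocalizedModule.map_units (AlgebraTensorModule.rTensor A K' l) s
      rw [Module.End.isUnit_iff] at hu
      apply hu.1
      rw [Module.algebraMap_end_apply, Module.algebraMap_end_apply, smul_zero]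
      exact hms
    exact not_subsingleton _ this
  let e' : N' ≃ₗ[A'] A' ⊗[A] N :=
    (e.restrictScalars A') ≪≫ₗ Algebra.IsPushout.cancelBaseChange A A' B C N
  let e1 : N' ⊗[A'] K' ≃ₗ[A'] (A' ⊗[A] N) ⊗[A'] K' :=
    TensorProduct.congr e' (LinearEquiv.refl A' K')
  let e2 : (A' ⊗[A] N) ⊗[A'] K' ≃ₗ[A'] K' ⊗[A'] (A' ⊗[A] N) := TensorProduct.comm A' _ _
  let e3 : K' ⊗[A'] (A' ⊗[A] N) ≃ₗ[A'] K' ⊗[A] N :=
    AlgebraTensorModule.cancelBaseChange A A' A' K' N
  let e4 : K' ⊗[A] N ≃ₗ[A] N ⊗[A] K' := TensorProduct.comm A _ _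
  exact (e1.toEquiv.trans (e2.toEquiv.trans (e3.toEquiv.trans e4.toEquiv))).nontrivial

end Groth.Agent.Lib.Helper15.FibNe
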