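import Groth.Agent.Lib.Helper15.FibNe
import Groth.Agent.Lib.Helper22.FlatBC

/-!
# Non-vanishing of fibres of quasi-coherent modules under base change (helper15)

* `fibNe_of_stalkOver`: chart criterion `P (F_x) ≠ F_x` ⟹ `𝔪_{f x} F_x ≠ F_x`.
* `exists_fibre_ne`: if `F_x ⊗ κ(f x) ≠ 0` and `g y' = f x`, there is a point `x'` of `X ×_Y Y'` over `y'`
  with `(p^* F)_{x'} ⊗ κ(y') ≠ 0`.
-/

set_option autoImplicit false
universe u
open CategoryTheory CategoryTheory.Limits AlgebraicGeometry TopologicalSpace TensorProduct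

namespace Groth.Agent.Lib.Helper15.FibNeSch

open Groth.Agent.Lib.Lead.PullbackAff Groth.Agent.Lib.Lead.QCohAff Scheme.Modules
open Groth.Agent.Lib.Helper15.FibNe

theorem fibNe_of_stalkOver {X S : Scheme.{u}} (f : X ⟶ S) (F : X.Modules) {U : X.Opens}
    {V : S.Opens} (hV : IsAffineOpen V) (hUV : U ≤ f ⁻¹ᵁ V) (x : X) (hx : x ∈ U)
    (h : letI : Module Γ(S, V) (StalkOver F U x hx) :=
        Module.compHom (StalkOver F U x hx) (f.appLE V U hUV).hom
      (hV.primeIdealOf ⟨f x, hUV hx⟩).asIdeal • (⊤ : Submodule Γ(S, V) (StalkOver F U x hx)) ≠ ⊤) :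
    letI := FlatMod.moduleStalkOver f F x
    IsLocalRing.maximalIdeal (S.presheaf.stalk (f x)) •
      (⊤ : Submodule (S.presheaf.stalk (f x)) (F.presheaf.stalk x)) ≠ ⊤ := by
  letI modOS : Module (S.presheaf.stalk (f x)) (F.presheaf.stalk x) :=
    FlatMod.moduleStalkOver f F x
  intro htop
  have hs : f x ∈ V := hUV hx
  letI algAR := S.presheaf.algebra_section_stalk ⟨f x, hs⟩
  haveI := hV.isLocalization_stalk ⟨f x, hs⟩
  letI modA : Module Γ(S, V) (F.presheaf.stalk x) :=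
    Module.compHom (F.presheaf.stalk x) (algebraMap Γ(S, V) (S.presheaf.stalk (f x)))
  haveI : IsScalarTower Γ(S, V) (S.presheaf.stalk (f x)) (F.presheaf.stalk x) :=
    IsScalarTower.of_algebraMap_smul fun r m => rfl
  have h1 := Ideal.smul_restrictScalars (hV.primeIdealOf ⟨f x, hs⟩).asIdeal
    (⊤ : Submodule (S.presheaf.stalk (f x)) (F.presheaf.stalk x))
  rw [IsLocalization.AtPrime.map_eq_maximalIdeal, htop] at h1
  letI modB' : Module Γ(S, V) (StalkOver F U x hx) :=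
    Module.compHom (StalkOver F U x hx) (f.appLE V U hUV).hom
  apply h
  rw [eq_top_iff]
  intro t _
  have ht : t.toStalk ∈ (hV.primeIdealOf ⟨f x, hs⟩).asIdeal •
      (⊤ : Submodule (S.presheaf.stalk (f x)) (F.presheaf.stalk x)).restrictScalars Γ(S, V) := by
    rw [← h1]; trivial
  refine Submodule.smul_induction_on
    (p := fun t => StalkOver.ofStalk hx t ∈ (hV.primeIdealOf ⟨f x, hs⟩).asIdeal •
      (⊤ : Submodule Γ(S, V) (StalkOver F U x hx))) ht ?_ ?_
  · intro a ha n _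
    have : StalkOver.ofStalk hx (a • n) = a • StalkOver.ofStalk hx n := by
      change f.stalkMap x (S.presheaf.germ V (f x) hs a) • n =
        X.presheaf.germ U x hx (f.appLE V U hUV a) • n
      rw [stalkMap_germ_appLE f hUV x hx a]
    rw [this]
    exact Submodule.smul_mem_smul ha trivial
  · intro a b ha hb
    exact Submodule.add_mem _ ha hb

set_option maxHeartbeats 1600000 in
theorem exists_fibre_ne {X Y Y' : Scheme.{u}} (f : X ⟶ Y) (g : Y' ⟶ Y) (F : X.Modules)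
    (hF : Coh.IsQCoh F) (y' : Y') (x : X) (hxy : f x = g y')
    (hx : letI := FlatMod.moduleStalkOver f F x
      IsLocalRing.maximalIdeal (Y.presheaf.stalk (f x)) •
        (⊤ : Submodule (Y.presheaf.stalk (f x)) (F.presheaf.stalk x)) ≠ ⊤) :
    ∃ x' : ↥(pullback f g), (pullback.snd f g) x' = y' ∧
      letI := FlatMod.moduleStalkOver (pullback.snd f g)
        ((Scheme.Modules.pullback (pullback.fst f g)).obj F) x'
      IsLocalRing.maximalIdeal (Y'.presheaf.stalk ((pullback.snd f g) x')) •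
        (⊤ : Submodule (Y'.presheaf.stalk ((pullback.snd f g) x'))
          (((Scheme.Modules.pullback (pullback.fst f g)).obj F).presheaf.stalk x')) ≠ ⊤ := by
  haveI : F.IsQuasicoherent := hF
  -- charts
  obtain ⟨V, hV, hxV, -⟩ := exists_isAffineOpen_mem_and_subset (U := (⊤ : Y.Opens))
    (x := f x) trivial
  have hy'V : y' ∈ g ⁻¹ᵁ V := by
    change g y' ∈ V
    rw [← hxy]
    exact hxV
  obtain ⟨V', hV', hy'V', e'⟩ := exists_isAffineOpen_mem_and_subset hy'V
  replace e' : V' ≤ g ⁻¹ᵁ V := e'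
  have hxfV : x ∈ f ⁻¹ᵁ V := hxV
  obtain ⟨U, hU, hxU, e⟩ := exists_isAffineOpen_mem_and_subset hxfV
  replace e : U ≤ f ⁻¹ᵁ V := e
  have H : IsPullback (pullback.fst f g) (pullback.snd f g) f g := IsPullback.of_hasPullback f g
  have hpush := (isIso_pushoutSection_iff H e' e rfl).mp
    (isIso_pushoutSection_of_isAffineOpen H e' e rfl hV hV' hU)
  have hW : IsAffineOpen (pullback.fst f g ⁻¹ᵁ U ⊓ pullback.snd f g ⁻¹ᵁ V') := by
    have : IsAffine V := hV
    have : IsAffine V' := hV'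
    have : IsAffine U := hU
    exact .of_isIso (Scheme.Hom.isPullback_resLE H e' e rfl).isoPullback.hom
  letI algAB : Algebra Γ(Y, V) Γ(X, U) := (f.appLE V U e).hom.toAlgebra
  letI algAA' : Algebra Γ(Y, V) Γ(Y', V') := (g.appLE V V' e').hom.toAlgebra
  letI algBB' : Algebra Γ(X, U) Γ(pullback f g, pullback.fst f g ⁻¹ᵁ U ⊓ pullback.snd f g ⁻¹ᵁ V') :=
    ((pullback.fst f g).appLE U _ inf_le_left).hom.toAlgebra
  letI algA'B' : Algebra Γ(Y', V')
      Γ(pullback f g, pullback.fst f g ⁻¹ᵁ U ⊓ pullback.snd f g ⁻¹ᵁ V') :=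
    ((pullback.snd f g).appLE V' _ inf_le_right).hom.toAlgebra
  letI algAB' : Algebra Γ(Y, V)
      Γ(pullback f g, pullback.fst f g ⁻¹ᵁ U ⊓ pullback.snd f g ⁻¹ᵁ V') :=
    ((algebraMap Γ(X, U) Γ(pullback f g, pullback.fst f g ⁻¹ᵁ U ⊓ pullback.snd f g ⁻¹ᵁ V')).comp
      (algebraMap Γ(Y, V) Γ(X, U))).toAlgebra
  haveI t1 : IsScalarTower Γ(Y, V) Γ(X, U)
      Γ(pullback f g, pullback.fst f g ⁻¹ᵁ U ⊓ pullback.snd f g ⁻¹ᵁ V') :=
    IsScalarTower.of_algebraMap_eq' rfl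
  haveI t2 : IsScalarTower Γ(Y, V) Γ(Y', V')
      Γ(pullback f g, pullback.fst f g ⁻¹ᵁ U ⊓ pullback.snd f g ⁻¹ᵁ V') :=
    IsScalarTower.of_algebraMap_eq' (by
      have := congrArg CommRingCat.Hom.hom hpush.w
      exact this)
  haveI hP : Algebra.IsPushout Γ(Y, V) Γ(Y', V') Γ(X, U)
      Γ(pullback f g, pullback.fst f g ⁻¹ᵁ U ⊓ pullback.snd f g ⁻¹ᵁ V') := by
    apply Algebra.IsPushout.symm
    exact CommRingCat.isPushout_iff_isPushout.mp hpush
  -- local rings and the residue field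
  letI algAR : Algebra Γ(Y, V) (Y.presheaf.stalk (f x)) :=
    Y.presheaf.algebra_section_stalk ⟨f x, hxV⟩
  haveI locR := hV.isLocalization_stalk ⟨f x, hxV⟩
  letI algA'R' : Algebra Γ(Y', V') (Y'.presheaf.stalk y') :=
    Y'.presheaf.algebra_section_stalk ⟨y', hy'V'⟩
  haveI locR' := hV'.isLocalization_stalk ⟨y', hy'V'⟩
  let ρ : Y.presheaf.stalk (f x) →+* Y'.presheaf.stalk y' :=
    (Y.presheaf.stalkSpecializes (specializes_of_eq hxy.symm) ≫ g.stalkMap y').hom
  have hρ : ∀ a : Γ(Y, V), ρ (Y.presheaf.germ V (f x) hxV a) =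
      Y'.presheaf.germ V' y' hy'V' (g.appLE V V' e' a) := by
    intro a
    change g.stalkMap y' (Y.presheaf.stalkSpecializes (specializes_of_eq hxy.symm)
      (Y.presheaf.germ V (f x) hxV a)) = _
    have h1 := ConcreteCategory.congr_hom
      (TopCat.Presheaf.germ_stalkSpecializes Y.presheaf hxV (specializes_of_eq hxy.symm)) a
    rw [CommRingCat.comp_apply] at h1
    rw [h1]
    exact stalkMap_germ_appLE g e' y' hy'V' a
  letI algA'K' : Algebra Γ(Y', V') (IsLocalRing.ResidueField (Y'.presheaf.stalk y')) :=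
    ((algebraMap (Y'.presheaf.stalk y') (IsLocalRing.ResidueField (Y'.presheaf.stalk y'))).comp
      (algebraMap Γ(Y', V') (Y'.presheaf.stalk y'))).toAlgebra
  letI algAK' : Algebra Γ(Y, V) (IsLocalRing.ResidueField (Y'.presheaf.stalk y')) :=
    ((algebraMap Γ(Y', V') (IsLocalRing.ResidueField (Y'.presheaf.stalk y'))).comp
      (algebraMap Γ(Y, V) Γ(Y', V'))).toAlgebra
  haveI t3 : IsScalarTower Γ(Y, V) Γ(Y', V') (IsLocalRing.ResidueField (Y'.presheaf.stalk y')) :=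
    IsScalarTower.of_algebraMap_eq' rfl
  letI algRK' : Algebra (Y.presheaf.stalk (f x))
      (IsLocalRing.ResidueField (Y'.presheaf.stalk y')) :=
    ((algebraMap (Y'.presheaf.stalk y') (IsLocalRing.ResidueField (Y'.presheaf.stalk y'))).comp
      ρ).toAlgebra
  haveI t4 : IsScalarTower Γ(Y, V) (Y.presheaf.stalk (f x))
      (IsLocalRing.ResidueField (Y'.presheaf.stalk y')) :=
    IsScalarTower.of_algebraMap_eq' (by
      ext a
      change IsLocalRing.residue _ (Y'.presheaf.germ V' y' hy'V' (g.appLE V V' e' a)) =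
        IsLocalRing.residue _ (ρ (Y.presheaf.germ V (f x) hxV a))
      rw [hρ])
  -- the primes
  have hPP' : (hV'.primeIdealOf ⟨y', hy'V'⟩).comap (g.appLE V V' e').hom =
      hV.primeIdealOf ⟨f x, hxV⟩ := by
    rw [IsAffineOpen.comap_primeIdealOf_appLE V hV V' hV' e' hy'V']
    congr 2
    exact hxy.symm
  have h0' : ∀ a ∈ (hV'.primeIdealOf ⟨y', hy'V'⟩).asIdeal,
      algebraMap Γ(Y', V') (IsLocalRing.ResidueField (Y'.presheaf.stalk y')) a = 0 := by
    intro a ha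
    change IsLocalRing.residue _ (algebraMap Γ(Y', V') (Y'.presheaf.stalk y') a) = 0
    rw [IsLocalRing.residue_eq_zero_iff]
    exact (IsLocalization.AtPrime.to_map_mem_maximal_iff (Y'.presheaf.stalk y')
      (hV'.primeIdealOf ⟨y', hy'V'⟩).asIdeal a).2 ha
  have hu' : ∀ a, a ∉ (hV'.primeIdealOf ⟨y', hy'V'⟩).asIdeal →
      IsUnit (algebraMap Γ(Y', V') (IsLocalRing.ResidueField (Y'.presheaf.stalk y')) a) := by
    intro a ha
    have h1 : IsUnit (algebraMap Γ(Y', V') (Y'.presheaf.stalk y') a) :=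
      IsLocalization.map_units (Y'.presheaf.stalk y')
        (⟨a, ha⟩ : (hV'.primeIdealOf ⟨y', hy'V'⟩).asIdeal.primeCompl)
    exact h1.map (algebraMap (Y'.presheaf.stalk y')
      (IsLocalRing.ResidueField (Y'.presheaf.stalk y')))
  have h0 : ∀ r ∈ IsLocalRing.maximalIdeal (Y.presheaf.stalk (f x)),
      algebraMap (Y.presheaf.stalk (f x)) (IsLocalRing.ResidueField (Y'.presheaf.stalk y')) r = 0 := by
    have hle : IsLocalRing.maximalIdeal (Y.presheaf.stalk (f x)) ≤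
        RingHom.ker (algebraMap (Y.presheaf.stalk (f x))
          (IsLocalRing.ResidueField (Y'.presheaf.stalk y'))) := by
      rw [← IsLocalization.AtPrime.map_eq_maximalIdeal (hV.primeIdealOf ⟨f x, hxV⟩).asIdeal
        (Y.presheaf.stalk (f x)), Ideal.map_le_iff_le_comap]
      intro a ha
      rw [Ideal.mem_comap, RingHom.mem_ker, ← IsScalarTower.algebraMap_apply,
        IsScalarTower.algebraMap_apply Γ(Y, V) Γ(Y', V')]
      apply h0'
      have : a ∈ ((hV'.primeIdealOf ⟨y', hy'V'⟩).comap (g.appLE V V' e').hom).asIdeal := by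
        rw [hPP']; exact ha
      exact this
    intro r hr
    exact hle hr
  -- modules
  letI modAN : Module Γ(Y, V) Γ(F, U) := Module.compHom Γ(F, U) (f.appLE V U e).hom
  haveI : IsScalarTower Γ(Y, V) Γ(X, U) Γ(F, U) := IsScalarTower.of_algebraMap_smul fun r m => rfl
  letI modA'N' : Module Γ(Y', V') Γ((Scheme.Modules.pullback (pullback.fst f g)).obj F,
        pullback.fst f g ⁻¹ᵁ U ⊓ pullback.snd f g ⁻¹ᵁ V') :=
    Module.compHom _ ((pullback.snd f g).appLE V'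
        (pullback.fst f g ⁻¹ᵁ U ⊓ pullback.snd f g ⁻¹ᵁ V') inf_le_right).hom
  haveI : IsScalarTower Γ(Y', V')
      Γ(pullback f g, pullback.fst f g ⁻¹ᵁ U ⊓ pullback.snd f g ⁻¹ᵁ V')
      Γ((Scheme.Modules.pullback (pullback.fst f g)).obj F,
        pullback.fst f g ⁻¹ᵁ U ⊓ pullback.snd f g ⁻¹ᵁ V') :=
    IsScalarTower.of_algebraMap_smul fun r m => rfl
  letI modAT : Module Γ(Y, V) (StalkOver F U x hxU) :=
    Module.compHom (StalkOver F U x hxU) (f.appLE V U e).hom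
  haveI : IsScalarTower Γ(Y, V) Γ(X, U) (StalkOver F U x hxU) :=
    IsScalarTower.of_algebraMap_smul fun r m => rfl
  letI modRT : Module (Y.presheaf.stalk (f x)) (StalkOver F U x hxU) :=
    FlatMod.moduleStalkOver f F x
  haveI : IsScalarTower Γ(Y, V) (Y.presheaf.stalk (f x)) (StalkOver F U x hxU) :=
    IsScalarTower.of_algebraMap_smul fun r m => by
      change f.stalkMap x (Y.presheaf.germ V (f x) hxV r) • m.toStalk =
        X.presheaf.germ U x hxU (f.appLE V U e r) • m.toStalk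
      rw [stalkMap_germ_appLE f e x hxU r]
  haveI hNT : Nontrivial (Γ((Scheme.Modules.pullback (pullback.fst f g)).obj F,
        pullback.fst f g ⁻¹ᵁ U ⊓ pullback.snd f g ⁻¹ᵁ V') ⊗[Γ(Y', V')]
        (IsLocalRing.ResidueField (Y'.presheaf.stalk y'))) :=
    nontrivial_tensor_of_chart (A := Γ(Y, V)) (A' := Γ(Y', V')) (B := Γ(X, U))
      (C := Γ(pullback f g, pullback.fst f g ⁻¹ᵁ U ⊓ pullback.snd f g ⁻¹ᵁ V'))
      (R := Y.presheaf.stalk (f x)) (K' := IsLocalRing.ResidueField (Y'.presheaf.stalk y'))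
      (N := Γ(F, U)) (T := StalkOver F U x hxU)
      (hV.primeIdealOf ⟨f x, hxV⟩).asIdeal h0
      (sectionsPullbackEquiv (pullback.fst f g) F hW hU inf_le_left)
      (hU.primeIdealOf ⟨x, hxU⟩).asIdeal.primeCompl (germL F U x hxU) hx
  obtain ⟨Q', hQ', hcomap, hall⟩ := exists_prime_fibre_ne
    (A' := Γ(Y', V'))
    (C := Γ(pullback f g, pullback.fst f g ⁻¹ᵁ U ⊓ pullback.snd f g ⁻¹ᵁ V'))
    (N' := Γ((Scheme.Modules.pullback (pullback.fst f g)).obj F,
        pullback.fst f g ⁻¹ᵁ U ⊓ pullback.snd f g ⁻¹ᵁ V'))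
    (K' := IsLocalRing.ResidueField (Y'.presheaf.stalk y'))
    (hV'.primeIdealOf ⟨y', hy'V'⟩).asIdeal h0' hu' hNT
  -- the point
  have hx'W : hW.fromSpec ⟨Q', hQ'⟩ ∈ pullback.fst f g ⁻¹ᵁ U ⊓ pullback.snd f g ⁻¹ᵁ V' :=
    fromSpec_mem hW _
  have hprime : hW.primeIdealOf ⟨hW.fromSpec ⟨Q', hQ'⟩, hx'W⟩ = ⟨Q', hQ'⟩ :=
    primeIdealOf_fromSpec hW _ hx'W
  have hcomap' : hV'.primeIdealOf ⟨pullback.snd f g (hW.fromSpec ⟨Q', hQ'⟩),
      (inf_le_right : pullback.fst f g ⁻¹ᵁ U ⊓ pullback.snd f g ⁻¹ᵁ V' ≤ _) hx'W⟩ =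
      hV'.primeIdealOf ⟨y', hy'V'⟩ := by
    rw [← IsAffineOpen.comap_primeIdealOf_appLE V' hV' _ hW inf_le_right hx'W, hprime]
    ext1
    exact hcomap
  refine ⟨hW.fromSpec ⟨Q', hQ'⟩, ?_, ?_⟩
  · have h1 := congrArg (fun p => hV'.fromSpec p) hcomap'
    simp only [IsAffineOpen.fromSpec_primeIdealOf] at h1
    exact h1
  · apply fibNe_of_stalkOver (pullback.snd f g)
      ((Scheme.Modules.pullback (pullback.fst f g)).obj F) hV' inf_le_right _ hx'W
    rw [hcomap']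
    letI modA'T' : Module Γ(Y', V')
        (StalkOver ((Scheme.Modules.pullback (pullback.fst f g)).obj F)
          (pullback.fst f g ⁻¹ᵁ U ⊓ pullback.snd f g ⁻¹ᵁ V') (hW.fromSpec ⟨Q', hQ'⟩) hx'W) :=
      Module.compHom _ ((pullback.snd f g).appLE V'
        (pullback.fst f g ⁻¹ᵁ U ⊓ pullback.snd f g ⁻¹ᵁ V') inf_le_right).hom
    haveI : IsScalarTower Γ(Y', V')
        Γ(pullback f g, pullback.fst f g ⁻¹ᵁ U ⊓ pullback.snd f g ⁻¹ᵁ V')
        (StalkOver ((Scheme.Modules.pullback (pullback.fst f g)).obj F)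
          (pullback.fst f g ⁻¹ᵁ U ⊓ pullback.snd f g ⁻¹ᵁ V') (hW.fromSpec ⟨Q', hQ'⟩) hx'W) :=
      IsScalarTower.of_algebraMap_smul fun r m => rfl
    refine hall _ (germL ((Scheme.Modules.pullback (pullback.fst f g)).obj F)
      (pullback.fst f g ⁻¹ᵁ U ⊓ pullback.snd f g ⁻¹ᵁ V') (hW.fromSpec ⟨Q', hQ'⟩) hx'W) ?_
    have := isLocalizedModule_germL ((Scheme.Modules.pullback (pullback.fst f g)).obj F) hW
      (hW.fromSpec ⟨Q', hQ'⟩) hx'W
    rwa [hprime] at this

end Groth.Agent.Lib.Helper15.FibNeSch
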