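import Mathlib.AlgebraicGeometry.Fiber
import Mathlib.AlgebraicGeometry.Morphisms.UniversallyOpen
import Mathlib.AlgebraicGeometry.PullbackCarrier

/-!
# Lifting generizations inside a fibre along the second projection of a fibre product (helper15)

For `f : X ⟶ Y`, `g : Y' ⟶ Y`, a point `z'` of `X ×_Y Y'` and a generization `y''` of its image in
`Y'` lying in the same fibre of `g`, there is a generization `z''` of `z'` over `y''`
(the projection is flat on fibres over `Y`).
-/

set_option autoImplicit false
universe u
open CategoryTheory CategoryTheory.Limits AlgebraicGeometry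

namespace Groth.Agent.Lib.Helper15.FibreGen

variable {X Y Y' : Scheme.{u}} (f : X ⟶ Y) (g : Y' ⟶ Y)

/-- the base change of `X ×_Y Y' → Y'` to the fibre of `g` over `y` is flat -/
theorem flat_snd_fibre (y : Y) :
    Flat (pullback.snd (pullback.snd f g) (g.fiberι y)) := by
  let q := pullback.snd f g
  let p := pullback.fst f g
  let a := g.fiberι y
  let b := g.fiberToSpecResidueField y
  let r := pullback.fst q a
  let s := pullback.snd q a
  let c := pullback.fst f (Y.fromSpecResidueField y)
  let d := pullback.snd f (Y.fromSpecResidueField y)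
  have hab : a ≫ g = b ≫ Y.fromSpecResidueField y := g.fiber_fac y
  have h1 : IsPullback r s q a := IsPullback.of_hasPullback q a
  have h2 : IsPullback p q f g := IsPullback.of_hasPullback f g
  have h3 : IsPullback (r ≫ p) s f (a ≫ g) := h1.paste_horiz h2
  have hw : (r ≫ p) ≫ f = (s ≫ b) ≫ Y.fromSpecResidueField y := by
    rw [Category.assoc, Category.assoc, ← hab, ← h3.w, Category.assoc]
  let t : pullback q a ⟶ pullback f (Y.fromSpecResidueField y) := pullback.lift (r ≫ p) (s ≫ b) hw
  have ht1 : t ≫ c = r ≫ p := pullback.lift_fst _ _ _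
  have ht2 : t ≫ d = s ≫ b := pullback.lift_snd _ _ _
  have h4 : IsPullback c d f (Y.fromSpecResidueField y) := IsPullback.of_hasPullback _ _
  have h5 : IsPullback t s d b := by
    refine IsPullback.of_right ?_ ht2 h4
    rw [ht1, ← hab]
    exact h3
  haveI : Flat d := inferInstance
  exact MorphismProperty.of_isPullback h5 inferInstance

theorem exists_generization (z' : ↑(pullback f g)) (y'' : Y')
    (h : y'' ⤳ (pullback.snd f g) z') (hg : g y'' = g ((pullback.snd f g) z')) :
    ∃ z'' : ↑(pullback f g), z'' ⤳ z' ∧ (pullback.snd f g) z'' = y'' := by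
  let q := pullback.snd f g
  let y : Y := g (q z')
  let a := g.fiberι y
  have hr : Set.range a = g ⁻¹' {y} := g.range_fiberι y
  obtain ⟨y'₀, hy'₀⟩ : q z' ∈ Set.range a := by rw [hr]; rfl
  obtain ⟨y''₀, hy''₀⟩ : y'' ∈ Set.range a := by rw [hr]; exact hg
  have hspec : y''₀ ⤳ y'₀ := by
    rw [← (g.fiberι y).isEmbedding.isInducing.specializes_iff, hy'₀, hy''₀]
    exact h
  obtain ⟨z'₀, hz1, hz2⟩ := Scheme.Pullback.exists_preimage_pullback (f := q) (g := a) z' y'₀
    hy'₀.symm
  haveI := flat_snd_fibre f g y
  have hgen := Flat.generalizingMap (pullback.snd q a)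
  obtain ⟨z''₀, hz''spec, hz''₀⟩ := hgen (a := z'₀) (b := y''₀) (by rw [hz2]; exact hspec)
  refine ⟨pullback.fst q a z''₀, ?_, ?_⟩
  · rw [← hz1]
    exact hz''spec.map (pullback.fst q a).continuous
  · have hc : pullback.fst q a ≫ q = pullback.snd q a ≫ a := pullback.condition
    have := congrArg (fun φ => φ z''₀) (congrArg (fun φ : _ ⟶ Y' => (φ : _ → Y')) hc)
    simp only [Scheme.Hom.comp_apply] at this
    rw [this, hz''₀, hy''₀]

end Groth.Agent.Lib.Helper15.FibreGen
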