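import Mathlib

/-!
# Fibrewise flatness / projectivity criterion for finitely presented modules (helper15)

No Noetherian hypotheses, no hypotheses on `A → B`.

* `lTensor_baseChange_injective_iff`: for `B → B' → K`, `K ⊗_{B'} (B' ⊗_B f)` is injective iff
  `K ⊗_B f` is.
* `projective_of_residueField_lTensor_injective`: `L → F → N → 0` exact, `L` finite, `F` finite free,
  `κ(q) ⊗ L → κ(q) ⊗ F` injective for all maximal `q` ⟹ `N` projective.
* `fibreEquiv : (B ⊗[A] T) ⊗[B] X ≃ₗ[A] T ⊗[A] X`, natural in `X`.
* `baseChange_injective_of_flat`: `0 → X' → X → X'' → 0` exact, `X''` flat over `A` ⟹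
  `(B ⊗_A T) ⊗_B X' → (B ⊗_A T) ⊗_B X` injective.
* `projective_of_fibre_flat` (**critère de platitude par fibres, f.p. module case**): `N` f.p. over
  `B`, flat over `A`, all fibres `(B ⊗ κ(p)) ⊗_B N` flat over `B ⊗ κ(p)` ⟹ `N` projective over `B`.
* `subsingleton_of_fibre_subsingleton`: a finite `B`-module with all fibres zero is zero.
-/

set_option autoImplicit false
set_option linter.style.haveILetI false
set_option linter.unusedSectionVars false
universe u
open TensorProduct

namespace Groth.Agent.Lib.Helper15.FibreProj

section CBC
variable {B B' K : Type*} [CommRing B] [CommRing B'] [CommRing K] [Algebra B B'] [Algebra B' K]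
  [Algebra B K] [IsScalarTower B B' K]
variable {X Y : Type*} [AddCommGroup X] [Module B X] [AddCommGroup Y] [Module B Y]

lemma cancel_natural (f : X →ₗ[B] Y) (t : K ⊗[B'] (B' ⊗[B] X)) :
    AlgebraTensorModule.cancelBaseChange B B' K K Y ((f.baseChange B').lTensor K t) =
      f.lTensor K (AlgebraTensorModule.cancelBaseChange B B' K K X t) := by
  induction t using TensorProduct.induction_on with
  | zero => simp
  | add a b ha hb => simp only [map_add, ha, hb]
  | tmul c y =>
    induction y using TensorProduct.induction_on with
    | zero => simp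
    | add a b ha hb => simp only [tmul_add, map_add, ha, hb]
    | tmul b x => simp

lemma lTensor_baseChange_injective_iff (f : X →ₗ[B] Y) :
    Function.Injective ((f.baseChange B').lTensor K) ↔ Function.Injective (f.lTensor K) := by
  have h : (AlgebraTensorModule.cancelBaseChange B B' K K Y : _ → _) ∘ ((f.baseChange B').lTensor K) =
      (f.lTensor K) ∘ (AlgebraTensorModule.cancelBaseChange B B' K K X : _ → _) := by
    funext t
    exact cancel_natural f t
  constructor
  · intro hi
    have h1 : Function.Injective ((AlgebraTensorModule.cancelBaseChange B B' K K Y : _ → _) ∘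
        ((f.baseChange B').lTensor K)) :=
      (AlgebraTensorModule.cancelBaseChange B B' K K Y).injective.comp hi
    rw [h] at h1
    intro a b hab
    obtain ⟨a, rfl⟩ := (AlgebraTensorModule.cancelBaseChange B B' K K X).surjective a
    obtain ⟨b, rfl⟩ := (AlgebraTensorModule.cancelBaseChange B B' K K X).surjective b
    exact congrArg _ (h1 hab)
  · intro hi
    have h1 : Function.Injective ((f.lTensor K) ∘
        (AlgebraTensorModule.cancelBaseChange B B' K K X : _ → _)) :=
      hi.comp (AlgebraTensorModule.cancelBaseChange B B' K K X).injective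
    rw [← h] at h1
    exact Function.Injective.of_comp h1

end CBC

section ResLin

variable {B : Type u} [CommRing B] {L F N : Type u} [AddCommGroup L] [Module B L]
  [AddCommGroup F] [Module B F] [AddCommGroup N] [Module B N]

/-- If `L → F → N → 0` is exact with `L` finite, `F` finite free, and `κ(q) ⊗ L → κ(q) ⊗ F`
injective for all maximal ideals `q`, then `N` is projective. -/
theorem projective_of_residueField_lTensor_injective [Module.Finite B L] [Module.Finite B F]
    [Module.Free B F] (f : L →ₗ[B] F) (g : F →ₗ[B] N) (hg : Function.Surjective g)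
    (hfg : Function.Exact f g)
    (h : ∀ (q : Ideal B) [q.IsMaximal], Function.Injective (f.lTensor q.ResidueField)) :
    Module.Projective B N := by
  haveI : Module.FinitePresentation B N :=
    Module.finitePresentation_of_free_of_surjective g hg
      (by rw [hfg.linearMap_ker_eq, LinearMap.range_eq_map]; exact (Module.Finite.fg_top).map f)
  refine Module.projective_of_localization_maximal'
    (fun (P : Ideal B) [P.IsMaximal] => Localization.AtPrime P)
    (fun (P : Ideal B) [P.IsMaximal] => Localization.AtPrime P ⊗[B] N)
    (fun (P : Ideal B) [P.IsMaximal] => TensorProduct.mk B (Localization.AtPrime P) N 1) ?_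
  intro q hq
  haveI := hq
  haveI : Module.Free (Localization.AtPrime q) (Localization.AtPrime q ⊗[B] N) := by
    refine Module.free_of_lTensor_residueField_injective (f.baseChange (Localization.AtPrime q))
      (g.baseChange (Localization.AtPrime q)) ?_ ?_ ?_
    · rw [LinearMap.baseChange_eq_ltensor]
      exact LinearMap.lTensor_surjective _ hg
    · rw [LinearMap.baseChange_eq_ltensor, LinearMap.baseChange_eq_ltensor]
      exact lTensor_exact _ hfg hg
    · exact (lTensor_baseChange_injective_iff f).mpr (h q)
  infer_instance

end ResLin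

section BCinj

variable (A B T : Type*) [CommRing A] [CommRing B] [CommRing T] [Algebra A B] [Algebra A T]
variable (X : Type*) [AddCommGroup X] [Module B X] [Module A X] [IsScalarTower A B X]
variable {Y : Type*} [AddCommGroup Y] [Module B Y] [Module A Y] [IsScalarTower A B Y]

/-- `(B ⊗[A] T) ⊗[B] X ≃ T ⊗[A] X` -/
noncomputable def fibreEquiv : (B ⊗[A] T) ⊗[B] X ≃ₗ[A] T ⊗[A] X :=
  ((TensorProduct.comm B (B ⊗[A] T) X).restrictScalars A) ≪≫ₗ
    ((AlgebraTensorModule.cancelBaseChange A B B X T).restrictScalars A) ≪≫ₗ
      (TensorProduct.comm A X T)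

@[simp] lemma fibreEquiv_tmul (b : B) (t : T) (x : X) :
    fibreEquiv A B T X ((b ⊗ₜ[A] t) ⊗ₜ[B] x) = t ⊗ₜ[A] (b • x) := by
  simp [fibreEquiv]

variable {X}

lemma fibreEquiv_natural (f : X →ₗ[B] Y) (z : (B ⊗[A] T) ⊗[B] X) :
    fibreEquiv A B T Y (f.baseChange (B ⊗[A] T) z) =
      (f.restrictScalars A).lTensor T (fibreEquiv A B T X z) := by
  induction z using TensorProduct.induction_on with
  | zero => simp
  | add a b ha hb => simp only [map_add, ha, hb]
  | tmul c x =>
    induction c using TensorProduct.induction_on with
    | zero => simp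
    | add a b ha hb => simp only [add_tmul, map_add, ha, hb]
    | tmul b t => simp

end BCinj

section BCinj2

variable (A B T : Type*) [CommRing A] [CommRing B] [CommRing T] [Algebra A B] [Algebra A T]
variable {X' X X'' : Type*} [AddCommGroup X'] [Module B X'] [Module A X'] [IsScalarTower A B X']
  [AddCommGroup X] [Module B X] [Module A X] [IsScalarTower A B X]
  [AddCommGroup X''] [Module B X''] [Module A X''] [IsScalarTower A B X'']

/-- base change to a "fibre" `B ⊗[A] T` preserves injectivity of the kernel of a surjection onto
an `A`-flat module -/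
theorem baseChange_injective_of_flat [Module.Flat A X''] (f : X' →ₗ[B] X) (g : X →ₗ[B] X'')
    (hf : Function.Injective f) (hg : Function.Surjective g) (hfg : Function.Exact f g) :
    Function.Injective (f.baseChange (B ⊗[A] T)) := by
  have h1 : Function.Injective ((f.restrictScalars A).lTensor T) :=
    LinearMap.lTensor_injective_of_exact_of_flat (g.restrictScalars A) hg (f.restrictScalars A)
      hf hfg T
  intro a b hab
  apply (fibreEquiv A B T X').injective
  apply h1
  rw [← fibreEquiv_natural, ← fibreEquiv_natural, hab]

theorem baseChange_surjective (g : X →ₗ[B] X'') (hg : Function.Surjective g) :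
    Function.Surjective (g.baseChange (B ⊗[A] T)) := by
  rw [LinearMap.baseChange_eq_ltensor]
  exact LinearMap.lTensor_surjective _ hg

theorem baseChange_exact (f : X' →ₗ[B] X) (g : X →ₗ[B] X'')
    (hg : Function.Surjective g) (hfg : Function.Exact f g) :
    Function.Exact (f.baseChange (B ⊗[A] T)) (g.baseChange (B ⊗[A] T)) := by
  rw [LinearMap.baseChange_eq_ltensor, LinearMap.baseChange_eq_ltensor]
  exact lTensor_exact _ hfg hg

end BCinj2

section Key

variable (A B : Type u) [CommRing A] [CommRing B] [Algebra A B]

/-- the canonical map `B ⊗[A] κ(q ∩ A) → κ(q)` -/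
noncomputable def fibreToResidue (q : Ideal B) [q.IsPrime] :
    B ⊗[A] (q.under A).ResidueField →ₐ[B] q.ResidueField :=
  Algebra.TensorProduct.lift (Algebra.ofId B q.ResidueField)
    (Ideal.ResidueField.mapₐ (q.under A) q (Algebra.ofId A B) rfl)
    (fun _ _ => Commute.all _ _)

variable (N : Type u) [AddCommGroup N] [Module B N] [Module A N] [IsScalarTower A B N]

/-- **Fibrewise flatness criterion for finitely presented modules** (no finiteness assumption on
`A → B`): a finitely presented `B`-module `N`, flat over `A`, whose fibres
`(B ⊗ κ(p)) ⊗_B N` are flat over `B ⊗ κ(p)` for all primes `p` of `A`, is projective over `B`. -/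
theorem projective_of_fibre_flat [Module.FinitePresentation B N] [Module.Flat A N]
    (h : ∀ p : PrimeSpectrum A, Module.Flat (B ⊗[A] p.asIdeal.ResidueField)
      ((B ⊗[A] p.asIdeal.ResidueField) ⊗[B] N)) : Module.Projective B N := by
  obtain ⟨n, g, hg⟩ := Module.Finite.exists_fin' B N
  have hL : (LinearMap.ker g).FG := Module.FinitePresentation.fg_ker g hg
  haveI : Module.Finite B (LinearMap.ker g) := Module.Finite.iff_fg.mpr hL
  have hfg : Function.Exact (LinearMap.ker g).subtype g := LinearMap.exact_subtype_ker_map g
  refine projective_of_residueField_lTensor_injective (LinearMap.ker g).subtype g hg hfg ?_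
  intro q hq
  haveI := hq
  let pp : PrimeSpectrum A := ⟨q.under A, inferInstance⟩
  let B' := B ⊗[A] pp.asIdeal.ResidueField
  letI : Algebra B' q.ResidueField := (fibreToResidue A B q).toRingHom.toAlgebra
  haveI : IsScalarTower B B' q.ResidueField :=
    IsScalarTower.of_algebraMap_eq' (fibreToResidue A B q).comp_algebraMap.symm
  haveI : Module.Flat B' (B' ⊗[B] N) := h pp
  have h1 : Function.Injective ((LinearMap.ker g).subtype.baseChange B') :=
    baseChange_injective_of_flat A B pp.asIdeal.ResidueField (LinearMap.ker g).subtype g
      (Submodule.subtype_injective _) hg hfg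
  have h2 : Function.Injective (((LinearMap.ker g).subtype.baseChange B').lTensor q.ResidueField) :=
    LinearMap.lTensor_injective_of_exact_of_flat (g.baseChange B')
      (baseChange_surjective A B _ g hg) _ h1 (baseChange_exact A B _ _ g hg hfg) _
  exact (lTensor_baseChange_injective_iff (B' := B') (LinearMap.ker g).subtype).mp h2

end Key

section Zero

variable (A B : Type u) [CommRing A] [CommRing B] [Algebra A B]
variable (N : Type u) [AddCommGroup N] [Module B N]

/-- a finite `B`-module all of whose fibres over `Spec A` vanish is zero -/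
theorem subsingleton_of_fibre_subsingleton [Module.Finite B N]
    (h : ∀ p : PrimeSpectrum A, Subsingleton ((B ⊗[A] p.asIdeal.ResidueField) ⊗[B] N)) :
    Subsingleton N := by
  rw [← Module.support_eq_empty_iff (R := B), Set.eq_empty_iff_forall_notMem]
  intro q hq
  rw [Module.mem_support_iff_nontrivial_residueField_tensorProduct] at hq
  let pp : PrimeSpectrum A := ⟨q.asIdeal.under A, inferInstance⟩
  let B' := B ⊗[A] pp.asIdeal.ResidueField
  letI : Algebra B' q.asIdeal.ResidueField := (fibreToResidue A B q.asIdeal).toRingHom.toAlgebra
  haveI : IsScalarTower B B' q.asIdeal.ResidueField :=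
    IsScalarTower.of_algebraMap_eq' (fibreToResidue A B q.asIdeal).comp_algebraMap.symm
  haveI : Subsingleton (B' ⊗[B] N) := h pp
  have e := AlgebraTensorModule.cancelBaseChange B B' q.asIdeal.ResidueField
    q.asIdeal.ResidueField N
  haveI : Subsingleton (q.asIdeal.ResidueField ⊗[B] N) := e.symm.subsingleton
  exact not_subsingleton _ ‹_›

end Zero

end Groth.Agent.Lib.Helper15.FibreProj
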