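import Mathlib

/-!
# Syzygies of a projective resolution by finite free modules (helper15)

For `P : ProjectiveResolution X` in `ModuleCat B`: `Z P n = coker (d_{n+1})`, short exact sequences
`0 → Z (n+1) → P_n → Z n → 0`, `Z P 0 ≅ X`. `Chain B`: abstract chains of such short exact sequences
with finite free middle terms; syzygies are finitely presented; dimension shifting
`pdLT_zero_iff : HasProjectiveDimensionLT (C.Z 0) (d + 1) ↔ Projective (C.Z d)`.
-/

set_option autoImplicit false
set_option linter.style.haveILetI false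
universe u
open CategoryTheory CategoryTheory.Limits

namespace Groth.Agent.Lib.Helper15.Syzygy

section Res

variable {B : Type u} [CommRing B] {X : ModuleCat.{u} B} (P : ProjectiveResolution X)

/-- `n`-th syzygy: the cokernel of `d_{n+1} : P_{n+1} → P_n` -/
noncomputable abbrev Z (n : ℕ) : ModuleCat.{u} B :=
  ModuleCat.of B (P.complex.X n ⧸ LinearMap.range (P.complex.d (n + 1) n).hom)

lemma exact_d (n : ℕ) :
    Function.Exact (P.complex.d (n + 2) (n + 1)).hom (P.complex.d (n + 1) n).hom :=
  (ShortComplex.ShortExact.moduleCat_exact_iff_function_exact _).mp (P.exact_succ n)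

lemma range_le_ker (n : ℕ) : LinearMap.range (P.complex.d (n + 2) (n + 1)).hom ≤
    LinearMap.ker (P.complex.d (n + 1) n).hom := by
  rw [(LinearMap.exact_iff.mp (exact_d P n))]

/-- `Z (n+1) → P_n` induced by `d` -/
noncomputable def f (n : ℕ) : Z P (n + 1) ⟶ P.complex.X n :=
  ModuleCat.ofHom (Submodule.liftQ _ (P.complex.d (n + 1) n).hom (range_le_ker P n))

/-- the projection `P_n → Z n` -/
noncomputable def g (n : ℕ) : P.complex.X n ⟶ Z P n :=
  ModuleCat.ofHom (Submodule.mkQ _)

lemma f_mk (n : ℕ) (x : P.complex.X (n + 1)) :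
    (f P n).hom (Submodule.Quotient.mk x) = (P.complex.d (n + 1) n).hom x := rfl

lemma g_apply (n : ℕ) (x : P.complex.X n) : (g P n).hom x = Submodule.Quotient.mk x := rfl

lemma g_surjective (n : ℕ) : Function.Surjective (g P n).hom := Submodule.mkQ_surjective _

lemma f_hom (n : ℕ) : (f P n).hom =
    Submodule.liftQ _ (P.complex.d (n + 1) n).hom (range_le_ker P n) := rfl

lemma g_hom (n : ℕ) : (g P n).hom = Submodule.mkQ _ := rfl

lemma f_injective (n : ℕ) : Function.Injective (f P n).hom := by
  rw [← LinearMap.ker_eq_bot, f_hom, Submodule.ker_liftQ_eq_bot']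
  exact (LinearMap.exact_iff.mp (exact_d P n)).symm

lemma exact_f_g (n : ℕ) : Function.Exact (f P n).hom (g P n).hom := by
  rw [LinearMap.exact_iff, g_hom, Submodule.ker_mkQ, f_hom, Submodule.range_liftQ]

lemma w (n : ℕ) : f P n ≫ g P n = 0 := by
  apply ModuleCat.hom_ext
  apply LinearMap.ext
  intro x
  exact (exact_f_g P n).apply_apply_eq_zero x

theorem shortExact (n : ℕ) : (ShortComplex.mk (f P n) (g P n) (w P n)).ShortExact :=
  ModuleCat.shortComplex_shortExact _ (exact_f_g P n) (f_injective P n) (g_surjective P n)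

/-- the zeroth syzygy is the module itself -/
noncomputable def iso0 : Z P 0 ≅ X :=
  (ModuleCat.cokernelIsColimit (P.complex.d 1 0)).coconePointUniqueUpToIso
    P.isColimitCokernelCofork

end Res

section ChainSec

variable (B : Type u) [CommRing B]

/-- a chain of short exact sequences `0 → Z (n+1) → F n → Z n → 0` with `F n` finite free -/
structure Chain where
  Z : ℕ → ModuleCat.{u} B
  F : ℕ → ModuleCat.{u} B
  f : ∀ n, Z (n + 1) ⟶ F n
  g : ∀ n, F n ⟶ Z n
  w : ∀ n, f n ≫ g n = 0
  se : ∀ n, (ShortComplex.mk (f n) (g n) (w n)).ShortExact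
  fin : ∀ n, Module.Finite B (F n)
  free : ∀ n, Module.Free B (F n)

variable {B}

/-- the chain of syzygies of a resolution by finite free modules -/
noncomputable def Chain.ofRes {X : ModuleCat.{u} B} (P : ProjectiveResolution X)
    (hP : ∀ n, Module.Finite B (P.complex.X n) ∧ Module.Free B (P.complex.X n)) : Chain B where
  Z := Syzygy.Z P
  F := fun n => P.complex.X n
  f := Syzygy.f P
  g := Syzygy.g P
  w := Syzygy.w P
  se := Syzygy.shortExact P
  fin := fun n => (hP n).1
  free := fun n => (hP n).2

/-- the zeroth syzygy is the module itself -/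
noncomputable def Chain.ofResIso {X : ModuleCat.{u} B} (P : ProjectiveResolution X)
    (hP : ∀ n, Module.Finite B (P.complex.X n) ∧ Module.Free B (P.complex.X n)) :
    (Chain.ofRes P hP).Z 0 ≅ X := iso0 P

namespace Chain

variable (C : Chain B)

lemma f_injective (n : ℕ) : Function.Injective (C.f n).hom := (C.se n).moduleCat_injective_f

lemma g_surjective (n : ℕ) : Function.Surjective (C.g n).hom := (C.se n).moduleCat_surjective_g

lemma exact (n : ℕ) : Function.Exact (C.f n).hom (C.g n).hom :=
  (ShortComplex.ShortExact.moduleCat_exact_iff_function_exact _).mp (C.se n).exact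

instance (n : ℕ) : Module.Finite B (C.F n) := C.fin n
instance (n : ℕ) : Module.Free B (C.F n) := C.free n

instance finite_Z (n : ℕ) : Module.Finite B (C.Z n) :=
  Module.Finite.of_surjective (C.g n).hom (C.g_surjective n)

instance finitePresentation_Z (n : ℕ) : Module.FinitePresentation B (C.Z n) := by
  refine Module.finitePresentation_of_free_of_surjective (C.g n).hom (C.g_surjective n) ?_
  rw [(C.exact n).linearMap_ker_eq, LinearMap.range_eq_map]
  exact (Module.Finite.fg_top).map _

instance projective_F (n : ℕ) : Projective (C.F n) := inferInstance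

lemma pdLT_succ_iff (k n : ℕ) : HasProjectiveDimensionLT (C.Z k) (n + 2) ↔
    HasProjectiveDimensionLT (C.Z (k + 1)) (n + 1) :=
  (C.se k).hasProjectiveDimensionLT_X₃_iff n (C.projective_F k)

lemma pdLT_iff (d : ℕ) : ∀ k : ℕ, HasProjectiveDimensionLT (C.Z k) (d + 1) ↔
    Projective (C.Z (k + d)) := by
  induction d with
  | zero => intro k; exact projective_iff_hasProjectiveDimensionLT_one.symm
  | succ d ih =>
    intro k
    rw [C.pdLT_succ_iff k d, ih (k + 1)]
    have : k + 1 + d = k + (d + 1) := by omega
    rw [this]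

lemma pdLT_zero_iff (d : ℕ) : HasProjectiveDimensionLT (C.Z 0) (d + 1) ↔ Projective (C.Z d) := by
  rw [C.pdLT_iff d 0, zero_add]

end Chain

end ChainSec

end Groth.Agent.Lib.Helper15.Syzygy
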