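import Mathlib
import Groth.Agent.Lib.Helper15.Syzygy
import Groth.Agent.Lib.Helper15.FibreProj

/-!
# Projective dimension is the supremum of the fibrewise projective dimensions (helper15)

For `A → B` flat, `M` an `A`-flat `B`-module with a resolution by finite free `B`-modules:
`pd_B M = ⨆ p, pd_{B ⊗ κ(p)} ((B ⊗ κ(p)) ⊗_B M)` (EGA IV 11.3.x).  The syzygies are finitely presented
and `A`-flat (`Chain.flat_Z`), so the syzygy sequences stay exact on the fibres (`Chain.bc_shortExact`),
which gives `≥` (`Chain.bc_pdLT`); `≤` (`Chain.pdLT_of_bc`) uses the fibrewise flatness criterion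
`FibreProj.projective_of_fibre_flat`.
-/

set_option autoImplicit false
set_option linter.style.haveILetI false
set_option linter.unusedSectionVars false
universe u
open CategoryTheory CategoryTheory.Limits TensorProduct

namespace Groth.Agent.Lib.Helper15.FibrePd

section Part0

open Groth.Agent.Lib.Helper15.Syzygy Groth.Agent.Lib.Helper15.FibreProj

section FlatLeft

variable {A : Type*} [CommRing A] {M' M M'' : Type*} [AddCommGroup M'] [AddCommGroup M]
  [AddCommGroup M''] [Module A M'] [Module A M] [Module A M'']

/-- kernel of a surjection of flat modules is flat -/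
theorem flat_of_exact_left (f : M' →ₗ[A] M) (g : M →ₗ[A] M'') (hf : Function.Injective f)
    (hg : Function.Surjective g) (hex : Function.Exact f g) [Module.Flat A M] [Module.Flat A M''] :
    Module.Flat A M' := by
  rw [Module.Flat.iff_lTensor_preserves_injective_linearMap]
  intro N N' _ _ _ _ j hj
  have h1 : Function.Injective (f.rTensor N) := by
    rw [← LinearMap.lTensor_inj_iff_rTensor_inj]
    exact LinearMap.lTensor_injective_of_exact_of_flat g hg f hf hex N
  have h2 : Function.Injective (j.lTensor M) :=
    Module.Flat.lTensor_preserves_injective_linearMap j hj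
  have h3 : Function.Injective ((j.lTensor M).comp (f.rTensor N)) := h2.comp h1
  rw [LinearMap.lTensor_comp_rTensor, ← LinearMap.rTensor_comp_lTensor] at h3
  exact Function.Injective.of_comp h3

end FlatLeft

variable (A : Type u) {B : Type u} [CommRing A] [CommRing B] [Algebra A B]

/-- restriction-of-scalars `A`-module structure on objects of `ModuleCat B` -/
@[reducible] noncomputable def modA (N : ModuleCat.{u} B) : Module A N :=
  Module.compHom N (algebraMap A B)

attribute [local instance] modA

instance isScalarTower_modA (N : ModuleCat.{u} B) : IsScalarTower A B N :=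
  IsScalarTower.of_algebraMap_smul fun _ _ => rfl

namespace Chain

variable (C : Chain B)

theorem flat_Z [Module.Flat A B] (h0 : Module.Flat A (C.Z 0)) : ∀ n, Module.Flat A (C.Z n) := by
  intro n
  induction n with
  | zero => exact h0
  | succ n ih =>
    haveI := ih
    haveI : Module.Flat A (C.F n) := Module.Flat.trans A B (C.F n)
    exact flat_of_exact_left ((C.f n).hom.restrictScalars A) ((C.g n).hom.restrictScalars A)
      (C.f_injective n) (C.g_surjective n) (C.exact n)

end Chain

end Part0

section Part1

open Groth.Agent.Lib.Helper15.Syzygy Groth.Agent.Lib.Helper15.FibreProj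

variable (A : Type u) {B : Type u} [CommRing A] [CommRing B] [Algebra A B]
variable (T : Type u) [CommRing T] [Algebra A T]

attribute [local instance] modA

/-- base change of a `B`-module to the fibre ring `B ⊗[A] T` -/
noncomputable abbrev bc (N : ModuleCat.{u} B) : ModuleCat.{u} (B ⊗[A] T) :=
  ModuleCat.of (B ⊗[A] T) ((B ⊗[A] T) ⊗[B] N)

/-- base change of a morphism -/
noncomputable abbrev bcMap {N N' : ModuleCat.{u} B} (φ : N ⟶ N') : bc A T N ⟶ bc A T N' :=
  ModuleCat.ofHom (φ.hom.baseChange (B ⊗[A] T))

/-- base change of an isomorphism -/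
noncomputable def bcIso {N N' : ModuleCat.{u} B} (e : N ≅ N') : bc A T N ≅ bc A T N' :=
  (LinearEquiv.baseChange B (B ⊗[A] T) _ _ e.toLinearEquiv).toModuleIso

lemma bc_projective (N : ModuleCat.{u} B) [Projective N] : Projective (bc A T N) := by
  haveI : Module.Projective B N := inferInstance
  haveI : Module.Projective (B ⊗[A] T) ((B ⊗[A] T) ⊗[B] N) := inferInstance
  infer_instance

lemma bc_isZero (N : ModuleCat.{u} B) (h : IsZero N) : IsZero (bc A T N) := by
  haveI : Subsingleton N := ModuleCat.subsingleton_of_isZero h
  haveI : Subsingleton ((B ⊗[A] T) ⊗[B] N) := inferInstance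
  exact ModuleCat.isZero_of_subsingleton _

namespace Chain

variable (C : Chain B)

lemma bc_w (k : ℕ) : bcMap A T (C.f k) ≫ bcMap A T (C.g k) = 0 := by
  apply ModuleCat.hom_ext
  rw [ModuleCat.hom_comp, ModuleCat.hom_ofHom, ModuleCat.hom_ofHom, ← LinearMap.baseChange_comp,
    ← ModuleCat.hom_comp, C.w k]
  simp

/-- the base-changed short exact sequences -/
theorem bc_shortExact (k : ℕ) (hk : Module.Flat A (C.Z k)) :
    (ShortComplex.mk (bcMap A T (C.f k)) (bcMap A T (C.g k)) (bc_w A T C k)).ShortExact := by
  refine ModuleCat.shortComplex_shortExact _ ?_ ?_ ?_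
  · exact baseChange_exact A B T (C.f k).hom (C.g k).hom (C.g_surjective k) (C.exact k)
  · exact baseChange_injective_of_flat A B T (C.f k).hom (C.g k).hom (C.f_injective k)
      (C.g_surjective k) (C.exact k)
  · exact baseChange_surjective A B T (C.g k).hom (C.g_surjective k)

/-- projective dimension does not go up in the fibres -/
theorem bc_pdLT (hfl : ∀ k, Module.Flat A (C.Z k)) (n : ℕ) : ∀ k : ℕ,
    HasProjectiveDimensionLT (C.Z k) (n + 1) → HasProjectiveDimensionLT (bc A T (C.Z k)) (n + 1) := by
  induction n with
  | zero =>
    intro k h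
    haveI : Projective (C.Z k) := projective_iff_hasProjectiveDimensionLT_one.mpr h
    haveI := bc_projective A T (C.Z k)
    exact projective_iff_hasProjectiveDimensionLT_one.mp inferInstance
  | succ n ih =>
    intro k h
    have h1 := ih (k + 1) ((C.pdLT_succ_iff k n).mp h)
    haveI := bc_projective A T (C.F k)
    exact (bc_shortExact A T C k (hfl k)).hasProjectiveDimensionLT_X₃ (n + 1) h1 inferInstance

end Chain

end Part1

section Part2

open Groth.Agent.Lib.Helper15.Syzygy Groth.Agent.Lib.Helper15.FibreProj

variable (A : Type u) {B : Type u} [CommRing A] [CommRing B] [Algebra A B]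

attribute [local instance] modA

namespace Chain

variable (C : Chain B)

/-- projective dimension is detected on the fibres -/
theorem pdLT_of_bc (hfl : ∀ k, Module.Flat A (C.Z k)) (n : ℕ) : ∀ k : ℕ,
    (∀ p : PrimeSpectrum A,
      HasProjectiveDimensionLT (bc A p.asIdeal.ResidueField (C.Z k)) (n + 1)) →
    HasProjectiveDimensionLT (C.Z k) (n + 1) := by
  induction n with
  | zero =>
    intro k h
    haveI := hfl k
    haveI : Module.Projective B (C.Z k) := by
      refine projective_of_fibre_flat A B (C.Z k) (fun p => ?_)
      haveI : Projective (bc A p.asIdeal.ResidueField (C.Z k)) :=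
        projective_iff_hasProjectiveDimensionLT_one.mpr (h p)
      haveI : Module.Projective (B ⊗[A] p.asIdeal.ResidueField)
          ((B ⊗[A] p.asIdeal.ResidueField) ⊗[B] (C.Z k)) :=
        (bc A p.asIdeal.ResidueField (C.Z k)).projective_of_module_projective
      exact Module.Flat.of_projective
    exact projective_iff_hasProjectiveDimensionLT_one.mp inferInstance
  | succ n ih =>
    intro k h
    refine (C.pdLT_succ_iff k n).mpr (ih (k + 1) (fun p => ?_))
    haveI := bc_projective A p.asIdeal.ResidueField (C.F k)
    exact (bc_shortExact A p.asIdeal.ResidueField C k (hfl k)).hasProjectiveDimensionLT_X₁ (n + 1)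
      inferInstance (h p)

end Chain

end Part2

section Part3

open Groth.Agent.Lib.Helper15.Syzygy Groth.Agent.Lib.Helper15.FibreProj

lemma le_of_forall_nat_lt {a s : WithBot ℕ∞} (h : ∀ n : ℕ, s < n → a < n) : a ≤ s := by
  induction s with
  | bot =>
    have h0 := h 0 (WithBot.bot_lt_coe _)
    have : a = ⊥ := by
      rw [← WithBot.lt_coe_bot]
      simpa using h0
    rw [this]
  | coe s =>
    induction s with
    | top => exact le_top
    | coe d =>
      have h1 := h (d + 1) (by
        have : ((d : ℕ∞) : WithBot ℕ∞) = ((d : ℕ) : WithBot ℕ∞) := rfl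
        rw [this]
        exact_mod_cast Nat.lt_succ_self d)
      have h2 : a < (d : WithBot ℕ∞) + 1 := by exact_mod_cast h1
      exact ENat.WithBot.lt_add_one_iff.mp h2

variable (A : Type u) {B : Type u} [CommRing A] [CommRing B] [Algebra A B]

attribute [local instance] modA

lemma flat_of_iso (N : ModuleCat.{u} B) (M : Type u) [AddCommGroup M] [Module B M] [Module A M]
    [IsScalarTower A B M] [Module.Flat A M] (e : N ≅ ModuleCat.of B M) : Module.Flat A N := by
  let e' : N ≃ₗ[B] M := e.toLinearEquiv
  exact Module.Flat.of_linearEquiv (e'.restrictScalars A)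

/-- for an `A`-flat module over an `A`-flat algebra `B` with a resolution by finite free modules,
the projective dimension is the supremum of the projective dimensions of the fibres -/
theorem projectiveDimension_eq_iSup_fibre_of_res [Module.Flat A B] (M : Type u) [AddCommGroup M]
    [Module B M] [Module A M] [IsScalarTower A B M] [Module.Flat A M]
    (hX : ∃ P : ProjectiveResolution (ModuleCat.of B M),
      ∀ n : ℕ, Module.Finite B (P.complex.X n) ∧ Module.Free B (P.complex.X n)) :
    projectiveDimension (ModuleCat.of B M) =
      ⨆ p : PrimeSpectrum A, projectiveDimension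
        (ModuleCat.of (B ⊗[A] p.asIdeal.ResidueField) ((B ⊗[A] p.asIdeal.ResidueField) ⊗[B] M)) := by
  obtain ⟨P, hP⟩ := hX
  let C := Chain.ofRes P hP
  let e : C.Z 0 ≅ ModuleCat.of B M := Chain.ofResIso P hP
  have h0 : Module.Flat A (C.Z 0) := flat_of_iso A (C.Z 0) M e
  have hfl := Chain.flat_Z A C h0
  have hp : ∀ p : PrimeSpectrum A, projectiveDimension (bc A p.asIdeal.ResidueField (C.Z 0)) =
      projectiveDimension
        (ModuleCat.of (B ⊗[A] p.asIdeal.ResidueField) ((B ⊗[A] p.asIdeal.ResidueField) ⊗[B] M)) :=
    fun p => projectiveDimension_eq_of_iso (bcIso A p.asIdeal.ResidueField e)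
  rw [← projectiveDimension_eq_of_iso e]
  simp_rw [← hp]
  apply le_antisymm
  · apply le_of_forall_nat_lt
    intro n hn
    rw [projectiveDimension_lt_iff]
    have h1 : ∀ p : PrimeSpectrum A,
        HasProjectiveDimensionLT (bc A p.asIdeal.ResidueField (C.Z 0)) n := fun p =>
      projectiveDimension_lt_iff.mp (lt_of_le_of_lt (le_iSup (fun p : PrimeSpectrum A =>
        projectiveDimension (bc A p.asIdeal.ResidueField (C.Z 0))) p) hn)
    rcases n with _ | n
    · have h2 : Subsingleton (C.Z 0) := by
        refine subsingleton_of_fibre_subsingleton A B (C.Z 0) (fun p => ?_)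
        haveI := h1 p
        exact ModuleCat.subsingleton_of_isZero
          (isZero_of_hasProjectiveDimensionLT_zero (bc A p.asIdeal.ResidueField (C.Z 0)))
      exact (ModuleCat.isZero_of_subsingleton (C.Z 0)).hasProjectiveDimensionLT_zero
    · exact Chain.pdLT_of_bc A C hfl n 0 h1
  · refine iSup_le (fun p => ?_)
    apply le_of_forall_nat_lt
    intro n hn
    rw [projectiveDimension_lt_iff] at hn ⊢
    rcases n with _ | n
    · exact (bc_isZero A _ _ (isZero_of_hasProjectiveDimensionLT_zero (C.Z 0))).hasProjectiveDimensionLT_zero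
    · exact Chain.bc_pdLT A _ C hfl n 0 hn

end Part3

end Groth.Agent.Lib.Helper15.FibrePd
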