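import Mathlib.RingTheory.LocalRing.Module
import Mathlib.Algebra.Module.FinitePresentation
import Mathlib.RingTheory.Localization.BaseChange
import Mathlib.RingTheory.Ideal.Quotient.Basic
import Mathlib.RingTheory.LocalRing.ResidueField.Ideal

/-!
# Exactness in a fibre gives a local contracting homotopy (helper15)

* `exists_homotopy_of_exact_lTensor`: over a local ring, a complex `N1 → N2 → N3` with `N2` finite
  projective, `N3` finite free, exact in the middle after `⊗ κ`, has `σ, ρ` with `D1 σ + ρ D2 = 1`.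
* `exists_local_homotopy`: over any ring `R` with a prime `p`, `M2, M3` finite free: there are
  `f ∉ p`, `σ`, `ρ` with `d1 σ + ρ d2 = f`.
-/

set_option autoImplicit false

namespace Groth.Agent.Lib.Helper15.FibreSplit

open TensorProduct

section Local

variable {A : Type*} [CommRing A] [IsLocalRing A]
  {N1 N2 N3 : Type*} [AddCommGroup N1] [Module A N1] [AddCommGroup N2] [Module A N2]
  [AddCommGroup N3] [Module A N3] [Module.Finite A N2] [Module.Projective A N2]
  [Module.Finite A N3] [Module.Free A N3]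

theorem exists_homotopy_of_exact_lTensor
    (D1 : N1 →ₗ[A] N2) (D2 : N2 →ₗ[A] N3) (hD : D2 ∘ₗ D1 = 0)
    (hex : Function.Exact (D1.lTensor (IsLocalRing.ResidueField A))
      (D2.lTensor (IsLocalRing.ResidueField A))) :
    ∃ (σ : N2 →ₗ[A] N1) (ρ : N3 →ₗ[A] N2), D1 ∘ₗ σ + ρ ∘ₗ D2 = LinearMap.id := by
  set K := LinearMap.range D1 with hKdef
  have hK : K ≤ LinearMap.ker D2 := by
    rintro _ ⟨x, rfl⟩
    exact LinearMap.congr_fun hD x
  let l : N2 ⧸ K →ₗ[A] N3 := K.liftQ D2 hK
  have hlq : l ∘ₗ K.mkQ = D2 := K.liftQ_mkQ D2 hK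
  have hqD : K.mkQ ∘ₗ D1 = 0 := by
    ext x
    simp only [LinearMap.comp_apply, Submodule.mkQ_apply, LinearMap.zero_apply]
    rw [Submodule.Quotient.mk_eq_zero]
    exact ⟨x, rfl⟩
  have hinj : Function.Injective (l.lTensor (IsLocalRing.ResidueField A)) := by
    rw [injective_iff_map_eq_zero]
    intro y hy
    obtain ⟨z, rfl⟩ := LinearMap.lTensor_surjective (IsLocalRing.ResidueField A)
      (K.mkQ_surjective) y
    have h0 : (D2.lTensor (IsLocalRing.ResidueField A)) z = 0 := by
      rw [← hlq, LinearMap.lTensor_comp]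
      exact hy
    obtain ⟨w, rfl⟩ := (hex z).1 h0
    rw [← LinearMap.comp_apply, ← LinearMap.lTensor_comp, hqD, LinearMap.lTensor_zero]
    rfl
  obtain ⟨l', hl'⟩ :=
    (IsLocalRing.split_injective_iff_lTensor_residueField_injective l).2 hinj
  have hCproj : Module.Projective A (N2 ⧸ K) :=
    Module.Projective.of_split l l' hl'
  obtain ⟨j, hj⟩ := Module.projective_lifting_property K.mkQ LinearMap.id K.mkQ_surjective
  have hmem : ∀ x, ((LinearMap.id : N2 →ₗ[A] N2) - j ∘ₗ K.mkQ) x ∈ LinearMap.range D1 := by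
    intro x
    rw [← hKdef, ← Submodule.Quotient.mk_eq_zero K, ← Submodule.mkQ_apply]
    have := LinearMap.congr_fun hj (K.mkQ x)
    simp only [LinearMap.comp_apply, LinearMap.id_apply] at this
    simp only [LinearMap.sub_apply, LinearMap.id_apply, LinearMap.comp_apply, map_sub, this,
      sub_self]
  obtain ⟨σ, hσ⟩ := Module.projective_lifting_property D1.rangeRestrict
    (LinearMap.codRestrict _ ((LinearMap.id : N2 →ₗ[A] N2) - j ∘ₗ K.mkQ) hmem)
    (LinearMap.surjective_rangeRestrict D1)
  refine ⟨σ, j ∘ₗ l', ?_⟩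
  have hσ' : D1 ∘ₗ σ = LinearMap.id - j ∘ₗ K.mkQ := by
    ext x
    have := congrArg Subtype.val (LinearMap.congr_fun hσ x)
    simpa using this
  have h3 : (j ∘ₗ l') ∘ₗ D2 = j ∘ₗ K.mkQ := by
    rw [← hlq, LinearMap.comp_assoc, ← LinearMap.comp_assoc K.mkQ l l', hl', LinearMap.id_comp]
  rw [hσ', h3]
  abel

end Local

section Tower

variable {R A κ : Type*} [CommRing R] [CommRing A] [CommRing κ] [Algebra R A] [Algebra R κ]
  [Algebra A κ] [IsScalarTower R A κ]
  {M M' M'' : Type*} [AddCommGroup M] [Module R M] [AddCommGroup M'] [Module R M']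
  [AddCommGroup M''] [Module R M'']

lemma cancel_nat (d : M →ₗ[R] M') (x : κ ⊗[A] (A ⊗[R] M)) :
    TensorProduct.AlgebraTensorModule.cancelBaseChange R A κ κ M'
      ((d.baseChange A).lTensor κ x) =
    d.baseChange κ (TensorProduct.AlgebraTensorModule.cancelBaseChange R A κ κ M x) := by
  induction x using TensorProduct.induction_on with
  | zero => simp
  | add x y hx hy => simp only [map_add, hx, hy]
  | tmul k y =>
    induction y using TensorProduct.induction_on with
    | zero => simp
    | add x y hx hy => simp only [TensorProduct.tmul_add, map_add, hx, hy]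
    | tmul a m =>
      simp [TensorProduct.AlgebraTensorModule.cancelBaseChange_tmul]

theorem exact_lTensor_baseChange (d1 : M →ₗ[R] M') (d2 : M' →ₗ[R] M'')
    (hex : Function.Exact (d1.baseChange κ) (d2.baseChange κ)) :
    Function.Exact ((d1.baseChange A).lTensor κ) ((d2.baseChange A).lTensor κ) := by
  intro y
  let c := TensorProduct.AlgebraTensorModule.cancelBaseChange R A κ κ M
  let c' := TensorProduct.AlgebraTensorModule.cancelBaseChange R A κ κ M'
  let c'' := TensorProduct.AlgebraTensorModule.cancelBaseChange R A κ κ M''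
  constructor
  · intro hy
    have h1 : d2.baseChange κ (c' y) = 0 := by
      rw [← cancel_nat, hy, map_zero]
    obtain ⟨x, hx⟩ := (hex (c' y)).1 h1
    refine ⟨c.symm x, ?_⟩
    apply c'.injective
    rw [cancel_nat, ← hx]
    simp [c]
  · rintro ⟨x, rfl⟩
    apply c''.injective
    rw [cancel_nat, cancel_nat, map_zero]
    exact (hex _).2 ⟨_, rfl⟩

end Tower

section Global

variable {R : Type*} [CommRing R] (p : Ideal R) [p.IsPrime]
  {M1 M2 M3 : Type*} [AddCommGroup M1] [Module R M1] [AddCommGroup M2] [Module R M2]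
  [AddCommGroup M3] [Module R M3]

lemma mapExt_eq_baseChange {M M' : Type*} [AddCommGroup M] [Module R M] [AddCommGroup M']
    [Module R M'] (g : M →ₗ[R] M') :
    IsLocalizedModule.mapExtendScalars p.primeCompl
      (TensorProduct.mk R (Localization.AtPrime p) M 1)
      (TensorProduct.mk R (Localization.AtPrime p) M' 1) (Localization.AtPrime p) g =
    g.baseChange (Localization.AtPrime p) := by
  apply LinearMap.ext
  intro x
  induction x using TensorProduct.induction_on with
  | zero => simp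
  | add x y hx hy => simp only [map_add, hx, hy]
  | tmul a m =>
    have h1 : a ⊗ₜ[R] m = a • ((TensorProduct.mk R (Localization.AtPrime p) M 1) m) := by
      simp [TensorProduct.smul_tmul']
    rw [h1, map_smul, map_smul, IsLocalizedModule.mapExtendScalars_apply_apply,
      IsLocalizedModule.map_apply]
    simp

variable [Module.Finite R M2] [Module.Free R M2] [Module.Finite R M3] [Module.Free R M3]

theorem exists_local_homotopy (d1 : M1 →ₗ[R] M2) (d2 : M2 →ₗ[R] M3) (hd : d2 ∘ₗ d1 = 0)
    (hex : Function.Exact (d1.baseChange p.ResidueField) (d2.baseChange p.ResidueField)) :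
    ∃ f : R, f ∉ p ∧ ∃ (σ : M2 →ₗ[R] M1) (ρ : M3 →ₗ[R] M2),
      d1 ∘ₗ σ + ρ ∘ₗ d2 = f • LinearMap.id := by
  let A := Localization.AtPrime p
  have : Module.FinitePresentation R M2 := Module.finitePresentation_of_projective R M2
  have : Module.FinitePresentation R M3 := Module.finitePresentation_of_projective R M3
  have hD : d2.baseChange A ∘ₗ d1.baseChange A = 0 := by
    rw [← LinearMap.baseChange_comp, hd, LinearMap.baseChange_zero]
  have hexA := exact_lTensor_baseChange (A := A) (κ := p.ResidueField) d1 d2 hex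
  obtain ⟨σ, ρ, hσρ⟩ := exists_homotopy_of_exact_lTensor (d1.baseChange A) (d2.baseChange A) hD hexA
  obtain ⟨⟨σ₁, s₁⟩, hσ₁⟩ := IsLocalizedModule.surj p.primeCompl
    (IsLocalizedModule.mapExtendScalars p.primeCompl (TensorProduct.mk R A M2 1)
      (TensorProduct.mk R A M1 1) A) σ
  obtain ⟨⟨ρ₁, s₂⟩, hρ₁⟩ := IsLocalizedModule.surj p.primeCompl
    (IsLocalizedModule.mapExtendScalars p.primeCompl (TensorProduct.mk R A M3 1)
      (TensorProduct.mk R A M2 1) A) ρ
  rw [mapExt_eq_baseChange] at hσ₁ hρ₁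
  dsimp only at hσ₁ hρ₁
  let Ψ : M2 →ₗ[R] M2 := (s₂ : R) • (d1 ∘ₗ σ₁) + (s₁ : R) • (ρ₁ ∘ₗ d2) -
    ((s₁ : R) * (s₂ : R)) • LinearMap.id
  have hΨ : IsLocalizedModule.mapExtendScalars p.primeCompl (TensorProduct.mk R A M2 1)
      (TensorProduct.mk R A M2 1) A Ψ =
      IsLocalizedModule.mapExtendScalars p.primeCompl (TensorProduct.mk R A M2 1)
      (TensorProduct.mk R A M2 1) A 0 := by
    rw [map_zero, mapExt_eq_baseChange]
    dsimp only [Ψ]
    rw [LinearMap.baseChange_sub, LinearMap.baseChange_add, LinearMap.baseChange_smul,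
      LinearMap.baseChange_smul, LinearMap.baseChange_smul, LinearMap.baseChange_comp,
      LinearMap.baseChange_comp, LinearMap.baseChange_id, ← hσ₁, ← hρ₁]
    have e1 : (s₂ : R) • (d1.baseChange A ∘ₗ (s₁ • σ)) = ((s₁ : R) * (s₂ : R)) • (d1.baseChange A ∘ₗ σ) := by
      rw [Submonoid.smul_def, LinearMap.comp_smul, smul_smul, mul_comm]
    have e2 : (s₁ : R) • ((s₂ • ρ) ∘ₗ d2.baseChange A) = ((s₁ : R) * (s₂ : R)) • (ρ ∘ₗ d2.baseChange A) := by
      rw [Submonoid.smul_def, LinearMap.smul_comp, smul_smul]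
    rw [e1, e2, ← smul_add, hσρ]
    exact sub_self (((s₁ : R) * (s₂ : R)) • (LinearMap.id : A ⊗[R] M2 →ₗ[A] A ⊗[R] M2))
  obtain ⟨c, hc⟩ := IsLocalizedModule.exists_of_eq (S := p.primeCompl) hΨ
  rw [smul_zero, Submonoid.smul_def] at hc
  refine ⟨(c : R) * ((s₁ : R) * (s₂ : R)), ?_, ((c : R) * (s₂ : R)) • σ₁, ((c : R) * (s₁ : R)) • ρ₁, ?_⟩
  · exact (c * (s₁ * s₂)).2
  · dsimp only [Ψ] at hc
    rw [smul_sub, sub_eq_zero, smul_add, smul_smul, smul_smul, smul_smul] at hc
    rw [LinearMap.comp_smul, LinearMap.smul_comp]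
    exact hc

end Global

end Groth.Agent.Lib.Helper15.FibreSplit
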