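import Groth.Prelude.Def_Wider
import Mathlib.RingTheory.Ideal.KrullsHeightTheorem
import Mathlib.RingTheory.HopkinsLevitzki
import Mathlib.RingTheory.SimpleModule.Basic
import Mathlib.RingTheory.Nakayama
import Mathlib.RingTheory.FiniteLength
import Mathlib.RingTheory.Artinian.Module
import Mathlib.CategoryTheory.Linear.LinearFunctor

/-!
# Linear self-equivalences of finite length modules (helper15)

Over a Noetherian local ring `A`, every additive `A`-linear fully faithful endofunctor of the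
category `Dual.FinLen A` of finite length modules is naturally isomorphic to the identity
(`natIso`, `main`).  Route: `F(κ) ≅ κ` (all endomorphisms scalar + simple quotient),
`F(A/𝔪^(n+1))` is cyclic with annihilator `𝔪^(n+1)`, a compatible system of isomorphisms
`θseq n : A/𝔪^(n+1) ≅ F(A/𝔪^(n+1))`, and `η_M(x) = F(1 ↦ x)(θ_n 1)`.
-/

set_option autoImplicit false
set_option linter.unusedSectionVars false
universe u
open CategoryTheory

namespace Groth.Agent.Lib.Helper15.FinLenEquiv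

variable (A : Type u) [CommRing A] [IsLocalRing A] [IsNoetherianRing A]

local notation "𝔪" => IsLocalRing.maximalIdeal A

lemma isFiniteLength_quot_pow (n : ℕ) : IsFiniteLength A (A ⧸ 𝔪 ^ (n + 1)) := by
  have h1 : IsLocalRing.maximalIdeal A ∈ (𝔪 ^ (n + 1)).minimalPrimes := by
    refine ⟨⟨inferInstance, Ideal.pow_le_self (by omega)⟩, ?_⟩
    rintro q ⟨hq, hq'⟩ _
    exact hq.le_of_pow_le hq'
  have := IsLocalRing.quotient_artinian_of_mem_minimalPrimes_of_isLocalRing _ h1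
  rw [isFiniteLength_iff_isNoetherian_isArtinian]
  refine ⟨inferInstance, ?_⟩
  exact isArtinian_of_surjective_algebraMap (R := A ⧸ 𝔪 ^ (n + 1)) (S := A)
    Ideal.Quotient.mk_surjective

/-- The object `A/𝔪^(n+1)` of `FinLen A`. -/
noncomputable abbrev Y (n : ℕ) : Dual.FinLen A :=
  ⟨ModuleCat.of A (A ⧸ 𝔪 ^ (n + 1)), isFiniteLength_quot_pow A n⟩

variable {A}

/-- `𝔪^(n+1)` kills `M`. -/
def Kills (n : ℕ) (M : Dual.FinLen A) : Prop :=
  ∀ a ∈ 𝔪 ^ (n + 1), ∀ x : M.obj, a • x = 0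

lemma Kills.mono {n : ℕ} {M : Dual.FinLen A} (h : Kills n M) (k : ℕ) : Kills (n + k) M :=
  fun a ha x => h a (Ideal.pow_le_pow_right (by omega) ha) x

lemma kills_Y (n : ℕ) : Kills n (Y A n) := by
  intro a ha x
  obtain ⟨b, rfl⟩ := Ideal.Quotient.mk_surjective x
  change Ideal.Quotient.mk _ (a * b) = 0
  rw [Ideal.Quotient.eq_zero_iff_mem]
  exact Ideal.mul_mem_right _ _ ha

lemma exists_kills (M : Dual.FinLen A) : ∃ n, Kills n M := by
  have hfl := M.property
  rw [isFiniteLength_iff_isNoetherian_isArtinian] at hfl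
  obtain ⟨hN, hA⟩ := hfl
  let f : ℕ →o (Submodule A M.obj)ᵒᵈ :=
    { toFun := fun n => OrderDual.toDual (𝔪 ^ n • (⊤ : Submodule A M.obj))
      monotone' := fun i j hij => by
        change 𝔪 ^ j • (⊤ : Submodule A M.obj) ≤ 𝔪 ^ i • ⊤
        exact Submodule.smul_mono_left (Ideal.pow_le_pow_right hij) }
  obtain ⟨n, hn⟩ := IsArtinian.monotone_stabilizes f
  have h1 : 𝔪 ^ n • (⊤ : Submodule A M.obj) = 𝔪 ^ (n + 1) • ⊤ := hn (n + 1) (by omega)
  have h2 : 𝔪 ^ n • (⊤ : Submodule A M.obj) = ⊥ := by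
    apply Submodule.eq_bot_of_le_smul_of_le_jacobson_bot 𝔪 _ (IsNoetherian.noetherian _)
    · conv_lhs => rw [h1]
      rw [pow_succ', mul_smul]
    · rw [IsLocalRing.jacobson_eq_maximalIdeal _ bot_ne_top]
  refine ⟨n, fun a ha x => ?_⟩
  have : a • x ∈ 𝔪 ^ n • (⊤ : Submodule A M.obj) :=
    Submodule.smul_mem_smul (Ideal.pow_le_pow_right (by omega) ha) trivial
  rw [h2] at this
  simpa using this

/-- The morphism `A/𝔪^(n+1) ⟶ M`, `1 ↦ x`. -/
noncomputable def fx (n : ℕ) (M : Dual.FinLen A) (h : Kills n M) (x : M.obj) : Y A n ⟶ M :=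
  ObjectProperty.homMk (ModuleCat.ofHom
    (Submodule.liftQ (𝔪 ^ (n + 1)) (LinearMap.toSpanSingleton A M.obj x) (by
      intro a ha
      simpa using h a ha x)))

@[simp]
lemma fx_mk (n : ℕ) (M : Dual.FinLen A) (h : Kills n M) (x : M.obj) (a : A) :
    (fx n M h x).hom.hom (Ideal.Quotient.mk _ a : A ⧸ 𝔪 ^ (n + 1)) = a • x := rfl

@[simp]
lemma fx_one (n : ℕ) (M : Dual.FinLen A) (h : Kills n M) (x : M.obj) :
    (fx n M h x).hom.hom (1 : A ⧸ 𝔪 ^ (n + 1)) = x := by
  have := fx_mk n M h x 1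
  simpa using this

lemma hom_ext_one {n : ℕ} {M : Dual.FinLen A} {g g' : Y A n ⟶ M}
    (h : g.hom.hom (1 : A ⧸ 𝔪 ^ (n + 1)) = g'.hom.hom (1 : A ⧸ 𝔪 ^ (n + 1))) : g = g' := by
  apply ObjectProperty.hom_ext
  apply ModuleCat.hom_ext
  apply LinearMap.ext
  intro z
  obtain ⟨a, rfl⟩ := Ideal.Quotient.mk_surjective z
  have e : (Ideal.Quotient.mk (𝔪 ^ (n + 1)) a) = a • (1 : A ⧸ 𝔪 ^ (n + 1)) := by
    rw [Algebra.smul_def]; simp
  rw [e]
  erw [map_smul, map_smul, h]

lemma fx_eta {n : ℕ} {M : Dual.FinLen A} (h : Kills n M) (g : Y A n ⟶ M) :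
    g = fx n M h (g.hom.hom (1 : A ⧸ 𝔪 ^ (n + 1))) :=
  hom_ext_one (by rw [fx_one])


lemma fx_add {n : ℕ} {M : Dual.FinLen A} (h : Kills n M) (x y : M.obj) :
    fx n M h (x + y) = fx n M h x + fx n M h y :=
  hom_ext_one (by
    rw [fx_one]
    change _ = (fx n M h x).hom.hom 1 + (fx n M h y).hom.hom 1
    rw [fx_one, fx_one])

lemma fx_smul {n : ℕ} {M : Dual.FinLen A} (h : Kills n M) (a : A) (x : M.obj) :
    fx n M h (a • x) = a • fx n M h x :=
  hom_ext_one (by
    rw [fx_one]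
    change _ = a • (fx n M h x).hom.hom 1
    rw [fx_one])

lemma fx_comp {n : ℕ} {M N : Dual.FinLen A} (h : Kills n M) (h' : Kills n N) (x : M.obj)
    (g : M ⟶ N) : fx n M h x ≫ g = fx n N h' (g.hom.hom x) :=
  hom_ext_one (by
    rw [fx_one]
    change g.hom.hom ((fx n M h x).hom.hom 1) = _
    rw [fx_one])

/-- The projection `A/𝔪^(n+2) ⟶ A/𝔪^(n+1)`. -/
noncomputable def π (n : ℕ) : Y A (n + 1) ⟶ Y A n :=
  fx (n + 1) (Y A n) ((kills_Y n).mono 1) (1 : A ⧸ 𝔪 ^ (n + 1))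

lemma π_one (n : ℕ) : (π (A := A) n).hom.hom (1 : A ⧸ 𝔪 ^ (n + 1 + 1)) = (1 : A ⧸ 𝔪 ^ (n + 1)) :=
  fx_one _ _ _ _

lemma π_comp_fx {n : ℕ} {M : Dual.FinLen A} (h : Kills n M) (x : M.obj) :
    π n ≫ fx n M h x = fx (n + 1) M (h.mono 1) x := by
  rw [π, fx_comp _ (h.mono 1), fx_one]

lemma smulId_eq_zero_iff (a : A) (M : Dual.FinLen A) :
    a • 𝟙 M = 0 ↔ ∀ x : M.obj, a • x = 0 := by
  constructor
  · intro h x
    have : (a • 𝟙 M).hom.hom x = (0 : M ⟶ M).hom.hom x := by rw [h]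
    exact this
  · intro h
    apply ObjectProperty.hom_ext
    apply ModuleCat.hom_ext
    apply LinearMap.ext
    intro x
    exact h x

lemma one_ne_zero_Y (n : ℕ) : (1 : A ⧸ 𝔪 ^ (n + 1)) ≠ 0 := by
  intro h
  have h' : Ideal.Quotient.mk (𝔪 ^ (n + 1)) (1 : A) = 0 := by simpa using h
  rw [Ideal.Quotient.eq_zero_iff_mem] at h'
  exact (Ideal.ne_top_iff_one _).mp (IsLocalRing.maximalIdeal.isMaximal A).ne_top
    (Ideal.pow_le_self (by omega) h')

lemma smulId_Y_eq_zero_iff (a : A) (n : ℕ) : a • 𝟙 (Y A n) = 0 ↔ a ∈ 𝔪 ^ (n + 1) := by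
  rw [smulId_eq_zero_iff]
  constructor
  · intro h
    have := h (1 : A ⧸ 𝔪 ^ (n + 1))
    rw [← Ideal.Quotient.eq_zero_iff_mem]
    rw [Algebra.smul_def] at this
    simpa using this
  · intro h x
    exact kills_Y n a h x

section Functor

variable (F : Dual.FinLen A ⥤ Dual.FinLen A) [F.Additive] [F.Linear A] [F.Full] [F.Faithful]

lemma map_smulId (a : A) (M : Dual.FinLen A) : F.map (a • 𝟙 M) = a • 𝟙 (F.obj M) := by
  rw [Functor.map_smul, F.map_id]

lemma smulId_F_eq_zero_iff (a : A) (M : Dual.FinLen A) :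
    a • 𝟙 (F.obj M) = 0 ↔ a • 𝟙 M = 0 := by
  rw [← map_smulId]
  constructor
  · intro h
    apply F.map_injective
    rw [h, F.map_zero]
  · intro h
    rw [h, F.map_zero]

lemma kills_F {n : ℕ} {M : Dual.FinLen A} (h : Kills n M) : Kills n (F.obj M) := by
  intro a ha
  rw [← smulId_eq_zero_iff, smulId_F_eq_zero_iff, smulId_eq_zero_iff]
  exact h a ha


omit [IsNoetherianRing A] in
lemma exists_simple_quot {Q : Type u} [AddCommGroup Q] [Module A Q] [Module.Finite A Q]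
    (Q' : Submodule A Q) (h : Q' ≠ ⊤) :
    ∃ q : Q →ₗ[A] (A ⧸ 𝔪 ^ (0 + 1)), Function.Surjective q ∧ Q' ≤ LinearMap.ker q := by
  obtain ⟨N', hN', hle⟩ := (eq_top_or_exists_le_coatom Q').resolve_left h
  have : IsSimpleModule A (Q ⧸ N') := isSimpleModule_iff_isCoatom.mpr hN'
  obtain ⟨I, hI, ⟨e⟩⟩ := isSimpleModule_iff_quot_maximal.mp this
  have hI' : I = 𝔪 ^ (0 + 1) := by
    rw [IsLocalRing.eq_maximalIdeal hI]; simp
  refine ⟨((Submodule.quotEquivOfEq I (𝔪 ^ (0 + 1)) hI').toLinearMap.comp e.toLinearMap).comp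
    N'.mkQ, ?_, ?_⟩
  · rw [LinearMap.coe_comp, LinearMap.coe_comp]
    exact ((Submodule.quotEquivOfEq I (𝔪 ^ (0 + 1)) hI').surjective.comp e.surjective).comp
      (Submodule.mkQ_surjective N')
  · intro x hx
    rw [LinearMap.mem_ker, LinearMap.comp_apply]
    have : N'.mkQ x = 0 := by
      rw [Submodule.mkQ_apply, Submodule.Quotient.mk_eq_zero]
      exact hle hx
    rw [this, map_zero]

instance (M : Dual.FinLen A) : Module.Finite A M.obj := by
  have := (isFiniteLength_iff_isNoetherian_isArtinian.mp M.property).1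
  infer_instance

/-- morphism from a linear map -/
noncomputable abbrev ofLin {M N : Dual.FinLen A} (f : M.obj →ₗ[A] N.obj) : M ⟶ N :=
  ObjectProperty.homMk (ModuleCat.ofHom f)

/-- iso from a bijective morphism -/
noncomputable def isoOfBij {M N : Dual.FinLen A} (f : M ⟶ N)
    (hf : Function.Bijective f.hom.hom) : M ≅ N :=
  ObjectProperty.isoMk _ (LinearEquiv.toModuleIso (LinearEquiv.ofBijective f.hom.hom hf))

lemma isoOfBij_hom {M N : Dual.FinLen A} (f : M ⟶ N)
    (hf : Function.Bijective f.hom.hom) : (isoOfBij f hf).hom = f := by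
  apply ObjectProperty.hom_ext
  apply ModuleCat.hom_ext
  apply LinearMap.ext
  intro x
  rfl

lemma unit_of_not_mem {a : A} (ha : a ∉ 𝔪) : IsUnit a := by
  by_contra h
  exact ha ((IsLocalRing.mem_maximalIdeal a).mpr h)

lemma exists_iso_K : Nonempty (F.obj (Y A 0) ≅ Y A 0) := by
  set N := F.obj (Y A 0) with hNdef
  have hkN : Kills 0 N := kills_F F (kills_Y 0)
  -- N is nontrivial
  have hid : 𝟙 N ≠ 0 := by
    intro h
    have h1 : (1 : A) • 𝟙 N = 0 := by rw [one_smul, h]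
    rw [smulId_F_eq_zero_iff, smulId_Y_eq_zero_iff] at h1
    exact (Ideal.ne_top_iff_one _).mp (IsLocalRing.maximalIdeal.isMaximal A).ne_top
      (Ideal.pow_le_self (by omega) h1)
  have hx : ∃ x : N.obj, x ≠ 0 := by
    by_contra hcon
    push Not at hcon
    apply hid
    apply ObjectProperty.hom_ext
    apply ModuleCat.hom_ext
    apply LinearMap.ext
    intro x
    rw [hcon x]
    exact (hcon _).trans (by rfl)
  obtain ⟨x, hx⟩ := hx
  have hbt : (⊥ : Submodule A N.obj) ≠ ⊤ := by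
    intro h
    apply hx
    have : x ∈ (⊤ : Submodule A N.obj) := trivial
    rw [← h] at this
    simpa using this
  obtain ⟨p, hp, -⟩ := exists_simple_quot ⊥ hbt
  let i : Y A 0 ⟶ N := fx 0 N hkN x
  let g : N ⟶ N := ofLin (N := Y A 0) p ≫ i
  obtain ⟨g', hg'⟩ := F.map_surjective g
  obtain ⟨a, ha⟩ := Ideal.Quotient.mk_surjective (g'.hom.hom (1 : A ⧸ 𝔪 ^ (0 + 1)))
  have hg'a : g' = a • 𝟙 (Y A 0) := by
    apply hom_ext_one
    rw [← ha]
    change _ = a • (1 : A ⧸ 𝔪 ^ (0 + 1))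
    rw [Algebra.smul_def]; simp
  have hga : g = a • 𝟙 N := by
    rw [← hg', hg'a, map_smulId]
  have ha' : a ∉ 𝔪 := by
    intro ham
    have : a • 𝟙 N = 0 := by
      rw [smulId_eq_zero_iff]
      exact hkN a (by simpa using ham)
    rw [← hga] at this
    obtain ⟨y, hy⟩ := hp 1
    have h2 : g.hom.hom y = x := by
      change i.hom.hom (p y) = x
      rw [hy]
      exact fx_one _ _ _ _
    rw [this] at h2
    exact hx h2.symm
  have hau := unit_of_not_mem ha'
  have hinj : Function.Injective p := by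
    rw [injective_iff_map_eq_zero]
    intro y hy
    have h2 : g.hom.hom y = 0 := by
      change i.hom.hom (p y) = 0
      rw [hy, map_zero]
    rw [hga] at h2
    change a • y = 0 at h2
    exact (hau.smul_eq_zero).mp h2
  exact ⟨isoOfBij (ofLin (N := Y A 0) p) ⟨hinj, hp⟩⟩


/-- the projection `A/𝔪^(n+1) ⟶ A/𝔪`. -/
noncomputable def πK (n : ℕ) : Y A n ⟶ Y A 0 :=
  fx n (Y A 0) (by simpa using (kills_Y (A := A) 0).mono n) (1 : A ⧸ 𝔪 ^ (0 + 1))

lemma smul_K_eq_zero {a : A} (ha : a ∈ 𝔪) (z : A ⧸ 𝔪 ^ (0 + 1)) : a • z = 0 :=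
  kills_Y (A := A) 0 a (by simpa using ha) z

lemma exists_iso (n : ℕ) : Nonempty (Y A n ≅ F.obj (Y A n)) := by
  obtain ⟨eK⟩ := exists_iso_K F
  set Q := F.obj (Y A n) with hQdef
  have hkQ : Kills n Q := kills_F F (kills_Y n)
  let p0 : Q ⟶ Y A 0 := F.map (πK n) ≫ eK.hom
  -- every morphism Q ⟶ K is a multiple of p0
  have hall : ∀ g : Q ⟶ Y A 0, ∃ a : A, g = a • p0 := by
    intro g
    obtain ⟨g', hg'⟩ := F.map_surjective (g ≫ eK.inv)
    obtain ⟨a, ha⟩ := Ideal.Quotient.mk_surjective (g'.hom.hom (1 : A ⧸ 𝔪 ^ (n + 1)))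
    have hg'a : g' = a • πK n := by
      apply hom_ext_one
      rw [← ha]
      change _ = a • (πK n).hom.hom (1 : A ⧸ 𝔪 ^ (n + 1))
      rw [πK, fx_one, Algebra.smul_def]; simp
    refine ⟨a, ?_⟩
    have : g = F.map g' ≫ eK.hom := by rw [hg']; simp
    rw [this, hg'a, Functor.map_smul, Linear.smul_comp]
  -- p0 ≠ 0
  have hp0 : ∃ x : Q.obj, p0.hom.hom x ≠ 0 := by
    by_contra hcon
    push Not at hcon
    have h0 : p0 = 0 := by
      apply ObjectProperty.hom_ext
      apply ModuleCat.hom_ext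
      apply LinearMap.ext
      intro x
      exact hcon x
    have h1 : F.map (πK n) = 0 := by
      have : F.map (πK n) = p0 ≫ eK.inv := by simp [p0]
      rw [this, h0, Limits.zero_comp]
    have h2 : πK (A := A) n = 0 := F.map_injective (by rw [h1, F.map_zero])
    have h3 : (πK (A := A) n).hom.hom (1 : A ⧸ 𝔪 ^ (n + 1)) = 0 := by rw [h2]; rfl
    rw [πK, fx_one] at h3
    exact one_ne_zero_Y 0 h3
  obtain ⟨x, hx⟩ := hp0
  -- x generates
  have hspan : Submodule.span A {x} = ⊤ := by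
    by_contra hne
    obtain ⟨q, hq, hle⟩ := exists_simple_quot _ hne
    obtain ⟨a, ha⟩ := hall (ofLin (N := Y A 0) q)
    have hqx : q x = 0 := hle (Submodule.mem_span_singleton_self x)
    have h1 : q x = a • p0.hom.hom x := by
      have : (ofLin (N := Y A 0) q).hom.hom x = (a • p0).hom.hom x := by rw [ha]
      exact this
    rw [hqx] at h1
    have ham : a ∈ 𝔪 := by
      by_contra hnm
      exact hx (((unit_of_not_mem hnm).smul_eq_zero).mp h1.symm)
    obtain ⟨y, hy⟩ := hq 1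
    have h2 : q y = a • p0.hom.hom y := by
      have : (ofLin (N := Y A 0) q).hom.hom y = (a • p0).hom.hom y := by rw [ha]
      exact this
    rw [hy, smul_K_eq_zero ham] at h2
    exact one_ne_zero_Y 0 h2
  let θ : Y A n ⟶ Q := fx n Q hkQ x
  have hsurj : Function.Surjective θ.hom.hom := by
    intro y
    have : y ∈ Submodule.span A {x} := by rw [hspan]; trivial
    obtain ⟨a, rfl⟩ := Submodule.mem_span_singleton.mp this
    exact ⟨Ideal.Quotient.mk _ a, fx_mk _ _ _ _ _⟩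
  have hinj : Function.Injective θ.hom.hom := by
    rw [injective_iff_map_eq_zero]
    intro z hz
    obtain ⟨a, rfl⟩ := Ideal.Quotient.mk_surjective z
    have hax : a • x = 0 := by rw [← fx_mk n Q hkQ x a]; exact hz
    have hQ0 : a • 𝟙 Q = 0 := by
      rw [smulId_eq_zero_iff]
      intro y
      have : y ∈ Submodule.span A {x} := by rw [hspan]; trivial
      obtain ⟨b, rfl⟩ := Submodule.mem_span_singleton.mp this
      rw [smul_comm, hax, smul_zero]
    rw [smulId_F_eq_zero_iff, smulId_Y_eq_zero_iff] at hQ0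
    exact Ideal.Quotient.eq_zero_iff_mem.mpr hQ0
  exact ⟨isoOfBij θ ⟨hinj, hsurj⟩⟩


lemma exists_compat (n : ℕ) (θn : Y A n ≅ F.obj (Y A n)) :
    ∃ θ' : Y A (n + 1) ≅ F.obj (Y A (n + 1)), θ'.hom ≫ F.map (π n) = π n ≫ θn.hom := by
  obtain ⟨θ0⟩ := exists_iso F (n + 1)
  let ψ : Y A (n + 1) ⟶ Y A n := θ0.hom ≫ F.map (π n) ≫ θn.inv
  obtain ⟨u, hu⟩ := Ideal.Quotient.mk_surjective (ψ.hom.hom (1 : A ⧸ 𝔪 ^ (n + 1 + 1)))
  have hψ : ψ = u • π n := by
    apply hom_ext_one
    rw [← hu]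
    change _ = u • (π n).hom.hom (1 : A ⧸ 𝔪 ^ (n + 1 + 1))
    rw [π_one, Algebra.smul_def]; simp
  have hu' : u ∉ 𝔪 := by
    intro hum
    obtain ⟨ψ', hψ'⟩ := F.map_surjective (θ0.inv ≫ π n ≫ θn.hom)
    have h1 : F.map (π n) = F.map (u • ψ') := by
      have h0 : F.map (π n) = θ0.inv ≫ ψ ≫ θn.hom := by simp [ψ]
      rw [Functor.map_smul, hψ', h0, hψ, Linear.smul_comp, Linear.comp_smul]
    have h2 : π (A := A) n = u • ψ' := F.map_injective h1
    have h3 : (1 : A ⧸ 𝔪 ^ (n + 1)) = u • ψ'.hom.hom (1 : A ⧸ 𝔪 ^ (n + 1 + 1)) := by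
      rw [← π_one n, h2]; rfl
    obtain ⟨b, hb⟩ := Ideal.Quotient.mk_surjective (ψ'.hom.hom (1 : A ⧸ 𝔪 ^ (n + 1 + 1)))
    rw [← hb, Algebra.smul_def] at h3
    have h4 : Ideal.Quotient.mk (𝔪 ^ (n + 1)) (1 - u * b) = 0 := by
      rw [map_sub, map_mul, map_one]
      rw [sub_eq_zero]
      exact h3
    rw [Ideal.Quotient.eq_zero_iff_mem] at h4
    have h5 : 1 - u * b ∈ 𝔪 := Ideal.pow_le_self (by omega) h4
    have h6 : (1 : A) ∈ 𝔪 := by
      have := Ideal.add_mem _ h5 (Ideal.mul_mem_right b _ hum)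
      simp at this
    exact (Ideal.ne_top_iff_one _).mp (IsLocalRing.maximalIdeal.isMaximal A).ne_top h6
  obtain ⟨v, hv⟩ := (unit_of_not_mem hu').exists_left_inv
  refine ⟨⟨v • θ0.hom, u • θ0.inv, ?_, ?_⟩, ?_⟩
  · rw [Linear.smul_comp, Linear.comp_smul, smul_smul, hv, one_smul, Iso.hom_inv_id]
  · rw [Linear.smul_comp, Linear.comp_smul, smul_smul, mul_comm, hv, one_smul, Iso.inv_hom_id]
  · change (v • θ0.hom) ≫ F.map (π n) = π n ≫ θn.hom
    have h1 : θ0.hom ≫ F.map (π n) = ψ ≫ θn.hom := by simp [ψ]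
    rw [Linear.smul_comp, h1, hψ, Linear.smul_comp, smul_smul, hv, one_smul]

/-- compatible system of isomorphisms -/
noncomputable def θseq : (n : ℕ) → (Y A n ≅ F.obj (Y A n))
  | 0 => (exists_iso F 0).some
  | (n + 1) => (exists_compat F n (θseq n)).choose

lemma θseq_succ (n : ℕ) :
    (θseq F (n + 1)).hom ≫ F.map (π n) = π n ≫ (θseq F n).hom :=
  (exists_compat F n (θseq F n)).choose_spec

/-- the comparison map at level `n`. -/
noncomputable def η' (n : ℕ) (M : Dual.FinLen A) (h : Kills n M) : M.obj →ₗ[A] (F.obj M).obj where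
  toFun x := ((θseq F n).hom ≫ F.map (fx n M h x)).hom.hom (1 : A ⧸ 𝔪 ^ (n + 1))
  map_add' x y := by
    rw [fx_add, F.map_add, Preadditive.comp_add]
    rfl
  map_smul' a x := by
    rw [fx_smul, Functor.map_smul, Linear.comp_smul]
    rfl

lemma η'_apply (n : ℕ) (M : Dual.FinLen A) (h : Kills n M) (x : M.obj) :
    η' F n M h x = ((θseq F n).hom ≫ F.map (fx n M h x)).hom.hom (1 : A ⧸ 𝔪 ^ (n + 1)) := rfl

lemma η'_succ (n : ℕ) (M : Dual.FinLen A) (h : Kills n M) :
    η' F (n + 1) M (h.mono 1) = η' F n M h := by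
  apply LinearMap.ext
  intro x
  rw [η'_apply, η'_apply, ← π_comp_fx h, F.map_comp, ← Category.assoc, θseq_succ, Category.assoc]
  change ((θseq F n).hom ≫ F.map (fx n M h x)).hom.hom ((π n).hom.hom 1) = _
  rw [π_one]

lemma η'_add (n k : ℕ) (M : Dual.FinLen A) (h : Kills n M) :
    η' F (n + k) M (h.mono k) = η' F n M h := by
  induction k with
  | zero => rfl
  | succ k ih => rw [← ih]; exact η'_succ F (n + k) M (h.mono k)

lemma η'_le {n n' : ℕ} (hle : n ≤ n') (M : Dual.FinLen A) (h : Kills n M) (h' : Kills n' M) :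
    η' F n' M h' = η' F n M h := by
  obtain ⟨k, rfl⟩ := Nat.exists_eq_add_of_le hle
  exact η'_add F n k M h

lemma η'_indep {n n' : ℕ} (M : Dual.FinLen A) (h : Kills n M) (h' : Kills n' M) :
    η' F n' M h' = η' F n M h := by
  rcases le_total n n' with hle | hle
  · exact η'_le F hle M h h'
  · exact (η'_le F hle M h' h).symm

lemma η'_natural (n : ℕ) {M N : Dual.FinLen A} (h : Kills n M) (h' : Kills n N) (g : M ⟶ N)
    (x : M.obj) : (F.map g).hom.hom (η' F n M h x) = η' F n N h' (g.hom.hom x) := by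
  rw [η'_apply, η'_apply, ← fx_comp h h', F.map_comp, ← Category.assoc]
  rfl

lemma η'_injective (n : ℕ) (M : Dual.FinLen A) (h : Kills n M) :
    Function.Injective (η' F n M h) := by
  rw [injective_iff_map_eq_zero]
  intro x hx
  rw [η'_apply] at hx
  have h1 : (θseq F n).hom ≫ F.map (fx n M h x) = 0 := by
    apply hom_ext_one
    rw [hx]; rfl
  have h2 : F.map (fx n M h x) = 0 := by
    rw [← cancel_epi (θseq F n).hom, h1, Limits.comp_zero]
  have h3 : fx n M h x = 0 := F.map_injective (by rw [h2, F.map_zero])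
  have h4 : (fx n M h x).hom.hom (1 : A ⧸ 𝔪 ^ (n + 1)) = 0 := by rw [h3]; rfl
  rwa [fx_one] at h4

lemma η'_surjective (n : ℕ) (M : Dual.FinLen A) (h : Kills n M) :
    Function.Surjective (η' F n M h) := by
  intro y
  obtain ⟨f, hf⟩ := F.map_surjective ((θseq F n).inv ≫ fx n (F.obj M) (kills_F F h) y)
  refine ⟨f.hom.hom (1 : A ⧸ 𝔪 ^ (n + 1)), ?_⟩
  rw [η'_apply, ← fx_eta h f, hf, Iso.hom_inv_id_assoc, fx_one]

/-- a level killing `M` -/
noncomputable def lvl (M : Dual.FinLen A) : ℕ := (exists_kills M).choose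

lemma lvl_spec (M : Dual.FinLen A) : Kills (lvl M) M := (exists_kills M).choose_spec

/-- the natural isomorphism `𝟭 ≅ F`. -/
noncomputable def natIso : 𝟭 (Dual.FinLen A) ≅ F :=
  NatIso.ofComponents
    (fun M => isoOfBij (ofLin (η' F (lvl M) M (lvl_spec M)))
      ⟨η'_injective F _ M _, η'_surjective F _ M _⟩)
    (by
      intro M N g
      apply ObjectProperty.hom_ext
      apply ModuleCat.hom_ext
      apply LinearMap.ext
      intro x
      change η' F (lvl N) N (lvl_spec N) (g.hom.hom x) =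
        (F.map g).hom.hom (η' F (lvl M) M (lvl_spec M) x)
      rw [η'_indep F M ((lvl_spec M).mono (lvl N)) (lvl_spec M),
        η'_indep F N (n := lvl M + lvl N)
          (by rw [Nat.add_comm]; exact (lvl_spec N).mono (lvl M)) (lvl_spec N)]
      exact (η'_natural F _ _ _ g x).symm)

end Functor

theorem main (F : Dual.FinLen A ≌ Dual.FinLen A) [F.functor.Additive] [F.functor.Linear A] :
    Nonempty (F.functor ≅ 𝟭 (Dual.FinLen A)) :=
  ⟨(natIso F.functor).symm⟩

end Groth.Agent.Lib.Helper15.FinLenEquiv
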