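import Groth.Agent.Lib.Helper15.FibNe
import Groth.Agent.Lib.Helper15.FFRel

/-!
# Lifting generizations inside the support of a flat module: commutative algebra (helper15)

`exists_prime_support_of_flat`: `A → B`, `N` a `B`-module, `Q` a prime of `B` over `P`,
`T = N_Q` faithfully flat over `R = A_P`; for every prime `P' ≤ P` of `A` there is a prime
`Q' ≤ Q` of `B` over `P'` in the support of `N`.
-/

set_option autoImplicit false
universe u

open TensorProduct

namespace Groth.Agent.Lib.Helper15.GenLift

open Groth.Agent.Lib.Helper15.FibNe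

theorem exists_prime_support_of_flat
    {A B C R N T : Type u} [CommRing A] [CommRing B] [CommRing C] [CommRing R]
    [IsLocalRing R] [IsLocalRing C]
    [Algebra A B] [Algebra A C] [Algebra B C] [IsScalarTower A B C]
    (Q : Ideal B) [Q.IsPrime] [IsLocalization.AtPrime C Q]
    [Algebra A R] (P : Ideal A) [P.IsPrime] [IsLocalization.AtPrime R P]
    [AddCommGroup N] [Module B N]
    [AddCommGroup T] [Module A T] [Module B T] [Module C T] [Module R T]
    [IsScalarTower A B T] [IsScalarTower B C T] [IsScalarTower A R T]
    (l : N →ₗ[B] T) [IsLocalizedModule Q.primeCompl l]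
    [Module.Flat R T] (hT : IsLocalRing.maximalIdeal R • (⊤ : Submodule R T) ≠ ⊤)
    (P' : Ideal A) [P'.IsPrime] (hP' : P' ≤ P) :
    ∃ (Q' : Ideal B) (hQ' : Q'.IsPrime), Q' ≤ Q ∧ Q'.comap (algebraMap A B) = P' ∧
      (⟨Q', hQ'⟩ : PrimeSpectrum B) ∈ Module.support B N := by
  haveI : Module.FaithfullyFlat R T := Groth.Agent.Lib.Helper15.FFRel.faithfullyFlat_of_local hT
  -- `R → κ(P')`
  have hunits : ∀ y : P.primeCompl, IsUnit (algebraMap A P'.ResidueField y) := by
    intro y
    rw [isUnit_iff_ne_zero, Ne, Ideal.algebraMap_residueField_eq_zero]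
    exact fun h => y.2 (hP' h)
  let ψ : R →+* P'.ResidueField := IsLocalization.lift hunits
  letI algRK : Algebra R P'.ResidueField := ψ.toAlgebra
  haveI : IsScalarTower A R P'.ResidueField := IsScalarTower.of_algebraMap_eq' (by
    change algebraMap A P'.ResidueField = ψ.comp (algebraMap A R)
    exact (IsLocalization.lift_comp hunits).symm)
  haveI h1 : Nontrivial (T ⊗[R] P'.ResidueField) :=
    Module.FaithfullyFlat.lTensor_nontrivial R T P'.ResidueField
  haveI h2 : Nontrivial (T ⊗[A] P'.ResidueField) :=
    (IsLocalization.moduleTensorEquiv P.primeCompl R T P'.ResidueField).toEquiv.nontrivial_congr.1 h1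
  haveI : IsScalarTower A C T := IsScalarTower.of_algebraMap_smul fun a t => by
    rw [IsScalarTower.algebraMap_apply A B C, algebraMap_smul, algebraMap_smul]
  obtain ⟨q, hq, hqcomap, hall⟩ := exists_prime_fibre_ne (A' := A) (C := C) (N' := T)
    (K' := P'.ResidueField) P'
    (fun a ha => Ideal.algebraMap_residueField_eq_zero.2 ha)
    (fun a ha => by
      rw [isUnit_iff_ne_zero, Ne, Ideal.algebraMap_residueField_eq_zero]
      exact ha) h2
  haveI := hq
  refine ⟨q.comap (algebraMap B C), inferInstance, ?_, ?_, ?_⟩
  · intro b hb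
    rw [Ideal.mem_comap] at hb
    have h3 : algebraMap B C b ∈ IsLocalRing.maximalIdeal C :=
      IsLocalRing.le_maximalIdeal hq.ne_top hb
    exact (IsLocalization.AtPrime.to_map_mem_maximal_iff C Q b).1 h3
  · rw [Ideal.comap_comap, ← IsScalarTower.algebraMap_eq]
    exact hqcomap
  · by_contra hns
    rw [Module.notMem_support_iff'] at hns
    apply hall (LocalizedModule q.primeCompl T) (LocalizedModule.mkLinearMap q.primeCompl T)
      inferInstance
    have hsub : Subsingleton (LocalizedModule q.primeCompl T) := by
      refine subsingleton_of_forall_eq 0 fun τ => ?_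
      obtain ⟨⟨t, u⟩, hu⟩ := IsLocalizedModule.surj q.primeCompl
        (LocalizedModule.mkLinearMap q.primeCompl T) τ
      obtain ⟨⟨n, r⟩, hr⟩ := IsLocalizedModule.surj Q.primeCompl l t
      obtain ⟨s, hsQ', hs⟩ := hns n
      -- `s • t = 0`
      have h4 : r • (s • t) = 0 := by
        rw [smul_comm, ← map_zero l, ← hs, map_smul]
        exact congrArg (s • ·) hr
      have hru := IsLocalizedModule.map_units l r
      rw [Module.End.isUnit_iff] at hru
      have h5 : s • t = 0 := hru.1 (by
        rw [Module.algebraMap_end_apply, Module.algebraMap_end_apply, smul_zero]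
        exact h4)
      have hc : algebraMap B C s ∈ q.primeCompl := fun hmem => hsQ' (Ideal.mem_comap.2 hmem)
      have h6 : (LocalizedModule.mkLinearMap q.primeCompl T) t = 0 := by
        rw [IsLocalizedModule.eq_zero_iff q.primeCompl]
        refine ⟨⟨algebraMap B C s, hc⟩, ?_⟩
        change (algebraMap B C s) • t = 0
        rw [algebraMap_smul]
        exact h5
      have huu := IsLocalizedModule.map_units (LocalizedModule.mkLinearMap q.primeCompl T) u
      rw [Module.End.isUnit_iff] at huu
      apply huu.1
      rw [Module.algebraMap_end_apply, Module.algebraMap_end_apply, smul_zero]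
      rw [← h6]
      exact hu
    rw [eq_top_iff]
    intro z _
    rw [Subsingleton.elim z 0]
    exact Submodule.zero_mem _

end Groth.Agent.Lib.Helper15.GenLift
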