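import Groth.Agent.Lib.Helper15.GenLift
import Groth.Agent.Lib.Helper15.FibNeSch
import Groth.Agent.Lib.Helper64.FinTypeStalk

/-!
# Lifting generizations inside the support of a flat finite type module (helper15)

`exists_generization_in_support`: `F` quasi-coherent of finite type on `X`, flat over `Y` at `x`
with `F_x ≠ 0`; every generization `y'` of `f x` lifts to a generization `x'` of `x` in `Supp F`.
-/

set_option autoImplicit false
set_option linter.style.haveILetI false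
universe u
open CategoryTheory CategoryTheory.Limits AlgebraicGeometry TopologicalSpace TensorProduct

namespace Groth.Agent.Lib.Helper15.GenLiftSch

open Groth.Agent.Lib.Lead.PullbackAff Groth.Agent.Lib.Lead.QCohAff Scheme.Modules
open Groth.Agent.Lib.Helper15.GenLift

/-- Nakayama: for a finite nonzero module over a local ring, `𝔪 M ≠ M`. -/
theorem maximalIdeal_smul_top_ne_top {C T : Type u} [CommRing C] [IsLocalRing C] [AddCommGroup T]
    [Module C T] [Module.Finite C T] [Nontrivial T] :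
    IsLocalRing.maximalIdeal C • (⊤ : Submodule C T) ≠ ⊤ := by
  intro h1
  have h2 : (⊤ : Submodule C T) = ⊥ :=
    Submodule.eq_bot_of_le_smul_of_le_jacobson_bot _ _ Module.Finite.fg_top
      (le_of_eq h1.symm) (IsLocalRing.maximalIdeal_le_jacobson _)
  exact top_ne_bot h2

/-- For `F` of finite type with `F_x ≠ 0`, `𝔪_{f x} F_x ≠ F_x`. -/
theorem fibre_ne_of_finite {X Y : Scheme.{u}} (f : X ⟶ Y) (F : X.Modules)
    (hft : SheafOfModules.IsFiniteType (R := X.ringCatSheaf) F) (x : X)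
    (hx : x ∈ CohB1.support F) :
    letI := FlatMod.moduleStalkOver f F x
    IsLocalRing.maximalIdeal (Y.presheaf.stalk (f x)) •
      (⊤ : Submodule (Y.presheaf.stalk (f x)) (F.presheaf.stalk x)) ≠ ⊤ := by
  haveI hfin : Module.Finite (X.presheaf.stalk x) (F.presheaf.stalk x) :=
    Groth.Agent.Lib.Helper64.FinTypeStalk.finite_stalk F hft x
  haveI hnt : Nontrivial (F.presheaf.stalk x) := not_subsingleton_iff_nontrivial.1 hx
  letI := FlatMod.moduleStalkOver f F x
  exact Groth.Agent.Lib.Helper15.FFRel.smul_top_ne_top_of_isLocalHom (f.stalkMap x).hom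
    (fun r m => rfl) maximalIdeal_smul_top_ne_top

set_option maxHeartbeats 1600000 in
theorem exists_generization_in_support {X Y : Scheme.{u}} (f : X ⟶ Y) (F : X.Modules)
    (hF : Coh.IsCoh F) (x : X) (hfl : FlatMod.IsFlatOverAt f F x) (hx : x ∈ CohB1.support F)
    (y' : Y) (hy' : y' ⤳ f x) :
    ∃ x' : X, x' ⤳ x ∧ f x' = y' ∧ x' ∈ CohB1.support F := by
  haveI : F.IsQuasicoherent := hF.1
  have hT := fibre_ne_of_finite f F hF.2 x hx
  -- charts
  obtain ⟨V, hV, hxV, -⟩ := exists_isAffineOpen_mem_and_subset (U := (⊤ : Y.Opens))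
    (x := f x) trivial
  have hy'V : y' ∈ V := hy'.mem_open V.isOpen hxV
  have hxfV : x ∈ f ⁻¹ᵁ V := hxV
  obtain ⟨U, hU, hxU, e⟩ := exists_isAffineOpen_mem_and_subset hxfV
  replace e : U ≤ f ⁻¹ᵁ V := e
  letI algAB : Algebra Γ(Y, V) Γ(X, U) := (f.appLE V U e).hom.toAlgebra
  letI algBC : Algebra Γ(X, U) (X.presheaf.stalk x) := X.presheaf.algebra_section_stalk ⟨x, hxU⟩
  letI algAC : Algebra Γ(Y, V) (X.presheaf.stalk x) :=
    ((algebraMap Γ(X, U) (X.presheaf.stalk x)).comp (algebraMap Γ(Y, V) Γ(X, U))).toAlgebra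
  haveI t1 : IsScalarTower Γ(Y, V) Γ(X, U) (X.presheaf.stalk x) :=
    IsScalarTower.of_algebraMap_eq' rfl
  haveI locC := hU.isLocalization_stalk ⟨x, hxU⟩
  letI algAR : Algebra Γ(Y, V) (Y.presheaf.stalk (f x)) :=
    Y.presheaf.algebra_section_stalk ⟨f x, hxV⟩
  haveI locR := hV.isLocalization_stalk ⟨f x, hxV⟩
  letI modAT : Module Γ(Y, V) (StalkOver F U x hxU) :=
    Module.compHom (StalkOver F U x hxU) (f.appLE V U e).hom
  haveI : IsScalarTower Γ(Y, V) Γ(X, U) (StalkOver F U x hxU) :=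
    IsScalarTower.of_algebraMap_smul fun r m => rfl
  haveI : IsScalarTower Γ(X, U) (X.presheaf.stalk x) (StalkOver F U x hxU) :=
    IsScalarTower.of_algebraMap_smul fun r m => rfl
  letI modRT : Module (Y.presheaf.stalk (f x)) (StalkOver F U x hxU) :=
    FlatMod.moduleStalkOver f F x
  haveI : IsScalarTower Γ(Y, V) (Y.presheaf.stalk (f x)) (StalkOver F U x hxU) :=
    IsScalarTower.of_algebraMap_smul fun r m => by
      change f.stalkMap x (Y.presheaf.germ V (f x) hxV r) • m.toStalk =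
        X.presheaf.germ U x hxU (f.appLE V U e r) • m.toStalk
      rw [stalkMap_germ_appLE f e x hxU r]
  haveI : Module.Flat (Y.presheaf.stalk (f x)) (StalkOver F U x hxU) := hfl
  have hP' : (hV.primeIdealOf ⟨y', hy'V⟩).asIdeal ≤ (hV.primeIdealOf ⟨f x, hxV⟩).asIdeal := by
    intro a ha
    by_contra hna
    have h1 : f x ∈ Y.basicOpen a := (mem_basicOpen_iff_notMem_primeIdealOf hV (f x) hxV a).2 hna
    have h2 : y' ∈ Y.basicOpen a := hy'.mem_open (Y.basicOpen a).isOpen h1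
    exact (mem_basicOpen_iff_notMem_primeIdealOf hV y' hy'V a).1 h2 ha
  obtain ⟨Q', hQ', hle, hcomap, hsupp⟩ := exists_prime_support_of_flat
    (A := Γ(Y, V)) (B := Γ(X, U)) (C := X.presheaf.stalk x) (R := Y.presheaf.stalk (f x))
    (N := Γ(F, U)) (T := StalkOver F U x hxU)
    (hU.primeIdealOf ⟨x, hxU⟩).asIdeal (hV.primeIdealOf ⟨f x, hxV⟩).asIdeal
    (germL F U x hxU) hT (hV.primeIdealOf ⟨y', hy'V⟩).asIdeal hP'
  have hx'U : hU.fromSpec ⟨Q', hQ'⟩ ∈ U := fromSpec_mem hU _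
  have hprime : hU.primeIdealOf ⟨hU.fromSpec ⟨Q', hQ'⟩, hx'U⟩ = ⟨Q', hQ'⟩ :=
    primeIdealOf_fromSpec hU _ hx'U
  refine ⟨hU.fromSpec ⟨Q', hQ'⟩, ?_, ?_, ?_⟩
  · have h1 : (⟨Q', hQ'⟩ : PrimeSpectrum Γ(X, U)) ⤳ hU.primeIdealOf ⟨x, hxU⟩ :=
      (PrimeSpectrum.le_iff_specializes _ _).1 hle
    have h2 := h1.map hU.fromSpec.continuous
    rwa [hU.fromSpec_primeIdealOf ⟨x, hxU⟩] at h2
  · have hcomap' : hV.primeIdealOf ⟨f (hU.fromSpec ⟨Q', hQ'⟩), e hx'U⟩ =
        hV.primeIdealOf ⟨y', hy'V⟩ := by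
      rw [← IsAffineOpen.comap_primeIdealOf_appLE V hV U hU e hx'U, hprime]
      ext1
      exact hcomap
    have h1 := congrArg (fun p => hV.fromSpec p) hcomap'
    simp only [IsAffineOpen.fromSpec_primeIdealOf] at h1
    exact h1
  · refine (primeIdealOf_mem_support_iff F hU _ hx'U).1 ?_
    rw [hprime]
    exact hsupp

end Groth.Agent.Lib.Helper15.GenLiftSch
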