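import Groth.Agent.Lib.Helper15.PseudoCohRel
import Groth.Agent.Lib.Helper43.PCModule
import Groth.Agent.S6940
import Groth.Agent.Lib.Helper84.FlatBC

/-!
# Relative pseudo-coherence and finite ring maps (helper15)

* `pc_iff_restrictD φ h` : for a ring hom `φ : A → B` such that `B` is a pseudo-coherent `A`-module
  (`ResPC φ B`), `K ∈ D(B)` is `m`-pseudo-coherent iff its restriction to `A` is (Stacks 064Z for
  ring homs).
* `resPC_of_finiteFree_algebra`, `resPC_quotient_nonZeroDivisor` : instances of `ResPC`.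
-/

set_option autoImplicit false
universe u

open CategoryTheory CategoryTheory.Limits CategoryTheory.Pretriangulated DerivedCategory

attribute [local instance] HasDerivedCategory.standard

namespace Groth.Agent.Lib.Helper15.PseudoCohFinite

open DRing DerCA Groth.Agent.Lib.Helper84 Groth.Agent.Lib.Helper15.MQI
  Groth.Agent.Lib.Helper15.PseudoCoh Groth.Agent.Lib.Helper15.PseudoCohRes Groth.Agent.Lib.Helper43
  Groth.Agent.Lib.Helper15.PseudoCohRel

variable {A B : Type u} [CommRing A] [CommRing B]

/-- Stacks 064Z for a ring homomorphism. -/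
theorem pc_iff_restrictD (φ : A →+* B) (h : ResPC φ (ModuleCat.of B B)) (m : ℤ) (K : Dual.D B) :
    IsPseudoCoherent B m K ↔ IsPseudoCoherent A m ((restrictD φ).obj K) :=
  ⟨fun hK => restrictD_of_pcAlgebra φ h hK, fun hK => Groth.Agent.S6940.of_restrictD φ h hK⟩

/-- `ResPC` in terms of the restricted module. -/
lemma resPC_iff (φ : A →+* B) (M : ModuleCat.{u} B) :
    ResPC φ M ↔ ∀ m : ℤ, PCModule.IsPC m ((ModuleCat.restrictScalars.{u} φ).obj M) := by
  have e : (restrictD φ).obj ((singleFunctor (ModuleCat.{u} B) 0).obj M) ≅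
      (singleFunctor (ModuleCat.{u} A) 0).obj ((ModuleCat.restrictScalars.{u} φ).obj M) :=
    ((ModuleCat.restrictScalars.{u} φ).mapDerivedCategorySingleFunctor 0).app M
  exact ⟨fun h m => of_iso e (h m), fun h m => of_iso e.symm (h m)⟩

/-- a ring hom making `B` a finite free `A`-module -/
lemma resPC_of_finiteFree_algebra (φ : A →+* B)
    (h : Module.Finite A ((ModuleCat.restrictScalars.{u} φ).obj (ModuleCat.of B B)) ∧
      Module.Free A ((ModuleCat.restrictScalars.{u} φ).obj (ModuleCat.of B B))) :
    ResPC φ (ModuleCat.of B B) :=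
  (resPC_iff φ _).2 fun m => PCModule.isPC_finiteFree m _ h

/-- two-out-of-three for `IsPC` along a short exact sequence, cokernel -/
lemma isPC_X₃ (S : ShortComplex (ModuleCat.{u} A)) (hS : S.ShortExact)
    (h₁ : ∀ m : ℤ, PCModule.IsPC m S.X₁) (h₂ : ∀ m : ℤ, PCModule.IsPC m S.X₂) (m : ℤ) :
    PCModule.IsPC m S.X₃ :=
  PseudoCoh.obj₃ m _ hS.singleTriangle_distinguished (h₁ (m + 1)) (h₂ m)

/-- the quotient by a nonzerodivisor is a pseudo-coherent module (abstract form: `φ` is a surjection
with kernel generated by a nonzerodivisor) -/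
lemma resPC_of_ker_eq_span_nonZeroDivisor (φ : A →+* B) (hφ : Function.Surjective φ) (f : A)
    (hf : f ∈ nonZeroDivisors A) (hker : RingHom.ker φ = Ideal.span {f}) :
    ResPC φ (ModuleCat.of B B) := by
  rw [resPC_iff]
  let X₃ : ModuleCat.{u} A := (ModuleCat.restrictScalars.{u} φ).obj (ModuleCat.of B B)
  let g : A →ₗ[A] X₃ :=
    { toFun := fun a => (φ a : B)
      map_add' := fun a b => map_add _ a b
      map_smul' := fun a b => by
        change φ (a * b) = _
        rw [map_mul]
        rfl }
  let S : ShortComplex (ModuleCat.{u} A) :=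
    ModuleCat.shortComplexOfCompEqZero (LinearMap.mulLeft A f) g (by
      ext
      change φ (f * 1) = 0
      rw [mul_one, ← RingHom.mem_ker, hker]
      exact Ideal.mem_span_singleton_self f)
  have hS : S.ShortExact := by
    refine ModuleCat.shortComplex_shortExact S ?_ ?_ ?_
    · intro x
      change φ x = 0 ↔ _
      rw [← RingHom.mem_ker, hker, Ideal.mem_span_singleton']
      constructor
      · rintro ⟨a, rfl⟩
        exact ⟨a, mul_comm _ _⟩
      · rintro ⟨a, rfl⟩
        exact ⟨a, mul_comm _ _⟩
    · intro x y hxy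
      exact (mul_cancel_left_mem_nonZeroDivisors hf).1 hxy
    · exact hφ
  have hA : ∀ m : ℤ, PCModule.IsPC m (ModuleCat.of A A) := fun m =>
    PCModule.isPC_finiteFree m _ ⟨inferInstanceAs (Module.Finite A A),
      inferInstanceAs (Module.Free A A)⟩
  exact isPC_X₃ S hS hA hA

/-- an algebra which is finite free as a module is pseudo-coherent -/
lemma resPC_of_finiteFree_algebraMap [Algebra A B] [Module.Finite A B] [Module.Free A B]
    (ι : A →+* B) (hι : algebraMap A B = ι) : ResPC ι (ModuleCat.of B B) := by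
  subst hι
  apply resPC_of_finiteFree_algebra
  let e : B ≃ₗ[A] ((ModuleCat.restrictScalars.{u} (algebraMap A B)).obj (ModuleCat.of B B)) :=
    { AddEquiv.refl B with
      map_smul' := fun a b => by
        refine (Algebra.smul_def a b).trans ?_
        rfl }
  exact ⟨Module.Finite.equiv e, Module.Free.of_equiv e⟩

/-- transport of pseudo-coherence along a composite ring hom -/
lemma pc_restrictD_comp_iff {A B C : Type u} [CommRing A] [CommRing B] [CommRing C]
    (f : A →+* B) (g : B →+* C) (h : A →+* C) (hh : g.comp f = h) (m : ℤ) (K : Dual.D C) :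
    IsPseudoCoherent A m ((restrictD f).obj ((restrictD g).obj K)) ↔
      IsPseudoCoherent A m ((restrictD h).obj K) := by
  have e : (restrictD f).obj ((restrictD g).obj K) ≅ (restrictD h).obj K :=
    (restrictDComp f g ≪≫ restrictDOfEq hh).app K
  exact ⟨fun H => of_iso e H, fun H => of_iso e.symm H⟩

/-- the abstract chain of equivalences behind Stacks 15.81.9 -/
lemma pc_chain {Q' Q C P B : Type u} [CommRing Q'] [CommRing Q] [CommRing C] [CommRing P]
    [CommRing B] (σ : Q' ≃+* Q) (mk : Q →+* C) (ι : P →+* C) (γ : C →+* B)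
    (hmk : ResPC mk (ModuleCat.of C C)) (hι : ResPC ι (ModuleCat.of C C))
    (β : Q' →+* B) (hβ : (γ.comp mk).comp (σ : Q' →+* Q) = β) (δ : P →+* B) (hδ : γ.comp ι = δ)
    (m : ℤ) (K : Dual.D B) :
    IsPseudoCoherent Q' m ((restrictD β).obj K) ↔ IsPseudoCoherent P m ((restrictD δ).obj K) := by
  rw [← pc_restrictD_comp_iff _ _ _ hβ, ← isPseudoCoherent_restrictD_equiv σ,
    ← pc_restrictD_comp_iff _ _ _ hδ, ← pc_iff_restrictD ι hι,
    ← pc_restrictD_comp_iff mk γ _ rfl, ← pc_iff_restrictD mk hmk]

section OneGen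

variable {R A B : Type u} [CommRing R] [CommRing A] [CommRing B] [Algebra R A] [Algebra A B]
  [Algebra R B] [IsScalarTower R A B]

/-- Stacks 15.81.9 for `B = A[y]` with `y` integral. -/
theorem rel_iff_of_adjoin_singleton [Algebra.FiniteType R A] (y : B)
    (hy : Algebra.adjoin A {y} = ⊤) (hint : IsIntegral A y) (K : Dual.D B) (m : ℤ) :
    IsRelPseudoCoherent R B m K ↔
      IsRelPseudoCoherent R A m ((restrictD (algebraMap A B)).obj K) := by
  obtain ⟨n, α, hα⟩ := exists_presentation R A
  obtain ⟨p, hp, hpy⟩ := hint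
  obtain ⟨q, hq, -, hqm⟩ := Polynomial.lifts_and_natDegree_eq_and_monic
    (Polynomial.mem_lifts_of_surjective (f := (α : MvPolynomial (Fin n) R →+* A)) hα p) hp
  -- the evaluation map
  let ev : Polynomial (MvPolynomial (Fin n) R) →+* B :=
    Polynomial.eval₂RingHom ((algebraMap A B).comp (α : MvPolynomial (Fin n) R →+* A)) y
  have hevq : Polynomial.eval₂ ((algebraMap A B).comp (α : MvPolynomial (Fin n) R →+* A)) y q
      = 0 := by
    rw [← Polynomial.eval₂_map, hq]
    exact hpy
  have hev_surj : Function.Surjective ev := by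
    intro b
    have hb : b ∈ Algebra.adjoin A {y} := by rw [hy]; trivial
    rw [Algebra.adjoin_singleton_eq_range_aeval] at hb
    obtain ⟨r, rfl⟩ := hb
    obtain ⟨r', rfl⟩ := Polynomial.map_surjective (α : MvPolynomial (Fin n) R →+* A) hα r
    refine ⟨r', ?_⟩
    change Polynomial.eval₂ _ y r' = _
    rw [← Polynomial.eval₂_map]
    rfl
  have hevC : ∀ x, ev (Polynomial.C x) = algebraMap A B (α x) := fun x => by
    simp [ev]
  let γ : AdjoinRoot q →+* B := AdjoinRoot.lift _ y hevq
  have hγmk : γ.comp (AdjoinRoot.mk q) = ev := by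
    apply RingHom.ext
    intro x
    exact AdjoinRoot.lift_mk hevq x
  have hγι : γ.comp (AdjoinRoot.of q) =
      (algebraMap A B).comp (α : MvPolynomial (Fin n) R →+* A) := AdjoinRoot.lift_comp_of hevq
  have hmk : ResPC (AdjoinRoot.mk q) (ModuleCat.of (AdjoinRoot q) (AdjoinRoot q)) := by
    refine resPC_of_ker_eq_span_nonZeroDivisor _ AdjoinRoot.mk_surjective q
      hqm.mem_nonZeroDivisors ?_
    ext x
    rw [RingHom.mem_ker, AdjoinRoot.mk_eq_zero, Ideal.mem_span_singleton]
  have hι : ResPC (AdjoinRoot.of q) (ModuleCat.of (AdjoinRoot q) (AdjoinRoot q)) := by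
    have := hqm.finite_adjoinRoot
    have := hqm.free_adjoinRoot
    exact resPC_of_finiteFree_algebraMap _ (AdjoinRoot.algebraMap_eq q)
  -- the presentation of `B`
  obtain ⟨σ, -⟩ : ∃ σ : MvPolynomial (Fin (n + 1)) R ≃ₐ[R] Polynomial (MvPolynomial (Fin n) R),
    σ = MvPolynomial.finSuccEquiv R n := ⟨_, rfl⟩
  let β : MvPolynomial (Fin (n + 1)) R →ₐ[R] B :=
    { toRingHom := ev.comp (σ : MvPolynomial (Fin (n + 1)) R →+* _)
      commutes' := fun r => by
        change ev (σ (algebraMap R _ r)) = _
        rw [AlgEquiv.commutes]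
        change ev (Polynomial.C (MvPolynomial.C r)) = _
        rw [hevC, IsScalarTower.algebraMap_apply R A B]
        congr 1
        exact α.commutes r }
  have hβ : Function.Surjective β := hev_surj.comp σ.surjective
  have hcomp : (γ.comp (AdjoinRoot.mk q)).comp
      (σ.toRingEquiv : MvPolynomial (Fin (n + 1)) R →+* _) =
      (β : MvPolynomial (Fin (n + 1)) R →+* B) := by
    rw [hγmk]; rfl
  rw [isRel_iff_via β hβ, isRel_iff_via α hα]
  unfold IsRelPseudoCoherentVia
  rw [pc_chain σ.toRingEquiv (AdjoinRoot.mk q) (AdjoinRoot.of q) γ hmk hι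
    (β : MvPolynomial (Fin (n + 1)) R →+* B) hcomp _ hγι m K]
  exact (pc_restrictD_comp_iff _ _ _ rfl m K).symm


/-- relative pseudo-coherence is invariant under isomorphism -/
lemma rel_of_iso {m : ℤ} {K L : Dual.D A} (e : K ≅ L) (h : IsRelPseudoCoherent R A m K) :
    IsRelPseudoCoherent R A m L := by
  obtain ⟨n, α, hα, h⟩ := h
  exact ⟨n, α, hα, of_iso ((restrictD (α : MvPolynomial (Fin n) R →+* A)).mapIso e) h⟩

end OneGen

section Induction

variable (R : Type u) [CommRing R]

/-- Stacks 15.81.9 for `B = A[y_1, …, y_k]` with all `y_j` integral. -/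
theorem rel_iff_of_adjoin_range : ∀ (k : ℕ) (A B : Type u) [CommRing A] [CommRing B] [Algebra R A]
    [Algebra A B] [Algebra R B] [IsScalarTower R A B] [Algebra.FiniteType R A] (y : Fin k → B)
    (_ : Algebra.adjoin A (Set.range y) = ⊤) (_ : ∀ j, IsIntegral A (y j)) (K : Dual.D B) (m : ℤ),
    IsRelPseudoCoherent R B m K ↔
      IsRelPseudoCoherent R A m ((restrictD (algebraMap A B)).obj K) := by
  intro k
  induction k with
  | zero =>
    intro A B _ _ _ _ _ _ _ y hy _ K m
    have h1 : Algebra.adjoin A {(1 : B)} = ⊤ := by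
      rw [eq_top_iff, ← hy]
      have : Set.range y = ∅ := Set.range_eq_empty y
      rw [this, Algebra.adjoin_empty]
      exact bot_le
    exact rel_iff_of_adjoin_singleton 1 h1 isIntegral_one K m
  | succ k ih =>
    intro A B _ _ _ _ _ _ _ y hy hint K m
    let A' : Subalgebra A B := Algebra.adjoin A {y 0}
    haveI : Algebra.FiniteType A A' := by
      rw [← Subalgebra.fg_iff_finiteType]
      have := Subalgebra.fg_adjoin_finset (R := A) ({y 0} : Finset B)
      rwa [Finset.coe_singleton] at this
    haveI : Algebra.FiniteType R A' := Algebra.FiniteType.trans (S := A) inferInstance inferInstance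
    -- `B` over `A'`
    have hy' : Algebra.adjoin A' (Set.range (y ∘ Fin.succ)) = ⊤ := by
      have h1 : Set.range y = {y 0} ∪ Set.range (y ∘ Fin.succ) := by
        ext b
        simp only [Set.mem_range, Set.singleton_union, Set.mem_insert_iff, Function.comp_apply]
        constructor
        · rintro ⟨j, rfl⟩
          refine Fin.cases (Or.inl rfl) (fun j => Or.inr ⟨j, rfl⟩) j
        · rintro (rfl | ⟨j, rfl⟩)
          · exact ⟨0, rfl⟩
          · exact ⟨j.succ, rfl⟩
      rw [h1, Algebra.adjoin_union_eq_adjoin_adjoin] at hy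
      apply Subalgebra.restrictScalars_injective A
      rw [hy, Subalgebra.restrictScalars_top]
    have hint' : ∀ j, IsIntegral A' ((y ∘ Fin.succ) j) := fun j => (hint j.succ).tower_top
    have step1 := ih A' B (y ∘ Fin.succ) hy' hint' K m
    -- `A'` over `A`
    let y0 : A' := ⟨y 0, Algebra.subset_adjoin (Set.mem_singleton _)⟩
    have hy0 : Algebra.adjoin A {y0} = ⊤ := by
      have := Algebra.adjoin_adjoin_coe_preimage (R := A) (s := ({y 0} : Set B))
      convert this using 2
      ext z
      simp only [Set.mem_singleton_iff, Set.mem_preimage]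
      exact Subtype.ext_iff
    have hint0 : IsIntegral A y0 :=
      (isIntegral_algebraMap_iff (A := A') (B := B) Subtype.val_injective).1 (hint 0)
    have step2 := rel_iff_of_adjoin_singleton (R := R) y0 hy0 hint0
      ((restrictD (algebraMap A' B)).obj K) m
    rw [step1, step2]
    have e : (restrictD (algebraMap A A')).obj ((restrictD (algebraMap A' B)).obj K) ≅
        (restrictD (algebraMap A B)).obj K :=
      (restrictDComp (algebraMap A A') (algebraMap A' B) ≪≫
        restrictDOfEq (IsScalarTower.algebraMap_eq A A' B).symm).app K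
    exact ⟨fun h => rel_of_iso e h, fun h => rel_of_iso e.symm h⟩

/-- Stacks 15.81.9: relative pseudo-coherence can be tested after restriction along a finite
homomorphism of finite type `R`-algebras. -/
theorem rel_iff_of_finite {A B : Type u} [CommRing A] [CommRing B] [Algebra R A]
    [Algebra A B] [Algebra R B] [IsScalarTower R A B] [Algebra.FiniteType R A]
    [Module.Finite A B] (K : Dual.D B) (m : ℤ) :
    IsRelPseudoCoherent R B m K ↔
      IsRelPseudoCoherent R A m ((restrictD (algebraMap A B)).obj K) := by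
  obtain ⟨s, hs⟩ := (inferInstance : Module.Finite A B).fg_top
  have hft : Algebra.FiniteType A B := inferInstance
  obtain ⟨t, ht⟩ := hft.out
  let y : Fin t.card → B := fun j => (t.equivFin.symm j : B)
  have hy : Algebra.adjoin A (Set.range y) = ⊤ := by
    rw [← ht]
    congr 1
    ext b
    simp only [Set.mem_range, Finset.mem_coe, y]
    constructor
    · rintro ⟨j, rfl⟩
      exact (t.equivFin.symm j).2
    · intro hb
      exact ⟨t.equivFin ⟨b, hb⟩, by simp⟩
  exact rel_iff_of_adjoin_range R t.card A B y hy (fun j => IsIntegral.of_finite A _) K m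

end Induction

open scoped TensorProduct in
/-- flat base change to polynomial rings: if `A` is a pseudo-coherent `P`-module then `A[y]` is a
pseudo-coherent `P[y]`-module. -/
lemma resPC_mvPolynomial_map {P A : Type u} [CommRing P] [CommRing A] (α : P →+* A)
    (h : ResPC α (ModuleCat.of A A)) (σ : Type) :
    ResPC (MvPolynomial.map α : MvPolynomial σ P →+* MvPolynomial σ A)
      (ModuleCat.of (MvPolynomial σ A) (MvPolynomial σ A)) := by
  let _ : Algebra P A := α.toAlgebra
  rw [resPC_iff] at h ⊢
  intro m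
  -- `A` as a `P`-module
  let e₀ : ((ModuleCat.restrictScalars.{u} α).obj (ModuleCat.of A A)) ≃ₗ[P] A :=
    { AddEquiv.refl A with
      map_smul' := fun a b => rfl }
  have h1 : IsPseudoCoherent P m (Dual.inD P A) := PCModule.isPC_of_iso e₀.toModuleIso (h m)
  have h2 : IsPseudoCoherent (MvPolynomial σ P) m
      (Dual.inD (MvPolynomial σ P) (MvPolynomial σ P ⊗[P] A)) :=
    FlatBC.module_baseChange (A := P) (B := MvPolynomial σ P) A
      (fun K => IsPseudoCoherent P m K) (fun X => IsPseudoCoherent (MvPolynomial σ P) m X)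
      (fun X Y e hX => of_iso e hX) (fun f _ K hK => FlatBC.isPseudoCoherent_bc f m K hK) h1
  -- the identification `P[y] ⊗ A ≃ A[y]`
  let e₁ : (MvPolynomial σ P ⊗[P] A) ≃+ MvPolynomial σ A :=
    (TensorProduct.comm P (MvPolynomial σ P) A).toAddEquiv.trans
      (MvPolynomial.algebraTensorAlgEquiv P A).toAddEquiv
  have he₁ : ∀ (p : MvPolynomial σ P) (a : A), e₁ (p ⊗ₜ a) = a • MvPolynomial.map α p := by
    intro p a
    change MvPolynomial.algebraTensorAlgEquiv P A (a ⊗ₜ p) = _
    rw [MvPolynomial.algebraTensorAlgEquiv_tmul]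
    rfl
  let e : (MvPolynomial σ P ⊗[P] A) ≃ₗ[MvPolynomial σ P]
      ((ModuleCat.restrictScalars.{u} (MvPolynomial.map α : MvPolynomial σ P →+* MvPolynomial σ A)).obj
        (ModuleCat.of (MvPolynomial σ A) (MvPolynomial σ A))) :=
    { e₁ with
      map_smul' := fun q t => by
        change e₁ (q • t) = MvPolynomial.map α q * e₁ t
        induction t using TensorProduct.induction_on with
        | zero => simp
        | tmul p a =>
          rw [TensorProduct.smul_tmul', he₁, he₁, smul_eq_mul, map_mul, mul_smul_comm]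
        | add x y hx hy => rw [smul_add, map_add, map_add, hx, hy, mul_add] }
  exact PCModule.isPC_of_iso e.toModuleIso h2

section BaseIndep

variable {R A B : Type u} [CommRing R] [CommRing A] [CommRing B] [Algebra R A] [Algebra A B]
  [Algebra R B] [IsScalarTower R A B]

/-- Stacks 15.81.10: if `A` is pseudo-coherent relative to `R`, relative pseudo-coherence over `A`
and over `R` agree. -/
theorem rel_base_iff [Algebra.FiniteType R A] [Algebra.FiniteType A B]
    (hA : IsRelPseudoCoherentModuleAll R A A) (K : Dual.D B) (m : ℤ) :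
    IsRelPseudoCoherent A B m K ↔ IsRelPseudoCoherent R B m K := by
  obtain ⟨n, α, hα⟩ := exists_presentation R A
  obtain ⟨k, β', hβ'⟩ := exists_presentation A B
  have hres : ResPC (α : MvPolynomial (Fin n) R →+* A) (ModuleCat.of A A) := fun m' =>
    (isRel_iff_via α hα m' _).1 (hA m')
  have hmap := resPC_mvPolynomial_map (α : MvPolynomial (Fin n) R →+* A) hres (Fin k)
  obtain ⟨σ, -⟩ : ∃ σ : MvPolynomial (Fin (k + n)) R ≃ₐ[R]
      MvPolynomial (Fin k) (MvPolynomial (Fin n) R),
    σ = (MvPolynomial.renameEquiv R finSumFinEquiv.symm).trans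
      (MvPolynomial.sumAlgEquiv R (Fin k) (Fin n)) := ⟨_, rfl⟩
  obtain ⟨μ, hμ⟩ : ∃ μ : MvPolynomial (Fin k) (MvPolynomial (Fin n) R) →+* MvPolynomial (Fin k) A,
    μ = MvPolynomial.map (α : MvPolynomial (Fin n) R →+* A) := ⟨_, rfl⟩
  have hμsurj : Function.Surjective μ := by
    rw [hμ]
    exact MvPolynomial.map_surjective _ hα
  have hμC : ∀ x, μ (MvPolynomial.C x) = MvPolynomial.C (α x) := fun x => by
    rw [hμ]
    exact MvPolynomial.map_C _ x
  rw [← hμ] at hmap
  let β'' : MvPolynomial (Fin (k + n)) R →ₐ[R] B :=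
    { toRingHom := ((β' : MvPolynomial (Fin k) A →+* B).comp μ).comp
        (σ : MvPolynomial (Fin (k + n)) R →+* _)
      commutes' := fun r => by
        change β' (μ (σ (algebraMap R _ r))) = _
        rw [AlgEquiv.commutes, MvPolynomial.algebraMap_apply, hμC, AlgHom.commutes,
          ← MvPolynomial.algebraMap_eq, AlgHom.commutes, ← IsScalarTower.algebraMap_apply] }
  have hβ'' : Function.Surjective β'' := (hβ'.comp hμsurj).comp σ.surjective
  rw [isRel_iff_via β' hβ', isRel_iff_via β'' hβ'']
  unfold IsRelPseudoCoherentVia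
  rw [pc_iff_restrictD μ hmap, pc_restrictD_comp_iff μ (β' : MvPolynomial (Fin k) A →+* B) _ rfl,
    isPseudoCoherent_restrictD_equiv σ.toRingEquiv]
  exact pc_restrictD_comp_iff _ _ _ rfl m K

end BaseIndep

end Groth.Agent.Lib.Helper15.PseudoCohFinite
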