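import Groth.Agent.Lib.Helper15.PseudoCohAway
import Groth.Agent.S2087

/-!
# Relative pseudo-coherence is Zariski local (helper15)
-/

set_option autoImplicit false
universe u

open CategoryTheory CategoryTheory.Limits CategoryTheory.Pretriangulated DerivedCategory

attribute [local instance] HasDerivedCategory.standard

namespace Groth.Agent.Lib.Helper15.PseudoCohZariski

open DRing DerCA Groth.Agent.Lib.Helper84 Groth.Agent.Lib.Helper15.MQI
  Groth.Agent.Lib.Helper15.PseudoCoh Groth.Agent.Lib.Helper15.PseudoCohRes Groth.Agent.Lib.Helper43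
  Groth.Agent.Lib.Helper15.PseudoCohFinite Groth.Agent.Lib.Helper15.PseudoCohRel
  Groth.Agent.Lib.Helper15.PseudoCohAway

variable {R A : Type u} [CommRing R] [CommRing A] [Algebra R A]

/-- the chart computation: relative pseudo-coherence over `A_f` in terms of the polynomial ring
localized at a lift of `f`. -/
theorem pc_chart {n : ℕ} (α : MvPolynomial (Fin n) R →ₐ[R] A) (hα : Function.Surjective α)
    (g : MvPolynomial (Fin n) R)
    (A' : Type u) [CommRing A'] [Algebra A A'] [Algebra R A'] [IsScalarTower R A A']
    [IsLocalization.Away (α g) A'] (K : Cx A) (m : ℤ)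
    (h : IsRelPseudoCoherent R A' m (toD ((FlatBC.extCx (algebraMap A A')).obj K))) :
    IsPseudoCoherent (Localization.Away g) m
      (toD ((FlatBC.extCx (algebraMap (MvPolynomial (Fin n) R) (Localization.Away g))).obj
        ((restrictCx (α : MvPolynomial (Fin n) R →+* A)).obj K))) := by
  -- the map on localizations
  let γₐ : Localization.Away g →ₐ[R] A' := IsLocalization.Away.mapₐ (Localization.Away g) A' α g
  have hγsurj : Function.Surjective γₐ :=
    IsLocalization.Away.mapₐ_surjective_of_surjective g hα
  obtain ⟨γ, hγ⟩ : ∃ γ : Localization.Away g →+* A', γ = (γₐ : Localization.Away g →+* A') :=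
    ⟨_, rfl⟩
  have hγcomp : γ.comp (algebraMap (MvPolynomial (Fin n) R) (Localization.Away g)) =
      (algebraMap A A').comp (α : MvPolynomial (Fin n) R →+* A) := by
    rw [hγ]
    apply RingHom.ext
    intro x
    have hy : Submonoid.powers g ≤ Submonoid.comap (α : MvPolynomial (Fin n) R →+* A)
        (Submonoid.powers (α g)) := by
      rintro y ⟨k, rfl⟩
      exact ⟨k, by simp⟩
    exact IsLocalization.map_eq (S := Localization.Away g) (T := Submonoid.powers (α g))
      (Q := A') (g := (α : MvPolynomial (Fin n) R →+* A)) hy x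
  -- the presentation of `A'`
  obtain ⟨ψ, hψ, hψres⟩ := exists_awayPres g
  obtain ⟨e, -⟩ : ∃ e : MvPolynomial (Fin (n + 1)) R ≃ₐ[R] Polynomial (MvPolynomial (Fin n) R),
    True := ⟨MvPolynomial.finSuccEquiv R n, trivial⟩
  let β : MvPolynomial (Fin (n + 1)) R →ₐ[R] A' :=
    γₐ.comp ((ψ.restrictScalars R).comp (e : _ →ₐ[R] _))
  have hβ : Function.Surjective β := hγsurj.comp (hψ.comp e.surjective)
  have h1 := (isRel_iff_via β hβ m _).1 h
  unfold IsRelPseudoCoherentVia at h1
  have hβeq : (γ.comp (ψ : Polynomial (MvPolynomial (Fin n) R) →+* Localization.Away g)).comp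
      (e.toRingEquiv : MvPolynomial (Fin (n + 1)) R →+* _) =
      (β : MvPolynomial (Fin (n + 1)) R →+* A') := by
    rw [hγ]; rfl
  rw [← pc_restrictD_comp_iff _ _ _ hβeq, ← isPseudoCoherent_restrictD_equiv e.toRingEquiv,
    ← pc_restrictD_comp_iff (ψ : Polynomial (MvPolynomial (Fin n) R) →+* Localization.Away g) γ _ rfl,
    ← pc_iff_restrictD _ hψres] at h1
  -- the pushout square
  letI : Algebra (MvPolynomial (Fin n) R) A := (α : MvPolynomial (Fin n) R →+* A).toAlgebra
  letI : Algebra (Localization.Away g) A' := γ.toAlgebra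
  letI : Algebra (MvPolynomial (Fin n) R) A' :=
    ((algebraMap A A').comp (α : MvPolynomial (Fin n) R →+* A)).toAlgebra
  haveI : IsScalarTower (MvPolynomial (Fin n) R) A A' := IsScalarTower.of_algebraMap_eq fun _ => rfl
  haveI : IsScalarTower (MvPolynomial (Fin n) R) (Localization.Away g) A' :=
    IsScalarTower.of_algebraMap_eq fun x => (RingHom.congr_fun hγcomp x).symm
  haveI : IsLocalization.Away (algebraMap (MvPolynomial (Fin n) R) A g) A' :=
    inferInstanceAs (IsLocalization.Away (α g) A')
  haveI : Algebra.IsPushout (MvPolynomial (Fin n) R) (Localization.Away g) A A' :=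
    (Algebra.isPushout_of_isLocalization (Submonoid.powers g) (A := Localization.Away g)
      (T := A) (B := A')).symm
  have e1 : (restrictD γ).obj (toD ((FlatBC.extCx (algebraMap A A')).obj K)) ≅
      toD ((restrictCx γ).obj ((FlatBC.extCx (algebraMap A A')).obj K)) := restrictDQIso γ _
  have e2 : (FlatBC.extCx (algebraMap (MvPolynomial (Fin n) R) (Localization.Away g))).obj
        ((restrictCx (α : MvPolynomial (Fin n) R →+* A)).obj K) ≅
      (restrictCx γ).obj ((FlatBC.extCx (algebraMap A A')).obj K) :=
    (NatIso.mapHomologicalComplex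
      (BCSquare.extRestrictIso (MvPolynomial (Fin n) R) (Localization.Away g) A A')
      (ComplexShape.up ℤ)).app K
  exact of_iso (e1 ≪≫ Q.mapIso e2.symm) h1

section Ker

open TensorProduct

variable {P : Type u} [CommRing P]

/-- localizing a module at an element acting by zero gives zero -/
lemma isZero_ext_of_smul_eq_zero (h : P) (M : ModuleCat.{u} P) (hM : ∀ x : M, h • x = 0) :
    IsZero ((FlatBC.ext (algebraMap P (Localization.Away h))).obj M) := by
  refine IsZero.of_iso ?_ (PseudoCohBC.extModuleIso P (Localization.Away h) M)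
  haveI : Subsingleton (Localization.Away h ⊗[P] M) := by
    refine subsingleton_of_forall_eq 0 fun t => ?_
    induction t using TensorProduct.induction_on with
    | zero => rfl
    | tmul a x =>
      obtain ⟨u, hu⟩ := IsLocalization.Away.algebraMap_isUnit (S := Localization.Away h) h
      have ha : a = h • (a * ↑u⁻¹) := by
        rw [Algebra.smul_def, ← hu, mul_comm a, ← mul_assoc, Units.mul_inv, one_mul]
      rw [ha, TensorProduct.smul_tmul, hM, TensorProduct.tmul_zero]
    | add x y hx hy => rw [hx, hy, add_zero]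
  exact ModuleCat.isZero_of_subsingleton _

/-- a termwise zero complex is `m`-pseudo-coherent -/
lemma pc_of_termwise_isZero (E : Cx P) (hE : ∀ i, IsZero (E.X i)) (m : ℤ) :
    IsPseudoCoherent P m (toD E) := by
  haveI : E.IsStrictlyLE (m - 1) := (CochainComplex.isStrictlyLE_iff _ _).2 fun i _ => hE i
  haveI : (toD E).IsLE (m - 1) := inferInstance
  exact of_isLE m _

end Ker

/-- Stacks 15.81.8 (⇐): relative `m`-pseudo-coherence can be checked on a finite cover by
principal opens. -/
theorem rel_of_cover [Algebra.FiniteType R A] (K : Cx A) (m : ℤ) {r : ℕ} (f : Fin r → A)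
    (hf : Ideal.span (Set.range f) = ⊤)
    (h : ∀ i, IsRelPseudoCoherent R (Localization.Away (f i)) m
      (toD ((FlatBC.extCx (algebraMap A (Localization.Away (f i)))).obj K))) :
    IsRelPseudoCoherent R A m (toD K) := by
  obtain ⟨n, α, hα⟩ := exists_presentation R A
  rw [isRel_iff_via α hα]
  unfold IsRelPseudoCoherentVia
  refine of_iso (restrictDQIso (α : MvPolynomial (Fin n) R →+* A) K).symm ?_
  choose g hg using fun i => hα (f i)
  obtain ⟨c, hc⟩ : ∃ c : Fin r → A, ∑ i, c i * f i = 1 :=
    Ideal.mem_span_range_iff_exists_fun.1 (by rw [hf]; trivial)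
  choose a ha using fun i => hα (c i)
  let h₀ : MvPolynomial (Fin n) R := 1 - ∑ i, a i * g i
  have hh₀ : α h₀ = 0 := by
    simp only [h₀, map_sub, map_one, map_sum, map_mul, ha, hg, hc, sub_self]
  let g' : Fin (r + 1) → MvPolynomial (Fin n) R := Fin.cons h₀ g
  have hspan : Ideal.span (Set.range g') = ⊤ := by
    rw [Ideal.eq_top_iff_one]
    have h1 : (1 : MvPolynomial (Fin n) R) = g' 0 + ∑ i : Fin r, a i * g' i.succ := by
      simp [g', h₀]
    rw [h1]
    refine Ideal.add_mem _ (Ideal.subset_span ⟨0, rfl⟩) (Ideal.sum_mem _ fun i _ => ?_)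
    exact Ideal.mul_mem_left _ _ (Ideal.subset_span ⟨i.succ, rfl⟩)
  refine Groth.Agent.S2087.result g' hspan _ m (fun t => ?_)
  refine Fin.cases ?_ (fun i => ?_) t
  · change IsPseudoCoherent (Localization.Away h₀) m
      (toD ((FlatBC.extCx (algebraMap (MvPolynomial (Fin n) R) (Localization.Away h₀))).obj
        ((restrictCx (α : MvPolynomial (Fin n) R →+* A)).obj K)))
    refine pc_of_termwise_isZero _ (fun i => ?_) m
    refine isZero_ext_of_smul_eq_zero h₀ _ (fun x => ?_)
    change α h₀ • (show K.X i from x) = 0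
    rw [hh₀, zero_smul]
  · change IsPseudoCoherent (Localization.Away (g i)) m
      (toD ((FlatBC.extCx (algebraMap (MvPolynomial (Fin n) R) (Localization.Away (g i)))).obj
        ((restrictCx (α : MvPolynomial (Fin n) R →+* A)).obj K)))
    haveI : IsLocalization.Away (α (g i)) (Localization.Away (f i)) := by
      rw [hg i]
      infer_instance
    exact pc_chart α hα (g i) (Localization.Away (f i)) K m (h i)

end Groth.Agent.Lib.Helper15.PseudoCohZariski
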