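import Groth.Prelude.Def_KZero
import Groth.Prelude.Def_DRing2
import Groth.Prelude.Def_Koszul
import Groth.Agent.Lib.Helper84.DRingPerf
import Groth.Agent.Lib.Helper84.Devissage
import Groth.Agent.Lib.Helper43.KoszulPerf
import Groth.Agent.Lib.Helper98.KoszulLES
import Groth.Agent.Lib.Helper90.DimParam

/-!
# `K₀` of perfect complexes supported at the closed point of a regular local ring (helper15)

`Pr R K` : `K` perfect with all cohomology supported at the closed point.
Main result `closure_koszul_eq_top`: if the maximal ideal is generated by a regular sequence `fs`,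
then `K₀` of `Pr` is generated by the class of the Koszul complex on `fs`.
-/

set_option autoImplicit false
set_option linter.style.haveILetI false
universe u

open CategoryTheory CategoryTheory.Limits CategoryTheory.Pretriangulated DerivedCategory
open DRing
open scoped ZeroObject

attribute [local instance] HasDerivedCategory.standard

namespace Groth.Agent.Lib.Helper15.K0Koszul

open Groth.Agent.Lib.Helper84

section Support

variable {R : Type u} [CommRing R]
variable {M N P : Type*} [AddCommGroup M] [Module R M] [AddCommGroup N] [Module R N]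
  [AddCommGroup P] [Module R P]

lemma support_subset_union_of_exact {f : M →ₗ[R] N} {g : N →ₗ[R] P} (h : Function.Exact f g) :
    Module.support R N ⊆ Module.support R M ∪ Module.support R P := by
  intro x
  contrapose
  simp only [Set.mem_union, not_or, and_imp, Module.notMem_support_iff']
  intro H₁ H₂ m
  obtain ⟨r, hr, e₁⟩ := H₂ (g m)
  rw [← map_smul, h] at e₁
  obtain ⟨m', hm'⟩ := e₁
  obtain ⟨s, hs, e₁⟩ := H₁ m'
  exact ⟨_, x.asIdeal.primeCompl.mul_mem hs hr, by
    rw [mul_smul, ← hm', ← map_smul, e₁, map_zero]⟩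

end Support

section Pr

variable (R : Type u) [CommRing R] [IsLocalRing R]

/-- perfect complexes with cohomology supported at the closed point -/
def Pr : ObjectProperty (Dual.D R) := fun K : Dual.D R => DRing.IsPerfect R K ∧
  ∀ i : ℤ, Module.support R (Dual.HD R K i) ⊆ {IsLocalRing.closedPoint R}

/-- the support condition alone -/
def Sp : ObjectProperty (Dual.D R) := fun K : Dual.D R =>
  ∀ i : ℤ, Module.support R (Dual.HD R K i) ⊆ {IsLocalRing.closedPoint R}

variable {R}

lemma sp_of_iso {K L : Dual.D R} (e : K ≅ L) (h : Sp R K) : Sp R L := by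
  intro i
  have e' : Dual.HD R K i ≃ₗ[R] Dual.HD R L i :=
    ((homologyFunctor (ModuleCat.{u} R) i).mapIso e).toLinearEquiv
  rw [← e'.support_eq]
  exact h i

lemma sp_of_isZero {K : Dual.D R} (h : IsZero K) : Sp R K := by
  intro i
  have hz : IsZero ((homologyFunctor (ModuleCat.{u} R) i).obj K) := Functor.map_isZero _ h
  haveI : Subsingleton (Dual.HD R K i) := ModuleCat.subsingleton_of_isZero hz
  rw [Module.support_eq_empty]
  exact Set.empty_subset _

lemma sp_obj₂ (T : Triangle (Dual.D R)) (hT : T ∈ distTriang _) (h₁ : Sp R T.obj₁)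
    (h₃ : Sp R T.obj₃) : Sp R T.obj₂ := by
  intro i
  have hex := HomologySequence.exact₂ T hT i
  rw [ShortComplex.ShortExact.moduleCat_exact_iff_function_exact] at hex
  refine (support_subset_union_of_exact (R := R) (f := ((homologyFunctor (ModuleCat.{u} R) i).map T.mor₁).hom)
    (g := ((homologyFunctor (ModuleCat.{u} R) i).map T.mor₂).hom) hex).trans ?_
  exact Set.union_subset (h₁ i) (h₃ i)

lemma sp_shift {K : Dual.D R} (h : Sp R K) (n : ℤ) : Sp R (K⟦n⟧) := by
  intro i
  have e' : Dual.HD R (K⟦n⟧) i ≃ₗ[R] Dual.HD R K (n + i) :=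
    (((homologyFunctor (ModuleCat.{u} R) 0).shiftIso n i (n + i) rfl).app K).toLinearEquiv
  rw [e'.support_eq]
  exact h _

lemma pr_of_iso {K L : Dual.D R} (e : K ≅ L) (h : Pr R K) : Pr R L :=
  ⟨DRingPerf.isPerfect_of_iso e h.1, sp_of_iso e h.2⟩

lemma pr_of_isZero {K : Dual.D R} (h : IsZero K) : Pr R K :=
  ⟨DRingPerf.isPerfect_of_isZero K h, sp_of_isZero h⟩

lemma pr_obj₂ (T : Triangle (Dual.D R)) (hT : T ∈ distTriang _) (h₁ : Pr R T.obj₁)
    (h₃ : Pr R T.obj₃) : Pr R T.obj₂ :=
  ⟨DRingPerf.isPerfect_obj₂ T hT h₁.1 h₃.1, sp_obj₂ T hT h₁.2 h₃.2⟩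

lemma pr_shift {K : Dual.D R} (h : Pr R K) (n : ℤ) : Pr R (K⟦n⟧) :=
  ⟨DRingPerf.isPerfect_shift K n h.1, sp_shift h.2 n⟩

lemma pr_zero : Pr R (0 : Dual.D R) := pr_of_isZero (isZero_zero _)

/-- the class of an object in `K₀` of `Pr` -/
noncomputable abbrev clP (K : Dual.D R) : KZero.K0tr (Pr R) := KZero.clTr (Pr R) K

lemma clP_of_triangle (T : Triangle (Dual.D R)) (hT : T ∈ distTriang _)
    (h₁ : Pr R T.obj₁) (h₂ : Pr R T.obj₂) (h₃ : Pr R T.obj₃) :
    clP T.obj₂ = clP T.obj₁ + clP T.obj₃ := by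
  unfold clP KZero.clTr
  rw [dif_pos h₁, dif_pos h₂, dif_pos h₃, ← sub_eq_zero, ← sub_sub, ← QuotientAddGroup.mk_sub,
    ← QuotientAddGroup.mk_sub, QuotientAddGroup.eq_zero_iff]
  exact AddSubgroup.subset_closure ⟨T, h₁, h₂, h₃, hT, rfl⟩

lemma clP_zero : clP (0 : Dual.D R) = 0 := by
  have h := clP_of_triangle _ (contractible_distinguished (0 : Dual.D R)) pr_zero pr_zero
    pr_zero
  simpa using h

lemma clP_of_iso {K L : Dual.D R} (e : K ≅ L) (hK : Pr R K) : clP K = clP L := by
  have hL : Pr R L := pr_of_iso e hK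
  have hT : Triangle.mk e.hom (0 : L ⟶ (0 : Dual.D R)) 0 ∈ distTriang (Dual.D R) := by
    refine isomorphic_distinguished _ (contractible_distinguished K) _
      (Triangle.isoMk _ _ (Iso.refl _) e.symm (Iso.refl _)
        (by change e.hom ≫ e.inv = 𝟙 K ≫ 𝟙 K; rw [e.hom_inv_id, Category.comp_id])
        (by change (0 : L ⟶ 0) ≫ 𝟙 0 = e.inv ≫ (0 : K ⟶ 0); rw [zero_comp, comp_zero])
        (by change (0 : (0 : Dual.D R) ⟶ K⟦(1 : ℤ)⟧) ≫ (shiftFunctor (Dual.D R) (1 : ℤ)).map (𝟙 K)
              = 𝟙 0 ≫ 0; rw [zero_comp, comp_zero]))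
  have h := clP_of_triangle _ hT hK hL pr_zero
  simp only [Triangle.mk_obj₁, Triangle.mk_obj₂, Triangle.mk_obj₃] at h
  rw [h, clP_zero, add_zero]

lemma clP_of_isZero {K : Dual.D R} (hK : IsZero K) : clP K = 0 := by
  rw [clP_of_iso (hK.iso (isZero_zero _)) (pr_of_isZero hK), clP_zero]

lemma clP_shift_one (K : Dual.D R) (hK : Pr R K) : clP (K⟦(1 : ℤ)⟧) = - clP K := by
  have hT := rot_of_distTriang _ (contractible_distinguished K)
  have h := clP_of_triangle _ hT hK pr_zero (pr_shift hK 1)
  simp only [Triangle.rotate_obj₁, Triangle.rotate_obj₂, Triangle.rotate_obj₃,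
    contractibleTriangle_obj₁, contractibleTriangle_obj₂, contractibleTriangle_obj₃] at h
  rw [clP_zero] at h
  exact (neg_eq_of_add_eq_zero_right h.symm).symm

/-- `Pr` and class in a given subgroup -/
def Q (G : AddSubgroup (KZero.K0tr (Pr R))) : ObjectProperty (Dual.D R) :=
  fun K => Pr R K ∧ clP K ∈ G

variable (G : AddSubgroup (KZero.K0tr (Pr R)))

instance : (Q G).IsClosedUnderIsomorphisms :=
  ⟨fun e h => ⟨pr_of_iso e h.1, by rw [← clP_of_iso e h.1]; exact h.2⟩⟩

lemma q_of_isZero (K : Dual.D R) (hK : IsZero K) : Q G K :=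
  ⟨pr_of_isZero hK, by rw [clP_of_isZero hK]; exact zero_mem _⟩

lemma q_obj₂ (T : Triangle (Dual.D R)) (hT : T ∈ distTriang _) (h₁ : Q G T.obj₁)
    (h₃ : Q G T.obj₃) : Q G T.obj₂ := by
  have h₂ := pr_obj₂ T hT h₁.1 h₃.1
  refine ⟨h₂, ?_⟩
  rw [clP_of_triangle T hT h₁.1 h₂ h₃.1]
  exact add_mem h₁.2 h₃.2

lemma q_shift_one (K : Dual.D R) (hK : Q G K) : Q G (K⟦(1 : ℤ)⟧) :=
  ⟨pr_shift hK.1 1, by rw [clP_shift_one K hK.1]; exact neg_mem hK.2⟩

lemma q_shift_neg_one (K : Dual.D R) (hK : Q G K) : Q G (K⟦(-1 : ℤ)⟧) := by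
  have hp := pr_shift hK.1 (-1)
  refine ⟨hp, ?_⟩
  have h1 := clP_shift_one _ hp
  have h2 : clP ((K⟦(-1 : ℤ)⟧)⟦(1 : ℤ)⟧) = clP K :=
    clP_of_iso (shiftNegShift K (1 : ℤ)) (pr_shift hp 1)
  rw [h2] at h1
  rw [← neg_neg (clP (K⟦(-1 : ℤ)⟧)), ← h1]
  exact neg_mem hK.2

lemma q_shift (K : Dual.D R) (hK : Q G K) (n : ℤ) : Q G (K⟦n⟧) := by
  induction n using Int.induction_on with
  | zero => exact (Q G).prop_of_iso ((shiftFunctorZero (Dual.D R) ℤ).app K).symm hK
  | succ n ih =>
    exact (Q G).prop_of_iso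
      ((shiftFunctorAdd' (Dual.D R) (n : ℤ) 1 (n + 1) rfl).app K).symm (q_shift_one G _ ih)
  | pred n ih =>
    exact (Q G).prop_of_iso
      ((shiftFunctorAdd' (Dual.D R) (-(n : ℤ)) (-1) (-(n : ℤ) - 1) (by lia)).app K).symm
      (q_shift_neg_one G _ ih)

lemma q_single (M : ModuleCat.{u} R)
    (h0 : Q G ((DerivedCategory.singleFunctor (ModuleCat.{u} R) 0).obj M)) (i : ℤ) :
    Q G ((DerivedCategory.singleFunctor (ModuleCat.{u} R) i).obj M) :=
  (Q G).prop_of_iso
    (((singleFunctors (ModuleCat.{u} R)).shiftIso (-i) i 0 (by lia)).app M)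
    (q_shift G _ h0 (-i))

/-- finite-length induction: if `k[0]` is in `Q G` then so is `M[0]` for any finite length `M` -/
lemma q_single_of_isFiniteLength
    (hk : Q G ((DerivedCategory.singleFunctor (ModuleCat.{u} R) 0).obj
      (ModuleCat.of R (R ⧸ IsLocalRing.maximalIdeal R))))
    (M : Type u) [AddCommGroup M] [Module R M] (hM : IsFiniteLength R M) :
    Q G ((DerivedCategory.singleFunctor (ModuleCat.{u} R) 0).obj (ModuleCat.of R M)) := by
  induction hM with
  | of_subsingleton =>
    exact q_of_isZero G _ (Functor.map_isZero _ (ModuleCat.isZero_of_subsingleton _))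
  | @of_simple_quotient M _ _ N hs _ ih =>
    have hS : (LinearMap.shortComplexKer N.mkQ).ShortExact :=
      LinearMap.shortExact_shortComplexKer N.mkQ_surjective
    have hT := hS.singleTriangle_distinguished
    have e1 : (LinearMap.ker N.mkQ) ≃ₗ[R] N := LinearEquiv.ofEq _ _ N.ker_mkQ
    have h1 : Q G hS.singleTriangle.obj₁ :=
      (Q G).prop_of_iso ((DerivedCategory.singleFunctor (ModuleCat.{u} R) 0).mapIso
        e1.toModuleIso.symm) ih
    obtain ⟨I, hI, ⟨e⟩⟩ := isSimpleModule_iff_quot_maximal.1 hs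
    have hI' : I = IsLocalRing.maximalIdeal R := IsLocalRing.eq_maximalIdeal hI
    subst hI'
    have h3 : Q G hS.singleTriangle.obj₃ :=
      (Q G).prop_of_iso ((DerivedCategory.singleFunctor (ModuleCat.{u} R) 0).mapIso
        e.toModuleIso.symm) hk
    exact q_obj₂ G _ hT h1 h3

end Pr

section Perfect

variable {R : Type u} [CommRing R]

noncomputable def homologyIso (E : Cx R) (i : ℤ) :
    (DerivedCategory.homologyFunctor (ModuleCat.{u} R) i).obj (toD E) ≅ E.homology i :=
  (DerivedCategory.homologyFunctorFactors (ModuleCat.{u} R) i).app E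

lemma exists_bounds_of_isPerfect (K : Dual.D R) (hK : IsPerfect R K) :
    ∃ a b : ℤ, ∀ i : ℤ, i < a ∨ b < i →
      IsZero ((DerivedCategory.homologyFunctor (ModuleCat.{u} R) i).obj K) := by
  obtain ⟨E, a, b, hv, -, ⟨e⟩⟩ := hK
  refine ⟨a, b, fun i hi => ?_⟩
  have h1 : IsZero (E.homology i) := ShortComplex.isZero_homology_of_isZero_X₂ _ (hv i hi)
  exact IsZero.of_iso h1
    ((DerivedCategory.homologyFunctor (ModuleCat.{u} R) i).mapIso e.symm ≪≫ homologyIso E i)

lemma finite_homology_complex [IsNoetherianRing R] (E : Cx R) (i : ℤ)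
    (h : Module.Finite R (E.X i)) : Module.Finite R (E.homology i) := by
  have e := ((E.sc i).moduleCatLeftHomologyData.homologyIso).toLinearEquiv
  haveI : Module.Finite R (E.sc i).X₂ := h
  haveI : IsNoetherian R (E.sc i).X₂ := isNoetherian_of_isNoetherianRing_of_finite R _
  haveI : Module.Finite R (E.sc i).moduleCatLeftHomologyData.H := by
    change Module.Finite R (LinearMap.ker (E.sc i).g.hom ⧸
      LinearMap.range (E.sc i).moduleCatToCycles)
    infer_instance
  exact Module.Finite.equiv e.symm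

lemma finite_homology_of_isPerfect [IsNoetherianRing R] (K : Dual.D R) (hK : IsPerfect R K)
    (i : ℤ) : Module.Finite R (Dual.HD R K i) := by
  obtain ⟨E, a, b, -, hp, ⟨e⟩⟩ := hK
  haveI := finite_homology_complex E i (hp i).1
  exact Module.Finite.equiv
    ((DerivedCategory.homologyFunctor (ModuleCat.{u} R) i).mapIso e.symm ≪≫
      homologyIso E i).toLinearEquiv.symm

lemma isFiniteLength_of_support_subset [IsNoetherianRing R] [IsLocalRing R]
    (M : Type u) [AddCommGroup M] [Module R M] [Module.Finite R M]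
    (h : Module.support R M ⊆ {IsLocalRing.closedPoint R}) : IsFiniteLength R M := by
  apply Groth.Agent.Lib.Helper90.DimParam.isFiniteLength_of_supportDim_le_zero
  unfold Module.supportDim
  haveI : Subsingleton (Module.support R M) :=
    ⟨fun x y => Subtype.ext ((h x.2).trans (h y.2).symm)⟩
  exact Order.krullDim_nonpos_of_subsingleton

end Perfect

section Main

variable {R : Type u} [CommRing R] [IsLocalRing R] [IsNoetherianRing R]
variable (G : AddSubgroup (KZero.K0tr (Pr R)))

/-- dévissage: if `k[0]` is in `Q G` then every object of `Pr` is in `Q G` -/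
lemma q_of_pr
    (hk : Q G ((DerivedCategory.singleFunctor (ModuleCat.{u} R) 0).obj
      (ModuleCat.of R (R ⧸ IsLocalRing.maximalIdeal R))))
    (K : Dual.D R) (hK : Pr R K) : Q G K := by
  obtain ⟨a, b, hab⟩ := exists_bounds_of_isPerfect K hK.1
  refine Devissage.prop_of_bounded_homology (Q G) (q_of_isZero G)
    (fun T hT h₁ h₃ => q_obj₂ G T hT h₁ h₃) K a b hab (fun i => ?_)
  apply q_single G _ _ i
  haveI := finite_homology_of_isPerfect K hK.1 i
  exact q_single_of_isFiniteLength G hk (Dual.HD R K i)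
    (isFiniteLength_of_support_subset _ (hK.2 i))

lemma support_residue :
    Module.support R (R ⧸ IsLocalRing.maximalIdeal R) ⊆ {IsLocalRing.closedPoint R} := by
  intro p hp
  have h := Module.annihilator_le_of_mem_support hp
  rw [Ideal.annihilator_quotient] at h
  have h2 := (IsLocalRing.maximalIdeal.isMaximal R).eq_of_le p.2.ne_top h
  exact PrimeSpectrum.ext h2.symm

lemma sp_single (M : ModuleCat.{u} R)
    (h : Module.support R M ⊆ {IsLocalRing.closedPoint R}) :
    Sp R ((DerivedCategory.singleFunctor (ModuleCat.{u} R) 0).obj M) := by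
  intro i
  by_cases hi : i = 0
  · subst hi
    have e' : Dual.HD R ((DerivedCategory.singleFunctor (ModuleCat.{u} R) 0).obj M) 0 ≃ₗ[R] M :=
      ((singleFunctorCompHomologyFunctorIso (ModuleCat.{u} R) 0).app M).toLinearEquiv
    rw [e'.support_eq]
    exact h
  · have hz : IsZero ((homologyFunctor (ModuleCat.{u} R) i).obj
        ((DerivedCategory.singleFunctor (ModuleCat.{u} R) 0).obj M)) := by
      rcases lt_or_gt_of_ne hi with hi | hi
      · exact isZero_of_isGE _ 0 i hi
      · exact isZero_of_isLE _ 0 i hi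
    haveI : Subsingleton (Dual.HD R ((DerivedCategory.singleFunctor (ModuleCat.{u} R) 0).obj M) i) :=
      ModuleCat.subsingleton_of_isZero hz
    rw [Module.support_eq_empty]
    exact Set.empty_subset _

theorem closure_koszul_eq_top (fs : List R) (hreg : RingTheory.Sequence.IsRegular R fs)
    (hgen : Ideal.ofList fs = IsLocalRing.maximalIdeal R) :
    AddSubgroup.closure {clP (toD (Koszul.koszul R fs))} = ⊤ := by
  set G := AddSubgroup.closure {clP (toD (Koszul.koszul R fs))} with hG
  have hK := (Helper98.KoszulLES.koszul_of_weaklyRegular fs hreg.toIsWeaklyRegular).1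
  obtain ⟨e0⟩ := Groth.Agent.Lib.Helper43.KoszulPerf.inD_iso_koszul fs hK
  have e2 : (R ⧸ Ideal.ofList fs) ≃ₗ[R] (R ⧸ IsLocalRing.maximalIdeal R) :=
    Submodule.quotEquivOfEq _ _ hgen
  have e : toD (Koszul.koszul R fs) ≅ (DerivedCategory.singleFunctor (ModuleCat.{u} R) 0).obj
      (ModuleCat.of R (R ⧸ IsLocalRing.maximalIdeal R)) :=
    e0 ≪≫ (DerivedCategory.singleFunctor (ModuleCat.{u} R) 0).mapIso e2.toModuleIso
  have hperf : IsPerfect R (toD (Koszul.koszul R fs)) :=
    ⟨Koszul.koszul R fs, _, _, Groth.Agent.Lib.Helper43.KoszulPerf.koszul_vanishesOutside fs,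
      fun i => by
        obtain ⟨h1, h2⟩ := Groth.Agent.Lib.Helper43.KoszulPerf.koszul_termwiseFiniteFree fs i
        exact ⟨h1, inferInstance⟩, ⟨Iso.refl _⟩⟩
  have hprk : Pr R ((DerivedCategory.singleFunctor (ModuleCat.{u} R) 0).obj
      (ModuleCat.of R (R ⧸ IsLocalRing.maximalIdeal R))) :=
    ⟨DRingPerf.isPerfect_of_iso e hperf, sp_single _ support_residue⟩
  have hprK : Pr R (toD (Koszul.koszul R fs)) := pr_of_iso e.symm hprk
  have hqK : Q G (toD (Koszul.koszul R fs)) :=
    ⟨hprK, AddSubgroup.subset_closure (Set.mem_singleton _)⟩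
  have hk : Q G ((DerivedCategory.singleFunctor (ModuleCat.{u} R) 0).obj
      (ModuleCat.of R (R ⧸ IsLocalRing.maximalIdeal R))) := (Q G).prop_of_iso e hqK
  rw [eq_top_iff]
  intro x hx0
  clear hx0
  induction x using QuotientAddGroup.induction_on with
  | H z =>
    induction z using FreeAbelianGroup.induction_on with
    | zero => exact zero_mem _
    | of K =>
      have h : (QuotientAddGroup.mk (FreeAbelianGroup.of K) : KZero.K0tr (Pr R)) = clP K.1 := by
        unfold clP KZero.clTr
        rw [dif_pos K.2]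
      rw [h]
      exact (q_of_pr G hk K.1 K.2).2
    | neg K ih =>
      rw [QuotientAddGroup.mk_neg]
      exact neg_mem ih
    | add x y hx hy =>
      rw [QuotientAddGroup.mk_add]
      exact add_mem hx hy

end Main

end Groth.Agent.Lib.Helper15.K0Koszul
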