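import Groth.Agent.Lib.Helper25.KFlatRes
import Mathlib.Algebra.Homology.DerivedCategory.KProjective

/-!
# K-projective resolutions of unbounded complexes of modules

The semi-free resolution `KFlatRes.res M ⟶ M` of helper25 (sequential colimit of cell attachments)
is K-projective in the sense of Mathlib (`CochainComplex.IsKProjective`).  Hence every complex of
modules over a commutative ring admits a K-projective resolution.
-/

set_option autoImplicit false
universe u

namespace Groth.Agent.Lib.Helper15.KProjRes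

open CategoryTheory CategoryTheory.Limits HomologicalComplex CochainComplex.HomComplex
open Groth.Agent.Lib.Helper25.TensorCx Groth.Agent.Lib.Helper25.KFlat
open Groth.Agent.Lib.Helper25.KFlatRes

variable {R : Type u} [CommRing R]

/-- Elementwise null-homotopy data. -/
structure NullHtpy {K L : Cx R} (f : K ⟶ L) where
  /-- the homotopy -/
  h : ∀ p q : ℤ, q + 1 = p → (K.X p →ₗ[R] L.X q)
  comm : ∀ (p q r : ℤ) (hqp : q + 1 = p) (hpr : p + 1 = r) (x : K.X p),
    (L.d q p).hom (h p q hqp x) + h r p hpr ((K.d p r).hom x) = (f.f p).hom x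

/-- transport along an equality of morphisms -/
def NullHtpy.ofEq {K L : Cx R} {f g : K ⟶ L} (H : NullHtpy f) (e : f = g) : NullHtpy g where
  h := H.h
  comm := by subst e; exact H.comm

theorem NullHtpy.nonempty_homotopy {K L : Cx R} {f : K ⟶ L} (H : NullHtpy f) :
    Nonempty (Homotopy f 0) := by
  refine ⟨(Cochain.equivHomotopy f 0).symm ⟨Cochain.mk (fun p q hpq =>
    ModuleCat.ofHom (H.h p q (by omega))), ?_⟩⟩
  ext p
  rw [Cochain.add_v, Cochain.ofHom_v, Cochain.ofHom_v, δ_v (-1) 0 (by omega) _ p p (add_zero p)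
    (p - 1) (p + 1) rfl rfl]
  simp only [Cochain.mk_v, Int.negOnePow_zero, one_smul, HomologicalComplex.zero_f, add_zero]
  rename_i x
  exact (H.comm p (p - 1) (p + 1) (by omega) rfl x).symm

theorem comm_apply {K L : Cx R} (f : K ⟶ L) (i j : ℤ) (x : K.X i) :
    (L.d i j).hom ((f.f i).hom x) = (f.f j).hom ((K.d i j).hom x) := by
  have := congrArg (fun ψ => ψ.hom x) (f.comm i j)
  exact this

/-- elementwise acyclicity -/
theorem exists_of_acyclic {L : Cx R} (hL : L.Acyclic) (p q r : ℤ) (hqp : q + 1 = p)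
    (hpr : p + 1 = r) (y : L.X p) (hy : (L.d p r).hom y = 0) :
    ∃ z : L.X q, (L.d q p).hom z = y := by
  have h := hL p
  rw [HomologicalComplex.exactAt_iff' L q p r (by simp; omega) (by simp; omega),
    ShortComplex.moduleCat_exact_iff] at h
  exact h y hy

section Ext

variable (F : Cx R) (G : ℤ → Type u) [∀ q, AddCommGroup (G q)] [∀ q, Module R (G q)]
  (φ : ∀ q, G q →ₗ[R] F.X (q + 1))
  (hφ : ∀ q (g : G q), (F.d (q + 1) (q + 1 + 1)).hom (φ q g) = 0)
  [∀ q, Module.Projective R (G q)]

theorem exists_ext {L : Cx R} (hL : L.Acyclic) (g : extCx F G φ hφ ⟶ L)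
    (H : NullHtpy (extι F G φ hφ ≫ g)) :
    ∃ H' : NullHtpy g, ∀ (p q : ℤ) (hqp : q + 1 = p) (x : F.X p),
      H'.h p q hqp ((x, 0) : F.X p × G p) = H.h p q hqp x := by
  -- the correction term on the new cells
  have key : ∀ (p q : ℤ) (hqp : q + 1 = p), ∃ β : G p →ₗ[R] L.X q, ∀ y : G p,
      (L.d q p).hom (β y) = (g.f p).hom ((0, y) : F.X p × G p) -
        H.h (p + 1) p rfl (φ p y) := by
    intro p q hqp
    let c : G p →ₗ[R] L.X p :=
      (g.f p).hom ∘ₗ LinearMap.inr R (F.X p) (G p) - H.h (p + 1) p rfl ∘ₗ φ p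
    have hc : ∀ y, c y ∈ LinearMap.range (L.d q p).hom := by
      intro y
      obtain ⟨z, hz⟩ := exists_of_acyclic hL p q (p + 1) hqp rfl (c y) (by
        change (L.d p (p + 1)).hom ((g.f p).hom ((0, y) : F.X p × G p) -
          H.h (p + 1) p rfl (φ p y)) = 0
        rw [map_sub]
        have h1 := comm_apply g p (p + 1) ((0, y) : F.X p × G p)
        have h2 : ((extCx F G φ hφ).d p (p + 1)).hom ((0, y) : F.X p × G p) = (φ p y, 0) := by
          erw [extCx_d, extD_apply, map_zero, zero_add]
        have h3 := H.comm (p + 1) p (p + 1 + 1) rfl rfl (φ p y)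
        rw [hφ, map_zero, add_zero] at h3
        rw [h1, h2, h3]
        exact sub_self _)
      exact ⟨z, hz⟩
    obtain ⟨β, hβ⟩ := Module.projective_lifting_property (L.d q p).hom.rangeRestrict
      (c.codRestrict _ hc) (LinearMap.surjective_rangeRestrict _)
    refine ⟨β, fun y => ?_⟩
    have := congrArg Subtype.val (LinearMap.congr_fun hβ y)
    exact this
  choose β hβ using key
  refine ⟨⟨fun p q hqp => LinearMap.coprod (H.h p q hqp) (β p q hqp), ?_⟩, ?_⟩
  · intro p q r hqp hpr
    subst hpr
    rintro ⟨x, y⟩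
    have hd : ((extCx F G φ hφ).d p (p + 1)).hom ((x, y) : F.X p × G p) =
        ((F.d p (p + 1)).hom x + φ p y, 0) := by
      erw [extCx_d, extD_apply]
    rw [hd]
    change (L.d q p).hom (H.h p q hqp x + β p q hqp y) +
      (H.h (p + 1) p rfl ((F.d p (p + 1)).hom x + φ p y) + β (p + 1) p rfl 0) = _
    rw [map_zero, add_zero, map_add, map_add, hβ]
    have h1 := H.comm p q (p + 1) hqp rfl x
    have h2 : ((extι F G φ hφ ≫ g).f p).hom x = (g.f p).hom ((x, 0) : F.X p × G p) := rfl
    rw [h2] at h1
    have h4 : (g.f p).hom ((x, y) : F.X p × G p) =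
        (g.f p).hom ((x, 0) : F.X p × G p) + (g.f p).hom ((0, y) : F.X p × G p) := by
      have h3 : ((x, y) : F.X p × G p) = (x, 0) + (0, y) := by simp
      conv_lhs => rw [h3]
      exact map_add (g.f p).hom _ _
    rw [h4, ← h1]
    abel
  · intro p q hqp x
    change H.h p q hqp x + β p q hqp 0 = _
    rw [map_zero, add_zero]

end Ext

section Seq

variable (M : Cx R) {L : Cx R} (hL : L.Acyclic) (f : res M ⟶ L)

/-- restriction of `f` to the `n`-th stage -/
noncomputable def fn (n : ℕ) : (stg M n).F ⟶ L := colimit.ι (D M) ⟨n⟩ ≫ f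

theorem seqMap_fn (n : ℕ) : seqMap M n ≫ fn M f (n + 1) = fn M f n := by
  have h := colimit.w (D M) (φj ⟨n⟩)
  rw [D_map_φj] at h
  unfold fn
  rw [← Category.assoc]
  exact congrArg (· ≫ f) h

theorem subsingleton_stg_zero (p : ℤ) : Subsingleton ((stg M 0).F.X p) :=
  inferInstanceAs (Subsingleton PUnit)

/-- the compatible family of null-homotopies -/
noncomputable def htpySeq : (n : ℕ) → NullHtpy (fn M f n)
  | 0 => ⟨fun _ _ _ => 0, fun p q r hqp hpr x => by
      have := subsingleton_stg_zero M p
      have hx : x = 0 := Subsingleton.elim _ _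
      subst hx
      simp⟩
  | n + 1 => (exists_ext (stg M n).F _ _ _ hL (fn M f (n + 1))
      ((htpySeq n).ofEq (seqMap_fn M f n).symm)).choose

theorem htpySeq_succ (n : ℕ) (p q : ℤ) (hqp : q + 1 = p) (x : (stg M n).F.X p) :
    (htpySeq M hL f (n + 1)).h p q hqp (((seqMap M n).f p).hom x) =
      (htpySeq M hL f n).h p q hqp x :=
  (exists_ext (stg M n).F _ _ _ hL (fn M f (n + 1))
      ((htpySeq M hL f n).ofEq (seqMap_fn M f n).symm)).choose_spec p q hqp x

/-- the cocone defining the glued homotopy -/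
noncomputable def hcocone (p q : ℤ) (hqp : q + 1 = p) :
    Cocone (D M ⋙ eval (ModuleCat.{u} R) (ComplexShape.up ℤ) p) where
  pt := L.X q
  ι := Functor.whiskerLeft downF (NatTrans.ofSequence
    (F := seqF M ⋙ eval (ModuleCat.{u} R) (ComplexShape.up ℤ) p)
    (G := (Functor.const ℕ).obj (L.X q))
    (fun n => ModuleCat.ofHom ((htpySeq M hL f n).h p q hqp)) (by
      intro n
      apply ModuleCat.hom_ext
      apply LinearMap.ext
      intro x
      have h1 : (seqF M).map (homOfLE (Nat.le_add_right n 1)) = seqMap M n :=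
        Functor.ofSequence_map_homOfLE_succ (seqMap M) n
      have h2 : ((((seqF M).map (homOfLE (Nat.le_add_right n 1))).f p).hom x : (stg M (n + 1)).F.X p)
          = ((seqMap M n).f p).hom x :=
        congrArg (fun ψ : (stg M n).F ⟶ (stg M (n + 1)).F => (ψ.f p).hom x) h1
      exact (congrArg ((htpySeq M hL f (n + 1)).h p q hqp) h2).trans
        (htpySeq_succ M hL f n p q hqp x)))

/-- the glued homotopy -/
noncomputable def hglue (p q : ℤ) (hqp : q + 1 = p) : (res M).X p ⟶ L.X q :=
  (isColimitOfPreserves (eval (ModuleCat.{u} R) (ComplexShape.up ℤ) p)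
    (colimit.isColimit (D M))).desc (hcocone M hL f p q hqp)

theorem ι_hglue (p q : ℤ) (hqp : q + 1 = p) (j : ULift.{u} ℕ) (x : ((D M).obj j).X p) :
    (hglue M hL f p q hqp).hom (((colimit.ι (D M) j).f p).hom x) =
      (htpySeq M hL f j.down).h p q hqp x := by
  have h := (isColimitOfPreserves (eval (ModuleCat.{u} R) (ComplexShape.up ℤ) p)
    (colimit.isColimit (D M))).fac (hcocone M hL f p q hqp) j
  have := congrArg (fun ψ => ψ.hom x) h
  exact this

/-- the null-homotopy on the resolution -/
noncomputable def htpy : NullHtpy f where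
  h p q hqp := (hglue M hL f p q hqp).hom
  comm p q r hqp hpr x := by
    obtain ⟨j, xj, rfl⟩ := exists_rep_eval (D M) (colimit.cocone (D M)) (colimit.isColimit (D M)) p x
    change (L.d q p).hom ((hglue M hL f p q hqp).hom (((colimit.ι (D M) j).f p).hom xj)) +
      (hglue M hL f r p hpr).hom (((res M).d p r).hom (((colimit.ι (D M) j).f p).hom xj)) =
      (f.f p).hom (((colimit.ι (D M) j).f p).hom xj)
    have h2 : ((res M).d p r).hom (((colimit.ι (D M) j).f p).hom xj) =
        ((colimit.ι (D M) j).f r).hom ((((D M).obj j).d p r).hom xj) :=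
      comm_apply (colimit.ι (D M) j) p r xj
    rw [h2, ι_hglue, ι_hglue]
    exact (htpySeq M hL f j.down).comm p q r hqp hpr xj

end Seq

instance isKProjective_res (M : Cx R) : CochainComplex.IsKProjective (res M) where
  nonempty_homotopy_zero f hL := (htpy M hL f).nonempty_homotopy

/-- Every complex of modules has a K-projective resolution (which is moreover K-flat with flat
terms, by a degreewise surjective quasi-isomorphism). -/
theorem exists_kprojective_resolution (M : Cx R) :
    ∃ (P : Cx R) (π : P ⟶ M), CochainComplex.IsKProjective P ∧ QuasiIso π ∧ IsKFlat P ∧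
      (∀ i : ℤ, Module.Flat R (P.X i)) ∧ ∀ i : ℤ, Function.Surjective (π.f i).hom :=
  ⟨res M, resπ M, inferInstance, quasiIso_resπ M, isKFlat_res M, flat_res M, resπ_surjective M⟩

end Groth.Agent.Lib.Helper15.KProjRes
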