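import Groth.Agent.Lib.Helper15.ChartUnit
import Groth.Agent.Lib.Helper15.TorAmpZero
import Groth.Agent.Lib.Helper43.KoszulAtPerf
import Groth.Agent.Lib.Helper43.SeqFlatBC
import Groth.Agent.S2066

/-!
# Koszul-regular immersions have perfect dimension `≤ d` (helper15)

* `ker_eq_map_ker_of_atPrime`: kernel of the map induced on localizations at primes by a surjection;
* `hasTorAmplitudeAt_unit_of_koszul`: stalkwise tor amplitude `[-d, 0]` of `O_Z` over `O_X` for an
  immersion cut out near the point by a Koszul-regular sequence of length `d`;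
* `isPseudoCoherentRelAll_unit_of_isPseudoCoherentMor`: `MoreMor.IsPseudoCoherentMor f` implies
  that `O_X[0]` is pseudo-coherent relative to `f` in chart form.
-/

set_option autoImplicit false
set_option linter.style.haveILetI false
universe u
open CategoryTheory Limits AlgebraicGeometry Opposite
attribute [local instance] HasDerivedCategory.standard

namespace Groth.Agent.Lib.Helper15.KoszulTorAmp

section Algebra

theorem ker_eq_map_ker_of_atPrime {A B S S' : Type*} [CommRing A] [CommRing B] [CommRing S]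
    [CommRing S'] (p : Ideal A) [p.IsPrime] [Algebra A S] [IsLocalization.AtPrime S p]
    (q : Ideal B) [q.IsPrime] [Algebra B S'] [IsLocalization.AtPrime S' q]
    (φ : A →+* B) (hφ : Function.Surjective φ) (σ : S →+* S') [IsLocalHom σ]
    (hcomm : σ.comp (algebraMap A S) = (algebraMap B S').comp φ) :
    RingHom.ker σ = (RingHom.ker φ).map (algebraMap A S) := by
  have hc : ∀ a : A, σ (algebraMap A S a) = algebraMap B S' (φ a) := fun a => congr($hcomm a)
  apply le_antisymm
  · intro s hs
    obtain ⟨⟨a, m⟩, hs'⟩ := IsLocalization.surj p.primeCompl s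
    simp only at hs'
    have h0 : algebraMap B S' (φ a) = 0 := by
      rw [← hc, ← hs', map_mul, (RingHom.mem_ker).1 hs, zero_mul]
    obtain ⟨n, hn⟩ := (IsLocalization.map_eq_zero_iff q.primeCompl S' (φ a)).1 h0
    obtain ⟨m', hm'⟩ := hφ (n : B)
    have hm'p : m' ∈ p.primeCompl := by
      rw [← IsLocalization.AtPrime.isUnit_to_map_iff S p m']
      have hu : IsUnit (algebraMap B S' (n : B)) :=
        (IsLocalization.AtPrime.isUnit_to_map_iff S' q (n : B)).2 n.2
      rw [← hm', ← hc] at hu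
      exact (isUnit_map_iff σ _).1 hu
    have hker : m' * a ∈ RingHom.ker φ := by
      rw [RingHom.mem_ker, map_mul, hm']
      exact hn
    have h1 : algebraMap A S (m' * a) ∈ (RingHom.ker φ).map (algebraMap A S) :=
      Ideal.mem_map_of_mem _ hker
    have hu1 : IsUnit (algebraMap A S m') :=
      (IsLocalization.AtPrime.isUnit_to_map_iff S p m').2 hm'p
    have hu2 : IsUnit (algebraMap A S (m : A)) :=
      (IsLocalization.AtPrime.isUnit_to_map_iff S p (m : A)).2 m.2
    rw [map_mul] at h1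
    have h2 : algebraMap A S a ∈ (RingHom.ker φ).map (algebraMap A S) :=
      (Ideal.unit_mul_mem_iff_mem _ hu1).1 h1
    rw [← hs'] at h2
    exact (Ideal.mul_unit_mem_iff_mem _ hu2).1 h2
  · rw [Ideal.map_le_iff_le_comap]
    intro a ha
    rw [Ideal.mem_comap, RingHom.mem_ker, hc, (RingHom.mem_ker).1 ha, map_zero]

end Algebra

section Stalk

open Groth.Agent.Lib.Helper43 Groth.Agent.Lib.Helper43.KoszulAtPerf DRing
  Groth.Agent.Lib.Helper84.FlatAmp

variable {Z X : Scheme.{u}} (i : Z ⟶ X)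

/-- the stalk of `O_Z` at `z` is the quotient of the stalk of `O_X` at `i z` by the germs of the
generators of the ideal of `Z` -/
theorem ker_stalkMap_eq (U : X.Opens) (hU : IsAffineOpen U)
    [IsClosedImmersion (i ∣_ U)] (z : Z) (hz : i.base z ∈ U) (rs : List Γ(X, U))
    (hk : RingHom.ker (i.app U).hom = Ideal.ofList rs) :
    RingHom.ker (i.stalkMap z).hom =
      Ideal.ofList (rs.map (X.presheaf.germ U (i.base z) hz).hom) := by
  have hU' : IsAffineOpen (i ⁻¹ᵁ U) := isAffineOpen_preimage_of_restrict i U hU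
  have hsurj : Function.Surjective (i.app U).hom := app_surjective_of_restrict i U hU
  letI a1 : Algebra Γ(X, U) (X.presheaf.stalk (i.base z)) :=
    TopCat.Presheaf.algebra_section_stalk X.presheaf (⟨i.base z, hz⟩ : U)
  letI a2 : Algebra Γ(Z, i ⁻¹ᵁ U) (Z.presheaf.stalk z) :=
    TopCat.Presheaf.algebra_section_stalk Z.presheaf (⟨z, hz⟩ : (i ⁻¹ᵁ U : Z.Opens))
  haveI l1 : IsLocalization.AtPrime (X.presheaf.stalk (i.base z))
      (hU.primeIdealOf ⟨i.base z, hz⟩).asIdeal := hU.isLocalization_stalk ⟨i.base z, hz⟩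
  haveI l2 : IsLocalization.AtPrime (Z.presheaf.stalk z)
      (hU'.primeIdealOf ⟨z, hz⟩).asIdeal := hU'.isLocalization_stalk ⟨z, hz⟩
  have hcomm : (i.stalkMap z).hom.comp
      (algebraMap Γ(X, U) (X.presheaf.stalk (i.base z))) =
      (algebraMap Γ(Z, i ⁻¹ᵁ U) (Z.presheaf.stalk z)).comp (i.app U).hom := by
    have := Scheme.Hom.germ_stalkMap i U z hz
    exact congrArg CommRingCat.Hom.hom this
  have h1 := ker_eq_map_ker_of_atPrime (hU.primeIdealOf ⟨i.base z, hz⟩).asIdeal
    (hU'.primeIdealOf ⟨z, hz⟩).asIdeal (i.app U).hom hsurj (i.stalkMap z).hom hcomm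
  rw [h1, hk, Ideal.map_ofList]
  rfl

/-- stalkwise tor amplitude `[-d, 0]` of `O_Z` over `O_X` at a point near which `Z` is cut out by a
Koszul-regular sequence of length `d` -/
theorem hasTorAmplitudeAt_unit_of_koszul [IsImmersion i] (U : X.Opens) (hU : IsAffineOpen U)
    [IsClosedImmersion (i ∣_ U)] (z : Z) (hz : i.base z ∈ U) (rs : List Γ(X, U))
    (hrs : LCI.IsKoszulRegularSeq Γ(X, U) rs)
    (hk : RingHom.ker (i.app U).hom = Ideal.ofList rs) :
    DerSch.HasTorAmplitudeAt i (-(rs.length : ℤ)) 0 (DerSch.unitCx Z) z := by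
  have hflat : (X.presheaf.germ U (i.base z) hz).hom.Flat := by
    letI a1 : Algebra Γ(X, U) (X.presheaf.stalk (i.base z)) :=
      TopCat.Presheaf.algebra_section_stalk X.presheaf (⟨i.base z, hz⟩ : U)
    haveI l1 : IsLocalization.AtPrime (X.presheaf.stalk (i.base z))
        (hU.primeIdealOf ⟨i.base z, hz⟩).asIdeal := hU.isLocalization_stalk ⟨i.base z, hz⟩
    haveI : Module.Flat Γ(X, U) (X.presheaf.stalk (i.base z)) :=
      IsLocalization.flat _ (hU.primeIdealOf ⟨i.base z, hz⟩).asIdeal.primeCompl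
    exact RingHom.flat_algebraMap_iff.2 this
  have hl := SeqFlatBC.koszulRegular_of_flat _ hflat rs hrs
  obtain ⟨e⟩ := KoszulPerf.inD_iso_koszul _ hl
  have hker := ker_stalkMap_eq i U hU z hz rs hk
  have hsurj : Function.Surjective (i.stalkMap z).hom := i.stalkMap_surjective z
  letI := (i.stalkMap z).hom.toAlgebra
  let e1 : (X.presheaf.stalk (i.base z) ⧸
      Ideal.ofList (rs.map (X.presheaf.germ U (i.base z) hz).hom)) ≃ₗ[X.presheaf.stalk (i.base z)]
      Z.presheaf.stalk z :=
    (Submodule.quotEquivOfEq _ _ (by rw [← hker]; ext x; rfl)).trans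
      (LinearMap.quotKerEquivOfSurjective
        (Algebra.linearMap (X.presheaf.stalk (i.base z)) (Z.presheaf.stalk z)) hsurj)
  unfold DerSch.HasTorAmplitudeAt
  refine torAmp_of_iso ?_ (Groth.Agent.Lib.Helper12.StalkTor.unitStalkIso i z).symm
  refine ⟨Koszul.koszul _ (rs.map (X.presheaf.germ U (i.base z) hz).hom), ?_, ?_,
    ⟨e ≪≫ (DerivedCategory.singleFunctor _ 0).mapIso e1.toModuleIso⟩⟩
  · have := KoszulPerf.koszul_vanishesOutside (rs.map (X.presheaf.germ U (i.base z) hz).hom)
    rwa [List.length_map] at this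
  · intro j
    obtain ⟨h1, h2⟩ := KoszulPerf.koszul_termwiseFiniteFree
      (rs.map (X.presheaf.germ U (i.base z) hz).hom) j
    infer_instance

end Stalk

section PC

open Groth.Agent.Lib.Helper15.ChartUnit

/-- a pseudo-coherent morphism (all affine pairs, presentation form) is pseudo-coherent in chart
form -/
theorem isPseudoCoherentRelAll_unit_of_isPseudoCoherentMor {X Y : Scheme.{u}} (f : X ⟶ Y)
    [LocallyOfFiniteType f] (hf : MoreMor.IsPseudoCoherentMor f) :
    DerSch.IsPseudoCoherentRelAll f (DCoh.toD X (DerSch.unitCx X)) := by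
  intro m
  refine ⟨inferInstance, Set.univ, iSup_univ_affineOpens,
    fun V _ => ⟨{U : X.affineOpens | (U : X.Opens) ≤ f ⁻¹ᵁ (V : Y.Opens)},
      iSup_affineOpens_le_preimage f (V : Y.Opens), fun U _ hle => ?_⟩⟩
  obtain ⟨n, ψ, hψ, hpc⟩ := hf U V U.2 V.2 hle
  letI : Algebra Γ(Y, (V : Y.Opens)) Γ(X, (U : X.Opens)) := (f.appLE V U hle).hom.toAlgebra
  refine ⟨n, ψ.toRingHom, ⟨hψ, RingHom.ext fun r => ψ.commutes r⟩, ?_⟩
  refine (chartPC_unit_iff U.2 (V : Y.Opens) ψ.toRingHom hψ m).2 ?_
  exact ((Groth.Agent.S2066.result _).1.2 hpc) m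

end PC

end Groth.Agent.Lib.Helper15.KoszulTorAmp
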