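import Groth.Agent.Lib.Helper15.LDerived
import Groth.Agent.S14623
import Mathlib.CategoryTheory.Functor.Derived.Adjunction
import Mathlib.Algebra.Homology.DerivedCategory.ExactFunctor

/-!
# `LBaseChange φ ⊣ restrictD φ`
-/

set_option autoImplicit false
universe u

namespace Groth.Agent.Lib.Helper15.LBCAdj

open CategoryTheory CategoryTheory.Limits DerivedCategory
open Groth.Agent.Lib.Helper15.QhAdj

attribute [local instance] HasDerivedCategory.standard

variable {A B : Type u} [CommRing A] [CommRing B] (φ : A →+* B)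

/-- extension of scalars on homotopy categories -/
noncomputable abbrev extK : KA A ⥤ KA B :=
  (ModuleCat.extendScalars.{u, u, u} φ).mapHomotopyCategory (ComplexShape.up ℤ)

/-- restriction of scalars on homotopy categories -/
noncomputable abbrev resK : KA B ⥤ KA A :=
  (ModuleCat.restrictScalars.{u} φ).mapHomotopyCategory (ComplexShape.up ℤ)

/-- the adjunction on homotopy categories -/
noncomputable def adjK : extK φ ⊣ resK φ :=
  Groth.Agent.S14623.adjH (ModuleCat.extendRestrictScalarsAdj.{u, u, u} φ) (ComplexShape.up ℤ)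

/-- the comparison `resK ⋙ Qh ⟶ Qh ⋙ restrictD` -/
noncomputable abbrev β : resK φ ⋙ Qh ⟶ Qh ⋙ DRing.restrictD φ :=
  (ModuleCat.restrictScalars.{u} φ).mapDerivedCategoryFactorsh.inv

instance : (DRing.restrictD φ).IsRightDerivedFunctor (β φ) (W B) :=
  Functor.isRightDerivedFunctor_of_inverts (W B) (DRing.restrictD φ)
    (ModuleCat.restrictScalars.{u} φ).mapDerivedCategoryFactorsh

variable [DRing.HasLBaseChange φ]

/-- the counit of the derived base change -/
noncomputable abbrev α : Qh ⋙ DRing.LBaseChange φ ⟶ extK φ ⋙ Qh :=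
  (DRing.baseChangeKh φ).totalLeftDerivedCounit Qh (W A)

instance : (DRing.LBaseChange φ ⋙ DRing.restrictD φ).IsLeftDerivedFunctor
    ((Functor.associator _ _ _).inv ≫ Functor.whiskerRight (α φ) (DRing.restrictD φ)) (W A) :=
  isLeftDerivedFunctor_comp (DRing.baseChangeKh φ) (DRing.LBaseChange φ) (α φ) (DRing.restrictD φ)

instance : (DRing.restrictD φ ⋙ DRing.LBaseChange φ).IsRightDerivedFunctor
    (Functor.whiskerRight (β φ) (DRing.LBaseChange φ) ≫ (Functor.associator _ _ _).hom) (W B) :=
  Functor.isRightDerivedFunctor_of_inverts (W B) (DRing.restrictD φ ⋙ DRing.LBaseChange φ)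
    ((Functor.associator _ _ _).symm ≪≫
      Functor.isoWhiskerRight (ModuleCat.restrictScalars.{u} φ).mapDerivedCategoryFactorsh
        (DRing.LBaseChange φ))

/-- Derived base change is left adjoint to restriction of scalars. -/
noncomputable def adj : DRing.LBaseChange φ ⊣ DRing.restrictD φ :=
  (adjK φ).derived (W A) (W B) (α φ) (β φ)

end Groth.Agent.Lib.Helper15.LBCAdj
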