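import Groth.Agent.Lib.Helper15.LDerived
import Mathlib.CategoryTheory.Triangulated.Adjunction
import Mathlib.Algebra.Homology.DerivedCategory.ExactFunctor

/-!
# Triangulated structure on total left derived functors along `Qh`

`ρ : D(R) ⥤ K(R)` is triangulated, hence for every triangulated `F : K(R) ⥤ H` the functor
`ρ ⋙ F ≅ F.totalLeftDerived Qh W` sends distinguished triangles to distinguished triangles.
-/

set_option autoImplicit false
universe u

namespace Groth.Agent.Lib.Helper15.LDerivedTri

open CategoryTheory CategoryTheory.Limits DerivedCategory Pretriangulated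
open Groth.Agent.Lib.Helper15.QhAdj

attribute [local instance] HasDerivedCategory.standard

variable {R : Type u} [CommRing R]

noncomputable instance : (ρ : DA R ⥤ KA R).CommShift ℤ := (adj (R := R)).leftAdjointCommShift ℤ

instance : (adj (R := R)).CommShift ℤ := Adjunction.commShift_of_rightAdjoint (adj (R := R)) ℤ

instance : (ρ : DA R ⥤ KA R).IsTriangulated := (adj (R := R)).isTriangulated_leftAdjoint

section

variable {H : Type*} [Category H] [Preadditive H] [HasZeroObject H] [HasShift H ℤ]
  [∀ n : ℤ, (shiftFunctor H n).Additive] [Pretriangulated H]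
  (F : KA R ⥤ H) [F.CommShift ℤ] [F.IsTriangulated]

/-- The total left derived functor of a triangulated functor sends distinguished triangles to
distinguished triangles (for a suitable third morphism). -/
theorem exists_distTriang (LF : DA R ⥤ H) (e : LF ≅ ρ ⋙ F) (T : Triangle (DA R))
    (hT : T ∈ distTriang (DA R)) :
    ∃ δ : LF.obj T.obj₃ ⟶ (LF.obj T.obj₁)⟦(1 : ℤ)⟧,
      Triangle.mk (LF.map T.mor₁) (LF.map T.mor₂) δ ∈ distTriang H := by
  have h1 : (ρ ⋙ F).mapTriangle.obj T ∈ distTriang H := (ρ ⋙ F).map_distinguished T hT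
  let m3 : (ρ ⋙ F).obj T.obj₃ ⟶ ((ρ ⋙ F).obj T.obj₁)⟦(1 : ℤ)⟧ :=
    ((ρ ⋙ F).mapTriangle.obj T).mor₃
  refine ⟨e.hom.app T.obj₃ ≫ m3 ≫ (e.inv.app T.obj₁)⟦(1 : ℤ)⟧', ?_⟩
  refine isomorphic_distinguished _ h1 _ (Triangle.isoMk _ _ (e.app _) (e.app _) (e.app _)
    ?_ ?_ ?_)
  · exact e.hom.naturality T.mor₁
  · exact e.hom.naturality T.mor₂
  · change (e.hom.app T.obj₃ ≫ m3 ≫ (e.inv.app T.obj₁)⟦(1 : ℤ)⟧') ≫ (e.hom.app T.obj₁)⟦(1 : ℤ)⟧' =
      e.hom.app T.obj₃ ≫ m3
    rw [Category.assoc, Category.assoc, ← Functor.map_comp, Iso.inv_hom_id_app,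
      CategoryTheory.Functor.map_id, Category.comp_id]

end

section BaseChange

variable {A B : Type u} [CommRing A] [CommRing B] (φ : A →+* B)

instance : (DRing.baseChangeKh φ).IsTriangulated := by
  unfold DRing.baseChangeKh
  infer_instance

/-- Derived base change sends distinguished triangles to distinguished triangles. -/
theorem exists_distTriang_LBaseChange [DRing.HasLBaseChange φ] (T : Triangle (DA A))
    (hT : T ∈ distTriang (DA A)) :
    ∃ δ : (DRing.LBaseChange φ).obj T.obj₃ ⟶ ((DRing.LBaseChange φ).obj T.obj₁)⟦(1 : ℤ)⟧,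
      Triangle.mk ((DRing.LBaseChange φ).map T.mor₁) ((DRing.LBaseChange φ).map T.mor₂) δ ∈
        distTriang (DA B) :=
  exists_distTriang (DRing.baseChangeKh φ) (DRing.LBaseChange φ)
    (totalLeftDerivedIso (DRing.baseChangeKh φ)) T hT

end BaseChange

section Tensor

variable (A : Type u) [CommRing A] (M : ModuleCat.{u} A)

instance : (DRing.tensorKh A M).IsTriangulated := by
  unfold DRing.tensorKh
  infer_instance

/-- Derived tensor product with a module sends distinguished triangles to distinguished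
triangles. -/
theorem exists_distTriang_LTensor [DRing.HasLTensor A M] (T : Triangle (DA A))
    (hT : T ∈ distTriang (DA A)) :
    ∃ δ : (DRing.LTensor A M).obj T.obj₃ ⟶ ((DRing.LTensor A M).obj T.obj₁)⟦(1 : ℤ)⟧,
      Triangle.mk ((DRing.LTensor A M).map T.mor₁) ((DRing.LTensor A M).map T.mor₂) δ ∈
        distTriang (DA A) :=
  exists_distTriang (DRing.tensorKh A M) (DRing.LTensor A M)
    (totalLeftDerivedIso (DRing.tensorKh A M)) T hT

end Tensor

end Groth.Agent.Lib.Helper15.LDerivedTri
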