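import Groth.Agent.Lib.Helper15.LBCAdj
import Groth.Agent.Lib.Helper15.LDerivedTri
import Groth.Agent.Lib.Helper15.ExactFunctorD
import Groth.Agent.Lib.Helper84.DerivedT

/-!
# Right t-exactness of derived base change

`LBaseChange φ` sends `D^{≤ n}` to `D^{≤ n}` (via the adjunction with the t-exact `restrictD φ`)
and preserves `m`-quasi-isomorphisms (`IsMQI`).
-/

set_option autoImplicit false
universe w₁ w₂ v₁ v₂ u₁ u₂ u

open CategoryTheory CategoryTheory.Limits CategoryTheory.Pretriangulated DerivedCategory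

namespace Groth.Agent.Lib.Helper15.LBCExact

open Groth.Agent.Lib.Helper15.MQI Groth.Agent.Lib.Helper15.QhAdj

section General

variable {C : Type u₁} [Category.{v₁} C] [Abelian C] [HasDerivedCategory.{w₁} C]

/-- An object is `≤ n` as soon as all its maps to objects `≥ n + 1` vanish. -/
theorem isLE_of_forall_hom_eq_zero (X : DerivedCategory C) (n : ℤ)
    (h : ∀ (Y : DerivedCategory C), Y.IsGE (n + 1) → ∀ f : X ⟶ Y, f = 0) : X.IsLE n := by
  rw [DerivedCategory.isLE_iff]
  intro i hi
  have h1 := Groth.Agent.Lib.Helper84.DerivedT.isIso_homologyMap_truncGEπ X (n + 1) i (by omega)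
  have h2 : (TStructure.t.truncGEπ (n + 1)).app X = 0 := h _ inferInstance _
  rw [h2, Functor.map_zero] at h1
  exact ((isIsoZero_iff_source_target_isZero _ _).1 h1).1

end General

section ExactFunctor

variable {C₁ : Type u₁} [Category.{v₁} C₁] [Abelian C₁] [HasDerivedCategory.{w₁} C₁]
  {C₂ : Type u₂} [Category.{v₂} C₂] [Abelian C₂] [HasDerivedCategory.{w₂} C₂]
  (F : C₁ ⥤ C₂) [F.Additive] [PreservesFiniteLimits F] [PreservesFiniteColimits F]

lemma isGE_map_iff [F.Faithful] (K : CochainComplex C₁ ℤ) (n : ℤ) :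
    CochainComplex.IsGE ((F.mapHomologicalComplex (ComplexShape.up ℤ)).obj K) n ↔ K.IsGE n := by
  rw [CochainComplex.isGE_iff, CochainComplex.isGE_iff]
  exact forall₂_congr fun i _ => ExactFunctorD.exactAt_map_iff F K i

lemma isGE_mapDerivedCategory_iff [F.Faithful] (X : DerivedCategory C₁) (n : ℤ) :
    (F.mapDerivedCategory.obj X).IsGE n ↔ X.IsGE n := by
  obtain ⟨K, ⟨e⟩⟩ : ∃ K : CochainComplex C₁ ℤ, Nonempty (Q.obj K ≅ X) :=
    ⟨_, ⟨(DerivedCategory.Q (C := C₁)).objObjPreimageIso X⟩⟩
  have e' : F.mapDerivedCategory.obj X ≅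
      Q.obj ((F.mapHomologicalComplex (ComplexShape.up ℤ)).obj K) :=
    F.mapDerivedCategory.mapIso e.symm ≪≫ F.mapDerivedCategoryFactors.app K
  constructor
  · intro h
    have h1 : (Q.obj ((F.mapHomologicalComplex (ComplexShape.up ℤ)).obj K)).IsGE n :=
      TStructure.t.isGE_of_iso e' n
    rw [isGE_Q_obj_iff, isGE_map_iff] at h1
    have h2 : (Q.obj K).IsGE n := (isGE_Q_obj_iff K n).2 h1
    exact TStructure.t.isGE_of_iso e n
  · intro h
    have h2 : (Q.obj K).IsGE n := TStructure.t.isGE_of_iso e.symm n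
    rw [isGE_Q_obj_iff] at h2
    have h1 : (Q.obj ((F.mapHomologicalComplex (ComplexShape.up ℤ)).obj K)).IsGE n := by
      rw [isGE_Q_obj_iff, isGE_map_iff]; exact h2
    exact TStructure.t.isGE_of_iso e'.symm n

end ExactFunctor

section BaseChange

attribute [local instance] HasDerivedCategory.standard

variable {A B : Type u} [CommRing A] [CommRing B] (φ : A →+* B)

lemma isGE_restrictD_iff (X : Dual.D B) (n : ℤ) :
    ((DRing.restrictD φ).obj X).IsGE n ↔ X.IsGE n :=
  isGE_mapDerivedCategory_iff (ModuleCat.restrictScalars.{u} φ) X n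

variable [DRing.HasLBaseChange φ]

/-- Derived base change is right t-exact. -/
theorem isLE_LBaseChange (X : Dual.D A) (n : ℤ) [X.IsLE n] :
    ((DRing.LBaseChange φ).obj X).IsLE n := by
  apply isLE_of_forall_hom_eq_zero
  intro Y hY f
  apply ((LBCAdj.adj φ).homEquiv X Y).injective
  have : ((DRing.restrictD φ).obj Y).IsGE (n + 1) := (isGE_restrictD_iff φ Y (n + 1)).2 hY
  rw [TStructure.t.zero_of_isLE_of_isGE ((LBCAdj.adj φ).homEquiv X Y f) n (n + 1) (by omega)
    inferInstance inferInstance]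
  exact (TStructure.t.zero_of_isLE_of_isGE _ n (n + 1) (by omega) inferInstance inferInstance).symm

/-- Derived base change preserves `m`-quasi-isomorphisms. -/
theorem isMQI_LBaseChange {X Y : Dual.D A} (α : X ⟶ Y) (m : ℤ) (h : IsMQI m α) :
    IsMQI m ((DRing.LBaseChange φ).map α) := by
  obtain ⟨Z, g, δ, hT⟩ := distinguished_cocone_triangle α
  have hZ : Z.IsLE (m - 1) := (isMQI_iff_of_distTriang m _ hT).1 h
  obtain ⟨δ', hT'⟩ := LDerivedTri.exists_distTriang_LBaseChange φ _ hT
  exact (isMQI_iff_of_distTriang m _ hT').2 (isLE_LBaseChange φ Z (m - 1))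

end BaseChange

end Groth.Agent.Lib.Helper15.LBCExact
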