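import Groth.Agent.Lib.Helper15.LBCAdj
import Groth.Agent.Lib.Helper15.PseudoCohRes
import Groth.Agent.Lib.Helper84.FlatBC

/-!
# Derived base change along a flat map, and composition of derived base changes (helper15)

* `lbcFlatIso φ : LBaseChange φ ≅ FlatBC.bc φ` when extension of scalars along `φ` is exact.
* `lbcComp φ ψ : LBaseChange φ ⋙ LBaseChange ψ ≅ LBaseChange (ψ.comp φ)`.
* `lbcOfEq : φ = φ' → LBaseChange φ ≅ LBaseChange φ'`.
-/

set_option autoImplicit false
universe u

namespace Groth.Agent.Lib.Helper15.LBCFlat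

open CategoryTheory CategoryTheory.Limits DerivedCategory
open Groth.Agent.Lib.Helper15.QhAdj Groth.Agent.Lib.Helper15.LBCAdj Groth.Agent.Lib.Helper84
  Groth.Agent.Lib.Helper15.PseudoCohRes

attribute [local instance] HasDerivedCategory.standard

variable {A B C : Type u} [CommRing A] [CommRing B] [CommRing C] (φ : A →+* B)

section Flat

variable [PreservesFiniteLimits (FlatBC.ext φ)]

instance : (FlatBC.bc φ).IsLeftDerivedFunctor
    (ModuleCat.extendScalars.{u, u, u} φ).mapDerivedCategoryFactorsh.hom (W A) :=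
  Functor.isLeftDerivedFunctor_of_inverts (W A) (FlatBC.bc φ)
    (ModuleCat.extendScalars.{u, u, u} φ).mapDerivedCategoryFactorsh

/-- for a flat ring map, the derived base change is the exact base change -/
noncomputable def lbcFlatIso [DRing.HasLBaseChange φ] : DRing.LBaseChange φ ≅ FlatBC.bc φ :=
  Functor.leftDerivedUnique (FlatBC.bc φ) (DRing.LBaseChange φ) (α φ)
    (ModuleCat.extendScalars.{u, u, u} φ).mapDerivedCategoryFactorsh.hom (W A)

end Flat

/-- derived base change along equal ring maps -/
noncomputable def lbcOfEq {φ φ' : A →+* B} (h : φ = φ') [DRing.HasLBaseChange φ]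
    [DRing.HasLBaseChange φ'] : DRing.LBaseChange φ ≅ DRing.LBaseChange φ' := by
  subst h
  exact Iso.refl _

/-- composition of derived base changes -/
noncomputable def lbcComp (ψ : B →+* C) [DRing.HasLBaseChange φ] [DRing.HasLBaseChange ψ]
    [DRing.HasLBaseChange (ψ.comp φ)] :
    DRing.LBaseChange φ ⋙ DRing.LBaseChange ψ ≅ DRing.LBaseChange (ψ.comp φ) :=
  Adjunction.leftAdjointUniq
    (((LBCAdj.adj φ).comp (LBCAdj.adj ψ)).ofNatIsoRight (restrictDComp φ ψ))
    (LBCAdj.adj (ψ.comp φ))

end Groth.Agent.Lib.Helper15.LBCFlat
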