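import Groth.Agent.Lib.Helper15.PseudoCohBC
import Groth.Agent.Lib.Helper15.KProjRes

/-!
# Derived base change along `A → A/(f)` for a nonzerodivisor `f` (helper15)

`koszul_triangle`: for `φ : A → B` surjective with kernel generated by a nonzerodivisor `f` and
`L ∈ D(A)` there is a distinguished triangle `L --f--> L → res_φ (L ⊗^L_A B) → L[1]`.
-/

set_option autoImplicit false
universe u

open CategoryTheory CategoryTheory.Limits CategoryTheory.Pretriangulated DerivedCategory
  MonoidalCategory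

attribute [local instance] HasDerivedCategory.standard

namespace Groth.Agent.Lib.Helper15.LBCKoszul

open DRing Groth.Agent.Lib.Helper84 Groth.Agent.Lib.Helper15.MQI
  Groth.Agent.Lib.Helper15.PseudoCoh Groth.Agent.Lib.Helper15.PseudoCohRes Groth.Agent.Lib.Helper43
  Groth.Agent.Lib.Helper15.PseudoCohTensor Groth.Agent.Lib.Helper15.PseudoCohFinite
  Groth.Agent.Lib.Helper15.PseudoCohBC

variable {A B : Type u} [CommRing A] [CommRing B] (φ : A →+* B)

/-- the short complex `A --f--> A --φ--> B` of `A`-modules -/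
noncomputable abbrev sc (f : A) (hker : RingHom.ker φ = Ideal.span {f}) :
    ShortComplex (ModuleCat.{u} A) :=
  ModuleCat.shortComplexOfCompEqZero (LinearMap.mulLeft A f)
    ({ toFun := fun a => (φ a : B)
       map_add' := fun a b => map_add _ a b
       map_smul' := fun a b => by
        change φ (a * b) = _
        rw [map_mul]
        rfl } : A →ₗ[A] ((ModuleCat.restrictScalars.{u} φ).obj (ModuleCat.of B B)))
    (by
      ext
      change φ (f * 1) = 0
      rw [mul_one, ← RingHom.mem_ker, hker]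
      exact Ideal.mem_span_singleton_self f)

lemma sc_shortExact (hφ : Function.Surjective φ) (f : A) (hf : f ∈ nonZeroDivisors A)
    (hker : RingHom.ker φ = Ideal.span {f}) : (sc φ f hker).ShortExact := by
  refine ModuleCat.shortComplex_shortExact _ ?_ ?_ ?_
  · intro x
    change φ x = 0 ↔ ∃ a : A, f * a = x
    rw [← RingHom.mem_ker, hker, Ideal.mem_span_singleton']
    constructor
    · rintro ⟨a, rfl⟩
      exact ⟨a, mul_comm _ _⟩
    · rintro ⟨a, rfl⟩
      exact ⟨a, mul_comm _ _⟩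
  · intro x y hxy
    exact (mul_cancel_left_mem_nonZeroDivisors hf).1 hxy
  · exact hφ

/-- multiplication by `f` on `A ⊗ X` corresponds to multiplication by `f` on `X` -/
lemma mulLeft_whiskerRight (f : A) (X : ModuleCat.{u} A) :
    (ModuleCat.ofHom (LinearMap.mulLeft A f) : ModuleCat.of A A ⟶ ModuleCat.of A A) ▷ X =
      (λ_ X).hom ≫ (f • 𝟙 X) ≫ (λ_ X).inv := by
  rw [← cancel_mono (λ_ X).hom]
  simp only [Category.assoc, Iso.inv_hom_id, Category.comp_id]
  ext : 1
  apply TensorProduct.ext'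
  intro a x
  change (f * a) • x = f • (a • x)
  rw [mul_smul]

/-- the same on complexes -/
lemma tF_map_mulLeft (f : A) (F : Cx A) :
    (tF F).map (ModuleCat.ofHom (LinearMap.mulLeft A f) : ModuleCat.of A A ⟶ ModuleCat.of A A) =
      (tFUnit F).hom ≫ (f • 𝟙 F) ≫ (tFUnit F).inv := by
  apply HomologicalComplex.hom_ext
  intro i
  exact mulLeft_whiskerRight f (F.X i)

/-- **Koszul triangle**: for `φ : A → B` surjective with kernel generated by a nonzerodivisor `f`,
`L --f--> L → res_φ (L ⊗^L_A B) → L[1]` is distinguished. -/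
theorem koszul_triangle (hφ : Function.Surjective φ) (f : A) (hf : f ∈ nonZeroDivisors A)
    (hker : RingHom.ker φ = Ideal.span {f}) (L : Dual.D A) :
    ∃ (g : L ⟶ (restrictD φ).obj ((LBaseChange φ).obj L))
      (δ : (restrictD φ).obj ((LBaseChange φ).obj L) ⟶ L⟦(1 : ℤ)⟧),
      Triangle.mk (f • 𝟙 L) g δ ∈ distTriang (Dual.D A) := by
  let M : Cx A := Q.objPreimage L
  let eL : toD M ≅ L := Q.objObjPreimageIso L
  obtain ⟨P, π, hP, hπ, hKF, hfl, -⟩ := KProjRes.exists_kprojective_resolution M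
  haveI := hπ
  let e : toD P ≅ L := asIso (Q.map π) ≪≫ eL
  have hS := sc_shortExact φ hφ f hf hker
  have hT := triangleOfSES_distinguished (shortExact_tF P hfl (sc φ f hker) hS)
  -- the identifications
  let u : toD ((tF P).obj (ModuleCat.of A A)) ≅ L := Q.mapIso (tFUnit P) ≪≫ e
  have e1 : (LBaseChange φ).obj L ≅ toD (LDerived.extCx φ P) :=
    (LBaseChange φ).mapIso e.symm ≪≫ LBCKFlat.lbcIsoOfIsKFlat φ P hKF
  have e2 : (restrictD φ).obj (toD (LDerived.extCx φ P)) ≅
      toD ((restrictCx φ).obj (LDerived.extCx φ P)) := restrictDQIso φ _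
  have e3 : (restrictCx φ).obj (LDerived.extCx φ P) ≅
      (tF P).obj ((ModuleCat.restrictScalars.{u} φ).obj (ModuleCat.of B B)) :=
    (Functor.mapHomologicalComplexCompIso (extRestrictTensorIso φ) (ComplexShape.up ℤ)).app P
  let v : toD ((tF P).obj ((ModuleCat.restrictScalars.{u} φ).obj (ModuleCat.of B B))) ≅
      (restrictD φ).obj ((LBaseChange φ).obj L) :=
    Q.mapIso e3.symm ≪≫ e2.symm ≪≫ (restrictD φ).mapIso e1.symm
  refine ⟨u.inv ≫ Q.map ((tF P).map (sc φ f hker).g) ≫ v.hom,
    v.inv ≫ triangleOfSESδ (shortExact_tF P hfl (sc φ f hker) hS) ≫ u.hom⟦(1 : ℤ)⟧', ?_⟩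
  have key : Q.map ((tF P).map (sc φ f hker).f) = u.hom ≫ (f • 𝟙 L) ≫ u.inv := by
    have h1 : (tF P).map (sc φ f hker).f = (tFUnit P).hom ≫ (f • 𝟙 P) ≫ (tFUnit P).inv :=
      tF_map_mulLeft f P
    have h2 : Q.map (f • 𝟙 P) = f • 𝟙 (toD P) := by
      rw [Functor.map_smul, CategoryTheory.Functor.map_id]
    have h3 : Q.map ((tF P).map (sc φ f hker).f) =
        Q.map (tFUnit P).hom ≫ (f • 𝟙 (toD P)) ≫ Q.map (tFUnit P).inv := by
      rw [h1, Functor.map_comp, Functor.map_comp, h2]
    rw [h3]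
    simp only [u, Iso.trans_hom, Iso.trans_inv, Functor.mapIso_hom, Functor.mapIso_inv,
      Category.assoc, Linear.smul_comp, Linear.comp_smul, Category.id_comp, Category.comp_id,
      Iso.hom_inv_id_assoc]
  refine isomorphic_distinguished _ hT _ (Triangle.isoMk _ _ u.symm u.symm v.symm ?_ ?_ ?_)
  · -- comm₁
    change (f • 𝟙 L) ≫ u.inv = u.inv ≫ Q.map ((tF P).map (sc φ f hker).f)
    rw [key, Iso.inv_hom_id_assoc]
  · -- comm₂
    change (u.inv ≫ Q.map ((tF P).map (sc φ f hker).g) ≫ v.hom) ≫ v.inv =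
      u.inv ≫ Q.map ((tF P).map (sc φ f hker).g)
    simp only [Category.assoc, Iso.hom_inv_id, Category.comp_id]
  · -- comm₃
    change (v.inv ≫ triangleOfSESδ (shortExact_tF P hfl (sc φ f hker) hS) ≫ u.hom⟦(1 : ℤ)⟧') ≫
        u.inv⟦(1 : ℤ)⟧' = v.inv ≫ triangleOfSESδ (shortExact_tF P hfl (sc φ f hker) hS)
    simp only [Category.assoc, ← Functor.map_comp, Iso.hom_inv_id, CategoryTheory.Functor.map_id,
      Category.comp_id]

end Groth.Agent.Lib.Helper15.LBCKoszul
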