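import Mathlib

/-!
# helper15: the inductive step for lifting complexes (Stacks 15.75)

Pure module theory.  `Pc` is a class of `R`-modules, `I` an ideal.  Given the "next" differential
`D' : B → B'` with kernel `Z` in `Pc`, a new term `A = A₁ × A₂` with a prescribed map `p : A₂ → B`
and reductions modulo `I`, we construct `ψ : A₁ → B` such that `D = ψ.coprod p` is onto `Z`.
-/

set_option autoImplicit false
universe u

open CategoryTheory

namespace Groth.Agent.Lib.Helper15.LiftCore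

variable {R : Type u} [CommRing R] (I : Ideal R)

/-- The three invariants on a map `D : A → B` (with reductions `πA`, and `cA` the reduced map). -/
structure Inv (Pc : ObjectProperty (ModuleCat.{u} R))
    {A B CA CB : Type u} [AddCommGroup A] [Module R A] [AddCommGroup B] [Module R B]
    [AddCommGroup CA] [Module R CA] [AddCommGroup CB] [Module R CB]
    (πA : A →ₗ[R] CA) (πB : B →ₗ[R] CB) (cA : CA →ₗ[R] CB) (D : A →ₗ[R] B) : Prop where
  pc : Pc (ModuleCat.of R (LinearMap.ker D))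
  map_ker : (LinearMap.ker D).map πA = LinearMap.ker cA
  inf_le : I • (⊤ : Submodule R A) ⊓ LinearMap.ker D ≤ I • LinearMap.ker D
  comm : πB ∘ₗ D = cA ∘ₗ πA

variable (Pc : ObjectProperty (ModuleCat.{u} R)) [Pc.IsClosedUnderIsomorphisms]

theorem step
    (h1 : ∀ X : ModuleCat.{u} R, Pc X → Module.Projective R X)
    (h2 : ∀ X Y : ModuleCat.{u} R, Pc X → Pc (ModuleCat.of R (X × Y)) → Pc Y)
    (h3 : ∀ (X Y : ModuleCat.{u} R) (f : X ⟶ Y), Pc X → Pc Y →
      LinearMap.range f.hom ⊔ I • (⊤ : Submodule R Y) = ⊤ → Function.Surjective f.hom)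
    {A₁ A₂ B B' CA CB CB' : Type u}
    [AddCommGroup A₁] [Module R A₁] [AddCommGroup A₂] [Module R A₂]
    [AddCommGroup B] [Module R B] [AddCommGroup B'] [Module R B']
    [AddCommGroup CA] [Module R CA] [AddCommGroup CB] [Module R CB]
    [AddCommGroup CB'] [Module R CB']
    [Module.Projective R A₁] (hA : Pc (ModuleCat.of R (A₁ × A₂)))
    (p : A₂ →ₗ[R] B) (D' : B →ₗ[R] B') (hpD : D' ∘ₗ p = 0)
    (πA : A₁ × A₂ →ₗ[R] CA) (πB : B →ₗ[R] CB) (πB' : B' →ₗ[R] CB')
    (cA : CA →ₗ[R] CB) (cB : CB →ₗ[R] CB')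
    (hex : ∀ z, cB z = 0 → ∃ w, cA w = z) (hcc : cB ∘ₗ cA = 0)
    (hπAs : Function.Surjective πA) (hπAk : LinearMap.ker πA = I • ⊤)
    (hπBk : LinearMap.ker πB = I • ⊤)
    (hcompat : ∀ y, πB (p y) = cA (πA (0, y)))
    (hD' : Inv I Pc πB πB' cB D') :
    ∃ ψ : A₁ →ₗ[R] B, Inv I Pc πA πB cA (ψ.coprod p) ∧
      LinearMap.range (ψ.coprod p) = LinearMap.ker D' := by
  classical
  set Z := LinearMap.ker D' with hZ
  -- the reduction `Z → ker cB`
  have hπZ : ∀ z : Z, πB z ∈ LinearMap.ker cB := fun z => by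
    rw [← hD'.map_ker]; exact Submodule.mem_map_of_mem z.2
  let πZ : Z →ₗ[R] LinearMap.ker cB := LinearMap.codRestrict _ (πB ∘ₗ Z.subtype) hπZ
  have hπZs : Function.Surjective πZ := by
    rintro ⟨e, he⟩
    rw [← hD'.map_ker] at he
    obtain ⟨z, hz, rfl⟩ := he
    exact ⟨⟨z, hz⟩, rfl⟩
  let f : A₁ →ₗ[R] LinearMap.ker cB :=
    LinearMap.codRestrict _ (cA ∘ₗ πA ∘ₗ LinearMap.inl R A₁ A₂) (fun x => by
      have := LinearMap.congr_fun hcc (πA (x, 0))
      simpa using this)
  obtain ⟨ψ₀, hψ₀⟩ := Module.projective_lifting_property πZ f hπZs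
  have hψ₀' : ∀ x, πB (ψ₀ x) = cA (πA (x, 0)) := fun x => by
    have := congrArg Subtype.val (LinearMap.congr_fun hψ₀ x)
    simpa [πZ, f] using this
  refine ⟨Z.subtype ∘ₗ ψ₀, ?_⟩
  set D := (Z.subtype ∘ₗ ψ₀).coprod p with hD
  have hDZ : ∀ a, D a ∈ Z := by
    rintro ⟨x, y⟩
    have h2' : D' (p y) = 0 := LinearMap.congr_fun hpD y
    have h1' : D' (ψ₀ x) = 0 := (ψ₀ x).2
    simp [hD, hZ, LinearMap.coprod_apply, h1', h2']
  have hcomm : πB ∘ₗ D = cA ∘ₗ πA := by
    apply LinearMap.ext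
    rintro ⟨x, y⟩
    have : ((x, y) : A₁ × A₂) = (x, 0) + (0, y) := by simp
    simp only [hD, LinearMap.comp_apply, LinearMap.coprod_apply, Submodule.subtype_apply, map_add,
      hψ₀', hcompat]
    rw [this, map_add, map_add]
  let D₀ : A₁ × A₂ →ₗ[R] Z := LinearMap.codRestrict Z D hDZ
  have hπBD : ∀ a, πB (D a) = cA (πA a) := fun a => LinearMap.congr_fun hcomm a
  -- surjectivity of `D₀` by (3)
  have hD₀s : Function.Surjective D₀ := by
    have := h3 (ModuleCat.of R (A₁ × A₂)) (ModuleCat.of R Z) (ModuleCat.ofHom D₀) hA hD'.pc ?_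
    · simpa using this
    · rw [eq_top_iff]
      rintro z -
      obtain ⟨w, hw⟩ := hex (πB z) (hπZ z)
      obtain ⟨a, rfl⟩ := hπAs w
      have hmem : ((z - D₀ a : Z) : B) ∈ I • Z := by
        apply hD'.inf_le
        refine Submodule.mem_inf.2 ⟨?_, (z - D₀ a).2⟩
        have h0 : ((z - D₀ a : Z) : B) ∈ LinearMap.ker πB := by
          simp [LinearMap.mem_ker, D₀, hπBD, hw]
        rwa [hπBk] at h0
      rw [← Submodule.mem_smul_top_iff] at hmem
      have hz : z = D₀ a + (z - D₀ a) := by abel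
      rw [hz]
      exact Submodule.add_mem_sup (by simp) hmem
  have hrange : LinearMap.range D = Z := by
    apply le_antisymm
    · rintro _ ⟨a, rfl⟩; exact hDZ a
    · intro z hz
      obtain ⟨a, ha⟩ := hD₀s ⟨z, hz⟩
      exact ⟨a, congrArg Subtype.val ha⟩
  have hker : LinearMap.ker D₀ = LinearMap.ker D := LinearMap.ker_codRestrict _ _ _
  -- splitting
  haveI : Module.Projective R Z := h1 _ hD'.pc
  obtain ⟨s, hs⟩ := Module.projective_lifting_property D₀ LinearMap.id hD₀s
  have hs' : ∀ z, D₀ (s z) = z := fun z => LinearMap.congr_fun hs z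
  -- projector onto the kernel
  let pr : A₁ × A₂ →ₗ[R] A₁ × A₂ := LinearMap.id - s ∘ₗ D₀
  have hpr_mem : ∀ a, pr a ∈ LinearMap.ker D := fun a => by
    rw [← hker, LinearMap.mem_ker]
    simp [pr, hs']
  have hpr_id : ∀ a ∈ LinearMap.ker D, pr a = a := fun a ha => by
    rw [← hker, LinearMap.mem_ker] at ha
    simp [pr, ha]
  refine ⟨⟨?_, ?_, ?_, hcomm⟩, hrange⟩
  · -- Pc (ker D)
    let e : (A₁ × A₂) ≃ₗ[R] (Z × LinearMap.ker D₀) :=
      LinearEquiv.ofLinear
        (LinearMap.prod D₀ (LinearMap.codRestrict _ pr (fun a => by rw [hker]; exact hpr_mem a)))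
        (LinearMap.coprod s (Submodule.subtype _))
        (by
          apply LinearMap.ext
          rintro ⟨z, k⟩
          have hk : D₀ k = 0 := k.2
          apply Prod.ext
          · simp [hs', hk]
          · apply Subtype.ext
            simp [pr, hs', hk])
        (by
          apply LinearMap.ext
          intro a
          simp [pr])
    have hprod : Pc (ModuleCat.of R (Z × LinearMap.ker D₀)) :=
      Pc.prop_of_iso e.toModuleIso hA
    have := h2 (ModuleCat.of R Z) (ModuleCat.of R (LinearMap.ker D₀)) hD'.pc hprod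
    rwa [hker] at this
  · -- map_ker
    apply le_antisymm
    · rintro _ ⟨a, ha, rfl⟩
      rw [LinearMap.mem_ker, ← hπBD, (LinearMap.mem_ker.1 ha), map_zero]
    · intro e he
      obtain ⟨a, rfl⟩ := hπAs e
      have h0 : πB (D a) = 0 := by rw [hπBD]; exact he
      have hmem : D a ∈ I • Z := by
        apply hD'.inf_le
        refine Submodule.mem_inf.2 ⟨?_, hDZ a⟩
        rw [← hπBk]; exact h0
      rw [← hrange, LinearMap.range_eq_map, ← Submodule.map_smul''] at hmem
      obtain ⟨a₁, ha₁, ha₁'⟩ := hmem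
      refine ⟨a - a₁, ?_, ?_⟩
      · simp [LinearMap.mem_ker, ha₁']
      · rw [← hπAk] at ha₁
        simp [LinearMap.mem_ker.1 ha₁]
  · -- inf_le
    rintro a ⟨ha₁, ha₂⟩
    have : pr a ∈ Submodule.map pr (I • ⊤) := Submodule.mem_map_of_mem ha₁
    rw [Submodule.map_smul'', hpr_id a ha₂] at this
    refine Submodule.smul_mono le_rfl ?_ this
    rintro _ ⟨b, -, rfl⟩
    exact hpr_mem b

end Groth.Agent.Lib.Helper15.LiftCore
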