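import Mathlib
import Groth.Agent.Lib.Helper15.LiftCore

/-!
# helper15: the engine for lifting complexes (Stacks 15.75)

Data: a family of modules `F j` (the "free part"), a cochain complex `G` (the "prescribed part"), a
reduction complex `C` (think `T/IT`), reductions `π j : F j × G.X j → C.X j`.  Output: maps
`ψ j : F j → F (j+1) × G.X (j+1)` such that `D j = (ψ j).coprod (inr ∘ G.d)` is an exact complex
lifting `C`.
-/

set_option autoImplicit false
universe u

open CategoryTheory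

namespace Groth.Agent.Lib.Helper15

structure LiftData (R : Type u) [CommRing R] (I : Ideal R)
    (Pc : ObjectProperty (ModuleCat.{u} R)) where
  F : ℤ → ModuleCat.{u} R
  G : CochainComplex (ModuleCat.{u} R) ℤ
  C : CochainComplex (ModuleCat.{u} R) ℤ
  π : ∀ j, (F j × G.X j) →ₗ[R] C.X j
  b : ℤ
  iso : Pc.IsClosedUnderIsomorphisms
  h1 : ∀ X : ModuleCat.{u} R, Pc X → Module.Projective R X
  h2 : ∀ X Y : ModuleCat.{u} R, Pc X → Pc (ModuleCat.of R (X × Y)) → Pc Y
  h3 : ∀ (X Y : ModuleCat.{u} R) (f : X ⟶ Y), Pc X → Pc Y →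
      LinearMap.range f.hom ⊔ I • (⊤ : Submodule R Y) = ⊤ → Function.Surjective f.hom
  hFp : ∀ j, Module.Projective R (F j)
  hT : ∀ j, Pc (ModuleCat.of R (F j × G.X j))
  hC : ∀ j (z : C.X (j + 1)), (C.d (j + 1) (j + 1 + 1)).hom z = 0 →
    ∃ w : C.X j, (C.d j (j + 1)).hom w = z
  hπs : ∀ j, Function.Surjective (π j)
  hπk : ∀ j, LinearMap.ker (π j) = I • ⊤
  hcompat : ∀ j (y : G.X j),
    π (j + 1) (0, (G.d j (j + 1)).hom y) = (C.d j (j + 1)).hom (π j (0, y))
  hb : ∀ j, b < j → Subsingleton (F j × G.X j)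

namespace LiftData

variable {R : Type u} [CommRing R] {I : Ideal R} {Pc : ObjectProperty (ModuleCat.{u} R)}
  (L : LiftData R I Pc)

/-- The terms of the total complex. -/
abbrev T (j : ℤ) : Type u := L.F j × L.G.X j

/-- The prescribed part of the differential. -/
noncomputable def pre (j : ℤ) : L.G.X j →ₗ[R] L.T (j + 1) :=
  LinearMap.inr R (L.F (j + 1)) (L.G.X (j + 1)) ∘ₗ (L.G.d j (j + 1)).hom

/-- The differential attached to `ψ`. -/
noncomputable def Dm (j : ℤ) (ψ : L.F j →ₗ[R] L.T (j + 1)) : L.T j →ₗ[R] L.T (j + 1) :=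
  ψ.coprod (L.pre j)

/-- The invariant. -/
def Good (j : ℤ) (ψ : L.F j →ₗ[R] L.T (j + 1)) : Prop :=
  LiftCore.Inv I Pc (L.π j) (L.π (j + 1)) (L.C.d j (j + 1)).hom (L.Dm j ψ)

theorem Dm_pre (j : ℤ) (ψ' : L.F (j + 1) →ₗ[R] L.T (j + 1 + 1)) :
    L.Dm (j + 1) ψ' ∘ₗ L.pre j = 0 := by
  apply LinearMap.ext
  intro y
  have : (L.G.d (j + 1) (j + 1 + 1)).hom ((L.G.d j (j + 1)).hom y) = 0 := by
    have := L.G.d_comp_d j (j + 1) (j + 1 + 1)
    exact congrArg (fun f => f.hom y) this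
  simp [Dm, pre, LinearMap.coprod_apply, this]

theorem step (j : ℤ) (ψ' : L.F (j + 1) →ₗ[R] L.T (j + 1 + 1)) (hψ' : L.Good (j + 1) ψ') :
    ∃ ψ : L.F j →ₗ[R] L.T (j + 1), L.Good j ψ ∧
      LinearMap.range (L.Dm j ψ) = LinearMap.ker (L.Dm (j + 1) ψ') := by
  haveI := L.iso
  haveI := L.hFp j
  exact LiftCore.step I Pc L.h1 L.h2 L.h3 (L.hT j) (L.pre j) (L.Dm (j + 1) ψ') (L.Dm_pre j ψ')
    (L.π j) (L.π (j + 1)) (L.π (j + 1 + 1)) (L.C.d j (j + 1)).hom (L.C.d (j + 1) (j + 1 + 1)).hom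
    (L.hC j)
    (by
      apply LinearMap.ext
      intro w
      exact congrArg (fun f => f.hom w) (L.C.d_comp_d j (j + 1) (j + 1 + 1)))
    (L.hπs j) (L.hπk j) (L.hπk (j + 1))
    (fun y => by simpa [pre] using L.hcompat j y) hψ'

theorem subsingleton_C (j : ℤ) (hj : L.b < j) : Subsingleton (L.C.X j) := by
  haveI := L.hb j hj
  exact (L.hπs j).subsingleton

theorem good_zero (j : ℤ) (hj : L.b ≤ j) : L.Good j 0 := by
  haveI := L.iso
  haveI : Subsingleton (L.T (j + 1)) := L.hb (j + 1) (by omega)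
  haveI : Subsingleton (L.C.X (j + 1)) := L.subsingleton_C (j + 1) (by omega)
  have hD : L.Dm j 0 = 0 := Subsingleton.elim _ _
  have hk : LinearMap.ker (L.Dm j 0) = ⊤ := by rw [hD, LinearMap.ker_zero]
  refine ⟨?_, ?_, ?_, Subsingleton.elim _ _⟩
  · rw [hk]
    exact Pc.prop_of_iso (Submodule.topEquiv (R := R) (M := L.T j)).symm.toModuleIso (L.hT j)
  · rw [hk, Submodule.map_top, LinearMap.range_eq_top.2 (L.hπs j)]
    have : (L.C.d j (j + 1)).hom = 0 := Subsingleton.elim _ _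
    rw [this, LinearMap.ker_zero]
  · rw [hk]; simp

/-- The coherent family of lifts, by well-founded recursion downwards from `b`. -/
noncomputable def psi (j : ℤ) : {ψ : L.F j →ₗ[R] L.T (j + 1) // L.Good j ψ} :=
  if h : L.b ≤ j then ⟨0, L.good_zero j h⟩
  else ⟨Classical.choose (L.step j (psi (j + 1)).1 (psi (j + 1)).2),
    (Classical.choose_spec (L.step j (psi (j + 1)).1 (psi (j + 1)).2)).1⟩
termination_by (L.b - j).toNat
decreasing_by omega

/-- The differential of the total complex. -/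
noncomputable def D (j : ℤ) : L.T j →ₗ[R] L.T (j + 1) := L.Dm j (L.psi j).1

theorem good (j : ℤ) : LiftCore.Inv I Pc (L.π j) (L.π (j + 1)) (L.C.d j (j + 1)).hom (L.D j) :=
  (L.psi j).2

theorem range_D (j : ℤ) : LinearMap.range (L.D j) = LinearMap.ker (L.D (j + 1)) := by
  by_cases h : L.b ≤ j
  · haveI : Subsingleton (L.T (j + 1)) := L.hb (j + 1) (by omega)
    haveI : Subsingleton (Submodule R (L.T (j + 1))) := Submodule.subsingleton_iff R |>.2 inferInstance
    exact Subsingleton.elim _ _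
  · unfold D
    rw [psi]
    simp only [dif_neg h]
    exact (Classical.choose_spec (L.step j (L.psi (j + 1)).1 (L.psi (j + 1)).2)).2

theorem D_comp_D (j : ℤ) : L.D (j + 1) ∘ₗ L.D j = 0 := by
  apply LinearMap.ext
  intro a
  have : L.D j a ∈ LinearMap.ker (L.D (j + 1)) := by
    rw [← L.range_D j]; exact LinearMap.mem_range_self _ a
  simpa using this

theorem D_comm (j : ℤ) : L.π (j + 1) ∘ₗ L.D j = (L.C.d j (j + 1)).hom ∘ₗ L.π j :=
  (L.good j).comm

theorem D_inr (j : ℤ) (y : L.G.X j) :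
    L.D j (0, y) = (0, (L.G.d j (j + 1)).hom y) := by
  simp [D, Dm, pre, LinearMap.coprod_apply]

end LiftData

end Groth.Agent.Lib.Helper15
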