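import Mathlib
import Groth.Agent.Lib.Helper15.LiftEngine

/-!
# helper15: assembling the output of the lifting engine into complexes
-/

set_option autoImplicit false
universe u

open CategoryTheory CategoryTheory.Limits CategoryTheory.Pretriangulated DerivedCategory

attribute [local instance] HasDerivedCategory.standard

namespace Groth.Agent.Lib.Helper15

namespace LiftData

variable {R : Type u} [CommRing R] {I : Ideal R} {Pc : ObjectProperty (ModuleCat.{u} R)}
  (L : LiftData R I Pc)

/-- The differential on the free part. -/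
noncomputable def d (j : ℤ) : L.F j →ₗ[R] L.F (j + 1) :=
  LinearMap.fst R (L.F (j + 1)) (L.G.X (j + 1)) ∘ₗ (L.psi j).1

theorem fst_D (j : ℤ) (a : L.T j) : (L.D j a).1 = L.d j a.1 := by
  simp [D, Dm, pre, d, LinearMap.coprod_apply]

theorem d_comp_d (j : ℤ) : L.d (j + 1) ∘ₗ L.d j = 0 := by
  apply LinearMap.ext
  intro x
  have h := LinearMap.congr_fun (L.D_comp_D j) (x, 0)
  have h' := congrArg Prod.fst h
  simpa [fst_D] using h'

/-- The lifted complex on the free part. -/
noncomputable def P : CochainComplex (ModuleCat.{u} R) ℤ :=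
  CochainComplex.of L.F (fun j => ModuleCat.ofHom (L.d j)) (fun j => by
    rw [← ModuleCat.ofHom_comp, L.d_comp_d j]; rfl)

/-- The total (acyclic) complex. -/
noncomputable def Tc : CochainComplex (ModuleCat.{u} R) ℤ :=
  CochainComplex.of (fun j => ModuleCat.of R (L.T j)) (fun j => ModuleCat.ofHom (L.D j))
    (fun j => by rw [← ModuleCat.ofHom_comp, L.D_comp_D j]; rfl)

@[simp] theorem P_d (j : ℤ) : L.P.d j (j + 1) = ModuleCat.ofHom (L.d j) := by
  simp [P, CochainComplex.of_d]

@[simp] theorem Tc_d (j : ℤ) : L.Tc.d j (j + 1) = ModuleCat.ofHom (L.D j) := by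
  simp [Tc, CochainComplex.of_d]

theorem exactAt_iff_function_exact (C : CochainComplex (ModuleCat.{u} R) ℤ) (i : ℤ) :
    C.ExactAt (i + 1) ↔ Function.Exact (C.d i (i + 1)).hom (C.d (i + 1) (i + 1 + 1)).hom := by
  rw [C.exactAt_iff' i (i + 1) (i + 1 + 1) (by simp) (by simp)]
  exact ShortComplex.ShortExact.moduleCat_exact_iff_function_exact _

theorem acyclic_of_forall (C : CochainComplex (ModuleCat.{u} R) ℤ)
    (h : ∀ i, Function.Exact (C.d i (i + 1)).hom (C.d (i + 1) (i + 1 + 1)).hom) : C.Acyclic := by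
  intro i
  obtain ⟨j, rfl⟩ : ∃ j, i = j + 1 := ⟨i - 1, by ring⟩
  exact (exactAt_iff_function_exact C j).2 (h j)

theorem Tc_acyclic : L.Tc.Acyclic := by
  apply acyclic_of_forall
  intro j
  rw [L.Tc_d, L.Tc_d]
  intro a
  change L.D (j + 1) a = 0 ↔ a ∈ Set.range (L.D j)
  rw [← LinearMap.mem_ker, ← L.range_D j]
  rfl

/-- If the prescribed part vanishes, the free part is acyclic. -/
theorem P_acyclic (hG : ∀ j, Subsingleton (L.G.X j)) : L.P.Acyclic := by
  apply acyclic_of_forall
  intro j
  rw [L.P_d, L.P_d]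
  intro x
  change L.d (j + 1) x = 0 ↔ x ∈ Set.range (L.d j)
  haveI := hG (j + 1)
  haveI := hG (j + 1 + 1)
  constructor
  · intro hx
    have h0 : L.D (j + 1) (x, 0) = 0 := by
      apply Prod.ext
      · rw [L.fst_D]; exact hx
      · exact Subsingleton.elim _ _
    have : (x, (0 : L.G.X (j + 1))) ∈ LinearMap.range (L.D j) := by
      rw [L.range_D j]; exact h0
    obtain ⟨a, ha⟩ := this
    refine ⟨a.1, ?_⟩
    have := congrArg Prod.fst ha
    rw [L.fst_D] at this
    exact this
  · rintro ⟨x', rfl⟩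
    exact LinearMap.congr_fun (L.d_comp_d j) x'

/-- The inclusion of the prescribed part. -/
noncomputable def ι : L.G ⟶ L.Tc where
  f j := ModuleCat.ofHom (LinearMap.inr R (L.F j) (L.G.X j))
  comm' := by
    rintro i _ rfl
    rw [L.Tc_d]
    apply ModuleCat.hom_ext
    apply LinearMap.ext
    intro y
    change L.D i (0, y) = (0, (L.G.d i (i + 1)).hom y)
    exact L.D_inr i y

/-- The projection onto the free part. -/
noncomputable def ρ : L.Tc ⟶ L.P where
  f j := ModuleCat.ofHom (LinearMap.fst R (L.F j) (L.G.X j))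
  comm' := by
    rintro i _ rfl
    rw [L.Tc_d, L.P_d]
    apply ModuleCat.hom_ext
    apply LinearMap.ext
    intro a
    change L.d i a.1 = (L.D i a).1
    exact (L.fst_D i a).symm

theorem ι_ρ : L.ι ≫ L.ρ = 0 := by
  apply HomologicalComplex.hom_ext
  intro j
  apply ModuleCat.hom_ext
  apply LinearMap.ext
  intro y
  rfl

/-- The short exact sequence `G → Tc → P`. -/
noncomputable def sc : ShortComplex (CochainComplex (ModuleCat.{u} R) ℤ) :=
  ShortComplex.mk L.ι L.ρ L.ι_ρ

theorem sc_shortExact : L.sc.ShortExact := by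
  apply HomologicalComplex.shortExact_of_degreewise_shortExact
  intro j
  refine ModuleCat.shortComplex_shortExact _ ?_ ?_ ?_
  · intro a
    change a.1 = 0 ↔ a ∈ Set.range (fun y : L.G.X j => ((0 : L.F j), y))
    constructor
    · intro h; exact ⟨a.2, Prod.ext h.symm rfl⟩
    · rintro ⟨y, rfl⟩; rfl
  · intro y y' h
    exact (Prod.ext_iff.1 h).2
  · intro x
    exact ⟨(x, 0), rfl⟩

theorem isZero_Q_obj_of_acyclic (C : CochainComplex (ModuleCat.{u} R) ℤ) (hex : C.Acyclic) :
    IsZero (Q.obj C) := by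
  haveI : C.IsLE 0 := by
    rw [CochainComplex.isLE_iff]
    intro i _
    exact hex i
  haveI : C.IsGE 1 := by
    rw [CochainComplex.isGE_iff]
    intro i _
    exact hex i
  haveI : (Q.obj C).IsLE 0 := (DerivedCategory.isLE_Q_obj_iff C 0).2 inferInstance
  haveI : (Q.obj C).IsGE 1 := (DerivedCategory.isGE_Q_obj_iff C 1).2 inferInstance
  rw [IsZero.iff_id_eq_zero]
  exact TStructure.t.zero_of_isLE_of_isGE _ 0 1 (by lia) inferInstance inferInstance

/-- In the derived category, the free part is the shift of the prescribed part. -/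
theorem nonempty_iso : Nonempty (Q.obj L.P ≅ (Q.obj L.G)⟦(1 : ℤ)⟧) := by
  have hT := triangleOfSES_distinguished L.sc_shortExact
  have hz : IsZero (triangleOfSES L.sc_shortExact).obj₂ := isZero_Q_obj_of_acyclic _ L.Tc_acyclic
  have hiso : IsIso (triangleOfSES L.sc_shortExact).mor₃ := (Triangle.isZero₂_iff_isIso₃ _ hT).1 hz
  exact ⟨@asIso _ _ _ _ (triangleOfSES L.sc_shortExact).mor₃ hiso⟩

end LiftData

end Groth.Agent.Lib.Helper15
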