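import Mathlib
import Groth.Agent.Lib.Helper15.LiftAssemble
import Groth.Agent.Lib.Helper15.LiftExt
import Groth.Agent.Lib.Helper15.LBCKFlat

/-!
# helper15: lifting a complex together with a quasi-isomorphism (Stacks 15.75.3)
-/

set_option autoImplicit false
universe u

open CategoryTheory CategoryTheory.Limits CategoryTheory.Pretriangulated DerivedCategory TensorProduct
open CochainComplex

attribute [local instance] HasDerivedCategory.standard

namespace Groth.Agent.Lib.Helper15.LiftCone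

section ConeElements

variable {S : Type u} [Ring S] {K L : CochainComplex (ModuleCat.{u} S) ℤ} (φ : K ⟶ L)

theorem quasiIso_iff_acyclic_mappingCone {C : Type*} [Category C] [Abelian C]
    {K L : CochainComplex C ℤ} (φ : K ⟶ L) :
    QuasiIso φ ↔ (CochainComplex.mappingCone φ).Acyclic := by
  rw [← HomologicalComplex.mem_quasiIso_iff, ← HomotopyCategory.quotient_map_mem_quasiIso_iff,
    HomotopyCategory.quasiIso_eq_trW_subcategoryAcyclic,
    ← HomotopyCategory.quotient_obj_mem_subcategoryAcyclic_iff_acyclic]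
  exact (HomotopyCategory.subcategoryAcyclic C).trW_iff_of_distinguished _
    (HomotopyCategory.mappingCone_triangleh_distinguished φ)

/-- first component -/
noncomputable def cfst (j : ℤ) : (mappingCone φ).X j →ₗ[S] K.X (j + 1) :=
  ((mappingCone.fst φ).1.v j (j + 1) rfl).hom

/-- second component -/
noncomputable def csnd (j : ℤ) : (mappingCone φ).X j →ₗ[S] L.X j :=
  ((mappingCone.snd φ).v j j (add_zero j)).hom

/-- first inclusion -/
noncomputable def cinl (j : ℤ) : K.X (j + 1) →ₗ[S] (mappingCone φ).X j :=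
  ((mappingCone.inl φ).v (j + 1) j (by omega)).hom

/-- second inclusion -/
noncomputable def cinr (j : ℤ) : L.X j →ₗ[S] (mappingCone φ).X j :=
  ((mappingCone.inr φ).f j).hom

theorem cfst_cinl (j : ℤ) (u : K.X (j + 1)) : cfst φ j (cinl φ j u) = u := by
  have := mappingCone.inl_v_fst_v φ (j + 1) j rfl
  exact congrArg (fun g => g.hom u) this

theorem csnd_cinl (j : ℤ) (u : K.X (j + 1)) : csnd φ j (cinl φ j u) = 0 := by
  have := mappingCone.inl_v_snd_v φ (j + 1) j (by omega)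
  exact congrArg (fun g => g.hom u) this

theorem cfst_cinr (j : ℤ) (v : L.X j) : cfst φ j (cinr φ j v) = 0 := by
  have := mappingCone.inr_f_fst_v φ j (j + 1) rfl
  exact congrArg (fun g => g.hom v) this

theorem csnd_cinr (j : ℤ) (v : L.X j) : csnd φ j (cinr φ j v) = v := by
  have := mappingCone.inr_f_snd_v φ j
  exact congrArg (fun g => g.hom v) this

theorem cinl_cfst_add (j : ℤ) (z : (mappingCone φ).X j) :
    cinl φ j (cfst φ j z) + cinr φ j (csnd φ j z) = z := by
  have := mappingCone.id_X φ j (j + 1) rfl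
  exact congrArg (fun g => g.hom z) this

theorem d_cinl (j : ℤ) (u : K.X (j + 1)) :
    ((mappingCone φ).d j (j + 1)).hom (cinl φ j u) =
      cinr φ (j + 1) ((φ.f (j + 1)).hom u) - cinl φ (j + 1) ((K.d (j + 1) (j + 1 + 1)).hom u) := by
  have := mappingCone.inl_v_d φ (j + 1) j (j + 1 + 1) (by omega) (by omega)
  exact congrArg (fun g => g.hom u) this

theorem d_cinr (j : ℤ) (v : L.X j) :
    ((mappingCone φ).d j (j + 1)).hom (cinr φ j v) = cinr φ (j + 1) ((L.d j (j + 1)).hom v) := by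
  have := mappingCone.inr_f_d φ j (j + 1)
  exact congrArg (fun g => g.hom v) this

end ConeElements

section KProj

variable {C : Type*} [Category C] [Abelian C] [HasDerivedCategory C]

/-- a morphism in the derived category out of a K-projective complex is represented by a morphism
of complexes -/
theorem exists_map_eq (E L : CochainComplex C ℤ) [E.IsKProjective] (φ : Q.obj E ⟶ Q.obj L) :
    ∃ δ : E ⟶ L, Q.map δ = φ := by
  obtain ⟨g, hg⟩ := (CochainComplex.IsKProjective.Qh_map_bijective E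
    ((HomotopyCategory.quotient _ _).obj L)).surjective
      ((quotientCompQhIso C).hom.app E ≫ φ ≫ (quotientCompQhIso C).inv.app L)
  obtain ⟨δ, rfl⟩ := (HomotopyCategory.quotient _ _).map_surjective g
  refine ⟨δ, ?_⟩
  have hn := (quotientCompQhIso C).hom.naturality δ
  simp only [Functor.comp_map] at hn
  rw [hg] at hn
  simp only [Category.assoc, Iso.inv_hom_id_app, Category.comp_id] at hn
  exact ((cancel_epi ((quotientCompQhIso C).hom.app E)).1 hn).symm

end KProj

section Main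

open Groth.Agent.Lib.Helper15.LiftExt

variable {R : Type u} [CommRing R] (I : Ideal R)

/-- restriction of scalars of a morphism, as a linear map -/
noncomputable def resHom {N N' : ModuleCat.{u} (R ⧸ I)} (g : N →ₗ[R ⧸ I] N') :
    (ModuleCat.restrictScalars (Ideal.Quotient.mk I)).obj N →ₗ[R]
      (ModuleCat.restrictScalars (Ideal.Quotient.mk I)).obj N' :=
  ((ModuleCat.restrictScalars (Ideal.Quotient.mk I)).map (ModuleCat.ofHom g)).hom

@[simp] theorem resHom_apply {N N' : ModuleCat.{u} (R ⧸ I)} (g : N →ₗ[R ⧸ I] N') (x : N) :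
    resHom I g x = g x := rfl

variable (Qc : DRing.Cx R)

/-- the unit `Q^i → (Q ⊗ R/I)^i` as a linear equivalence from the tensor product -/
noncomputable def eQ (i : ℤ) :
    ((R ⧸ I) ⊗[R] (Qc.X i)) ≃ₗ[R ⧸ I] (LDerived.extCx (Ideal.Quotient.mk I) Qc).X i :=
  (PseudoCohBC.extModuleIso R (R ⧸ I) (Qc.X i)).symm.toLinearEquiv

theorem eQ_d (i : ℤ) (y : Qc.X i) :
    ((LDerived.extCx (Ideal.Quotient.mk I) Qc).d i (i + 1)).hom (eQ I Qc i ((1 : R ⧸ I) ⊗ₜ[R] y)) =
      eQ I Qc (i + 1) ((1 : R ⧸ I) ⊗ₜ[R] (Qc.d i (i + 1)).hom y) := by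
  rfl

variable {I} {Qc}
variable {Pc : ObjectProperty (ModuleCat.{u} R)} [Pc.IsClosedUnderIsomorphisms]
  (h1 : ∀ X : ModuleCat.{u} R, Pc X → Module.Projective R X)
  (h2 : ∀ X Y : ModuleCat.{u} R, Pc X → (Pc (ModuleCat.of R (X × Y)) ↔ Pc Y))
  (h3 : ∀ (X Y : ModuleCat.{u} R) (f : X ⟶ Y), Pc X → Pc Y →
      LinearMap.range f.hom ⊔ I • (⊤ : Submodule R Y) = ⊤ → Function.Surjective f.hom)
  (c : ℤ) (hQc : DRing.VanishesAbove Qc c) (hQPc : ∀ i, Pc (Qc.X i))
  (E : DRing.Cx (R ⧸ I)) (b : ℤ)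
  (Xc : ℤ → ModuleCat.{u} R) (hXc : ∀ i, Pc (Xc i)) (hXs : ∀ i, b < i → Subsingleton (Xc i))
  (e : ∀ i, ((R ⧸ I) ⊗[R] (Xc i)) ≃ₗ[R ⧸ I] E.X i)
  (δ : E ⟶ LDerived.extCx (Ideal.Quotient.mk I) Qc) (hδ : QuasiIso δ)

/-- the reduction map of the total complex -/
noncomputable def πT (j : ℤ) : (Xc (j + 1) × Qc.X j) →ₗ[R]
    (ModuleCat.restrictScalars (Ideal.Quotient.mk I)).obj ((mappingCone δ).X j) :=
  resHom I (cinl δ j) ∘ₗ redTo I (e (j + 1)) ∘ₗ LinearMap.fst R _ _ +
    resHom I (cinr δ j) ∘ₗ redTo I (eQ I Qc j) ∘ₗ LinearMap.snd R _ _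

theorem πT_apply (j : ℤ) (a : Xc (j + 1) × Qc.X j) :
    πT E Xc e δ j a = cinl δ j (e (j + 1) ((1 : R ⧸ I) ⊗ₜ[R] a.1)) +
      cinr δ j (eQ I Qc j ((1 : R ⧸ I) ⊗ₜ[R] a.2)) := rfl

include h1 h2 h3 hQc hQPc hXc hXs hδ e in
theorem exists_lift : ∃ P : DRing.Cx R, DRing.VanishesAbove P b ∧ (∀ i, Pc (P.X i)) ∧
    Nonempty (DRing.toD P ≅ DRing.toD Qc) ∧
    Nonempty ((LDerived.extCx (Ideal.Quotient.mk I) P) ≅ E) := by
  classical
  have hac : (mappingCone δ).Acyclic := (quasiIso_iff_acyclic_mappingCone δ).1 hδ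
  let C : DRing.Cx R := ((ModuleCat.restrictScalars (Ideal.Quotient.mk I)).mapHomologicalComplex
    (ComplexShape.up ℤ)).obj (mappingCone δ)
  let L : LiftData R I Pc :=
    { F := fun j => Xc (j + 1)
      G := Qc
      C := C
      π := πT E Xc e δ
      b := max b c
      iso := inferInstance
      h1 := h1
      h2 := fun X Y hX hXY => (h2 X Y hX).1 hXY
      h3 := h3
      hFp := fun j => h1 _ (hXc (j + 1))
      hT := fun j => (h2 _ _ (hXc (j + 1))).2 (hQPc j)
      hC := fun j z hz => by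
        have hex := (LiftData.exactAt_iff_function_exact (mappingCone δ) j).1 (hac (j + 1))
        exact (hex z).1 hz
      hπs := fun j z => by
        obtain ⟨x, hx⟩ := redTo_surjective I (e (j + 1)) (cfst δ j z)
        obtain ⟨y, hy⟩ := redTo_surjective I (eQ I Qc j) (csnd δ j z)
        refine ⟨(x, y), ?_⟩
        rw [redTo_apply] at hx hy
        change cinl δ j (e (j + 1) ((1 : R ⧸ I) ⊗ₜ[R] x)) +
          cinr δ j (eQ I Qc j ((1 : R ⧸ I) ⊗ₜ[R] y)) = z
        rw [hx, hy]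
        exact cinl_cfst_add δ j z
      hπk := fun j => by
        ext a
        rw [mem_smul_top_prod_iff, ← ker_redTo I (e (j + 1)), ← ker_redTo I (eQ I Qc j),
          LinearMap.mem_ker, LinearMap.mem_ker, LinearMap.mem_ker, redTo_apply, redTo_apply]
        change (cinl δ j (e (j + 1) ((1 : R ⧸ I) ⊗ₜ[R] a.1)) +
          cinr δ j (eQ I Qc j ((1 : R ⧸ I) ⊗ₜ[R] a.2)) = 0) ↔
          (e (j + 1) ((1 : R ⧸ I) ⊗ₜ[R] a.1) = (0 : E.X (j + 1)) ∧
            eQ I Qc j ((1 : R ⧸ I) ⊗ₜ[R] a.2) =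
              (0 : (LDerived.extCx (Ideal.Quotient.mk I) Qc).X j))
        constructor
        · intro h
          have hf := congrArg (cfst δ j) h
          have hs := congrArg (csnd δ j) h
          rw [map_add, cfst_cinl, cfst_cinr, add_zero, map_zero] at hf
          rw [map_add, csnd_cinl, csnd_cinr, zero_add, map_zero] at hs
          exact ⟨hf, hs⟩
        · rintro ⟨hf, hs⟩
          rw [hf, hs, map_zero, map_zero, add_zero]
      hcompat := fun j y => by
        change cinl δ (j + 1) (e (j + 1 + 1) ((1 : R ⧸ I) ⊗ₜ[R] (0 : Xc (j + 1 + 1)))) +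
            cinr δ (j + 1) (eQ I Qc (j + 1) ((1 : R ⧸ I) ⊗ₜ[R] (Qc.d j (j + 1)).hom y)) =
          ((mappingCone δ).d j (j + 1)).hom (cinl δ j (e (j + 1) ((1 : R ⧸ I) ⊗ₜ[R] (0 : Xc (j + 1)))) +
            cinr δ j (eQ I Qc j ((1 : R ⧸ I) ⊗ₜ[R] y)))
        simp only [TensorProduct.tmul_zero, map_zero, zero_add]
        rw [d_cinr, eQ_d]
      hb := fun j hj => by
        haveI : Subsingleton (Xc (j + 1)) := hXs (j + 1) (by
          have := le_max_left b c; omega)
        haveI : Subsingleton (Qc.X j) := ModuleCat.subsingleton_of_isZero (hQc j (by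
          have := le_max_right b c; omega))
        infer_instance }
  -- the key relation: `L.d` lifts `-d_E`
  have hkey : ∀ (j : ℤ) (x : Xc (j + 1)),
      e (j + 1 + 1) ((1 : R ⧸ I) ⊗ₜ[R] (L.d j x)) =
        -(E.d (j + 1) (j + 1 + 1)).hom (e (j + 1) ((1 : R ⧸ I) ⊗ₜ[R] x)) := by
    intro j x
    have h := LinearMap.congr_fun (L.D_comm j) (x, 0)
    have h' : (L.D j (x, 0)).1 = L.d j x := L.fst_D j (x, 0)
    change cinl δ (j + 1) (e (j + 1 + 1) ((1 : R ⧸ I) ⊗ₜ[R] (L.D j (x, 0)).1)) +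
        cinr δ (j + 1) (eQ I Qc (j + 1) ((1 : R ⧸ I) ⊗ₜ[R] (L.D j (x, 0)).2)) =
      ((mappingCone δ).d j (j + 1)).hom (cinl δ j (e (j + 1) ((1 : R ⧸ I) ⊗ₜ[R] x)) +
        cinr δ j (eQ I Qc j ((1 : R ⧸ I) ⊗ₜ[R] (0 : Qc.X j)))) at h
    rw [h'] at h
    simp only [TensorProduct.tmul_zero, map_zero, add_zero] at h
    rw [d_cinl] at h
    have h2' := congrArg (cfst δ (j + 1)) h
    rw [map_add, map_sub, cfst_cinl, cfst_cinr, cfst_cinr, cfst_cinl, add_zero, zero_sub] at h2'
    exact h2'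
  -- termwise reduction of `L.P` is `E⟦1⟧`
  have hext : Nonempty ((LDerived.extCx (Ideal.Quotient.mk I) L.P) ≅ E⟦(1 : ℤ)⟧) := by
    refine nonempty_ext_iso I (fun j => Xc (j + 1)) (fun j => ModuleCat.ofHom (L.d j))
      (fun j => by rw [← ModuleCat.ofHom_comp, L.d_comp_d j]; rfl) (E⟦(1 : ℤ)⟧)
      (fun j => e (j + 1)) ?_
    intro j x
    rw [CochainComplex.shiftFunctor_obj_d']
    have := hkey j x
    simp only [Int.negOnePow_one, Units.neg_smul, one_smul, ModuleCat.hom_neg,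
      LinearMap.neg_apply]
    exact this
  obtain ⟨i₁⟩ := hext
  obtain ⟨i₂⟩ := L.nonempty_iso
  refine ⟨L.P⟦(-1 : ℤ)⟧, ?_, ?_, ⟨?_⟩, ⟨?_⟩⟩
  · intro i hi
    haveI : Subsingleton (Xc (i + -1 + 1)) := hXs _ (by omega)
    change IsZero (Xc (i + -1 + 1))
    exact ModuleCat.isZero_of_subsingleton _
  · intro i
    change Pc (Xc (i + -1 + 1))
    exact hXc _
  · exact (Q.commShiftIso (-1 : ℤ)).app L.P ≪≫ (CategoryTheory.shiftFunctor _ (-1 : ℤ)).mapIso i₂ ≪≫
      (shiftFunctorCompIsoId _ (1 : ℤ) (-1 : ℤ) (by norm_num)).app (Q.obj Qc)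
  · exact ((ModuleCat.extendScalars (Ideal.Quotient.mk I)).mapCochainComplexShiftIso (-1 : ℤ)).app L.P ≪≫
      (CategoryTheory.shiftFunctor _ (-1 : ℤ)).mapIso i₁ ≪≫
      (shiftFunctorCompIsoId _ (1 : ℤ) (-1 : ℤ) (by norm_num)).app E

end Main

end Groth.Agent.Lib.Helper15.LiftCone
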