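import Mathlib
import Groth.Agent.Lib.Helper15.LiftExt

/-!
# helper15: lifting kernels modulo an ideal

* `kernel_lemma`: for `A, B` in the class `Pc`, a surjection `cA : A/IA → B/IB` lifts to a
  surjection `ψ : A → B` whose kernel is in `Pc` and reduces to `ker cA`.
* `nonempty_tensor_equiv`: a surjection `X → N` with kernel `I X` gives `(R/I) ⊗ X ≃ N`.
-/

set_option autoImplicit false
universe u

open CategoryTheory TensorProduct

namespace Groth.Agent.Lib.Helper15.LiftKernel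

variable {R : Type u} [CommRing R] (I : Ideal R)

section Kernel

variable (Pc : ObjectProperty (ModuleCat.{u} R)) [Pc.IsClosedUnderIsomorphisms]

theorem kernel_lemma
    (h1 : ∀ X : ModuleCat.{u} R, Pc X → Module.Projective R X)
    (h2 : ∀ X Y : ModuleCat.{u} R, Pc X → Pc (ModuleCat.of R (X × Y)) → Pc Y)
    (h3 : ∀ (X Y : ModuleCat.{u} R) (f : X ⟶ Y), Pc X → Pc Y →
      LinearMap.range f.hom ⊔ I • (⊤ : Submodule R Y) = ⊤ → Function.Surjective f.hom)
    {A B CA CB : Type u}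
    [AddCommGroup A] [Module R A] [AddCommGroup B] [Module R B]
    [AddCommGroup CA] [Module R CA] [AddCommGroup CB] [Module R CB]
    (hA : Pc (ModuleCat.of R A)) (hB : Pc (ModuleCat.of R B))
    (πA : A →ₗ[R] CA) (πB : B →ₗ[R] CB) (cA : CA →ₗ[R] CB)
    (hcA : Function.Surjective cA)
    (hπAs : Function.Surjective πA) (hπAk : LinearMap.ker πA = I • ⊤)
    (hπBs : Function.Surjective πB) (hπBk : LinearMap.ker πB = I • ⊤) :
    ∃ ψ : A →ₗ[R] B, Function.Surjective ψ ∧ πB ∘ₗ ψ = cA ∘ₗ πA ∧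
      Pc (ModuleCat.of R (LinearMap.ker ψ)) ∧ (LinearMap.ker ψ).map πA = LinearMap.ker cA ∧
      I • (⊤ : Submodule R A) ⊓ LinearMap.ker ψ ≤ I • LinearMap.ker ψ := by
  classical
  haveI : Module.Projective R A := h1 _ hA
  obtain ⟨ψ, hψ⟩ := Module.projective_lifting_property πB (cA ∘ₗ πA) hπBs
  have hψ' : ∀ a, πB (ψ a) = cA (πA a) := fun a => LinearMap.congr_fun hψ a
  have hs : Function.Surjective ψ := by
    have := h3 (ModuleCat.of R A) (ModuleCat.of R B) (ModuleCat.ofHom ψ) hA hB ?_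
    · simpa using this
    · rw [eq_top_iff]
      rintro y -
      obtain ⟨w, hw⟩ := hcA (πB y)
      obtain ⟨a, rfl⟩ := hπAs w
      have hmem : y - ψ a ∈ I • (⊤ : Submodule R B) := by
        rw [← hπBk, LinearMap.mem_ker, map_sub, hψ', hw, sub_self]
      have hy : y = ψ a + (y - ψ a) := by abel
      rw [hy]
      exact Submodule.add_mem_sup (by simp) hmem
  haveI : Module.Projective R B := h1 _ hB
  obtain ⟨s, hs0⟩ := Module.projective_lifting_property ψ LinearMap.id hs
  have hs' : ∀ z, ψ (s z) = z := fun z => LinearMap.congr_fun hs0 z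
  let pr : A →ₗ[R] A := LinearMap.id - s ∘ₗ ψ
  have hpr_mem : ∀ a, pr a ∈ LinearMap.ker ψ := fun a => by
    rw [LinearMap.mem_ker]
    simp [pr, hs']
  have hpr_id : ∀ a ∈ LinearMap.ker ψ, pr a = a := fun a ha => by
    rw [LinearMap.mem_ker] at ha
    simp [pr, ha]
  refine ⟨ψ, hs, hψ, ?_, ?_, ?_⟩
  · let e : A ≃ₗ[R] (B × LinearMap.ker ψ) :=
      LinearEquiv.ofLinear
        (LinearMap.prod ψ (LinearMap.codRestrict _ pr hpr_mem))
        (LinearMap.coprod s (Submodule.subtype _))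
        (by
          apply LinearMap.ext
          rintro ⟨z, k⟩
          have hk : ψ k = 0 := k.2
          apply Prod.ext
          · simp [hs', hk]
          · apply Subtype.ext
            simp [pr, hs', hk])
        (by
          apply LinearMap.ext
          intro a
          simp [pr])
    have hprod : Pc (ModuleCat.of R (B × LinearMap.ker ψ)) := Pc.prop_of_iso e.toModuleIso hA
    exact h2 (ModuleCat.of R B) (ModuleCat.of R (LinearMap.ker ψ)) hB hprod
  · apply le_antisymm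
    · rintro _ ⟨a, ha, rfl⟩
      rw [LinearMap.mem_ker, ← hψ', (LinearMap.mem_ker.1 ha), map_zero]
    · intro e he
      obtain ⟨a, rfl⟩ := hπAs e
      have h0 : πB (ψ a) = 0 := by rw [hψ']; exact he
      have hmem : ψ a ∈ I • (⊤ : Submodule R B) := by rw [← hπBk]; exact h0
      rw [← LinearMap.range_eq_top.2 hs, LinearMap.range_eq_map, ← Submodule.map_smul''] at hmem
      obtain ⟨a₁, ha₁, ha₁'⟩ := hmem
      refine ⟨a - a₁, ?_, ?_⟩
      · simp [LinearMap.mem_ker, ha₁']
      · rw [← hπAk] at ha₁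
        simp [LinearMap.mem_ker.1 ha₁]
  · rintro a ⟨ha₁, ha₂⟩
    have : pr a ∈ Submodule.map pr (I • ⊤) := Submodule.mem_map_of_mem ha₁
    rw [Submodule.map_smul'', hpr_id a ha₂] at this
    refine Submodule.smul_mono le_rfl ?_ this
    rintro _ ⟨b, -, rfl⟩
    exact hpr_mem b

end Kernel

section Tensor

/-- A surjection `X → N` (with `N` an `R/I`-module) with kernel `I X` identifies `N` with
`(R/I) ⊗ X`. -/
theorem nonempty_tensor_equiv {X N : Type u} [AddCommGroup X] [Module R X]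
    [AddCommGroup N] [Module R N] [Module (R ⧸ I) N] [IsScalarTower R (R ⧸ I) N]
    (φ : X →ₗ[R] N) (hφs : Function.Surjective φ) (hφk : LinearMap.ker φ = I • ⊤) :
    Nonempty (((R ⧸ I) ⊗[R] X) ≃ₗ[R ⧸ I] N) := by
  let e₁ : ((R ⧸ I) ⊗[R] X) ≃ₗ[R] X ⧸ (I • ⊤ : Submodule R X) :=
    TensorProduct.quotTensorEquivQuotSMul X I
  let e₂ : (X ⧸ (I • ⊤ : Submodule R X)) ≃ₗ[R] X ⧸ LinearMap.ker φ :=
    Submodule.quotEquivOfEq _ _ hφk.symm
  let e₃ : (X ⧸ LinearMap.ker φ) ≃ₗ[R] N := φ.quotKerEquivOfSurjective hφs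
  exact ⟨(e₁ ≪≫ₗ e₂ ≪≫ₗ e₃).extendScalarsOfSurjective Ideal.Quotient.mk_surjective⟩

end Tensor

end Groth.Agent.Lib.Helper15.LiftKernel
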