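import Mathlib
import Groth.Agent.Lib.Helper15.LiftKernel

/-!
# helper15: the class of finite stably free modules, and lifting such modules modulo an ideal
contained in the Jacobson radical
-/

set_option autoImplicit false
universe u

open CategoryTheory TensorProduct

namespace Groth.Agent.Lib.Helper15.LiftStablyFree

variable {R : Type u} [CommRing R] (I : Ideal R)

section PiRed

variable (ι : Type u) [Fintype ι]

/-- componentwise reduction `(ι → R) → (ι → R/I)` -/
noncomputable def piRed : (ι → R) →ₗ[R] (ι → R ⧸ I) :=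
  (Algebra.linearMap R (R ⧸ I)).compLeft ι

@[simp] theorem piRed_apply (v : ι → R) (i : ι) : piRed I ι v i = Ideal.Quotient.mk I (v i) := rfl

theorem piRed_surjective : Function.Surjective (piRed I ι) := by
  intro w
  choose v hv using fun i => Ideal.Quotient.mk_surjective (w i)
  exact ⟨v, funext hv⟩

theorem ker_piRed : LinearMap.ker (piRed I ι) = I • ⊤ := by
  classical
  apply le_antisymm
  · intro v hv
    have hvi : ∀ i, v i ∈ I := fun i => by
      have := congrFun (LinearMap.mem_ker.1 hv) i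
      rwa [piRed_apply, Pi.zero_apply, Ideal.Quotient.eq_zero_iff_mem] at this
    have : v = ∑ i, v i • (Pi.single i (1 : R) : ι → R) := by
      ext j
      simp [Finset.sum_apply, Pi.single_apply]
    rw [this]
    exact Submodule.sum_mem _ fun i _ => Submodule.smul_mem_smul (hvi i) Submodule.mem_top
  · rw [Submodule.smul_le]
    intro r hr v _
    rw [LinearMap.mem_ker]
    ext i
    rw [piRed_apply, Pi.smul_apply, smul_eq_mul, Pi.zero_apply, Ideal.Quotient.eq_zero_iff_mem]
    exact I.mul_mem_right _ hr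

end PiRed

section Lift

variable (Pc : ObjectProperty (ModuleCat.{u} R)) [Pc.IsClosedUnderIsomorphisms]

/-- Lifting the kernel of a surjection of finite free `R/I`-modules. -/
theorem exists_lift_of_ker
    (h1 : ∀ X : ModuleCat.{u} R, Pc X → Module.Projective R X)
    (h2 : ∀ X Y : ModuleCat.{u} R, Pc X → Pc (ModuleCat.of R (X × Y)) → Pc Y)
    (h3 : ∀ (X Y : ModuleCat.{u} R) (f : X ⟶ Y), Pc X → Pc Y →
      LinearMap.range f.hom ⊔ I • (⊤ : Submodule R Y) = ⊤ → Function.Surjective f.hom)
    (hfree : ∀ (ι : Type u) [Fintype ι], Pc (ModuleCat.of R (ι → R)))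
    (E : Type u) [AddCommGroup E] [Module (R ⧸ I) E]
    (ιF ιN : Type u) [Fintype ιF] [Fintype ιN]
    (q : (ιF → R ⧸ I) →ₗ[R ⧸ I] (ιN → R ⧸ I)) (hq : Function.Surjective q)
    (eE : LinearMap.ker q ≃ₗ[R ⧸ I] E) :
    ∃ X : ModuleCat.{u} R, Pc X ∧ Nonempty (((R ⧸ I) ⊗[R] X) ≃ₗ[R ⧸ I] E) := by
  obtain ⟨ψ, -, hψ, hPc, hmap, hinf⟩ := LiftKernel.kernel_lemma I Pc h1 h2 h3
    (hfree ιF) (hfree ιN) (piRed I ιF) (piRed I ιN) (q.restrictScalars R) hq
    (piRed_surjective I ιF) (ker_piRed I ιF) (piRed_surjective I ιN) (ker_piRed I ιN)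
  refine ⟨ModuleCat.of R (LinearMap.ker ψ), hPc, ?_⟩
  have hmem : ∀ x : LinearMap.ker ψ, piRed I ιF x ∈ LinearMap.ker q := fun x => by
    have : piRed I ιF x ∈ LinearMap.ker (q.restrictScalars R) := by
      rw [← hmap]; exact Submodule.mem_map_of_mem x.2
    simpa using this
  let φ : LinearMap.ker ψ →ₗ[R] LinearMap.ker q :=
    { toFun := fun x => ⟨piRed I ιF x, hmem x⟩
      map_add' := fun x y => by apply Subtype.ext; simp
      map_smul' := fun r x => by apply Subtype.ext; simp }
  have hφs : Function.Surjective φ := by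
    rintro ⟨w, hw⟩
    have : w ∈ LinearMap.ker (q.restrictScalars R) := by simpa using hw
    rw [← hmap] at this
    obtain ⟨x, hx, rfl⟩ := this
    exact ⟨⟨x, hx⟩, rfl⟩
  have hφk : LinearMap.ker φ = I • ⊤ := by
    ext x
    rw [Submodule.mem_smul_top_iff, LinearMap.mem_ker]
    constructor
    · intro h
      apply hinf
      refine Submodule.mem_inf.2 ⟨?_, x.2⟩
      rw [← ker_piRed I ιF, LinearMap.mem_ker]
      exact congrArg Subtype.val h
    · intro h
      apply Subtype.ext
      have : (x : ιF → R) ∈ LinearMap.ker (piRed I ιF) := by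
        rw [ker_piRed]
        exact Submodule.smul_mono le_rfl le_top h
      exact this
  obtain ⟨e⟩ := LiftKernel.nonempty_tensor_equiv I φ hφs hφk
  exact ⟨e ≪≫ₗ eE⟩

end Lift

section Class

variable (R)

/-- the class of finite stably free modules -/
def pcSF : ObjectProperty (ModuleCat.{u} R) := fun X => Module.Finite R X ∧ Module.IsStablyFree R X

instance : (pcSF R).IsClosedUnderIsomorphisms where
  of_iso e h :=
    haveI := h.1
    haveI := h.2
    ⟨Module.Finite.equiv e.toLinearEquiv, Module.IsStablyFree.equiv e.toLinearEquiv⟩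

theorem pcSF_projective (X : ModuleCat.{u} R) (h : pcSF R X) : Module.Projective R X :=
  haveI := h.2
  inferInstance

theorem pcSF_free (ι : Type u) [Fintype ι] : pcSF R (ModuleCat.of R (ι → R)) :=
  ⟨inferInstanceAs (Module.Finite R (ι → R)), inferInstanceAs (Module.IsStablyFree R (ι → R))⟩

theorem pcSF_prod (X Y : ModuleCat.{u} R) (hX : pcSF R X) :
    pcSF R (ModuleCat.of R (X × Y)) ↔ pcSF R Y := by
  haveI := hX.1
  haveI := hX.2
  obtain ⟨N₁, _, _, _, _, hN₁⟩ := Module.IsStablyFree.exist_free_prod R X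
  constructor
  · rintro ⟨hfin, hsf⟩
    haveI : Module.Finite R (X × Y) := hfin
    haveI : Module.IsStablyFree R (X × Y) := hsf
    obtain ⟨N, _, _, _, _, hN⟩ := Module.IsStablyFree.exist_free_prod R (X × Y)
    refine ⟨Module.Finite.of_surjective (LinearMap.snd R X Y) LinearMap.snd_surjective, ?_⟩
    haveI : Module.Free R ((X × N₁) × N) := inferInstance
    let e : (((X × Y) × N) × N₁) ≃ₗ[R] (Y × ((X × N₁) × N)) :=
      { toFun := fun a => (a.1.1.2, ((a.1.1.1, a.2), a.1.2))
        invFun := fun a => (((a.2.1.1, a.1), a.2.2), a.2.1.2)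
        map_add' := fun a b => rfl
        map_smul' := fun r a => rfl
        left_inv := fun a => rfl
        right_inv := fun a => rfl }
    haveI : Module.Free R (Y × ((X × N₁) × N)) := Module.Free.of_equiv e
    exact Module.IsStablyFree.of_free_prod R Y ((X × N₁) × N)
  · rintro ⟨hfin, hsf⟩
    haveI : Module.Finite R Y := hfin
    haveI : Module.IsStablyFree R Y := hsf
    obtain ⟨N₂, _, _, _, _, hN₂⟩ := Module.IsStablyFree.exist_free_prod R Y
    refine ⟨inferInstanceAs (Module.Finite R (X × Y)), ?_⟩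
    let e : ((X × N₁) × (Y × N₂)) ≃ₗ[R] ((X × Y) × (N₁ × N₂)) :=
      { toFun := fun a => ((a.1.1, a.2.1), (a.1.2, a.2.2))
        invFun := fun a => ((a.1.1, a.2.1), (a.1.2, a.2.2))
        map_add' := fun a b => rfl
        map_smul' := fun r a => rfl
        left_inv := fun a => rfl
        right_inv := fun a => rfl }
    haveI : Module.Free R ((X × Y) × (N₁ × N₂)) := Module.Free.of_equiv e
    exact Module.IsStablyFree.of_free_prod R (X × Y) (N₁ × N₂)

variable {R}

theorem pcSF_nakayama (hI : I ≤ Ideal.jacobson (⊥ : Ideal R)) (X Y : ModuleCat.{u} R) (f : X ⟶ Y)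
    (_ : pcSF R X) (hY : pcSF R Y)
    (h : LinearMap.range f.hom ⊔ I • (⊤ : Submodule R Y) = ⊤) : Function.Surjective f.hom := by
  haveI := hY.1
  rw [← LinearMap.range_eq_top, eq_top_iff]
  exact Submodule.le_of_le_smul_of_le_jacobson_bot Module.Finite.fg_top hI (by rw [h])

end Class

section StablyFree

/-- A finite stably free `R/I`-module lifts to a finite stably free `R`-module, when `I` is
contained in the Jacobson radical. -/
theorem exists_lift_stablyFree (hI : I ≤ Ideal.jacobson (⊥ : Ideal R))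
    (E : Type u) [AddCommGroup E] [Module (R ⧸ I) E] [Module.Finite (R ⧸ I) E]
    [Module.IsStablyFree (R ⧸ I) E] :
    ∃ X : ModuleCat.{u} R, pcSF R X ∧ Nonempty (((R ⧸ I) ⊗[R] X) ≃ₗ[R ⧸ I] E) := by
  classical
  obtain ⟨N, _, _, _, _, hN⟩ := Module.IsStablyFree.exist_free_prod (R ⧸ I) E
  let bN := Module.Free.chooseBasis (R ⧸ I) N
  let bF := Module.Free.chooseBasis (R ⧸ I) (E × N)
  let q : (Module.Free.ChooseBasisIndex (R ⧸ I) (E × N) → R ⧸ I) →ₗ[R ⧸ I]
      (Module.Free.ChooseBasisIndex (R ⧸ I) N → R ⧸ I) :=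
    bN.equivFun.toLinearMap ∘ₗ LinearMap.snd (R ⧸ I) E N ∘ₗ bF.equivFun.symm.toLinearMap
  have hq : Function.Surjective q :=
    bN.equivFun.surjective.comp
      ((LinearMap.snd_surjective (R := R ⧸ I) (M := E) (M₂ := N)).comp
        bF.equivFun.symm.surjective)
  let g : LinearMap.ker q →ₗ[R ⧸ I] E :=
    LinearMap.fst (R ⧸ I) E N ∘ₗ bF.equivFun.symm.toLinearMap ∘ₗ (LinearMap.ker q).subtype
  have hg : Function.Bijective g := by
    constructor
    · rw [← LinearMap.ker_eq_bot, LinearMap.ker_eq_bot']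
      rintro ⟨v, hv⟩ h
      have h1 : (bF.equivFun.symm v).1 = 0 := h
      have h2 : (bF.equivFun.symm v).2 = 0 := by
        have : bN.equivFun ((bF.equivFun.symm v).2) = 0 := hv
        exact bN.equivFun.map_eq_zero_iff.1 this
      have : bF.equivFun.symm v = 0 := Prod.ext h1 h2
      apply Subtype.ext
      exact bF.equivFun.symm.map_eq_zero_iff.1 this
    · intro x
      refine ⟨⟨bF.equivFun (x, 0), ?_⟩, ?_⟩
      · simp [q]
      · simp [g]
  exact exists_lift_of_ker I (pcSF R) (pcSF_projective R)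
    (fun X Y hX hXY => (pcSF_prod R X Y hX).1 hXY) (pcSF_nakayama I hI) (pcSF_free R) E _ _ q hq
    (LinearEquiv.ofBijective g hg)

/-- A finite module in a class `Pc` (of projectives, with cancellation and Nakayama, containing the
finite free modules) whose reduction modulo `I ⊆ rad R` is free is free. -/
theorem free_of_free_tensor_of_class (Pc : ObjectProperty (ModuleCat.{u} R))
    [Pc.IsClosedUnderIsomorphisms]
    (h1 : ∀ X : ModuleCat.{u} R, Pc X → Module.Projective R X)
    (h2 : ∀ X Y : ModuleCat.{u} R, Pc X → Pc (ModuleCat.of R (X × Y)) → Pc Y)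
    (h3 : ∀ (X Y : ModuleCat.{u} R) (f : X ⟶ Y), Pc X → Pc Y →
      LinearMap.range f.hom ⊔ I • (⊤ : Submodule R Y) = ⊤ → Function.Surjective f.hom)
    (hfree : ∀ (ι : Type u) [Fintype ι], Pc (ModuleCat.of R (ι → R)))
    (hfin : ∀ X : ModuleCat.{u} R, Pc X → Module.Finite R X)
    (hI : I ≤ Ideal.jacobson (⊥ : Ideal R)) (X : ModuleCat.{u} R)
    (hX : Pc X) [Module.Free (R ⧸ I) ((R ⧸ I) ⊗[R] X)] : Module.Free R X := by
  classical
  haveI := hfin X hX
  haveI : Module.Finite (R ⧸ I) ((R ⧸ I) ⊗[R] X) := inferInstance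
  let b := Module.Free.chooseBasis (R ⧸ I) ((R ⧸ I) ⊗[R] X)
  let cA : (Module.Free.ChooseBasisIndex (R ⧸ I) ((R ⧸ I) ⊗[R] X) → R ⧸ I) →ₗ[R]
      ((R ⧸ I) ⊗[R] X) := b.equivFun.symm.toLinearMap.restrictScalars R
  have hcA : Function.Bijective cA := b.equivFun.symm.bijective
  obtain ⟨ψ, hψs, -, hPc, hmap, hinf⟩ := LiftKernel.kernel_lemma I Pc h1 h2 h3
    (hfree _) hX (piRed I _) (LiftExt.red I X) cA hcA.2
    (piRed_surjective I _) (ker_piRed I _) (LiftExt.red_surjective I X) (LiftExt.ker_red I X)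
  have hker : LinearMap.ker ψ = ⊥ := by
    haveI := hfin _ hPc
    refine Submodule.eq_bot_of_le_smul_of_le_jacobson_bot I _
      (Module.Finite.iff_fg.1 (hfin _ hPc)) ?_ hI
    intro x hx
    apply hinf
    refine Submodule.mem_inf.2 ⟨?_, hx⟩
    have h1' : piRed I _ x ∈ (LinearMap.ker ψ).map (piRed I _) := Submodule.mem_map_of_mem hx
    rw [hmap, LinearMap.ker_eq_bot.2 hcA.1, Submodule.mem_bot] at h1'
    rw [← ker_piRed, LinearMap.mem_ker]
    exact h1'
  exact Module.Free.of_equiv (LinearEquiv.ofBijective ψ ⟨LinearMap.ker_eq_bot.1 hker, hψs⟩)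

/-- A finite stably free module whose reduction modulo `I ⊆ rad R` is free is free. -/
theorem free_of_free_tensor (hI : I ≤ Ideal.jacobson (⊥ : Ideal R)) (X : ModuleCat.{u} R)
    (hX : pcSF R X) [Module.Free (R ⧸ I) ((R ⧸ I) ⊗[R] X)] : Module.Free R X :=
  free_of_free_tensor_of_class I (pcSF R) (pcSF_projective R)
    (fun X Y hX hXY => (pcSF_prod R X Y hX).1 hXY) (pcSF_nakayama I hI) (pcSF_free R)
    (fun _ h => h.1) hI X hX

end StablyFree

end Groth.Agent.Lib.Helper15.LiftStablyFree
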