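import Mathlib
import Groth.Agent.Lib.Helper15.LiftStablyFree

/-!
# helper15: the class of finite projective modules
-/

set_option autoImplicit false
universe u

open CategoryTheory TensorProduct

namespace Groth.Agent.Lib.Helper15.LiftFinProj

variable (R : Type u) [CommRing R]

/-- the class of finite projective modules -/
def pcFP : ObjectProperty (ModuleCat.{u} R) := fun X => Module.Finite R X ∧ Module.Projective R X

instance : (pcFP R).IsClosedUnderIsomorphisms where
  of_iso e h :=
    haveI := h.1
    haveI := h.2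
    ⟨Module.Finite.equiv e.toLinearEquiv, Module.Projective.of_equiv e.toLinearEquiv⟩

theorem pcFP_free (ι : Type u) [Fintype ι] : pcFP R (ModuleCat.of R (ι → R)) :=
  ⟨inferInstanceAs (Module.Finite R (ι → R)), inferInstanceAs (Module.Projective R (ι → R))⟩

theorem pcFP_prod (X Y : ModuleCat.{u} R) (hX : pcFP R X) :
    pcFP R (ModuleCat.of R (X × Y)) ↔ pcFP R Y := by
  haveI := hX.1
  haveI := hX.2
  constructor
  · rintro ⟨hfin, hp⟩
    haveI : Module.Finite R (X × Y) := hfin
    haveI : Module.Projective R (X × Y) := hp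
    exact ⟨Module.Finite.of_surjective (LinearMap.snd R X Y) LinearMap.snd_surjective,
      Module.Projective.of_split (LinearMap.inr R X Y) (LinearMap.snd R X Y)
        (LinearMap.ext fun _ => rfl)⟩
  · rintro ⟨hfin, hp⟩
    haveI : Module.Finite R Y := hfin
    haveI : Module.Projective R Y := hp
    exact ⟨inferInstanceAs (Module.Finite R (X × Y)),
      inferInstanceAs (Module.Projective R (X × Y))⟩

variable {R}

theorem pcFP_nakayama (I : Ideal R) (hI : I ≤ Ideal.jacobson (⊥ : Ideal R)) (X Y : ModuleCat.{u} R)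
    (f : X ⟶ Y) (_ : pcFP R X) (hY : pcFP R Y)
    (h : LinearMap.range f.hom ⊔ I • (⊤ : Submodule R Y) = ⊤) : Function.Surjective f.hom := by
  haveI := hY.1
  rw [← LinearMap.range_eq_top, eq_top_iff]
  exact Submodule.le_of_le_smul_of_le_jacobson_bot Module.Finite.fg_top hI (by rw [h])

/-- A finite projective module whose reduction modulo `I ⊆ rad R` is free is free. -/
theorem free_of_free_tensor (I : Ideal R) (hI : I ≤ Ideal.jacobson (⊥ : Ideal R))
    (X : ModuleCat.{u} R) (hX : pcFP R X) [Module.Free (R ⧸ I) ((R ⧸ I) ⊗[R] X)] :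
    Module.Free R X :=
  LiftStablyFree.free_of_free_tensor_of_class I (pcFP R) (fun _ h => h.2)
    (fun X Y hX hXY => (pcFP_prod R X Y hX).1 hXY) (pcFP_nakayama I hI) (pcFP_free R)
    (fun _ h => h.1) hI X hX

end Groth.Agent.Lib.Helper15.LiftFinProj
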