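import Mathlib
import Groth.Agent.Lib.Helper15.LiftKernel
import Groth.Agent.Lib.Helper52.NilProj

/-!
# helper15: the class of projective modules and lifting projective modules modulo a nilpotent ideal
-/

set_option autoImplicit false
universe u

open CategoryTheory TensorProduct

namespace Groth.Agent.Lib.Helper15.LiftNilpotent

variable {R : Type u} [CommRing R] (I : Ideal R)

section Class

variable (R)

/-- the class of projective modules -/
def pcProj : ObjectProperty (ModuleCat.{u} R) := fun X => Module.Projective R X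

instance : (pcProj R).IsClosedUnderIsomorphisms where
  of_iso e h :=
    haveI : Module.Projective R _ := h
    Module.Projective.of_equiv e.toLinearEquiv

theorem pcProj_prod (X Y : ModuleCat.{u} R) (hX : pcProj R X) :
    pcProj R (ModuleCat.of R (X × Y)) ↔ pcProj R Y := by
  haveI : Module.Projective R X := hX
  constructor
  · intro h
    haveI : Module.Projective R (X × Y) := h
    exact Module.Projective.of_split (LinearMap.inr R X Y) (LinearMap.snd R X Y)
      (LinearMap.ext fun _ => rfl)
  · intro h
    haveI : Module.Projective R Y := h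
    exact inferInstanceAs (Module.Projective R (X × Y))

variable {R}

theorem pcProj_nakayama (hI : IsNilpotent I) (X Y : ModuleCat.{u} R) (f : X ⟶ Y)
    (_ : pcProj R X) (_ : pcProj R Y)
    (h : LinearMap.range f.hom ⊔ I • (⊤ : Submodule R Y) = ⊤) : Function.Surjective f.hom := by
  rw [← LinearMap.range_eq_top]
  exact Groth.Agent.Lib.Helper52.NilProj.eq_top_of_le_sup_smul_top hI _ (by rw [h])

end Class

section Lift

/-- A projective `R/I`-module lifts to a projective `R`-module when `I` is nilpotent. -/
theorem exists_lift_projective (hI : IsNilpotent I)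
    (E : Type u) [AddCommGroup E] [Module (R ⧸ I) E] [Module.Projective (R ⧸ I) E] :
    ∃ X : ModuleCat.{u} R, Module.Projective R X ∧ Nonempty (((R ⧸ I) ⊗[R] X) ≃ₗ[R ⧸ I] E) := by
  classical
  letI : Module R E := Module.compHom E (Ideal.Quotient.mk I)
  haveI : IsScalarTower R (R ⧸ I) E := ⟨fun r s x => by
    change (Ideal.Quotient.mk I r * s) • x = Ideal.Quotient.mk I r • (s • x)
    rw [mul_smul]⟩
  let p₀ : (E →₀ R) →ₗ[R] E := Finsupp.linearCombination R id
  have hp₀ : Function.Surjective p₀ := Finsupp.linearCombination_id_surjective R E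
  let pb : ((R ⧸ I) ⊗[R] (E →₀ R)) →ₗ[R ⧸ I] E := p₀.liftBaseChange (R ⧸ I)
  have hpb : Function.Surjective pb := fun x => by
    obtain ⟨y, rfl⟩ := hp₀ x
    exact ⟨(1 : R ⧸ I) ⊗ₜ[R] y, by simp [pb]⟩
  obtain ⟨sb, hsb⟩ := Module.projective_lifting_property pb LinearMap.id hpb
  have hsb' : ∀ x, pb (sb x) = x := fun x => LinearMap.congr_fun hsb x
  let eb : Module.End (R ⧸ I) ((R ⧸ I) ⊗[R] (E →₀ R)) := sb ∘ₗ pb
  have heb : IsIdempotentElem eb := by
    apply LinearMap.ext
    intro t
    change sb (pb (sb (pb t))) = sb (pb t)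
    rw [hsb']
  obtain ⟨e, he, hee⟩ := Groth.Agent.Lib.Helper52.NilProj.exists_idempotent_lift hI E eb heb
  have he' : ∀ y, e (e y) = e y := fun y => LinearMap.congr_fun he y
  have h1e : ∀ y : E →₀ R, (1 : R ⧸ I) ⊗ₜ[R] e y = sb (p₀ y) := fun y => by
    have := LinearMap.congr_fun hee ((1 : R ⧸ I) ⊗ₜ[R] y)
    rw [LinearMap.baseChange_tmul] at this
    rw [this]
    simp [eb, pb]
  have hp₀e : ∀ y, p₀ (e y) = p₀ y := fun y => by
    have := congrArg pb (h1e y)
    rw [hsb'] at this
    simpa [pb] using this
  let X : Submodule R (E →₀ R) := LinearMap.range e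
  refine ⟨ModuleCat.of R X, ?_, ?_⟩
  · exact Module.Projective.of_split X.subtype e.rangeRestrict (by
      apply LinearMap.ext
      rintro ⟨_, y, rfl⟩
      apply Subtype.ext
      exact he' y)
  · let φ : X →ₗ[R] E := p₀ ∘ₗ X.subtype
    have hφs : Function.Surjective φ := fun x => by
      obtain ⟨y, rfl⟩ := hp₀ x
      exact ⟨⟨e y, y, rfl⟩, hp₀e y⟩
    have hφk : LinearMap.ker φ = I • ⊤ := by
      apply le_antisymm
      · rintro ⟨_, y, rfl⟩ hx
        rw [LinearMap.mem_ker] at hx
        have hx' : p₀ (e y) = 0 := hx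
        rw [Submodule.mem_smul_top_iff]
        have h0 : (1 : R ⧸ I) ⊗ₜ[R] e y = 0 := by
          have := h1e (e y)
          rw [he', hx', map_zero] at this
          exact this
        rw [Groth.Agent.Lib.Helper52.NilProj.one_tmul_eq_zero_iff] at h0
        have : e (e y) ∈ Submodule.map e (I • ⊤) := Submodule.mem_map_of_mem h0
        rw [Submodule.map_smul'', he', Submodule.map_top] at this
        exact this
      · rw [Submodule.smul_le]
        intro r hr x _
        rw [LinearMap.mem_ker, map_smul]
        change Ideal.Quotient.mk I r • φ x = 0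
        rw [Ideal.Quotient.eq_zero_iff_mem.2 hr, zero_smul]
    exact LiftKernel.nonempty_tensor_equiv I φ hφs hφk

end Lift

end Groth.Agent.Lib.Helper15.LiftNilpotent
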