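import Mathlib
import Groth.Agent.Lib.Helper55.FL.ModOpen

/-!
# Descent of finitely presented modules along localizations; spreading flatness (helper15)

* `exists_fp_descent`: a finitely presented module over a localization `S⁻¹R` is the base change of
  a finitely presented `R`-module.
* `exists_away_flat`: for `B` a f.p. `V`-algebra, `N` a f.p. `B`-module with `N_q` flat over `V`,
  there is `g ∉ q` with `B_g ⊗ N` flat over `V` (uses helper55 `isOpen_flat_localizedModule_of_fp`).
-/

set_option autoImplicit false
set_option linter.style.haveILetI false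
universe u
open TensorProduct

namespace Groth.Agent.Lib.Helper15.LocDescent

section D1

variable {R : Type u} [CommRing R] (S : Submonoid R) (A : Type u) [CommRing A] [Algebra R A]
  [IsLocalization S A]

include S in
/-- a finitely presented module over a localization descends to a finitely presented module -/
theorem exists_fp_descent (M : Type u) [AddCommGroup M] [Module A M]
    [Module.FinitePresentation A M] :
    ∃ (N : Type u) (_ : AddCommGroup N) (_ : Module R N) (_ : Module.FinitePresentation R N),
      Nonempty (A ⊗[R] N ≃ₗ[A] M) := by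
  classical
  obtain ⟨n, K, e, s, hs⟩ := Module.FinitePresentation.exists_fin A M
  let f : (Fin n → R) →ₗ[R] (Fin n → A) :=
    LinearMap.pi (fun i => Algebra.linearMap R A ∘ₗ LinearMap.proj i)
  haveI : IsLocalizedModule S f := inferInstance
  choose w hw using fun v : (Fin n → A) => IsLocalizedModule.surj S f v
  let t : Set (Fin n → R) := (fun v => (w v).1) '' (s : Set (Fin n → A))
  have ht : t.Finite := (s.finite_toSet).image _
  let K' : Submodule R (Fin n → R) := Submodule.span R t
  have hK' : K'.localized' A S f = K := by
    rw [Submodule.localized'_span, ← hs]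
    apply le_antisymm
    · rw [Submodule.span_le]
      rintro _ ⟨_, ⟨v, hv, rfl⟩, rfl⟩
      show f (w v).1 ∈ _
      rw [← hw v]
      have : ((w v).2 : R) • v = (algebraMap R A (w v).2) • v := by
        rw [algebraMap_smul]
      rw [Submonoid.smul_def, this]
      exact Submodule.smul_mem _ _ (Submodule.subset_span hv)
    · rw [Submodule.span_le]
      intro v hv
      have h1 : f (w v).1 ∈ Submodule.span A (f '' t) :=
        Submodule.subset_span ⟨_, ⟨v, hv, rfl⟩, rfl⟩
      rw [← hw v, Submonoid.smul_def, ← algebraMap_smul A] at h1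
      have hu : IsUnit (algebraMap R A (w v).2) := IsLocalization.map_units A (w v).2
      have := Submodule.smul_mem _ (↑hu.unit⁻¹ : A) h1
      rwa [smul_smul, IsUnit.val_inv_mul, one_smul] at this
  let N := (Fin n → R) ⧸ K'
  haveI : Module.FinitePresentation R N := by
    refine Module.finitePresentation_of_free_of_surjective K'.mkQ K'.mkQ_surjective ?_
    rw [Submodule.ker_mkQ]
    exact ⟨ht.toFinset, by simp [K']⟩
  let g := K'.toLocalizedQuotient' A S f
  have hg : IsBaseChange A g := IsLocalizedModule.isBaseChange S A g
  exact ⟨N, inferInstance, inferInstance, inferInstance,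
    ⟨hg.equiv ≪≫ₗ Submodule.quotEquivOfEq _ _ hK' ≪≫ₗ e.symm⟩⟩

end D1

section D2

variable (V : Type u) [CommRing V] {B : Type u} [CommRing B] [Algebra V B]
  [Algebra.FinitePresentation V B]
  (N : Type u) [AddCommGroup N] [Module B N] [Module V N] [IsScalarTower V B N]
  [Module.FinitePresentation B N]

/-- flatness over the base of a finitely presented module at a prime spreads to a basic open -/
theorem exists_away_flat (q : Ideal B) [q.IsPrime]
    (hq : Module.Flat V (LocalizedModule q.primeCompl N)) :
    ∃ g : B, g ∉ q ∧ Module.Flat V (Localization.Away g ⊗[B] N) := by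
  have hU := Groth.Agent.Lib.Helper55.FL.isOpen_flat_localizedModule_of_fp (R := V) (S := B) (M := N)
  have hmem : (⟨q, inferInstance⟩ : PrimeSpectrum B) ∈
      {q : PrimeSpectrum B | Module.Flat V (LocalizedModule q.asIdeal.primeCompl N)} := hq
  obtain ⟨_, ⟨g, rfl⟩, hg1, hg2⟩ :=
    PrimeSpectrum.isTopologicalBasis_basic_opens.exists_subset_of_mem_open hmem hU
  refine ⟨g, hg1, ?_⟩
  let B₁ := Localization.Away g
  refine Module.flat_of_isLocalized_maximal (R := V) B₁ (B₁ ⊗[B] N)
    (fun (P : Ideal B₁) [P.IsMaximal] => Localization.AtPrime P ⊗[B₁] (B₁ ⊗[B] N))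
    (fun (P : Ideal B₁) [P.IsMaximal] => TensorProduct.mk B₁ (Localization.AtPrime P) (B₁ ⊗[B] N) 1)
    ?_
  intro P hP
  let q' : Ideal B := P.comap (algebraMap B B₁)
  haveI : q'.IsPrime := Ideal.comap_isPrime _ _
  have hq' : (⟨q', inferInstance⟩ : PrimeSpectrum B) ∈ (PrimeSpectrum.basicOpen g : Set _) := by
    show g ∉ q'
    intro hgq
    have h1 : algebraMap B B₁ g ∈ P := hgq
    exact hP.ne_top (Ideal.eq_top_of_isUnit_mem _ h1 (IsLocalization.Away.algebraMap_isUnit g))
  have hfl : Module.Flat V (LocalizedModule q'.primeCompl N) := hg2 hq'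
  haveI : IsLocalization.AtPrime (Localization.AtPrime P) q' :=
    IsLocalization.isLocalization_isLocalization_atPrime_isLocalization (Submonoid.powers g)
      (Localization.AtPrime P) P
  let e1 : (Localization.AtPrime P ⊗[B₁] (B₁ ⊗[B] N)) ≃ₗ[Localization.AtPrime P]
      (Localization.AtPrime P ⊗[B] N) :=
    AlgebraTensorModule.cancelBaseChange B B₁ (Localization.AtPrime P) (Localization.AtPrime P) N
  let e2 : (Localization.AtPrime P ⊗[B] N) ≃ₗ[B] LocalizedModule q'.primeCompl N :=
    IsLocalizedModule.linearEquiv q'.primeCompl (TensorProduct.mk B (Localization.AtPrime P) N 1)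
      (LocalizedModule.mkLinearMap q'.primeCompl N)
  exact Module.Flat.of_linearEquiv ((e1.restrictScalars V).trans (e2.restrictScalars V))

end D2

end Groth.Agent.Lib.Helper15.LocDescent
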