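import Groth.Agent.Lib.Helper15.DCohLocal
import Groth.Agent.Lib.Helper22.FibreFree
import Groth.Agent.Lib.Helper2.FinLocFreeAff
import Groth.Agent.Lib.Helper2.FreeModAff

/-!
# The locally free locus of the cohomology sheaves of a perfect complex (helper15)
-/

set_option autoImplicit false
set_option linter.style.haveILetI false
universe u

open CategoryTheory CategoryTheory.Limits AlgebraicGeometry
attribute [local instance] HasDerivedCategory.standard

namespace Groth.Agent.Lib.Helper15.LocFreeLocus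

open Groth.Agent.Lib.Lead.CohAff Groth.Agent.Lib.Helper21.QCohSections
  Groth.Agent.Lib.Helper21.Devissage Groth.Agent.Lib.Helper2.DCohHom
  Groth.Agent.Lib.Helper2.FinLocFreeAff Groth.Agent.Lib.Helper2.FreeModAff
  Groth.Agent.Lib.Helper21.QCohKernel

variable {X : Scheme.{u}}

section Equiv

variable {Y : Scheme.{u}} (M : X.Modules) (f : Y ⟶ X) [IsOpenImmersion f] (W : Y.Opens)

instance : RingHomInvPair (f.appIso W).inv.hom (f.appIso W).hom.hom :=
  ⟨by ext x; exact congr($((f.appIso W).inv_hom_id) x),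
    by ext x; exact congr($((f.appIso W).hom_inv_id) x)⟩

instance : RingHomInvPair (f.appIso W).hom.hom (f.appIso W).inv.hom :=
  ⟨by ext x; exact congr($((f.appIso W).hom_inv_id) x),
    by ext x; exact congr($((f.appIso W).inv_hom_id) x)⟩

/-- sections of `M.restrict f` over `W` vs. sections of `M` over `f ''ᵁ W` (semilinear) -/
noncomputable def restrictSectionsEquiv :
    Γ(M.restrict f, W) ≃ₛₗ[(f.appIso W).inv.hom] Γ(M, f ''ᵁ W) where
  toFun m := (M.restrictAppIso f W).hom m
  invFun m := (M.restrictAppIso f W).inv m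
  map_add' a b := map_add _ a b
  map_smul' r m := Scheme.Modules.smul_restrictAppIso_hom_apply f M W r m
  left_inv m := by
    change ((M.restrictAppIso f W).hom ≫ (M.restrictAppIso f W).inv) m = m
    rw [Iso.hom_inv_id]; rfl
  right_inv m := by
    change ((M.restrictAppIso f W).inv ≫ (M.restrictAppIso f W).hom) m = m
    rw [Iso.inv_hom_id]; rfl

end Equiv

/-- sections of isomorphic modules -/
noncomputable def sectionsEquivOfIso {F G : X.Modules} (e : F ≅ G) (U : X.Opens) :
    Γ(F, U) ≃ₗ[Γ(X, U)] Γ(G, U) :=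
  { appL e.hom U with
    invFun := appL e.inv U
    left_inv := fun m => by
      change (e.hom ≫ e.inv).app U m = m
      rw [Iso.hom_inv_id]; rfl
    right_inv := fun m => by
      change (e.inv ≫ e.hom).app U m = m
      rw [Iso.inv_hom_id]; rfl }

/-- `F` has finite projective sections over all affine opens inside `W` -/
def LF (F : X.Modules) (W : X.Opens) : Prop :=
  ∀ U : X.Opens, IsAffineOpen U → U ≤ W →
    Module.Finite Γ(X, U) Γ(F, U) ∧ Module.Projective Γ(X, U) Γ(F, U)

theorem LF.mono {F : X.Modules} {W W' : X.Opens} (h : LF F W) (hW : W' ≤ W) : LF F W' :=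
  fun U hU hUW => h U hU (hUW.trans hW)

theorem LF.of_iso {F G : X.Modules} (e : F ≅ G) {W : X.Opens} (h : LF F W) : LF G W := by
  intro U hU hUW
  obtain ⟨h1, h2⟩ := h U hU hUW
  exact ⟨Module.Finite.equiv (sectionsEquivOfIso e U),
    Module.Projective.of_equiv (sectionsEquivOfIso e U)⟩

theorem LF.of_isZero {F : X.Modules} (hF : IsZero F) (W : X.Opens) : LF F W := by
  intro U hU hUW
  haveI := subsingleton_sections_of_isZero hF U
  exact ⟨inferInstance, inferInstance⟩

theorem LF.of_isFinLocFree {F : X.Modules} (hF : FlatMod.IsFinLocFree F) (W : X.Opens) :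
    LF F W := by
  haveI := Groth.Agent.Lib.Helper2.RankSections.isQuasicoherent_of_isFinLocFree F hF
  intro U hU _
  exact (isFinLocFree_iff_sections F).1 hF U hU

theorem LF.isFinLocFree_restrict {F : X.Modules} [F.IsQuasicoherent] {W : X.Opens}
    (h : LF F W) : FlatMod.IsFinLocFree (F.restrict W.ι) := by
  rw [isFinLocFree_iff_sections]
  intro U' hU'
  obtain ⟨h1, h2⟩ := h (W.ι ''ᵁ U') (hU'.image_of_isOpenImmersion W.ι) (W.ι_image_le U')
  exact ⟨Module.Finite.of_surjective (restrictSectionsEquiv F W.ι U').symm.toLinearMap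
      (restrictSectionsEquiv F W.ι U').symm.surjective,
    Module.Projective.of_equiv (restrictSectionsEquiv F W.ι U').symm⟩

theorem LF.of_isFinLocFree_restrict {F : X.Modules} [F.IsQuasicoherent] {W : X.Opens}
    (h : FlatMod.IsFinLocFree (F.restrict W.ι)) : LF F W := by
  intro U hU hUW
  have hU' : IsAffineOpen (W.ι ⁻¹ᵁ U) :=
    hU.preimage_of_isOpenImmersion W.ι (by rw [Scheme.Opens.opensRange_ι]; exact hUW)
  have e : W.ι ''ᵁ (W.ι ⁻¹ᵁ U) = U := by
    rw [Scheme.Hom.image_preimage_eq_opensRange_inf, Scheme.Opens.opensRange_ι]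
    exact inf_eq_right.mpr hUW
  obtain ⟨h1, h2⟩ := (isFinLocFree_iff_sections (F.restrict W.ι)).1 h _ hU'
  have key : ∀ V : X.Opens, V = U →
      (Module.Finite Γ(X, V) Γ(F, V) ∧ Module.Projective Γ(X, V) Γ(F, V)) →
      (Module.Finite Γ(X, U) Γ(F, U) ∧ Module.Projective Γ(X, U) Γ(F, U)) := by
    rintro V rfl h; exact h
  exact key _ e ⟨Module.Finite.of_surjective (restrictSectionsEquiv F W.ι _).toLinearMap
      (restrictSectionsEquiv F W.ι _).surjective,
    Module.Projective.of_equiv (restrictSectionsEquiv F W.ι _)⟩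

/-- stalks of a module with finite sections over an affine open are finite -/
theorem finite_stalk_of_finite_sections (F : X.Modules) [F.IsQuasicoherent] {U : X.Opens}
    (hU : IsAffineOpen U) [Module.Finite Γ(X, U) Γ(F, U)] (x : X) (hx : x ∈ U) :
    Module.Finite (X.presheaf.stalk x) (F.presheaf.stalk x) := by
  letI := X.presheaf.algebra_section_stalk ⟨x, hx⟩
  haveI := hU.isLocalization_stalk ⟨x, hx⟩
  haveI : IsScalarTower Γ(X, U) (X.presheaf.stalk x)
      (Groth.Agent.Lib.Lead.QCohAff.StalkOver F U x hx) :=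
    IsScalarTower.of_algebraMap_smul fun r m => rfl
  haveI := Groth.Agent.Lib.Lead.QCohAff.isLocalizedModule_germL F hU x hx
  have h : Module.Finite (X.presheaf.stalk x) (Groth.Agent.Lib.Lead.QCohAff.StalkOver F U x hx) :=
    Module.Finite.of_isLocalizedModule (hU.primeIdealOf ⟨x, hx⟩).asIdeal.primeCompl
      (Rₚ := X.presheaf.stalk x) (Groth.Agent.Lib.Lead.QCohAff.germL F U x hx)
  exact h

theorem LF.stalk {F : X.Modules} [F.IsQuasicoherent] {W : X.Opens} (h : LF F W) (x : X)
    (hx : x ∈ W) : Module.Free (X.presheaf.stalk x) (F.presheaf.stalk x) ∧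
      Module.Finite (X.presheaf.stalk x) (F.presheaf.stalk x) := by
  obtain ⟨_, ⟨U, hU : IsAffineOpen U, rfl⟩, hxU, hUW⟩ :=
    (X.isBasis_affineOpens).exists_subset_of_mem_open hx W.isOpen
  obtain ⟨h1, h2⟩ := h U hU hUW
  exact ⟨free_stalk_of_projective F hU x hxU, finite_stalk_of_finite_sections F hU x hxU⟩

theorem LF.restrict {F : X.Modules} {V W : X.Opens} (h : LF F W) :
    LF (F.restrict V.ι) (V.ι ⁻¹ᵁ W) := by
  intro U' hU' hle
  have hUW : V.ι ''ᵁ U' ≤ W := by
    rintro _ ⟨z, hz, rfl⟩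
    exact hle hz
  obtain ⟨h1, h2⟩ := h (V.ι ''ᵁ U') (hU'.image_of_isOpenImmersion V.ι) hUW
  exact ⟨Module.Finite.of_surjective (restrictSectionsEquiv F V.ι U').symm.toLinearMap
      (restrictSectionsEquiv F V.ι U').symm.surjective,
    Module.Projective.of_equiv (restrictSectionsEquiv F V.ι U').symm⟩

theorem LF.of_restrict {F : X.Modules} {V : X.Opens} {W' : (↑V : Scheme.{u}).Opens}
    (h : LF (F.restrict V.ι) W') : LF F (V.ι ''ᵁ W') := by
  intro U hU hUW
  have hUV : U ≤ V := hUW.trans (V.ι_image_le W')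
  have hU' : IsAffineOpen (V.ι ⁻¹ᵁ U) :=
    hU.preimage_of_isOpenImmersion V.ι (by rw [Scheme.Opens.opensRange_ι]; exact hUV)
  have e : V.ι ''ᵁ (V.ι ⁻¹ᵁ U) = U := by
    rw [Scheme.Hom.image_preimage_eq_opensRange_inf, Scheme.Opens.opensRange_ι]
    exact inf_eq_right.mpr hUV
  have hle : V.ι ⁻¹ᵁ U ≤ W' := by
    rw [← Scheme.Hom.image_le_image_iff V.ι, e]
    exact hUW
  obtain ⟨h1, h2⟩ := h _ hU' hle
  have key : ∀ V' : X.Opens, V' = U →
      (Module.Finite Γ(X, V') Γ(F, V') ∧ Module.Projective Γ(X, V') Γ(F, V')) →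
      (Module.Finite Γ(X, U) Γ(F, U) ∧ Module.Projective Γ(X, U) Γ(F, U)) := by
    rintro V' rfl h; exact h
  exact key _ e ⟨Module.Finite.of_surjective (restrictSectionsEquiv F V.ι _).toLinearMap
      (restrictSectionsEquiv F V.ι _).surjective,
    Module.Projective.of_equiv (restrictSectionsEquiv F V.ι _)⟩

open Groth.Agent.Lib.Helper22.FibreFree in
/-- a quasi-coherent module which is `LF` near every point is finite locally free -/
theorem isFinLocFree_of_forall_LF (G : X.Modules) [G.IsQuasicoherent]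
    (h : ∀ z : X, ∃ W : X.Opens, z ∈ W ∧ LF G W) : FlatMod.IsFinLocFree G := by
  intro z
  obtain ⟨W, hzW, hW⟩ := h z
  obtain ⟨_, ⟨U, hU : IsAffineOpen U, rfl⟩, hzU, hUW⟩ :=
    (X.isBasis_affineOpens).exists_subset_of_mem_open hzW W.isOpen
  obtain ⟨h1, h2⟩ := hW U hU hUW
  haveI : Module.FinitePresentation Γ(X, U) Γ(G, U) := Module.finitePresentation_of_projective _ _
  exact exists_open_iso_freeMod_of_stalk_free' G hU z hzU (free_stalk_of_projective G hU z hzU)

section Algebra

theorem finite_projective_of_exact {R A B C : Type*} [CommRing R] [AddCommGroup A]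
    [AddCommGroup B] [AddCommGroup C] [Module R A] [Module R B] [Module R C]
    (f : A →ₗ[R] B) (g : B →ₗ[R] C) (h : Function.Exact f g) (hf : Function.Injective f)
    (hg : Function.Surjective g) [Module.Finite R B] [Module.Projective R B]
    [Module.Projective R C] : Module.Finite R A ∧ Module.Projective R A := by
  obtain ⟨l, hl⟩ := Module.projective_lifting_property g LinearMap.id hg
  have h01 : (∃ l, g ∘ₗ l = LinearMap.id) ↔ ∃ l, l ∘ₗ f = LinearMap.id :=
    (h.split_tfae hf hg).out 0 1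
  obtain ⟨r, hr⟩ := h01.1 ⟨l, hl⟩
  refine ⟨Module.Finite.of_surjective r ?_, Module.Projective.of_split f r hr⟩
  intro a
  exact ⟨f a, LinearMap.congr_fun hr a⟩

end Algebra

/-- sections over an affine open of an exact sequence of quasi-coherent modules are exact -/
theorem sections_exact_of_exact (S : ShortComplex X.Modules) (hS : S.Exact)
    [S.X₁.IsQuasicoherent] [S.X₂.IsQuasicoherent] [S.X₃.IsQuasicoherent] {U : X.Opens}
    (hU : IsAffineOpen U) : Function.Exact (appL S.f U) (appL S.g U) := by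
  haveI : (kernel S.g).IsQuasicoherent := isQuasicoherent_kernel S.g
  haveI : Epi (kernel.lift S.g S.f S.zero) := hS.epi_kernelLift
  have hsurj : Function.Surjective ((kernel.lift S.g S.f S.zero).app U) :=
    app_surjective_of_epi _ hU
  have hE : (ShortComplex.mk (kernel.ι S.g) S.g (kernel.condition _)).Exact :=
    ShortComplex.exact_kernel S.g
  have h1 : ((ShortComplex.mk (kernel.ι S.g) S.g (kernel.condition _)).map (secF U)).Exact :=
    hE.map_of_mono_of_preservesKernel (secF U) (inferInstanceAs (Mono (kernel.ι S.g)))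
      inferInstance
  have h2 : Function.Exact ((kernel.ι S.g).app U) (S.g.app U) :=
    (ShortComplex.ab_exact_iff_function_exact _).mp h1
  intro m
  constructor
  · intro hm
    obtain ⟨k, rfl⟩ := (h2 m).1 hm
    obtain ⟨a, rfl⟩ := hsurj k
    refine ⟨a, ?_⟩
    change S.f.app U a = ((kernel.lift S.g S.f S.zero) ≫ kernel.ι S.g).app U a
    rw [kernel.lift_ι]
  · rintro ⟨a, rfl⟩
    change (S.f ≫ S.g).app U a = 0
    rw [S.zero]
    rfl

open Groth.Agent.Lib.Helper22.FibreFree in
/-- spreading out freeness of a stalk -/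
theorem spread_of_free_stalk (H : X.Modules) [H.IsQuasicoherent] (y : X)
    (hfree : Module.Free (X.presheaf.stalk y) (H.presheaf.stalk y)) (U : X.Opens)
    (hU : IsAffineOpen U) (hyU : y ∈ U) (hfp : Module.FinitePresentation Γ(X, U) Γ(H, U)) :
    ∃ V : X.Opens, y ∈ V ∧ LF H V := by
  obtain ⟨V, n, hyV, hV⟩ := exists_open_iso_freeMod_of_stalk_free' H hU y hyU hfree
  exact ⟨V, hyV, LF.of_isFinLocFree_restrict
    (Groth.Agent.Lib.Helper2.DCohBase.isFinLocFree_of_iso_freeMod hV)⟩

/-- the inductive step: `K → A → Z → H → 0` exact, `A`, `Z` locally free near `y` and `H_y` free;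
then `H` and `K` are locally free near `y` -/
theorem step {K A Z H : X.Modules} (k : K ⟶ A) (a : A ⟶ Z) (c : Z ⟶ H) (hka : k ≫ a = 0)
    (hac : a ≫ c = 0) (h₁ : (ShortComplex.mk k a hka).Exact) [Mono k]
    (h₂ : (ShortComplex.mk a c hac).Exact) [Epi c]
    [K.IsQuasicoherent] [A.IsQuasicoherent] [Z.IsQuasicoherent] [H.IsQuasicoherent]
    (W : X.Opens) (y : X) (hy : y ∈ W) (hA : LF A W) (hZ : LF Z W)
    (hspread : ∀ U : X.Opens, IsAffineOpen U → y ∈ U →
      Module.FinitePresentation Γ(X, U) Γ(H, U) → ∃ V : X.Opens, y ∈ V ∧ LF H V) :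
    ∃ W' : X.Opens, W' ≤ W ∧ y ∈ W' ∧ LF H W' ∧ LF K W' := by
  -- sections facts over any affine open
  have hsec : ∀ U : X.Opens, IsAffineOpen U →
      Function.Exact (appL a U) (appL c U) ∧ Function.Surjective (appL c U) ∧
      Function.Exact (appL k U) (appL a U) ∧ Function.Injective (appL k U) := by
    intro U hU
    exact ⟨sections_exact_of_exact (ShortComplex.mk a c hac) h₂ hU, app_surjective_of_epi c hU,
      sections_exact_of_exact (ShortComplex.mk k a hka) h₁ hU, app_injective_of_mono k U⟩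
  obtain ⟨_, ⟨U, hU : IsAffineOpen U, rfl⟩, hyU, hUW⟩ :=
    (X.isBasis_affineOpens).exists_subset_of_mem_open hy W.isOpen
  obtain ⟨hex, hsurj, -, -⟩ := hsec U hU
  obtain ⟨hZ1, hZ2⟩ := hZ U hU hUW
  obtain ⟨hA1, -⟩ := hA U hU hUW
  haveI : Module.FinitePresentation Γ(X, U) Γ(Z, U) := Module.finitePresentation_of_projective _ _
  haveI : Module.FinitePresentation Γ(X, U) Γ(H, U) := by
    refine Module.finitePresentation_of_surjective (appL c U) hsurj ?_
    rw [hex.linearMap_ker_eq, LinearMap.range_eq_map]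
    exact Submodule.FG.map _ hA1.fg_top
  obtain ⟨V, hyV, hHV⟩ := hspread U hU hyU inferInstance
  refine ⟨W ⊓ V, inf_le_left, ⟨hy, hyV⟩, hHV.mono inf_le_right, ?_⟩
  intro U₃ hU₃ hle
  obtain ⟨hex, hsurj, hex', hinj⟩ := hsec U₃ hU₃
  obtain ⟨hZ1, hZ2⟩ := hZ U₃ hU₃ (hle.trans inf_le_left)
  obtain ⟨hA1, hA2⟩ := hA U₃ hU₃ (hle.trans inf_le_left)
  obtain ⟨hH1, hH2⟩ := hHV U₃ hU₃ (hle.trans inf_le_right)
  -- the image `B = ker c = range a`
  have hB := finite_projective_of_exact (LinearMap.ker (appL c U₃)).subtype (appL c U₃)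
    (fun z => by
      constructor
      · intro hz; exact ⟨⟨z, hz⟩, rfl⟩
      · rintro ⟨b, rfl⟩; exact b.2)
    Subtype.val_injective hsurj
  obtain ⟨hB1, hB2⟩ := hB
  let a' : Γ(A, U₃) →ₗ[Γ(X, U₃)] LinearMap.ker (appL c U₃) :=
    (appL a U₃).codRestrict _ (fun m => hex.apply_apply_eq_zero m)
  have ha'surj : Function.Surjective a' := by
    rintro ⟨z, hz⟩
    obtain ⟨m, rfl⟩ := (hex z).1 hz
    exact ⟨m, rfl⟩
  have hex'' : Function.Exact (appL k U₃) a' := by
    intro m
    constructor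
    · intro hm
      exact (hex' m).1 (congrArg Subtype.val hm)
    · rintro ⟨x, rfl⟩
      exact Subtype.ext (hex'.apply_apply_eq_zero x)
  exact finite_projective_of_exact (appL k U₃) a' hex'' hinj ha'surj

section Complex

variable (P : CochainComplex X.Modules ℤ)

theorem isQuasicoherent_X_of_isFinLocFree (hP : ∀ i, FlatMod.IsFinLocFree (P.X i)) (i : ℤ) :
    (P.X i).IsQuasicoherent :=
  Groth.Agent.Lib.Helper2.RankSections.isQuasicoherent_of_isFinLocFree _ (hP i)

/-- one step of the descending induction for a complex -/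
theorem step_complex (hP : ∀ i, FlatMod.IsFinLocFree (P.X i)) (i j : ℤ) (hij : i + 1 = j)
    (W : X.Opens) (y : X) (hy : y ∈ W) (hZ : LF (P.cycles j) W)
    (hspread : ∀ U : X.Opens, IsAffineOpen U → y ∈ U →
      Module.FinitePresentation Γ(X, U) Γ(P.homology j, U) →
      ∃ V : X.Opens, y ∈ V ∧ LF (P.homology j) V) :
    ∃ W' : X.Opens, W' ≤ W ∧ y ∈ W' ∧ LF (P.homology j) W' ∧ LF (P.cycles i) W' := by
  have hq := isQuasicoherent_X_of_isFinLocFree P hP
  haveI := hq i
  haveI := isQuasicoherent_cycles P hq i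
  haveI := isQuasicoherent_cycles P hq j
  haveI := isQuasicoherent_homology P hq j
  have hnext : (ComplexShape.up ℤ).next i = j := by simpa using hij
  have hprev : (ComplexShape.up ℤ).prev j = i := by
    rw [← hij]; simp
  have hka : P.iCycles i ≫ P.toCycles i j = 0 := by
    rw [← cancel_mono (P.iCycles j), Category.assoc, P.toCycles_i, P.iCycles_d, zero_comp]
  have h₁ : (ShortComplex.mk (P.iCycles i) (P.toCycles i j) hka).Exact :=
    ShortComplex.exact_of_f_is_kernel _
      (isKernelOfComp (P.iCycles j) (P.d i j) (P.cyclesIsKernel i j hnext) hka (P.toCycles_i i j))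
  have h₂ : (ShortComplex.mk (P.toCycles i j) (P.homologyπ j)
      (P.toCycles_comp_homologyπ i j)).Exact :=
    ShortComplex.exact_of_g_is_cokernel _ (P.homologyIsCokernel i j hprev)
  exact step (P.iCycles i) (P.toCycles i j) (P.homologyπ j) hka (P.toCycles_comp_homologyπ i j)
    h₁ h₂ W y hy (LF.of_isFinLocFree (hP i) W) hZ hspread

theorem exists_LF_homology (hP : ∀ i, FlatMod.IsFinLocFree (P.X i)) (a b : ℤ)
    (hab : ∀ i, i < a ∨ b < i → IsZero (P.X i)) (y : X)
    (hspread : ∀ (i : ℤ) (U : X.Opens), IsAffineOpen U → y ∈ U →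
      Module.FinitePresentation Γ(X, U) Γ(P.homology i, U) →
      ∃ V : X.Opens, y ∈ V ∧ LF (P.homology i) V) :
    ∃ W : X.Opens, y ∈ W ∧ ∀ i, LF (P.homology i) W := by
  have hzero : ∀ i, i < a ∨ b < i → IsZero (P.homology i) := fun i hi =>
    ShortComplex.isZero_homology_of_isZero_X₂ _ (hab i hi)
  have key : ∀ k : ℕ, ∃ W : X.Opens, y ∈ W ∧ LF (P.cycles (b - k)) W ∧
      ∀ i, b - k < i → LF (P.homology i) W := by
    intro k
    induction k with
    | zero =>
      refine ⟨⊤, trivial, ?_, fun i hi => LF.of_isZero (hzero i (Or.inr (by simpa using hi))) _⟩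
      have hd : P.d (b - (0 : ℕ)) (b - (0 : ℕ) + 1) = 0 :=
        (hab (b - (0 : ℕ) + 1) (Or.inr (by simp))).eq_of_tgt _ _
      haveI := P.isIso_iCycles (b - (0 : ℕ)) (b - (0 : ℕ) + 1) (by simp) hd
      exact LF.of_iso (asIso (P.iCycles (b - (0 : ℕ)))).symm (LF.of_isFinLocFree (hP _) ⊤)
    | succ k ih =>
      obtain ⟨W, hyW, hZ, hH⟩ := ih
      obtain ⟨W', hle, hyW', hH', hZ'⟩ := step_complex P hP (b - ((k + 1 : ℕ) : ℤ)) (b - (k : ℤ))
        (by push_cast; ring) W y hyW hZ (hspread _)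
      refine ⟨W', hyW', hZ', fun i hi => ?_⟩
      by_cases h : i = b - (k : ℤ)
      · subst h; exact hH'
      · refine (hH i ?_).mono hle
        push_cast at hi
        omega
  obtain ⟨W, hyW, -, hH⟩ := key (b - a + 1).toNat
  refine ⟨W, hyW, fun i => ?_⟩
  by_cases hi : b - ((b - a + 1).toNat : ℤ) < i
  · exact hH i hi
  · refine LF.of_isZero (hzero i (Or.inl ?_)) W
    have := Int.self_le_toNat (b - a + 1)
    omega

end Complex

section Perfect

/-- the cohomology sheaves of a perfect complex are quasi-coherent -/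
theorem isQuasicoherent_HD_of_isPerfect (K : DCoh.D X) (hK : DCoh.IsPerfect K) (i : ℤ) :
    (DCoh.HD K i).IsQuasicoherent := by
  obtain ⟨F₀, ⟨e₀⟩⟩ := Groth.Agent.Lib.Helper2.DCohBase.exists_rep K
  choose V hxV hV using hK
  have hcov : TopologicalSpace.IsOpenCover V := by
    change ⨆ x, V x = ⊤
    exact top_le_iff.1 fun x _ => TopologicalSpace.Opens.mem_iSup.2 ⟨x, hxV x⟩
  apply Groth.Agent.Lib.Helper40.QCohCoprod.isQuasicoherent_of_isOpenCover _ V hcov
  intro x
  obtain ⟨E, hE, ⟨ε⟩⟩ := hV x F₀ ⟨e₀⟩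
  have iso := homRestrictIso K F₀ e₀ (V x).ι i ≪≫
    (DerivedCategory.homologyFunctor _ i).mapIso ε ≪≫
    (DerivedCategory.homologyFunctorFactors _ i).app E
  exact Groth.Agent.Lib.Helper40.QCohCoprod.qc_of_iso iso.symm
    (isQuasicoherent_homology_of_isStrictlyPerfect E hE i)

/-- if all the stalks at `x` of the cohomology sheaves of a perfect complex are free, then all the
cohomology sheaves are finite locally free on a common neighbourhood of `x` -/
theorem exists_LF_HD_of_free_stalks (K : DCoh.D X) (hK : DCoh.IsPerfect K) (x : X)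
    (hfree : ∀ i : ℤ, Module.Free (X.presheaf.stalk x) ((DCoh.HD K i).presheaf.stalk x)) :
    ∃ W : X.Opens, x ∈ W ∧ ∀ i : ℤ, LF (DCoh.HD K i) W := by
  have hq : ∀ i, (DCoh.HD K i).IsQuasicoherent := isQuasicoherent_HD_of_isPerfect K hK
  obtain ⟨F₀, ⟨e₀⟩⟩ := Groth.Agent.Lib.Helper2.DCohBase.exists_rep K
  obtain ⟨V, hxV, hV⟩ := hK x
  obtain ⟨E, hE, ⟨ε⟩⟩ := hV F₀ ⟨e₀⟩
  have iso : ∀ i : ℤ, (DCoh.HD K i).restrict V.ι ≅ E.homology i := fun i =>
    homRestrictIso K F₀ e₀ V.ι i ≪≫
      (DerivedCategory.homologyFunctor _ i).mapIso ε ≪≫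
      (DerivedCategory.homologyFunctorFactors _ i).app E
  obtain ⟨⟨a, b, hab⟩, hfl⟩ := hE
  obtain ⟨W', hyW', hW'⟩ := exists_LF_homology E hfl a b hab (⟨x, hxV⟩ : ↥V) (by
    intro i U' hU' hyU' hfp
    haveI := hq i
    haveI : Module.FinitePresentation Γ(↑V, U') Γ((DCoh.HD K i).restrict V.ι, U') :=
      Module.FinitePresentation.of_equiv (sectionsEquivOfIso (iso i).symm U')
    have hfp' : Module.FinitePresentation Γ(X, V.ι ''ᵁ U') Γ(DCoh.HD K i, V.ι ''ᵁ U') :=
      finitePresentation_of_semilinearEquiv (restrictSectionsEquiv (DCoh.HD K i) V.ι U')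
    obtain ⟨V₂, hxV₂, hV₂⟩ := spread_of_free_stalk (DCoh.HD K i) x (hfree i) (V.ι ''ᵁ U')
      (hU'.image_of_isOpenImmersion V.ι) ⟨⟨x, hxV⟩, hyU', rfl⟩ hfp'
    exact ⟨V.ι ⁻¹ᵁ V₂, hxV₂, LF.of_iso (iso i) (LF.restrict hV₂)⟩)
  exact ⟨V.ι ''ᵁ W', ⟨⟨x, hxV⟩, hyW', rfl⟩, fun i =>
    LF.of_restrict (LF.of_iso (iso i).symm (hW' i))⟩

end Perfect

end Groth.Agent.Lib.Helper15.LocFreeLocus
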