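import Mathlib
import Groth.Agent.Lib.Helper15.FibrePd

/-!
# Projective dimension over a "local" base equals that of one fibre (helper15)

`A → B` flat, `T` an `A`-algebra such that every residue field `κ(q)` of a maximal ideal `q` of `B`
receives a `B`-algebra map from `B ⊗[A] T` (e.g. `T = A ⧸ p` with `p ≤ q ∩ A` for all maximal `q`:
`residueMap_quot`).  For an `A`-flat `B`-module with a chain of syzygies by finite free modules,
`pd_B M = pd_{B ⊗ T} ((B ⊗ T) ⊗_B M)` (`Chain.projectiveDimension_eq_bc`).

Also: `Chain.exists_of_step` (generic construction of chains), `Chain.baseChange` (flat base change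
of a chain), `flat_tensor_of_flat`, and transport of projective dimension along algebra
isomorphisms `projectiveDimension_tensor_eq_of_algEquiv`.
-/

set_option autoImplicit false
set_option linter.style.haveILetI false
set_option linter.unusedSectionVars false
universe u
open CategoryTheory CategoryTheory.Limits TensorProduct

namespace Groth.Agent.Lib.Helper15.LocalFibrePd

open Groth.Agent.Lib.Helper15.Syzygy Groth.Agent.Lib.Helper15.FibreProj
  Groth.Agent.Lib.Helper15.FibrePd

section Key

variable (A B : Type u) [CommRing A] [CommRing B] [Algebra A B]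
variable (T : Type u) [CommRing T] [Algebra A T]
variable (N : Type u) [AddCommGroup N] [Module B N] [Module A N] [IsScalarTower A B N]

/-- fibre criterion with a single fibre ring `B ⊗[A] T` dominating all closed points of `B` -/
theorem projective_of_fibre_flat_of_residueMap [Module.FinitePresentation B N] [Module.Flat A N]
    (hT : ∀ (q : Ideal B) [q.IsMaximal], Nonempty ((B ⊗[A] T) →ₐ[B] q.ResidueField))
    (h : Module.Flat (B ⊗[A] T) ((B ⊗[A] T) ⊗[B] N)) : Module.Projective B N := by
  obtain ⟨n, g, hg⟩ := Module.Finite.exists_fin' B N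
  have hL : (LinearMap.ker g).FG := Module.FinitePresentation.fg_ker g hg
  haveI : Module.Finite B (LinearMap.ker g) := Module.Finite.iff_fg.mpr hL
  have hfg : Function.Exact (LinearMap.ker g).subtype g := LinearMap.exact_subtype_ker_map g
  refine projective_of_residueField_lTensor_injective (LinearMap.ker g).subtype g hg hfg ?_
  intro q hq
  haveI := hq
  obtain ⟨φ⟩ := hT q
  let B' := B ⊗[A] T
  letI : Algebra B' q.ResidueField := φ.toRingHom.toAlgebra
  haveI : IsScalarTower B B' q.ResidueField :=
    IsScalarTower.of_algebraMap_eq' φ.comp_algebraMap.symm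
  haveI : Module.Flat B' (B' ⊗[B] N) := h
  have h1 : Function.Injective ((LinearMap.ker g).subtype.baseChange B') :=
    baseChange_injective_of_flat A B T (LinearMap.ker g).subtype g
      (Submodule.subtype_injective _) hg hfg
  have h2 : Function.Injective (((LinearMap.ker g).subtype.baseChange B').lTensor q.ResidueField) :=
    LinearMap.lTensor_injective_of_exact_of_flat (g.baseChange B')
      (baseChange_surjective A B _ g hg) _ h1 (baseChange_exact A B _ _ g hg hfg) _
  exact (lTensor_baseChange_injective_iff (B' := B') (LinearMap.ker g).subtype).mp h2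

omit [Module A N] [IsScalarTower A B N] in
/-- a finite `B`-module whose fibre over `T` vanishes is zero -/
theorem subsingleton_of_fibre_subsingleton_of_residueMap [Module.Finite B N]
    (hT : ∀ (q : Ideal B) [q.IsMaximal], Nonempty ((B ⊗[A] T) →ₐ[B] q.ResidueField))
    (h : Subsingleton ((B ⊗[A] T) ⊗[B] N)) : Subsingleton N := by
  rw [← Module.support_eq_empty_iff (R := B), Set.eq_empty_iff_forall_notMem]
  intro q hq
  obtain ⟨m, hm, hqm⟩ := Ideal.exists_le_maximal q.asIdeal q.2.ne_top
  haveI := hm
  have hm' : (⟨m, hm.isPrime⟩ : PrimeSpectrum B) ∈ Module.support B N :=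
    Module.mem_support_mono (by exact hqm) hq
  rw [Module.mem_support_iff_nontrivial_residueField_tensorProduct] at hm'
  obtain ⟨φ⟩ := hT m
  let B' := B ⊗[A] T
  letI : Algebra B' m.ResidueField := φ.toRingHom.toAlgebra
  haveI : IsScalarTower B B' m.ResidueField :=
    IsScalarTower.of_algebraMap_eq' φ.comp_algebraMap.symm
  haveI : Subsingleton (B' ⊗[B] N) := h
  have e := AlgebraTensorModule.cancelBaseChange B B' m.ResidueField m.ResidueField N
  haveI : Subsingleton (m.ResidueField ⊗[B] N) := e.symm.subsingleton
  exact not_subsingleton _ ‹_›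

/-- the residue maps for `T = A ⧸ p` when all maximal ideals of `B` contain `p B` -/
theorem residueMap_quot (p : Ideal A) (hp : ∀ (q : Ideal B) [q.IsMaximal], p ≤ q.under A) :
    ∀ (q : Ideal B) [q.IsMaximal], Nonempty ((B ⊗[A] (A ⧸ p)) →ₐ[B] q.ResidueField) := by
  intro q hq
  refine ⟨Algebra.TensorProduct.lift (Algebra.ofId B q.ResidueField)
    (Ideal.Quotient.liftₐ p (Algebra.ofId A q.ResidueField) ?_) (fun _ _ => Commute.all _ _)⟩
  intro a ha
  have h1 : algebraMap A B a ∈ q := hp q ha
  rw [Algebra.ofId_apply, IsScalarTower.algebraMap_apply A B q.ResidueField]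
  exact (Ideal.algebraMap_residueField_eq_zero).mpr h1

end Key

section ChainKey

variable (A : Type u) {B : Type u} [CommRing A] [CommRing B] [Algebra A B]
variable (T : Type u) [CommRing T] [Algebra A T]

attribute [local instance] modA

namespace Chain

variable (C : Chain B)

/-- projective dimension is detected on a fibre dominating all closed points -/
theorem pdLT_of_bc' (hfl : ∀ k, Module.Flat A (C.Z k))
    (hT : ∀ (q : Ideal B) [q.IsMaximal], Nonempty ((B ⊗[A] T) →ₐ[B] q.ResidueField))
    (n : ℕ) : ∀ k : ℕ,
    HasProjectiveDimensionLT (bc A T (C.Z k)) (n + 1) →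
    HasProjectiveDimensionLT (C.Z k) (n + 1) := by
  induction n with
  | zero =>
    intro k h
    haveI := hfl k
    haveI : Module.Projective B (C.Z k) := by
      refine projective_of_fibre_flat_of_residueMap A B T (C.Z k) hT ?_
      haveI : Projective (bc A T (C.Z k)) := projective_iff_hasProjectiveDimensionLT_one.mpr h
      haveI : Module.Projective (B ⊗[A] T) ((B ⊗[A] T) ⊗[B] (C.Z k)) :=
        (bc A T (C.Z k)).projective_of_module_projective
      exact Module.Flat.of_projective
    exact projective_iff_hasProjectiveDimensionLT_one.mp inferInstance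
  | succ n ih =>
    intro k h
    refine (C.pdLT_succ_iff k n).mpr (ih (k + 1) ?_)
    haveI := bc_projective A T (C.F k)
    exact (Chain.bc_shortExact A T C k (hfl k)).hasProjectiveDimensionLT_X₁ (n + 1)
      inferInstance h

/-- `pd_B M = pd` of the fibre over `T` -/
theorem projectiveDimension_eq_bc [Module.Flat A B] (h0 : Module.Flat A (C.Z 0))
    (hT : ∀ (q : Ideal B) [q.IsMaximal], Nonempty ((B ⊗[A] T) →ₐ[B] q.ResidueField)) :
    projectiveDimension (C.Z 0) = projectiveDimension (bc A T (C.Z 0)) := by
  have hfl := Chain.flat_Z A C h0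
  apply le_antisymm
  · apply le_of_forall_nat_lt
    intro n hn
    rw [projectiveDimension_lt_iff] at hn ⊢
    rcases n with _ | n
    · have h2 : Subsingleton (C.Z 0) := by
        refine subsingleton_of_fibre_subsingleton_of_residueMap A B T (C.Z 0) hT ?_
        exact ModuleCat.subsingleton_of_isZero
          (isZero_of_hasProjectiveDimensionLT_zero (bc A T (C.Z 0)))
      exact (ModuleCat.isZero_of_subsingleton (C.Z 0)).hasProjectiveDimensionLT_zero
    · exact pdLT_of_bc' A T C hfl hT n 0 hn
  · apply le_of_forall_nat_lt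
    intro n hn
    rw [projectiveDimension_lt_iff] at hn ⊢
    rcases n with _ | n
    · exact (bc_isZero A _ _
        (isZero_of_hasProjectiveDimensionLT_zero (C.Z 0))).hasProjectiveDimensionLT_zero
    · exact Chain.bc_pdLT A _ C hfl n 0 hn

end Chain

end ChainKey

section Build

variable {B : Type u} [CommRing B]

/-- generic construction of a chain of syzygies: `P` is a property of modules such that every
module with `P` admits a surjection from a finite free module whose kernel has `P` again -/
theorem Chain.exists_of_step (P : ModuleCat.{u} B → Prop)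
    (step : ∀ X : ModuleCat.{u} B, P X → ∃ (n : ℕ) (π : (Fin n → B) →ₗ[B] X),
      Function.Surjective π ∧ P (ModuleCat.of B (LinearMap.ker π)))
    (X : ModuleCat.{u} B) (hX : P X) : ∃ C : Chain B, C.Z 0 = X ∧ ∀ k, P (C.Z k) := by
  classical
  choose n π hπ hP using step
  let next : {X : ModuleCat.{u} B // P X} → {X : ModuleCat.{u} B // P X} :=
    fun Y => ⟨ModuleCat.of B (LinearMap.ker (π Y.1 Y.2)), hP Y.1 Y.2⟩
  let seq : ℕ → {X : ModuleCat.{u} B // P X} := fun k => Nat.rec ⟨X, hX⟩ (fun _ Y => next Y) k
  refine ⟨{
    Z := fun k => (seq k).1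
    F := fun k => ModuleCat.of B (Fin (n (seq k).1 (seq k).2) → B)
    f := fun k => ModuleCat.ofHom (LinearMap.ker (π (seq k).1 (seq k).2)).subtype
    g := fun k => ModuleCat.ofHom (π (seq k).1 (seq k).2)
    w := fun k => (π (seq k).1 (seq k).2).shortComplexKer.zero
    se := fun k => LinearMap.shortExact_shortComplexKer (hπ (seq k).1 (seq k).2)
    fin := fun k => inferInstanceAs (Module.Finite B (Fin _ → B))
    free := fun k => inferInstanceAs (Module.Free B (Fin _ → B)) }, rfl, fun k => (seq k).2⟩

end Build

section BaseChange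

variable {B : Type u} [CommRing B] (B' : Type u) [CommRing B'] [Algebra B B'] [Module.Flat B B']

/-- flat base change of a chain of syzygies -/
noncomputable def Chain.baseChange (C : Chain B) : Chain B' where
  Z := fun k => ModuleCat.of B' (B' ⊗[B] C.Z k)
  F := fun k => ModuleCat.of B' (B' ⊗[B] C.F k)
  f := fun k => ModuleCat.ofHom ((C.f k).hom.baseChange B')
  g := fun k => ModuleCat.ofHom ((C.g k).hom.baseChange B')
  w := fun k => by
    apply ModuleCat.hom_ext
    rw [ModuleCat.hom_comp, ModuleCat.hom_ofHom, ModuleCat.hom_ofHom, ← LinearMap.baseChange_comp,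
      ← ModuleCat.hom_comp, C.w k]
    simp
  se := fun k => by
    refine ModuleCat.shortComplex_shortExact _ ?_ ?_ ?_
    · show Function.Exact ((C.f k).hom.baseChange B') ((C.g k).hom.baseChange B')
      rw [LinearMap.baseChange_eq_ltensor, LinearMap.baseChange_eq_ltensor]
      exact lTensor_exact _ (C.exact k) (C.g_surjective k)
    · show Function.Injective ((C.f k).hom.baseChange B')
      rw [LinearMap.baseChange_eq_ltensor]
      exact Module.Flat.lTensor_preserves_injective_linearMap _ (C.f_injective k)
    · show Function.Surjective ((C.g k).hom.baseChange B')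
      rw [LinearMap.baseChange_eq_ltensor]
      exact LinearMap.lTensor_surjective _ (C.g_surjective k)
  fin := fun k => inferInstanceAs (Module.Finite B' (B' ⊗[B] C.F k))
  free := fun k => inferInstanceAs (Module.Free B' (B' ⊗[B] C.F k))

end BaseChange

section FlatTensor

variable (A B B' Z : Type*) [CommRing A] [CommRing B] [CommRing B'] [Algebra A B] [Algebra B B']
  [Algebra A B'] [IsScalarTower A B B'] [AddCommGroup Z] [Module B Z] [Module A Z]
  [IsScalarTower A B Z]

/-- `B' ⊗[B] Z` is `A`-flat when `B'` is `B`-flat and `Z` is `A`-flat -/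
theorem flat_tensor_of_flat [Module.Flat B B'] [Module.Flat A Z] : Module.Flat A (B' ⊗[B] Z) := by
  rw [Module.Flat.iff_lTensor_preserves_injective_linearMap]
  intro X Y _ _ _ _ j hj
  -- `(B' ⊗[B] Z) ⊗[A] X ≃ B' ⊗[B] (Z ⊗[A] X)`
  have h1 : Function.Injective (j.lTensor Z) :=
    Module.Flat.lTensor_preserves_injective_linearMap j hj
  have h2 : Function.Injective ((AlgebraTensorModule.lTensor B Z j).lTensor B') :=
    Module.Flat.lTensor_preserves_injective_linearMap _ h1
  have comm : ∀ t : (B' ⊗[B] Z) ⊗[A] X,
      (AlgebraTensorModule.assoc A B B' B' Z Y) ((j.lTensor (B' ⊗[B] Z)) t) =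
      ((AlgebraTensorModule.lTensor B Z j).lTensor B')
        ((AlgebraTensorModule.assoc A B B' B' Z X) t) := by
    intro t
    induction t using TensorProduct.induction_on with
    | zero => simp
    | add a b ha hb => simp only [map_add, ha, hb]
    | tmul w x =>
      induction w using TensorProduct.induction_on with
      | zero => simp
      | add a b ha hb => simp only [add_tmul, map_add, ha, hb]
      | tmul b z => simp
  intro a b hab
  apply (AlgebraTensorModule.assoc A B B' B' Z X).injective
  apply h2
  rw [← comm, ← comm, hab]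

end FlatTensor

section Transport

variable {B R₁ R₂ : Type u} [CommRing B] [CommRing R₁] [CommRing R₂] [Algebra B R₁] [Algebra B R₂]

attribute [local instance] RingHomInvPair.of_ringEquiv

/-- the semilinear equivalence `R₁ ⊗[B] X ≃ R₂ ⊗[B] X` induced by `R₁ ≃ₐ[B] R₂` -/
noncomputable def tensorSemilinear (e : R₁ ≃ₐ[B] R₂) (X : Type u) [AddCommGroup X] [Module B X] :
    (R₁ ⊗[B] X) ≃ₛₗ[RingHomClass.toRingHom e.toRingEquiv] (R₂ ⊗[B] X) :=
  let φ : R₁ ⊗[B] X ≃ₗ[B] R₂ ⊗[B] X := TensorProduct.congr e.toLinearEquiv (LinearEquiv.refl B X)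
  { toFun := φ
    map_add' := φ.map_add
    map_smul' := fun r z => by
      induction z using TensorProduct.induction_on with
      | zero => simp
      | add a b ha hb => simp only [smul_add, map_add, ha, hb]
      | tmul s x =>
        simp [φ, TensorProduct.smul_tmul', smul_eq_mul]
    invFun := φ.symm
    left_inv := φ.left_inv
    right_inv := φ.right_inv }

theorem projectiveDimension_tensor_eq_of_algEquiv (e : R₁ ≃ₐ[B] R₂) (X : Type u) [AddCommGroup X]
    [Module B X] :
    projectiveDimension (ModuleCat.of R₁ (R₁ ⊗[B] X)) =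
      projectiveDimension (ModuleCat.of R₂ (R₂ ⊗[B] X)) :=
  ModuleCat.projectiveDimension_eq_of_semiLinearEquiv e.toRingEquiv (tensorSemilinear e X)

end Transport

section QuotTensor

variable (A : Type u) {B : Type u} [CommRing A] [CommRing B] [Algebra A B]
variable (B' : Type u) [CommRing B'] [Algebra B B'] [Algebra A B'] [IsScalarTower A B B']
  [Module.Flat B B']

attribute [local instance] modA

/-- For a chain `C` over `B` with `A`-flat `Z 0 ≅ M`, a flat `B`-algebra `B'` all of whose maximal
ideals contain `p B'`: the projective dimension of `(B'/pB') ⊗[B] M` over `B'/pB'` equals the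
projective dimension of `B' ⊗[B] M` over `B'`. -/
theorem Chain.projectiveDimension_quot_tensor_eq [Module.Flat A B] (C : Chain B)
    (h0 : Module.Flat A (C.Z 0)) (M : Type u) [AddCommGroup M] [Module B M]
    (e : C.Z 0 ≅ ModuleCat.of B M)
    (p : Ideal A) (hp : ∀ (q : Ideal B') [q.IsMaximal], p ≤ q.under A) :
    projectiveDimension (ModuleCat.of (B' ⧸ p.map (algebraMap A B'))
      ((B' ⧸ p.map (algebraMap A B')) ⊗[B] M)) =
    projectiveDimension ((Chain.baseChange B' C).Z 0) := by
  haveI : Module.Flat A B' := Module.Flat.trans A B B'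
  have h0' : Module.Flat A ((Chain.baseChange B' C).Z 0) := by
    haveI := h0
    haveI : Module.Flat A (B' ⊗[B] (C.Z 0)) := flat_tensor_of_flat A B B' (C.Z 0)
    exact flat_of_iso A ((Chain.baseChange B' C).Z 0) (B' ⊗[B] (C.Z 0)) (Iso.refl _)
  have hT := residueMap_quot A B' p hp
  have key := Chain.projectiveDimension_eq_bc A (A ⧸ p) (Chain.baseChange B' C) h0' hT
  let R := B' ⊗[A] (A ⧸ p)
  let e1 : (Chain.baseChange B' C).Z 0 ≅ ModuleCat.of B' (B' ⊗[B] M) :=
    (LinearEquiv.baseChange B B' _ _ e.toLinearEquiv).toModuleIso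
  let e2 : (R ⊗[B'] (B' ⊗[B] M)) ≃ₗ[R] R ⊗[B] M :=
    AlgebraTensorModule.cancelBaseChange B B' R R M
  have s1 := projectiveDimension_tensor_eq_of_algEquiv
    ((Algebra.TensorProduct.quotIdealMapEquivTensorQuot B' p).restrictScalars B) M
  have s2 : projectiveDimension (ModuleCat.of R (R ⊗[B'] (B' ⊗[B] M))) =
      projectiveDimension (ModuleCat.of R (R ⊗[B] M)) :=
    projectiveDimension_eq_of_iso e2.toModuleIso
  have s3 : projectiveDimension (bc A (A ⧸ p) ((Chain.baseChange B' C).Z 0)) =
      projectiveDimension (bc A (A ⧸ p) (ModuleCat.of B' (B' ⊗[B] M))) :=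
    projectiveDimension_eq_of_iso (bcIso A (A ⧸ p) e1)
  rw [key, s3, s1]
  exact s2.symm

end QuotTensor

end Groth.Agent.Lib.Helper15.LocalFibrePd
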