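import Mathlib.Algebra.Homology.Homotopy
import Mathlib.CategoryTheory.Idempotents.HomologicalComplex
import Mathlib.CategoryTheory.Idempotents.Basic

/-!
# Splitting a complex with a local contracting homotopy in one degree (helper15)

Let `E` be a cochain complex and `hh` a family of maps `E.X a ⟶ E.X b`, nonzero only for
`(a, b) = (i, i-1), (i+1, i)`, with `(dh + hd)^i = 𝟙`. Then, up to homotopy, `E` is the direct sum
of a retract `X₀` vanishing in degrees `≥ i` and a retract `Y` vanishing in degrees `≤ i`.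
-/

set_option autoImplicit false

namespace Groth.Agent.Lib.Helper15.LocalHomotopy

open CategoryTheory CategoryTheory.Limits

variable {C : Type*} [Category C] [Preadditive C] (E : CochainComplex C ℤ) (i : ℤ)
  (hh : ∀ a b : ℤ, E.X a ⟶ E.X b)

/-- the hypotheses on the family `hh` -/
structure IsLocalHomotopy : Prop where
  zero : ∀ a b, ¬ (b + 1 = a) → hh a b = 0
  lt : ∀ a b, a < i → hh a b = 0
  gt : ∀ a b, i + 1 < a → hh a b = 0
  one : ∀ a c, a + 1 = i → i + 1 = c → E.d i c ≫ hh c i + hh i a ≫ E.d a i = 𝟙 _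

/-- the null-homotopic endomorphism `dh + hd` -/
noncomputable def Θ : E ⟶ E := Homotopy.nullHomotopicMap hh

lemma Θ_f (j : ℤ) :
    (Θ E hh).f j = E.d j (j + 1) ≫ hh (j + 1) j + hh j (j - 1) ≫ E.d (j - 1) j :=
  Homotopy.nullHomotopicMap_f (c := ComplexShape.up ℤ) (k₂ := j - 1) (k₁ := j) (k₀ := j + 1)
    (by simp) (by simp) hh

variable {E i hh}

namespace IsLocalHomotopy

variable (H : IsLocalHomotopy E i hh)
include H

lemma d_h_d (a : ℤ) (ha : a + 1 = i) : E.d a i ≫ hh i a ≫ E.d a i = E.d a i := by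
  have h1 := H.one a (i + 1) ha rfl
  have h2 : E.d a i ≫ (E.d i (i + 1) ≫ hh (i + 1) i + hh i a ≫ E.d a i) = E.d a i := by
    rw [h1, Category.comp_id]
  simpa using h2

lemma d_h_d' (c : ℤ) (hc : i + 1 = c) : E.d i c ≫ hh c i ≫ E.d i c = E.d i c := by
  have h1 := H.one (i - 1) c (by lia) hc
  have h2 : (E.d i c ≫ hh c i + hh i (i - 1) ≫ E.d (i - 1) i) ≫ E.d i c = E.d i c := by
    rw [h1, Category.id_comp]
  simpa using h2

lemma Θ_f_i : (Θ E hh).f i = 𝟙 _ := by
  rw [Θ_f]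
  exact H.one (i - 1) (i + 1) (by lia) rfl

end IsLocalHomotopy

variable (E i hh)

/-- components of the idempotent cutting out the part in degrees `< i` -/
noncomputable def lamF (j : ℤ) : E.X j ⟶ E.X j :=
  if i ≤ j then 0 else 𝟙 _ - E.d j (j + 1) ≫ hh (j + 1) j

variable {E i hh}

lemma lamF_of_le (j : ℤ) (h : i ≤ j) : lamF E i hh j = 0 := by simp [lamF, h]

lemma lamF_of_lt (j : ℤ) (h : j < i) : lamF E i hh j = 𝟙 _ - E.d j (j + 1) ≫ hh (j + 1) j := by
  simp [lamF, not_le.2 h]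

lemma lamF_comm (H : IsLocalHomotopy E i hh) (j : ℤ) :
    lamF E i hh j ≫ E.d j (j + 1) = E.d j (j + 1) ≫ lamF E i hh (j + 1) := by
  by_cases h1 : i ≤ j
  · rw [lamF_of_le j h1, lamF_of_le (j + 1) (by lia)]; simp
  · by_cases h2 : i ≤ j + 1
    · obtain rfl : j + 1 = i := by lia
      rw [lamF_of_lt j (by lia), lamF_of_le (j + 1) le_rfl, comp_zero, Preadditive.sub_comp,
        Category.id_comp, Category.assoc, H.d_h_d j rfl, sub_self]
    · rw [lamF_of_lt j (by lia), lamF_of_lt (j + 1) (by lia), H.lt (j + 1) j (by lia)]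
      simp

/-- the idempotent chain endomorphism cutting out the part in degrees `< i` -/
noncomputable def lam (H : IsLocalHomotopy E i hh) : E ⟶ E where
  f j := lamF E i hh j
  comm' j k hjk := by
    obtain rfl : j + 1 = k := hjk
    exact lamF_comm H j

lemma lam_idem (H : IsLocalHomotopy E i hh) : lam H ≫ lam H = lam H := by
  ext j
  change lamF E i hh j ≫ lamF E i hh j = lamF E i hh j
  by_cases h1 : i ≤ j
  · rw [lamF_of_le j h1]; simp
  · by_cases h2 : i ≤ j + 1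
    · obtain rfl : j + 1 = i := by lia
      rw [lamF_of_lt j (by lia)]
      simp only [Preadditive.sub_comp, Preadditive.comp_sub, Category.id_comp, Category.comp_id,
        Category.assoc]
      rw [reassoc_of% (H.d_h_d j rfl)]
      abel
    · rw [lamF_of_lt j (by lia), H.lt (j + 1) j (by lia)]
      simp

/-- the idempotent chain endomorphism cutting out the part in degrees `> i` -/
noncomputable def eps (H : IsLocalHomotopy E i hh) : E ⟶ E := 𝟙 E - lam H - Θ E hh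

lemma eps_f_of_le (H : IsLocalHomotopy E i hh) (j : ℤ) (h : j ≤ i) : (eps H).f j = 0 := by
  change 𝟙 _ - lamF E i hh j - (Θ E hh).f j = 0
  by_cases h1 : i ≤ j
  · obtain rfl : j = i := by lia
    rw [lamF_of_le j le_rfl, H.Θ_f_i]; simp
  · rw [lamF_of_lt j (by lia), Θ_f, H.lt j (j - 1) (by lia)]
    simp

lemma eps_f_of_lt (H : IsLocalHomotopy E i hh) (j : ℤ) (h : i < j) :
    (eps H).f j = 𝟙 _ - hh j (j - 1) ≫ E.d (j - 1) j := by
  change 𝟙 _ - lamF E i hh j - (Θ E hh).f j = _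
  rw [lamF_of_le j (by lia), Θ_f, H.gt (j + 1) j (by lia)]
  simp

lemma eps_idem (H : IsLocalHomotopy E i hh) : eps H ≫ eps H = eps H := by
  ext j
  change (eps H).f j ≫ (eps H).f j = (eps H).f j
  by_cases h1 : j ≤ i
  · rw [eps_f_of_le H j h1]; simp
  · rw [eps_f_of_lt H j (by lia)]
    by_cases h2 : j = i + 1
    · subst h2
      have hd := H.d_h_d' (i + 1) rfl
      have e1 : i + 1 - 1 = i := by lia
      rw [e1]
      simp only [Preadditive.sub_comp, Preadditive.comp_sub, Category.id_comp, Category.comp_id,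
        Category.assoc]
      rw [hd]
      abel
    · rw [H.gt j (j - 1) (by lia)]
      simp

lemma lam_add_eps (H : IsLocalHomotopy E i hh) : Nonempty (Homotopy (lam H + eps H) (𝟙 E)) := by
  have h1 : Homotopy (Θ E hh) 0 := Homotopy.nullHomotopy hh (fun a b hab => H.zero a b hab)
  have h2 : Homotopy (𝟙 E) (lam H + eps H) :=
    Homotopy.equivSubZero.symm ((Homotopy.ofEq (by rw [eps]; abel)).trans h1)
  exact ⟨h2.symm⟩

variable [IsIdempotentComplete C]

theorem exists_split (H : IsLocalHomotopy E i hh) :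
    ∃ (X₀ Y : CochainComplex C ℤ) (iX : X₀ ⟶ E) (eX : E ⟶ X₀) (iY : Y ⟶ E) (eY : E ⟶ Y),
      iX ≫ eX = 𝟙 X₀ ∧ iY ≫ eY = 𝟙 Y ∧ iY ≫ eX = 0 ∧
      (∀ j, i ≤ j → IsZero (X₀.X j)) ∧ (∀ j, j ≤ i → IsZero (Y.X j)) ∧
      Nonempty (Homotopy (eX ≫ iX + eY ≫ iY) (𝟙 E)) := by
  obtain ⟨X₀, iX, eX, hX1, hX2⟩ := IsIdempotentComplete.idempotents_split E (lam H) (lam_idem H)
  obtain ⟨Y, iY, eY, hY1, hY2⟩ := IsIdempotentComplete.idempotents_split E (eps H) (eps_idem H)
  have hXz : ∀ j, i ≤ j → IsZero (X₀.X j) := by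
    intro j hj
    rw [IsZero.iff_id_eq_zero]
    have h1 : iX.f j ≫ eX.f j = 𝟙 _ := by
      rw [← HomologicalComplex.comp_f, hX1]; rfl
    have h2 : eX.f j ≫ iX.f j = 0 := by
      rw [← HomologicalComplex.comp_f, hX2]
      exact lamF_of_le j hj
    calc 𝟙 (X₀.X j) = (iX.f j ≫ eX.f j) ≫ (iX.f j ≫ eX.f j) := by rw [h1]; simp
      _ = iX.f j ≫ (eX.f j ≫ iX.f j) ≫ eX.f j := by simp
      _ = 0 := by rw [h2]; simp
  have hYz : ∀ j, j ≤ i → IsZero (Y.X j) := by
    intro j hj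
    rw [IsZero.iff_id_eq_zero]
    have h1 : iY.f j ≫ eY.f j = 𝟙 _ := by
      rw [← HomologicalComplex.comp_f, hY1]; rfl
    have h2 : eY.f j ≫ iY.f j = 0 := by
      rw [← HomologicalComplex.comp_f, hY2]
      exact eps_f_of_le H j hj
    calc 𝟙 (Y.X j) = (iY.f j ≫ eY.f j) ≫ (iY.f j ≫ eY.f j) := by rw [h1]; simp
      _ = iY.f j ≫ (eY.f j ≫ iY.f j) ≫ eY.f j := by simp
      _ = 0 := by rw [h2]; simp
  refine ⟨X₀, Y, iX, eX, iY, eY, hX1, hY1, ?_, hXz, hYz, ?_⟩
  · ext j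
    by_cases hj : i ≤ j
    · exact (hXz j hj).eq_of_tgt _ _
    · exact (hYz j (by lia)).eq_of_src _ _
  · rw [hX2, hY2]
    exact lam_add_eps H

section OfMaps

variable {C : Type*} [Category C] [Preadditive C] (E : CochainComplex C ℤ) (n i k : ℤ)
  (σ : E.X i ⟶ E.X n) (ρ : E.X k ⟶ E.X i)

/-- the family of maps with `σ` in position `(i, n)` and `ρ` in position `(k, i)` -/
noncomputable def hhOf (a b : ℤ) : E.X a ⟶ E.X b :=
  if h : a = i ∧ b = n then eqToHom (by rw [h.1]) ≫ σ ≫ eqToHom (by rw [h.2])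
  else if h : a = k ∧ b = i then eqToHom (by rw [h.1]) ≫ ρ ≫ eqToHom (by rw [h.2])
  else 0

variable {E n i k σ ρ}

lemma hhOf_eq_zero (a b : ℤ) (h1 : ¬ (a = i ∧ b = n)) (h2 : ¬ (a = k ∧ b = i)) :
    hhOf E n i k σ ρ a b = 0 := by
  simp [hhOf, h1, h2]

lemma hhOf_σ : hhOf E n i k σ ρ i n = σ := by
  simp [hhOf]

lemma hhOf_ρ (hk : i + 1 = k) : hhOf E n i k σ ρ k i = ρ := by
  have : ¬ (k = i ∧ i = n) := by lia
  simp [hhOf, this]

theorem isLocalHomotopy_hhOf (hn : n + 1 = i) (hk : i + 1 = k)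
    (h : E.d i k ≫ ρ + σ ≫ E.d n i = 𝟙 _) : IsLocalHomotopy E i (hhOf E n i k σ ρ) where
  zero a b hab := hhOf_eq_zero a b (by lia) (by lia)
  lt a b ha := hhOf_eq_zero a b (by lia) (by lia)
  gt a b ha := hhOf_eq_zero a b (by lia) (by lia)
  one a c ha hc := by
    obtain rfl : a = n := by lia
    obtain rfl : c = k := by lia
    rw [hhOf_σ, hhOf_ρ hk, h]

end OfMaps

end Groth.Agent.Lib.Helper15.LocalHomotopy
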