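import Mathlib

/-!
# helper15: complexes with zero differentials, complexes of vector spaces
-/

set_option autoImplicit false
universe u v

open CategoryTheory CategoryTheory.Limits

namespace Groth.Agent.Lib.Helper15.MinimalCx

section Abelian

variable {C : Type*} [Category C] [Abelian C]

/-- a quasi-isomorphism between complexes with zero differentials is a termwise isomorphism -/
theorem isIso_f_of_quasiIso {W W' : CochainComplex C ℤ} (h : W ⟶ W') [QuasiIso h]
    (hW : ∀ i j, W.d i j = 0) (hW' : ∀ i j, W'.d i j = 0) (i : ℤ) : IsIso (h.f i) := by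
  haveI : IsIso (W.iCycles i) := W.isIso_iCycles i (i + 1) (by simp) (hW _ _)
  haveI : IsIso (W'.iCycles i) := W'.isIso_iCycles i (i + 1) (by simp) (hW' _ _)
  haveI : IsIso (W.homologyπ i) := W.isIso_homologyπ (i - 1) i (by simp) (hW _ _)
  haveI : IsIso (W'.homologyπ i) := W'.isIso_homologyπ (i - 1) i (by simp) (hW' _ _)
  haveI : IsIso (HomologicalComplex.homologyMap h i) :=
    (quasiIsoAt_iff_isIso_homologyMap h i).1 inferInstance
  have h1 : HomologicalComplex.cyclesMap h i =
      W.homologyπ i ≫ HomologicalComplex.homologyMap h i ≫ inv (W'.homologyπ i) := by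
    rw [← Category.assoc, HomologicalComplex.homologyπ_naturality, Category.assoc,
      IsIso.hom_inv_id, Category.comp_id]
  have h2 : h.f i = inv (W.iCycles i) ≫ HomologicalComplex.cyclesMap h i ≫ W'.iCycles i := by
    rw [HomologicalComplex.cyclesMap_i, IsIso.inv_hom_id_assoc]
  rw [h2, h1]
  infer_instance

/-- the complex of homology objects with zero differentials -/
noncomputable def homologyCx (W : CochainComplex C ℤ) : CochainComplex C ℤ where
  X i := W.homology i
  d _ _ := 0
  shape _ _ _ := rfl
  d_comp_d' _ _ _ _ _ := by simp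

@[simp] theorem homologyCx_d (W : CochainComplex C ℤ) (i j : ℤ) : (homologyCx W).d i j = 0 := rfl

/-- a map from a complex with zero differentials which induces isomorphisms onto the homology -/
theorem quasiIso_of_zero_d {E W : CochainComplex C ℤ} (hE : ∀ i j, E.d i j = 0)
    (τ : ∀ i, E.X i ⟶ W.cycles i) (hτ : ∀ i, IsIso (τ i ≫ W.homologyπ i)) :
    ∃ s : E ⟶ W, QuasiIso s := by
  let s : E ⟶ W :=
    { f := fun i => τ i ≫ W.iCycles i
      comm' := fun i j _ => by simp [hE] }
  refine ⟨s, ?_⟩
  rw [quasiIso_iff]
  intro i
  rw [quasiIsoAt_iff_isIso_homologyMap]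
  haveI : IsIso (E.iCycles i) := E.isIso_iCycles i (i + 1) (by simp) (hE _ _)
  haveI : IsIso (E.homologyπ i) := E.isIso_homologyπ (i - 1) i (by simp) (hE _ _)
  haveI := hτ i
  have h1 : HomologicalComplex.cyclesMap s i = E.iCycles i ≫ τ i := by
    rw [← cancel_mono (W.iCycles i), HomologicalComplex.cyclesMap_i, Category.assoc]
  have h2 : E.homologyπ i ≫ HomologicalComplex.homologyMap s i =
      E.iCycles i ≫ τ i ≫ W.homologyπ i := by
    rw [HomologicalComplex.homologyπ_naturality, h1, Category.assoc]
  have h3 : HomologicalComplex.homologyMap s i =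
      inv (E.homologyπ i) ≫ E.iCycles i ≫ τ i ≫ W.homologyπ i := by
    rw [← h2, IsIso.inv_hom_id_assoc]
  rw [h3]
  infer_instance

/-- if the projections `cycles → homology` split, a complex is quasi-isomorphic to its homology -/
theorem exists_quasiIso_homologyCx (W : CochainComplex C ℤ)
    (σ : ∀ i, W.homology i ⟶ W.cycles i) (hσ : ∀ i, σ i ≫ W.homologyπ i = 𝟙 _) :
    ∃ s : homologyCx W ⟶ W, QuasiIso s := by
  refine quasiIso_of_zero_d (E := homologyCx W) (fun _ _ => rfl) (fun i => σ i) (fun i => ?_)
  change IsIso (σ i ≫ W.homologyπ i)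
  rw [hσ i]
  infer_instance

end Abelian

section Field

variable {k : Type u} [Field k]

/-- the homology of a complex of finite dimensional vector spaces is finite dimensional -/
theorem finite_homology (W : CochainComplex (ModuleCat.{u} k) ℤ)
    (hfin : ∀ i, Module.Finite k (W.X i)) (i : ℤ) : Module.Finite k (W.homology i) := by
  haveI := hfin i
  haveI : Module.Finite k (W.cycles i) :=
    Module.Finite.of_injective (W.iCycles i).hom
      ((ModuleCat.mono_iff_injective _).1 inferInstance)
  exact Module.Finite.of_surjective (W.homologyπ i).hom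
    ((ModuleCat.epi_iff_surjective _).1 inferInstance)

/-- a complex of vector spaces is quasi-isomorphic to its homology -/
theorem exists_quasiIso_homologyCx_field (W : CochainComplex (ModuleCat.{u} k) ℤ) :
    ∃ s : homologyCx W ⟶ W, QuasiIso s := by
  refine exists_quasiIso_homologyCx W (fun i => Projective.factorThru (𝟙 _) (W.homologyπ i))
    (fun i => Projective.factorThru_comp _ _)

/-- if the homology has the same dimension as the terms, the differentials vanish -/
theorem d_eq_zero_of_finrank_eq (W : CochainComplex (ModuleCat.{u} k) ℤ)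
    (hfin : ∀ i, Module.Finite k (W.X i))
    (h : ∀ i, Module.finrank k (W.X i) = Module.finrank k (W.homology i)) (i j : ℤ) :
    W.d i j = 0 := by
  haveI := hfin i
  haveI : Module.Finite k (W.cycles i) :=
    Module.Finite.of_injective (W.iCycles i).hom
      ((ModuleCat.mono_iff_injective _).1 inferInstance)
  have hinj : Function.Injective (W.iCycles i).hom :=
    (ModuleCat.mono_iff_injective _).1 inferInstance
  have hsurj : Function.Surjective (W.homologyπ i).hom :=
    (ModuleCat.epi_iff_surjective _).1 inferInstance
  have h1 : Module.finrank k (W.homology i) ≤ Module.finrank k (W.cycles i) :=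
    LinearMap.finrank_le_finrank_of_surjective hsurj
  have h2 : Module.finrank k (W.cycles i) ≤ Module.finrank k (W.X i) :=
    LinearMap.finrank_le_finrank_of_injective hinj
  have h3 : Module.finrank k (W.cycles i) = Module.finrank k (W.X i) := by
    have := h i; omega
  have hs : Function.Surjective (W.iCycles i).hom :=
    (LinearMap.injective_iff_surjective_of_finrank_eq_finrank h3).1 hinj
  haveI : Epi (W.iCycles i) := (ModuleCat.epi_iff_surjective _).2 hs
  rw [← cancel_epi (W.iCycles i), HomologicalComplex.iCycles_d, comp_zero]

end Field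

end Groth.Agent.Lib.Helper15.MinimalCx
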