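import Mathlib
import Groth.Agent.S7011
import Groth.Agent.Lib.Helper15.MinimalCx
import Groth.Agent.Lib.Helper15.LiftCone
import Groth.Agent.Lib.Helper84.NilPC
import Groth.Agent.Lib.Helper43.PCHomology

/-!
# helper15: minimal free complexes over a local ring (Stacks 15.75.6)
-/

set_option autoImplicit false
universe u

open CategoryTheory CategoryTheory.Limits DerivedCategory TensorProduct

attribute [local instance] HasDerivedCategory.standard

namespace Groth.Agent.Lib.Helper15.MinimalLocal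

open DRing Groth.Agent.Lib.Helper15.LiftExt Groth.Agent.Lib.Helper15.LiftCone

section Nakayama

variable {R : Type u} [CommRing R] (I : Ideal R)

/-- a map of finite modules with projective target which is bijective modulo `I ⊆ rad R` is
bijective -/
theorem bijective_of_reduction (hI : I ≤ Ideal.jacobson (⊥ : Ideal R))
    {A B CA CB : Type u} [AddCommGroup A] [Module R A] [AddCommGroup B] [Module R B]
    [AddCommGroup CA] [Module R CA] [AddCommGroup CB] [Module R CB]
    [Module.Finite R A] [Module.Finite R B] [Module.Projective R B]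
    (g : A →ₗ[R] B) (πA : A →ₗ[R] CA) (πB : B →ₗ[R] CB) (c : CA →ₗ[R] CB)
    (hc : Function.Bijective c) (hcomm : ∀ a, πB (g a) = c (πA a))
    (hπAs : Function.Surjective πA) (hπAk : LinearMap.ker πA = I • ⊤)
    (hπBk : LinearMap.ker πB = I • ⊤) : Function.Bijective g := by
  have hs : Function.Surjective g := by
    rw [← LinearMap.range_eq_top, eq_top_iff]
    refine Submodule.le_of_le_smul_of_le_jacobson_bot Module.Finite.fg_top hI ?_
    rintro y -
    obtain ⟨w, hw⟩ := hc.2 (πB y)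
    obtain ⟨a, rfl⟩ := hπAs w
    have hmem : y - g a ∈ I • (⊤ : Submodule R B) := by
      rw [← hπBk, LinearMap.mem_ker, map_sub, hcomm, hw, sub_self]
    have hy : y = g a + (y - g a) := by abel
    rw [hy]
    exact Submodule.add_mem_sup (LinearMap.mem_range_self g a) hmem
  refine ⟨?_, hs⟩
  obtain ⟨s, hs0⟩ := Module.projective_lifting_property g LinearMap.id hs
  have hs' : ∀ z, g (s z) = z := fun z => LinearMap.congr_fun hs0 z
  let pr : A →ₗ[R] A := LinearMap.id - s ∘ₗ g
  have hpr_mem : ∀ a, pr a ∈ LinearMap.ker g := fun a => by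
    rw [LinearMap.mem_ker]
    simp [pr, hs']
  have hpr_id : ∀ a ∈ LinearMap.ker g, pr a = a := fun a ha => by
    rw [LinearMap.mem_ker] at ha
    simp [pr, ha]
  have hrange : LinearMap.range pr = LinearMap.ker g := by
    apply le_antisymm
    · rintro _ ⟨a, rfl⟩; exact hpr_mem a
    · intro a ha; exact ⟨a, hpr_id a ha⟩
  have hfg : (LinearMap.ker g).FG := by
    rw [← hrange, LinearMap.range_eq_map]
    exact Module.Finite.fg_top.map pr
  have hker : LinearMap.ker g = ⊥ := by
    refine Submodule.eq_bot_of_le_smul_of_le_jacobson_bot I _ hfg ?_ hI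
    intro x hx
    have h0 : πA x = 0 := by
      apply hc.1
      rw [← hcomm, LinearMap.mem_ker.1 hx, map_zero, map_zero]
    have hx' : x ∈ I • (⊤ : Submodule R A) := by rw [← hπAk]; exact h0
    have : pr x ∈ Submodule.map pr (I • ⊤) := Submodule.mem_map_of_mem hx'
    rw [Submodule.map_smul'', hpr_id x hx, Submodule.map_top, hrange] at this
    exact this
  exact LinearMap.ker_eq_bot.1 hker

end Nakayama

section Core

variable (R : Type u) [CommRing R] [IsLocalRing R]

variable [DRing.HasLBaseChange (Ideal.Quotient.mk (IsLocalRing.maximalIdeal R))] (K : Dual.D R)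

/-- minimality, for the quotient by the maximal ideal -/
def Minimal (P : DRing.Cx R) : Prop :=
  (∃ b : ℤ, DRing.VanishesAbove P b) ∧
    (∀ i : ℤ, Module.Free R (P.X i) ∧ Module.Finite R (P.X i) ∧
      Module.finrank R (P.X i) = Module.finrank (R ⧸ (IsLocalRing.maximalIdeal R))
        (Dual.HD (R ⧸ (IsLocalRing.maximalIdeal R)) ((DRing.LBaseChange (Ideal.Quotient.mk (IsLocalRing.maximalIdeal R))).obj K) i)) ∧
    Nonempty (DRing.toD P ≅ K)

variable {R K}

theorem hjac : (IsLocalRing.maximalIdeal R) ≤ Ideal.jacobson (⊥ : Ideal R) :=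
  (IsLocalRing.jacobson_eq_maximalIdeal ⊥ bot_ne_top).ge

/-- homology of the derived base change via a finite free representative -/
noncomputable def homIso (F : DRing.Cx R) (b₀ : ℤ) (hFb : DRing.VanishesAbove F b₀)
    (hFf : DRing.TermwiseFiniteFree F) (iF : DRing.toD F ≅ K) (i : ℤ) :
    (DerivedCategory.homologyFunctor (ModuleCat.{u} (R ⧸ (IsLocalRing.maximalIdeal R))) i).obj
        ((DRing.LBaseChange (Ideal.Quotient.mk (IsLocalRing.maximalIdeal R))).obj K) ≅
      (LDerived.extCx (Ideal.Quotient.mk (IsLocalRing.maximalIdeal R)) F).homology i :=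
  (DerivedCategory.homologyFunctor _ i).mapIso
      ((DRing.LBaseChange (Ideal.Quotient.mk (IsLocalRing.maximalIdeal R))).mapIso iF.symm ≪≫
        LBCKFlat.lbcIsoOfFlat (Ideal.Quotient.mk (IsLocalRing.maximalIdeal R)) F b₀ hFb (fun q => by
          haveI := (hFf q).2
          infer_instance)) ≪≫
    Groth.Agent.Lib.Helper43.PCHomology.homologyIso _ i

theorem finite_ext (F : DRing.Cx R) (hFf : DRing.TermwiseFiniteFree F) (i : ℤ) :
    Module.Finite (R ⧸ (IsLocalRing.maximalIdeal R)) ((LDerived.extCx (Ideal.Quotient.mk (IsLocalRing.maximalIdeal R)) F).X i) :=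
  (Groth.Agent.Lib.Helper84.NilPC.finiteFree_extendScalars (Ideal.Quotient.mk (IsLocalRing.maximalIdeal R)) _ (hFf i)).1

theorem finrank_ext (F : DRing.Cx R) (hFf : DRing.TermwiseFiniteFree F) (i : ℤ) :
    Module.finrank (R ⧸ (IsLocalRing.maximalIdeal R)) ((LDerived.extCx (Ideal.Quotient.mk (IsLocalRing.maximalIdeal R)) F).X i) =
      Module.finrank R (F.X i) := by
  haveI := (hFf i).2
  rw [← (eQ (IsLocalRing.maximalIdeal R) F i).finrank_eq]
  exact Module.finrank_baseChange

attribute [local instance] Ideal.Quotient.field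

theorem finite_HD (hK : DRing.IsPseudoCoherent' R K) (i : ℤ) :
    Module.Finite (R ⧸ (IsLocalRing.maximalIdeal R))
      (Dual.HD (R ⧸ (IsLocalRing.maximalIdeal R))
        ((DRing.LBaseChange (Ideal.Quotient.mk (IsLocalRing.maximalIdeal R))).obj K) i) := by
  obtain ⟨F, b₀, hFb, hFf, ⟨iF⟩⟩ := hK
  haveI := MinimalCx.finite_homology (k := R ⧸ (IsLocalRing.maximalIdeal R))
    (LDerived.extCx (Ideal.Quotient.mk (IsLocalRing.maximalIdeal R)) F) (finite_ext F hFf) i
  exact Module.Finite.equiv (homIso F b₀ hFb hFf iF i).symm.toLinearEquiv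

theorem isZero_homology_ext (F : DRing.Cx R) (b₀ : ℤ) (hFb : DRing.VanishesAbove F b₀) (i : ℤ)
    (hi : b₀ < i) :
    IsZero ((LDerived.extCx (Ideal.Quotient.mk (IsLocalRing.maximalIdeal R)) F).homology i) := by
  rw [← HomologicalComplex.exactAt_iff_isZero_homology]
  apply HomologicalComplex.ExactAt.of_isZero
  exact Functor.map_isZero (ModuleCat.extendScalars.{u, u, u}
    (Ideal.Quotient.mk (IsLocalRing.maximalIdeal R))) (hFb i hi)

theorem exists_bound (hK : DRing.IsPseudoCoherent' R K) :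
    ∃ b : ℤ, ∀ i : ℤ, b < i → Subsingleton
      (Dual.HD (R ⧸ (IsLocalRing.maximalIdeal R))
        ((DRing.LBaseChange (Ideal.Quotient.mk (IsLocalRing.maximalIdeal R))).obj K) i) := by
  obtain ⟨F, b₀, hFb, hFf, ⟨iF⟩⟩ := hK
  refine ⟨b₀, fun i hi => ?_⟩
  exact ModuleCat.subsingleton_of_isZero
    ((isZero_homology_ext F b₀ hFb i hi).of_iso (homIso F b₀ hFb hFf iF i))

theorem exists_minimal (hK : DRing.IsPseudoCoherent' R K) : ∃ P : DRing.Cx R, Minimal R K P := by
  classical
  have hK' := hK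
  obtain ⟨F, b₀, hFb, hFf, ⟨iF⟩⟩ := hK
  let V : DRing.Cx (R ⧸ (IsLocalRing.maximalIdeal R)) :=
    LDerived.extCx (Ideal.Quotient.mk (IsLocalRing.maximalIdeal R)) F
  let E : DRing.Cx (R ⧸ (IsLocalRing.maximalIdeal R)) :=
    MinimalCx.homologyCx (C := ModuleCat.{u} (R ⧸ (IsLocalRing.maximalIdeal R))) V
  obtain ⟨s, hs⟩ := MinimalCx.exists_quasiIso_homologyCx_field
    (k := R ⧸ (IsLocalRing.maximalIdeal R)) V
  haveI : IsIso (Q.map s) := by
    rw [DerivedCategory.isIso_Q_map_iff_quasiIso]; exact hs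
  let iV : (DRing.LBaseChange (Ideal.Quotient.mk (IsLocalRing.maximalIdeal R))).obj K ≅
      DRing.toD V :=
    (DRing.LBaseChange (Ideal.Quotient.mk (IsLocalRing.maximalIdeal R))).mapIso iF.symm ≪≫
      LBCKFlat.lbcIsoOfFlat (Ideal.Quotient.mk (IsLocalRing.maximalIdeal R)) F b₀ hFb (fun q => by
        haveI := (hFf q).2
        infer_instance)
  have hEb : DRing.VanishesAbove E b₀ := fun i hi => isZero_homology_ext F b₀ hFb i hi
  have hEfin : ∀ i, Module.Finite (R ⧸ (IsLocalRing.maximalIdeal R)) (E.X i) := fun i =>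
    MinimalCx.finite_homology (k := R ⧸ (IsLocalRing.maximalIdeal R)) V (finite_ext F hFf) i
  have hEfree : ∀ i, Module.Free (R ⧸ (IsLocalRing.maximalIdeal R)) (E.X i) := fun i =>
    Module.Free.of_divisionRing (R ⧸ (IsLocalRing.maximalIdeal R)) (E.X i)
  obtain ⟨P, b', hPb, hPt, hPK, ⟨iPE⟩, hPfree⟩ := Groth.Agent.S7011.result R
    (IsLocalRing.maximalIdeal R) hjac K hK' E b₀ hEb
    (fun i => ⟨hEfin i, by haveI := hEfree i; infer_instance⟩)
    ⟨asIso (Q.map s) ≪≫ iV.symm⟩
  refine ⟨P, ⟨b', hPb⟩, fun i => ⟨hPfree i (hEfree i), (hPt i).1, ?_⟩, hPK⟩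
  haveI := hPfree i (hEfree i)
  let e₁ : ((R ⧸ (IsLocalRing.maximalIdeal R)) ⊗[R] (P.X i)) ≃ₗ[R ⧸ (IsLocalRing.maximalIdeal R)]
      E.X i :=
    ((PseudoCohBC.extModuleIso R (R ⧸ (IsLocalRing.maximalIdeal R)) (P.X i)).symm ≪≫
      (HomologicalComplex.eval _ _ i).mapIso iPE).toLinearEquiv
  have h1 : Module.finrank (R ⧸ (IsLocalRing.maximalIdeal R))
      ((R ⧸ (IsLocalRing.maximalIdeal R)) ⊗[R] (P.X i)) = Module.finrank R (P.X i) :=
    Module.finrank_baseChange
  rw [← h1, e₁.finrank_eq]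
  exact ((homIso F b₀ hFb hFf iF i).toLinearEquiv.finrank_eq).symm

theorem ext_d_eq_zero (P : DRing.Cx R) (hP : Minimal R K P) (i j : ℤ) :
    (LDerived.extCx (Ideal.Quotient.mk (IsLocalRing.maximalIdeal R)) P).d i j = 0 := by
  obtain ⟨⟨bP, hPb⟩, hPt, ⟨iP⟩⟩ := hP
  have hPff : DRing.TermwiseFiniteFree P := fun i => ⟨(hPt i).2.1, (hPt i).1⟩
  refine MinimalCx.d_eq_zero_of_finrank_eq (k := R ⧸ (IsLocalRing.maximalIdeal R))
    (LDerived.extCx (Ideal.Quotient.mk (IsLocalRing.maximalIdeal R)) P) (finite_ext P hPff) ?_ i j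
  intro n
  rw [finrank_ext P hPff n, (hPt n).2.2]
  exact (homIso P bP hPb hPff iP n).toLinearEquiv.finrank_eq

theorem unique_minimal (P Q : DRing.Cx R) (hP : Minimal R K P) (hQ : Minimal R K Q) :
    Nonempty (P ≅ Q) := by
  classical
  have hdP := ext_d_eq_zero P hP
  have hdQ := ext_d_eq_zero Q hQ
  obtain ⟨⟨bP, hPb⟩, hPt, ⟨iP⟩⟩ := hP
  obtain ⟨⟨bQ, hQb⟩, hQt, ⟨iQ⟩⟩ := hQ
  haveI : P.IsStrictlyLE bP := (CochainComplex.isStrictlyLE_iff _ _).2 (fun i hi => hPb i hi)
  haveI : ∀ n, Projective (P.X n) := fun n => by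
    haveI := (hPt n).1
    infer_instance
  haveI : P.IsKProjective := CochainComplex.isKProjective_of_projective P bP
  obtain ⟨g, hg⟩ := exists_map_eq P Q (iP ≪≫ iQ.symm).hom
  have hq : QuasiIso g := by
    rw [← DerivedCategory.isIso_Q_map_iff_quasiIso, hg]
    infer_instance
  have hPK : Groth.Agent.Lib.Helper25.KFlat.IsKFlat P :=
    Groth.Agent.Lib.Helper25.KFlat.isKFlat_of_boundedAbove_of_flat P bP hPb (fun q => by
      haveI := (hPt q).1
      infer_instance)
  have hQK : Groth.Agent.Lib.Helper25.KFlat.IsKFlat Q :=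
    Groth.Agent.Lib.Helper25.KFlat.isKFlat_of_boundedAbove_of_flat Q bQ hQb (fun q => by
      haveI := (hQt q).1
      infer_instance)
  haveI hqe := LBCKFlat.quasiIso_extCx_map (Ideal.Quotient.mk (IsLocalRing.maximalIdeal R)) g
    hPK hQK hq
  have hiso : ∀ i, IsIso ((((ModuleCat.extendScalars.{u, u, u}
      (Ideal.Quotient.mk (IsLocalRing.maximalIdeal R))).mapHomologicalComplex
        (ComplexShape.up ℤ)).map g).f i) := fun i =>
    MinimalCx.isIso_f_of_quasiIso _ hdP hdQ i
  haveI : ∀ i, IsIso (g.f i) := fun i => by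
    haveI := (hPt i).2.1
    haveI := (hQt i).2.1
    haveI := (hQt i).1
    have hbij := bijective_of_reduction (IsLocalRing.maximalIdeal R) hjac (g.f i).hom
      (redTo (IsLocalRing.maximalIdeal R) (eQ (IsLocalRing.maximalIdeal R) P i))
      (redTo (IsLocalRing.maximalIdeal R) (eQ (IsLocalRing.maximalIdeal R) Q i))
      (resHom (IsLocalRing.maximalIdeal R) ((((ModuleCat.extendScalars.{u, u, u}
        (Ideal.Quotient.mk (IsLocalRing.maximalIdeal R))).mapHomologicalComplex
          (ComplexShape.up ℤ)).map g).f i).hom)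
      ((ConcreteCategory.isIso_iff_bijective ((((ModuleCat.extendScalars.{u, u, u}
        (Ideal.Quotient.mk (IsLocalRing.maximalIdeal R))).mapHomologicalComplex
          (ComplexShape.up ℤ)).map g).f i)).1 (hiso i))
      (fun a => rfl)
      (redTo_surjective _ _) (ker_redTo _ _) (ker_redTo _ _)
    exact (ConcreteCategory.isIso_iff_bijective (g.f i)).2 hbij
  haveI : IsIso g := HomologicalComplex.Hom.isIso_of_components g
  exact ⟨asIso g⟩

end Core

end Groth.Agent.Lib.Helper15.MinimalLocal
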