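import Groth.Agent.Lib.Helper15.NPCLocal
import Groth.Agent.Lib.Helper43.FlatBaseChangeHom
import Groth.Agent.Lib.Helper43.RestrictSingle

/-!
# `n`-pseudo-coherent ring maps: flat base change and faithfully flat descent (helper15)
-/

set_option autoImplicit false
set_option linter.style.haveILetI false
universe u
open CategoryTheory Limits TensorProduct
attribute [local instance] HasDerivedCategory.standard

namespace Groth.Agent.Lib.Helper15.NPCDescent

open DRing DerivedCategory Groth.Agent.Lib.Helper43
  Groth.Agent.Lib.Helper15.PseudoCoh Groth.Agent.Lib.Helper15.PseudoCohFinite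
  Groth.Agent.Lib.Helper15.PseudoCohRel
  Groth.Agent.Lib.Helper15.SelfRel Groth.Agent.Lib.Helper15.SelfRelBC
  Groth.Agent.Lib.Helper15.NPCLocal DerCA

variable (n : ℤ)

theorem NQ_flatBaseChange : FlatBaseChangeHom.FlatBaseChange (@NQ.{u} n) := by
  intro R S R' S' _ _ _ _ _ _ _ _ _ _ _ _ hfl h
  haveI := hfl
  haveI : Algebra.IsPushout R R' S S' := Algebra.IsPushout.symm inferInstance
  have e : R' ⊗[R] S ≃ₐ[R'] S' := Algebra.IsPushout.equiv R R' S S'
  haveI : Algebra.FiniteType R S := RingHom.finiteType_algebraMap.1 h.1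
  refine ⟨RingHom.finiteType_algebraMap.2 ?_, (selfPC_algebraMap n).2
    (rel_self_of_algEquiv e n (rel_self_baseChange n ((selfPC_algebraMap n).1 h.2)))⟩
  have : Algebra.FiniteType R' (R' ⊗[R] S) := inferInstance
  exact Algebra.FiniteType.equiv this e

section Descent

/-- faithfully flat descent of `m`-pseudo-coherence of modules -/
theorem pc_module_descent_m {A B : Type u} [CommRing A] [CommRing B] [Algebra A B]
    [Module.FaithfullyFlat A B] (M : Type u) [AddCommGroup M] [Module A M] (m : ℤ)
    (h : IsPseudoCoherent B m (Dual.inD B (B ⊗[A] M))) : IsPseudoCoherent A m (Dual.inD A M) := by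
  have h1 := (Groth.Agent.S6941.result (R := A) (R' := B)
    ((CochainComplex.singleFunctor (ModuleCat.{u} A) 0).obj (ModuleCat.of A M)) m).1
    (of_iso (FpqcDescentHom.extSingleIso M).symm h)
  exact of_iso ((singleFunctorIsoCompQ (ModuleCat.{u} A) 0).app (ModuleCat.of A M)).symm h1

attribute [local instance] MvPolynomial.algebraMvPolynomial

set_option maxHeartbeats 400000 in
/-- faithfully flat descent of `m`-pseudo-coherent ring maps -/
theorem rel_self_descent {R S T : Type u} [CommRing R] [CommRing S] [CommRing T] [Algebra R S]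
    [Algebra R T] [Module.FaithfullyFlat R S] [hft : Algebra.FiniteType R T] (m : ℤ)
    (h : IsRelPseudoCoherentModule S (S ⊗[R] T) m (S ⊗[R] T)) :
    IsRelPseudoCoherentModule R T m T := by
  obtain ⟨k, f, hf⟩ := Algebra.FiniteType.iff_quotient_mvPolynomial''.1 hft
  refine ⟨k, f, hf, ?_⟩
  unfold IsRelPseudoCoherentVia
  letI algPT : Algebra (MvPolynomial (Fin k) R) T := f.toRingHom.toAlgebra
  haveI : IsScalarTower R (MvPolynomial (Fin k) R) T :=
    IsScalarTower.of_algebraMap_eq (fun r => (f.commutes r).symm)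
  haveI := FpqcDescentHom.faithfullyFlat_mvPolynomial R S k
  have e1 : (restrictD (f : MvPolynomial (Fin k) R →+* T)).obj (Dual.inD T T) ≅
      Dual.inD (MvPolynomial (Fin k) R) T :=
    RestrictSingle.restrictSingleIso (MvPolynomial (Fin k) R) T T
  refine of_iso e1.symm ?_
  apply pc_module_descent_m (B := MvPolynomial (Fin k) S) T
  have h1 : IsRelPseudoCoherentModule S
      (MvPolynomial (Fin k) S ⊗[MvPolynomial (Fin k) R] T) m
      (MvPolynomial (Fin k) S ⊗[MvPolynomial (Fin k) R] T) :=
    rel_self_of_algEquiv (Algebra.IsPushout.cancelBaseChangeAlg R S (MvPolynomial (Fin k) R)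
      (MvPolynomial (Fin k) S) T).symm m h
  have h2 := (isRel_iff_via
    (Algebra.TensorProduct.includeLeft : MvPolynomial (Fin k) S →ₐ[S]
      MvPolynomial (Fin k) S ⊗[MvPolynomial (Fin k) R] T)
    (Algebra.TensorProduct.includeLeft_surjective S (MvPolynomial (Fin k) S) hf) m _).1 h1
  unfold IsRelPseudoCoherentVia at h2
  have hring : ((Algebra.TensorProduct.includeLeft : MvPolynomial (Fin k) S →ₐ[S]
      MvPolynomial (Fin k) S ⊗[MvPolynomial (Fin k) R] T) :
        MvPolynomial (Fin k) S →+* MvPolynomial (Fin k) S ⊗[MvPolynomial (Fin k) R] T) =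
      algebraMap (MvPolynomial (Fin k) S)
        (MvPolynomial (Fin k) S ⊗[MvPolynomial (Fin k) R] T) := RingHom.ext (fun r => rfl)
  rw [hring] at h2
  exact of_iso (RestrictSingle.restrictSingleIso (MvPolynomial (Fin k) S)
    (MvPolynomial (Fin k) S ⊗[MvPolynomial (Fin k) R] T)
    (MvPolynomial (Fin k) S ⊗[MvPolynomial (Fin k) R] T)) h2

end Descent

theorem NQ_codescendsAlong : RingHom.CodescendsAlong (@NQ.{u} n) RingHom.FaithfullyFlat := by
  refine .mk _ (NQ_propertyIsLocal n).respectsIso fun R S T _ _ _ _ _ h h' ↦ ?_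
  rw [RingHom.faithfullyFlat_algebraMap_iff] at h
  haveI : Algebra.FiniteType S (S ⊗[R] T) := RingHom.finiteType_algebraMap.1 h'.1
  have hft : Algebra.FiniteType R T :=
    Algebra.FiniteType.of_finiteType_tensorProduct_of_faithfullyFlat S
  exact ⟨RingHom.finiteType_algebraMap.2 hft,
    (selfPC_algebraMap n).2 (rel_self_descent n ((selfPC_algebraMap n).1 h'.2))⟩

end Groth.Agent.Lib.Helper15.NPCDescent
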