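import Groth.Agent.Lib.Helper15.SelfRelBC
import Groth.Agent.Lib.Helper15.PseudoCohZariski
import Groth.Agent.Lib.Helper43.FpqcDescentHom

/-!
# `n`-pseudo-coherent ring maps form a local property (helper15)

`NQ n φ`: `φ` is of finite type and `SelfPC n φ`.  Local (`NQ_propertyIsLocal`), stable under
composition and flat base change (`NQ_flatBaseChange`), codescends along faithfully flat maps
(`NQ_codescendsAlong`).
-/

set_option autoImplicit false
set_option linter.style.haveILetI false
universe u
open CategoryTheory Limits TensorProduct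
attribute [local instance] HasDerivedCategory.standard

namespace Groth.Agent.Lib.Helper15.NPCLocal

open DRing DerivedCategory Groth.Agent.Lib.Helper43 Groth.Agent.Lib.Helper43.PCModule
  Groth.Agent.Lib.Helper15.PseudoCoh Groth.Agent.Lib.Helper15.PseudoCohRes
  Groth.Agent.Lib.Helper15.PseudoCohFinite Groth.Agent.Lib.Helper15.PseudoCohRel
  Groth.Agent.Lib.Helper15.PseudoCohComp Groth.Agent.Lib.Helper15.PseudoCohAway
  Groth.Agent.Lib.Helper15.SelfRel Groth.Agent.Lib.Helper15.SelfRelBC
  Groth.Agent.Lib.Helper84 DerCA

/-- the ring-map property: finite type and `n`-pseudo-coherent -/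
def NQ (n : ℤ) {R S : Type u} [CommRing R] [CommRing S] (f : R →+* S) : Prop :=
  f.FiniteType ∧ SelfPC n f

lemma selfPC_algebraMap {R S : Type u} [CommRing R] [CommRing S] [alg : Algebra R S] (m : ℤ) :
    SelfPC m (algebraMap R S) ↔ IsRelPseudoCoherentModule R S m S := by
  have h : (algebraMap R S).toAlgebra = alg := Algebra.algebra_ext _ _ (fun r => rfl)
  change @IsRelPseudoCoherentModule R S _ _ (algebraMap R S).toAlgebra m S _ _ ↔ _
  rw [h]

theorem selfPC_of_away {C B : Type u} [CommRing C] [CommRing B] [Algebra C B] (b : C)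
    [IsLocalization.Away b B] (m : ℤ) : SelfPC m (algebraMap C B) :=
  (selfPC_algebraMap m).2 (rel_self_of_algEquiv
    (IsLocalization.algEquiv (Submonoid.powers b) (Localization.Away b) B) m (away_pc b m))

variable (n : ℤ)

lemma NQ_stableUnderComposition : RingHom.StableUnderComposition (@NQ.{u} n) := by
  intro R S T _ _ _ f g hf hg
  refine ⟨hg.1.comp hf.1, ?_⟩
  have := SelfPC.comp f g n n hf.2 hg.2
  rwa [max_self] at this

lemma NQ_holdsForLocalizationAway : RingHom.HoldsForLocalizationAway (@NQ.{u} n) := by
  intro R S _ _ _ r _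
  exact ⟨RingHom.finiteType_holdsForLocalizationAway S r, selfPC_of_away r n⟩

lemma NQ_cancel_away {R S T : Type u} [CommRing R] [CommRing S] [CommRing T] [Algebra R S]
    (r : R) [IsLocalization.Away r S] (g : S →+* T) (hgf : NQ n (g.comp (algebraMap R S))) :
    NQ n g := by
  have hft : g.FiniteType := RingHom.FiniteType.of_comp_finiteType hgf.1
  have hloc : @IsLocalization.Away _ _ r S _ (algebraMap R S).toAlgebra := by
    have h : (algebraMap R S).toAlgebra = (inferInstance : Algebra R S) :=
      Algebra.algebra_ext _ _ (fun r => rfl)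
    rw [h]
    infer_instance
  exact ⟨hft, SelfPC.away_base (algebraMap R S) r hloc g hft n hgf.2⟩

lemma NQ_localizationAwayPreserves : RingHom.LocalizationAwayPreserves (@NQ.{u} n) := by
  intro R S _ _ f r R' S' _ _ _ _ _ _ hf
  have h2 : NQ n ((algebraMap S S').comp f) :=
    NQ_stableUnderComposition n f (algebraMap S S') hf (NQ_holdsForLocalizationAway n S' (f r))
  have h3 : (IsLocalization.Away.map R' S' f r).comp (algebraMap R R') =
      (algebraMap S S').comp f := IsLocalization.map_comp _
  refine NQ_cancel_away n r _ ?_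
  rw [h3]
  exact h2

set_option maxHeartbeats 400000 in
lemma NQ_ofLocalizationFiniteSpanTarget : RingHom.OfLocalizationFiniteSpanTarget (@NQ.{u} n) := by
  intro R S _ _ f s hs h
  letI := f.toAlgebra
  have h1 : f.FiniteType :=
    RingHom.finiteType_ofLocalizationSpanTarget f (s : Set S) hs (fun r => (h ⟨r.1, r.2⟩).1)
  haveI : Algebra.FiniteType R S := h1
  refine ⟨h1, ?_⟩
  change IsRelPseudoCoherentModule R S n S
  let g : Fin s.card → S := fun i => (s.equivFin.symm i).1
  have hg : Ideal.span (Set.range g) = ⊤ := by
    have : Set.range g = (s : Set S) := by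
      ext x
      constructor
      · rintro ⟨i, rfl⟩
        exact (s.equivFin.symm i).2
      · intro hx
        exact ⟨s.equivFin ⟨x, hx⟩, by simp [g]⟩
    rw [this, hs]
  refine rel_of_iso ((singleFunctorIsoCompQ (ModuleCat.{u} S) 0).app (ModuleCat.of S S)).symm
    (PseudoCohZariski.rel_of_cover
      ((CochainComplex.singleFunctor (ModuleCat.{u} S) 0).obj (ModuleCat.of S S)) n g hg
      (fun i => ?_))
  have hi := (h ⟨g i, (s.equivFin.symm i).2⟩).2
  have halg : ((algebraMap S (Localization.Away (g i))).comp f).toAlgebra =
      (inferInstance : Algebra R (Localization.Away (g i))) :=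
    Algebra.algebra_ext _ _ (fun r => (IsScalarTower.algebraMap_apply R S _ r).symm)
  change @IsRelPseudoCoherentModule R (Localization.Away (g i)) _ _
    ((algebraMap S (Localization.Away (g i))).comp f).toAlgebra n (Localization.Away (g i)) _ _
    at hi
  rw [halg] at hi
  exact rel_of_iso (PCHomLocal.extSingleSelfIso S (Localization.Away (g i))).symm hi

lemma NQ_stableUnderCompositionWithLocalizationAwaySource :
    RingHom.StableUnderCompositionWithLocalizationAwaySource (@NQ.{u} n) :=
  fun _ S _ _ _ _ _ r _ f hf =>
    NQ_stableUnderComposition n (algebraMap _ S) f (NQ_holdsForLocalizationAway n S r) hf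

lemma NQ_stableUnderCompositionWithLocalizationAwayTarget :
    RingHom.StableUnderCompositionWithLocalizationAwayTarget (@NQ.{u} n) :=
  fun _ _ T _ _ _ _ s _ f hf =>
    NQ_stableUnderComposition n f (algebraMap _ T) hf (NQ_holdsForLocalizationAway n T s)

lemma NQ_ofLocalizationSpanTarget : RingHom.OfLocalizationSpanTarget (@NQ.{u} n) :=
  (RingHom.ofLocalizationSpanTarget_iff_finite _).2 (NQ_ofLocalizationFiniteSpanTarget n)

/-- `n`-pseudo-coherence of finite type ring maps is a local property -/
theorem NQ_propertyIsLocal : RingHom.PropertyIsLocal (@NQ.{u} n) where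
  localizationAwayPreserves := NQ_localizationAwayPreserves n
  ofLocalizationSpanTarget := NQ_ofLocalizationSpanTarget n
  ofLocalizationSpan := (NQ_ofLocalizationSpanTarget n).ofLocalizationSpan
    (NQ_stableUnderCompositionWithLocalizationAwaySource n)
  StableUnderCompositionWithLocalizationAwayTarget :=
    NQ_stableUnderCompositionWithLocalizationAwayTarget n

lemma NQ_containsIdentities : RingHom.ContainsIdentities (@NQ.{u} n) := by
  intro R _
  haveI : IsLocalization.Away (1 : R) R :=
    IsLocalization.away_of_isUnit_of_bijective R isUnit_one Function.bijective_id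
  exact NQ_holdsForLocalizationAway n R (1 : R)

end Groth.Agent.Lib.Helper15.NPCLocal
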