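import Groth.Agent.Lib.Helper15.SelfRel
import Groth.Agent.Lib.Helper15.ChartUnit
import Groth.Agent.Lib.Helper21.RelFPSch

/-!
# `n`-pseudo-coherent morphisms of schemes: ring-level form and composition (helper15)

* `selfPC_of_chartPC`, `exists_chart_of_selfPC`: the chart test for `O_X[0]` is `SelfPC` of the
  ring map on sections;
* `selfPC_source_basicOpen`, `selfPC_base_basicOpen`;
* `exists_cover_of_isPseudoCoherentRel`, `isPseudoCoherentRel_unit_of_cover`;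
* `isNPseudoCoherent_comp`.
-/

set_option autoImplicit false
set_option linter.style.haveILetI false
universe u
open CategoryTheory Limits AlgebraicGeometry Opposite
attribute [local instance] HasDerivedCategory.standard

namespace Groth.Agent.Lib.Helper15.SelfRelSch

open DRing DerCA Groth.Agent.Lib.Helper15.PseudoCoh Groth.Agent.Lib.Helper15.PseudoCohComp
  Groth.Agent.Lib.Helper15.SelfRel Groth.Agent.Lib.Helper15.ChartUnit
  Groth.Agent.Lib.Helper21.RelFPSch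

variable {X Y : Scheme.{u}} (f : X ⟶ Y)

set_option maxHeartbeats 400000 in
/-- the chart test for the structure sheaf gives `SelfPC` of the ring map on sections -/
theorem selfPC_of_chartPC {U : X.Opens} (hU : IsAffineOpen U) (V : Y.Opens) (h : U ≤ f ⁻¹ᵁ V)
    {n : ℕ} (φ : MvPolynomial (Fin n) Γ(Y, V) →+* Γ(X, U)) (hc : DerSch.IsChart f U V h φ) (m : ℤ)
    (hpc : DerSch.ChartPC m (DCoh.toD X (DerSch.unitCx X)) U V φ) :
    SelfPC m (f.appLE V U h).hom := by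
  letI : Algebra Γ(Y, V) Γ(X, U) := (f.appLE V U h).hom.toAlgebra
  let ψ : MvPolynomial (Fin n) Γ(Y, V) →ₐ[Γ(Y, V)] Γ(X, U) :=
    { φ with commutes' := fun r => congr($(hc.2) r) }
  have h1 := (chartPC_unit_iff hU V φ hc.1 m).1 hpc
  refine ⟨n, ψ, hc.1, ?_⟩
  unfold IsRelPseudoCoherentVia
  exact of_iso (restrictSelfIso (ψ : MvPolynomial (Fin n) Γ(Y, V) →+* Γ(X, U))).symm h1

set_option maxHeartbeats 400000 in
/-- conversely `SelfPC` of the ring map on sections produces a chart passing the test -/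
theorem exists_chart_of_selfPC {U : X.Opens} (hU : IsAffineOpen U) (V : Y.Opens)
    (h : U ≤ f ⁻¹ᵁ V) (m : ℤ) (hs : SelfPC m (f.appLE V U h).hom) :
    ∃ (n : ℕ) (φ : MvPolynomial (Fin n) Γ(Y, V) →+* Γ(X, U)), DerSch.IsChart f U V h φ ∧
      DerSch.ChartPC m (DCoh.toD X (DerSch.unitCx X)) U V φ := by
  letI : Algebra Γ(Y, V) Γ(X, U) := (f.appLE V U h).hom.toAlgebra
  obtain ⟨n, α, hα, hvia⟩ := hs
  unfold IsRelPseudoCoherentVia at hvia
  refine ⟨n, (α : MvPolynomial (Fin n) Γ(Y, V) →+* Γ(X, U)),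
    ⟨hα, RingHom.ext fun r => α.commutes r⟩, ?_⟩
  exact (chartPC_unit_iff hU V _ hα m).2 (of_iso (restrictSelfIso _) hvia)

theorem selfPC_source_basicOpen [LocallyOfFiniteType f] {U : X.Opens} (hU : IsAffineOpen U)
    {V : Y.Opens} (hV : IsAffineOpen V) (h : U ≤ f ⁻¹ᵁ V) (a : Γ(X, U))
    (U' : X.Opens) (hU' : U' = X.basicOpen a) (h' : U' ≤ f ⁻¹ᵁ V) (m : ℤ)
    (hP : SelfPC m (f.appLE V U h).hom) : SelfPC m (f.appLE V U' h').hom := by
  subst hU'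
  have h1 := SelfPC.away_source (f.appLE V U h).hom (f.finiteType_appLE hV hU h)
    (resRing X (X.basicOpen_le a)) a (hU.isLocalization_basicOpen a) m hP
  rwa [resRing_comp_appLE f h (X.basicOpen_le a)] at h1

theorem selfPC_base_basicOpen [LocallyOfFiniteType f] {V V' : Y.Opens} (hV : IsAffineOpen V)
    (b : Γ(Y, V)) (hV' : V' = Y.basicOpen b) {U : X.Opens} (hU : IsAffineOpen U)
    (hU' : U ≤ f ⁻¹ᵁ V') (hUV : U ≤ f ⁻¹ᵁ V) (m : ℤ)
    (hP : SelfPC m (f.appLE V U hUV).hom) : SelfPC m (f.appLE V' U hU').hom := by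
  subst hV'
  refine SelfPC.away_base (resRing Y (Y.basicOpen_le b)) b (hV.isLocalization_basicOpen b) _
    (f.finiteType_appLE (hV.basicOpen b) hU hU') m ?_
  rwa [appLE_comp_resRing f hU' (Y.basicOpen_le b) hUV]

/-- the covers of `IsPseudoCoherentRel` for the structure sheaf, in ring form -/
theorem exists_cover_of_isPseudoCoherentRel {m : ℤ}
    (hK : DerSch.IsPseudoCoherentRel f m (DCoh.toD X (DerSch.unitCx X))) :
    ∃ 𝒱 : Set Y.affineOpens, (⨆ V ∈ 𝒱, (V : Y.Opens)) = ⊤ ∧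
      ∀ V ∈ 𝒱, ∀ x : X, x ∈ f ⁻¹ᵁ (V : Y.Opens) →
        ∃ (U : X.affineOpens) (_ : x ∈ (U : X.Opens))
          (h : (U : X.Opens) ≤ f ⁻¹ᵁ (V : Y.Opens)), SelfPC m (f.appLE V U h).hom := by
  obtain ⟨-, 𝒱, h𝒱, H⟩ := hK
  refine ⟨𝒱, h𝒱, fun V hV x hx => ?_⟩
  obtain ⟨𝒰, h𝒰, H'⟩ := H V hV
  have hx' : x ∈ (⨆ U ∈ 𝒰, (U : X.Opens)) := by rw [h𝒰]; exact hx
  obtain ⟨U, hx'⟩ := TopologicalSpace.Opens.mem_iSup.1 hx'
  obtain ⟨hU, hx'⟩ := TopologicalSpace.Opens.mem_iSup.1 hx'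
  have hle : (U : X.Opens) ≤ f ⁻¹ᵁ (V : Y.Opens) := by
    rw [← h𝒰]; exact le_iSup₂ (f := fun (U : X.affineOpens) _ => (U : X.Opens)) U hU
  obtain ⟨n, φ, hc, hpc⟩ := H' U hU hle
  exact ⟨U, hx', hle, selfPC_of_chartPC f U.2 V hle φ hc m hpc⟩

/-- reassembling `IsPseudoCoherentRel` for the structure sheaf from ring-level data -/
theorem isPseudoCoherentRel_unit_of_cover [LocallyOfFiniteType f] {m : ℤ}
    (𝒱 : Set Y.affineOpens) (h𝒱 : (⨆ V ∈ 𝒱, (V : Y.Opens)) = ⊤)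
    (H : ∀ V ∈ 𝒱, ∀ x : X, x ∈ f ⁻¹ᵁ (V : Y.Opens) →
        ∃ (U : X.affineOpens) (_ : x ∈ (U : X.Opens))
          (h : (U : X.Opens) ≤ f ⁻¹ᵁ (V : Y.Opens)), SelfPC m (f.appLE V U h).hom) :
    DerSch.IsPseudoCoherentRel f m (DCoh.toD X (DerSch.unitCx X)) := by
  refine ⟨inferInstance, 𝒱, h𝒱, fun V hV => ?_⟩
  refine ⟨{U : X.affineOpens | ∃ h : (U : X.Opens) ≤ f ⁻¹ᵁ (V : Y.Opens),
    SelfPC m (f.appLE V U h).hom}, ?_, ?_⟩
  · apply le_antisymm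
    · exact iSup₂_le fun U hU => hU.1
    · intro x hx
      obtain ⟨U, hxU, h, hs⟩ := H V hV x hx
      exact TopologicalSpace.Opens.mem_iSup.2
        ⟨U, TopologicalSpace.Opens.mem_iSup.2 ⟨⟨h, hs⟩, hxU⟩⟩
  · rintro U ⟨h, hs⟩ h'
    exact exists_chart_of_selfPC f U.2 V h' m hs

set_option maxHeartbeats 400000 in
/-- composition of `n`-pseudo-coherent morphisms -/
theorem isNPseudoCoherent_comp {Z : Scheme.{u}} (g : Y ⟶ Z)
    [LocallyOfFiniteType f] [LocallyOfFiniteType g] (r s : ℤ)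
    (hf : DerSch.IsNPseudoCoherent f r) (hg : DerSch.IsNPseudoCoherent g s) :
    DerSch.IsNPseudoCoherent (f ≫ g) (max r s) := by
  obtain ⟨𝒱, h𝒱, Hf⟩ := exists_cover_of_isPseudoCoherentRel f hf
  obtain ⟨𝒲, h𝒲, Hg⟩ := exists_cover_of_isPseudoCoherentRel g hg
  refine isPseudoCoherentRel_unit_of_cover (f ≫ g) 𝒲 h𝒲 (fun W hW x hx => ?_)
  have hy : f.base x ∈ g ⁻¹ᵁ (W : Z.Opens) := hx
  obtain ⟨V', hyV', hV'W, hsg⟩ := Hg W hW (f.base x) hy
  have hyV : f.base x ∈ (⨆ V ∈ 𝒱, (V : Y.Opens)) := by rw [h𝒱]; trivial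
  obtain ⟨V, hyV⟩ := TopologicalSpace.Opens.mem_iSup.1 hyV
  obtain ⟨hV, hyV⟩ := TopologicalSpace.Opens.mem_iSup.1 hyV
  obtain ⟨U, hxU, hUV, hsf⟩ := Hf V hV x hyV
  obtain ⟨b, b', hbb', hyb, -⟩ :=
    exists_common_basicOpen V.2 V'.2 ⊤ (f.base x) hyV hyV' trivial
  obtain ⟨a, ha⟩ : ∃ a : Γ(X, (U : X.Opens)), a = (f.appLE V U hUV).hom b := ⟨_, rfl⟩
  have hU''eq : X.basicOpen a = (U : X.Opens) ⊓ f ⁻¹ᵁ (Y.basicOpen b) := by
    rw [ha]
    exact Scheme.basicOpen_appLE f U V hUV b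
  have hxU'' : x ∈ X.basicOpen a := by rw [hU''eq]; exact ⟨hxU, hyb⟩
  have hU''V'' : X.basicOpen a ≤ f ⁻¹ᵁ (Y.basicOpen b) := by rw [hU''eq]; exact inf_le_right
  have hU''V : X.basicOpen a ≤ f ⁻¹ᵁ (V : Y.Opens) := (X.basicOpen_le a).trans hUV
  have h1 : SelfPC r (f.appLE V (X.basicOpen a) hU''V).hom :=
    selfPC_source_basicOpen f U.2 V.2 hUV a _ rfl hU''V r hsf
  have h2 : SelfPC r (f.appLE (Y.basicOpen b) (X.basicOpen a) hU''V'').hom :=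
    selfPC_base_basicOpen f V.2 b rfl (U.2.basicOpen a) hU''V'' hU''V r h1
  have hV''W : Y.basicOpen b ≤ g ⁻¹ᵁ (W : Z.Opens) := by
    rw [hbb']; exact (Y.basicOpen_le b').trans hV'W
  have h3 : SelfPC s (g.appLE W (Y.basicOpen b) hV''W).hom :=
    selfPC_source_basicOpen g V'.2 W.2 hV'W b' _ hbb' hV''W s hsg
  have h4 := SelfPC.comp _ _ r s h3 h2
  have hle : X.basicOpen a ≤ (f ≫ g) ⁻¹ᵁ (W : Z.Opens) :=
    hU''V''.trans (fun z hz => hV''W hz)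
  refine ⟨⟨X.basicOpen a, U.2.basicOpen a⟩, hxU'', hle, ?_⟩
  convert h4 using 1
  rw [← CommRingCat.hom_comp, Scheme.Hom.appLE_comp_appLE]

end Groth.Agent.Lib.Helper15.SelfRelSch
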