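import Groth.Agent.Lib.Helper15.NPCDescent
import Groth.Agent.Lib.Helper15.SelfRelSch
import Groth.Agent.Lib.Helper43.FpqcDescentMor

/-!
# `n`-pseudo-coherent morphisms as a `HasRingHomProperty`; fpqc descent (helper15)

* `npcMor n = affineLocally (NQ n)`, `npcMor_iff : npcMor n f ↔ LocallyOfFiniteType f ∧
  DerSch.IsNPseudoCoherent f n`;
* `selfPC_of_isNPseudoCoherent`: the ring-level test holds on ALL pairs of affine opens;
* `isNPseudoCoherent_descent`: descent along flat surjective quasi-compact morphisms.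
-/

set_option autoImplicit false
set_option linter.style.haveILetI false
universe u
open CategoryTheory Limits AlgebraicGeometry Opposite MorphismProperty
attribute [local instance] HasDerivedCategory.standard

namespace Groth.Agent.Lib.Helper15.NPCMor

open Groth.Agent.Lib.Helper15.SelfRel Groth.Agent.Lib.Helper15.SelfRelSch
  Groth.Agent.Lib.Helper15.NPCLocal Groth.Agent.Lib.Helper15.NPCDescent
  Groth.Agent.Lib.Helper15.ChartUnit Groth.Agent.Lib.Helper43

/-- the morphism property -/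
def npcMor (n : ℤ) : MorphismProperty Scheme.{u} := affineLocally (@NQ.{u} n)

instance (n : ℤ) : HasRingHomProperty (npcMor.{u} n) (@NQ.{u} n) where
  isLocal_ringHomProperty := NQ_propertyIsLocal n
  eq_affineLocally' := rfl

variable {X Y : Scheme.{u}} (f : X ⟶ Y) (n : ℤ)

theorem npcMor_iff :
    npcMor n f ↔ LocallyOfFiniteType f ∧ DerSch.IsNPseudoCoherent f n := by
  constructor
  · intro h
    have hall : ∀ (U : Y.Opens) (_ : IsAffineOpen U) (V : X.Opens) (_ : IsAffineOpen V)
        (e : V ≤ f ⁻¹ᵁ U), NQ n (f.appLE U V e).hom := fun U hU V hV e =>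
      (affineLocally_iff_forall_isAffineOpen (P := @NQ.{u} n) f).1 h hU hV e
    have hlft : LocallyOfFiniteType f := ⟨fun {U} hU {V} hV e => (hall U hU V hV e).1⟩
    refine ⟨hlft, ?_⟩
    refine isPseudoCoherentRel_unit_of_cover f Set.univ (iSup_univ_affineOpens)
      (fun V _ x hx => ?_)
    obtain ⟨_, ⟨U, hU, rfl⟩, hxU, hUV⟩ :=
      X.isBasis_affineOpens.exists_subset_of_mem_open
        (show x ∈ (f ⁻¹ᵁ (V : Y.Opens) : Set X) from hx) (f ⁻¹ᵁ (V : Y.Opens)).isOpen
    exact ⟨⟨U, hU⟩, hxU, hUV, (hall V V.2 U hU hUV).2⟩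
  · rintro ⟨hlft, h⟩
    rw [HasRingHomProperty.iff_exists_appLE (P := npcMor n)
      (NQ_stableUnderCompositionWithLocalizationAwaySource n)]
    intro x
    obtain ⟨𝒱, h𝒱, H⟩ := exists_cover_of_isPseudoCoherentRel f h
    have hy : f.base x ∈ (⨆ V ∈ 𝒱, (V : Y.Opens)) := by rw [h𝒱]; trivial
    obtain ⟨V, hy⟩ := TopologicalSpace.Opens.mem_iSup.1 hy
    obtain ⟨hV, hy⟩ := TopologicalSpace.Opens.mem_iSup.1 hy
    obtain ⟨U, hxU, hUV, hs⟩ := H V hV x hy
    exact ⟨V, U, hxU, hUV, f.finiteType_appLE V.2 U.2 hUV, hs⟩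

/-- the ring-level test holds on all pairs of affine opens -/
theorem selfPC_of_isNPseudoCoherent [LocallyOfFiniteType f] (hf : DerSch.IsNPseudoCoherent f n)
    {U : X.Opens} (hU : IsAffineOpen U) {V : Y.Opens} (hV : IsAffineOpen V) (e : U ≤ f ⁻¹ᵁ V) :
    SelfPC n (f.appLE V U e).hom :=
  ((affineLocally_iff_forall_isAffineOpen (P := @NQ.{u} n) f).1
    ((npcMor_iff f n).2 ⟨inferInstance, hf⟩) hV hU e).2

/-- fpqc descent of `n`-pseudo-coherent morphisms -/
theorem isNPseudoCoherent_descent {Y' : Scheme.{u}} [LocallyOfFiniteType f] (h : Y' ⟶ Y)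
    [Flat h] [Surjective h] [QuasiCompact h]
    (hf' : DerSch.IsNPseudoCoherent (pullback.snd f h) n) : DerSch.IsNPseudoCoherent f n := by
  haveI := FpqcDescentMor.descendsAlong_fpqc (P := npcMor.{u} n) (NQ_flatBaseChange n)
    (NQ_containsIdentities n) (NQ_stableUnderComposition n) (NQ_codescendsAlong n)
  have h1 : npcMor n (pullback.snd f h) := (npcMor_iff _ n).2 ⟨inferInstance, hf'⟩
  have hc : IsPullback (pullback.fst f h) (pullback.snd f h) f h := IsPullback.of_hasPullback f h
  exact ((npcMor_iff f n).1 (MorphismProperty.of_isPullback_of_descendsAlong (P := npcMor.{u} n)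
    (Q := @Surjective ⊓ @Flat ⊓ @QuasiCompact) hc.flip
    ⟨⟨inferInstance, inferInstance⟩, inferInstance⟩ h1)).2

end Groth.Agent.Lib.Helper15.NPCMor
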