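import Groth.Agent.Lib.Helper15.NPCTor

/-!
# Products of `n`-pseudo-coherent morphisms over a base with flat second factors (helper15)
-/

set_option autoImplicit false
set_option linter.style.haveILetI false
universe u
open CategoryTheory Limits AlgebraicGeometry Opposite MorphismProperty
attribute [local instance] HasDerivedCategory.standard

namespace Groth.Agent.Lib.Helper15.NPCProd

open Groth.Agent.Lib.Helper15.SelfRel Groth.Agent.Lib.Helper15.SelfRelSch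
  Groth.Agent.Lib.Helper15.NPCLocal Groth.Agent.Lib.Helper15.NPCDescent
  Groth.Agent.Lib.Helper15.NPCMor Groth.Agent.Lib.Helper15.NPCTor Groth.Agent.Lib.Helper43

/-- affineness of `g⁻¹ UX ⊓ iY⁻¹ UT` in a pullback square -/
theorem isAffineOpen_pullback {X Y S T : Scheme.{u}} {f : T ⟶ S} {g : Y ⟶ X} {iX : X ⟶ S}
    {iY : Y ⟶ T} (H : IsPullback g iY iX f)
    {US : S.Opens} {UT : T.Opens} {UX : X.Opens} (hUST : UT ≤ f ⁻¹ᵁ US) (hUSX : UX ≤ iX ⁻¹ᵁ US)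
    {UY : Y.Opens} (hUY : UY = g ⁻¹ᵁ UX ⊓ iY ⁻¹ᵁ UT)
    (hUS : IsAffineOpen US) (hUT : IsAffineOpen UT) (hUX : IsAffineOpen UX) :
    IsAffineOpen UY := by
  have : IsAffine _ := hUS
  have : IsAffine _ := hUT
  have : IsAffine _ := hUX
  exact .of_isIso (Scheme.Hom.isPullback_resLE H hUST hUSX hUY).isoPullback.hom

set_option maxHeartbeats 400000 in
/-- tor-independent base change: `b` is the base change of `f₂` along `pY₂`, itself the base change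
of an arbitrary `q₁` along the flat `q₂`, and `f₂ ≫ q₂` is flat -/
theorem npcMor_of_isPullback_tor {S Y₁ Y₂ X₂ Y M : Scheme.{u}} (q₁ : Y₁ ⟶ S) (q₂ : Y₂ ⟶ S)
    (f₂ : X₂ ⟶ Y₂) [Flat q₂] [Flat (f₂ ≫ q₂)] (pY₁ : Y ⟶ Y₁) (pY₂ : Y ⟶ Y₂)
    (hY : IsPullback pY₁ pY₂ q₁ q₂) (b : M ⟶ Y) (m₂ : M ⟶ X₂) (hb : IsPullback b m₂ pY₂ f₂)
    (n : ℤ) (h₂ : npcMor n f₂) : npcMor n b := by
  haveI hlft₂ : LocallyOfFiniteType f₂ := ((npcMor_iff f₂ n).1 h₂).1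
  have hnpc₂ := ((npcMor_iff f₂ n).1 h₂).2
  haveI : LocallyOfFiniteType b :=
    MorphismProperty.of_isPullback (P := @LocallyOfFiniteType) hb.flip inferInstance
  rw [HasRingHomProperty.iff_exists_appLE (P := npcMor n)
    (NQ_stableUnderCompositionWithLocalizationAwaySource n)]
  intro x
  obtain ⟨_, ⟨W, hW, rfl⟩, hsW, -⟩ := S.isBasis_affineOpens.exists_subset_of_mem_open
    (Set.mem_univ (q₂.base (f₂.base (m₂.base x)))) isOpen_univ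
  obtain ⟨_, ⟨V₂, hV₂, rfl⟩, hyV₂, hV₂W⟩ := Y₂.isBasis_affineOpens.exists_subset_of_mem_open
    (show f₂.base (m₂.base x) ∈ (q₂ ⁻¹ᵁ W : Set Y₂) from hsW) (q₂ ⁻¹ᵁ W).isOpen
  obtain ⟨_, ⟨U₂, hU₂, rfl⟩, hxU₂, hU₂V₂⟩ := X₂.isBasis_affineOpens.exists_subset_of_mem_open
    (show m₂.base x ∈ (f₂ ⁻¹ᵁ V₂ : Set X₂) from hyV₂) (f₂ ⁻¹ᵁ V₂).isOpen
  have e2 : pY₂.base (b.base x) = f₂.base (m₂.base x) := by
    rw [← Scheme.Hom.comp_apply, ← Scheme.Hom.comp_apply, hb.w]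
  have h1 : q₁.base (pY₁.base (b.base x)) ∈ W := by
    have e1 : q₁.base (pY₁.base (b.base x)) = q₂.base (pY₂.base (b.base x)) := by
      rw [← Scheme.Hom.comp_apply pY₁ q₁, hY.w, Scheme.Hom.comp_apply]
    rw [e1, e2]
    exact hsW
  obtain ⟨_, ⟨V₁, hV₁, rfl⟩, hyV₁, hV₁W⟩ := Y₁.isBasis_affineOpens.exists_subset_of_mem_open
    (show pY₁.base (b.base x) ∈ (q₁ ⁻¹ᵁ W : Set Y₁) from h1) (q₁ ⁻¹ᵁ W).isOpen
  obtain ⟨V, hVdef⟩ : ∃ V : Y.Opens, V = pY₁ ⁻¹ᵁ V₁ ⊓ pY₂ ⁻¹ᵁ V₂ := ⟨_, rfl⟩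
  have hVaff : IsAffineOpen V := isAffineOpen_pullback hY hV₂W hV₁W hVdef hW hV₂ hV₁
  have hVV₂ : V ≤ pY₂ ⁻¹ᵁ V₂ := by rw [hVdef]; exact inf_le_right
  obtain ⟨U, hUdef⟩ : ∃ U : M.Opens, U = b ⁻¹ᵁ V ⊓ m₂ ⁻¹ᵁ U₂ := ⟨_, rfl⟩
  have hUaff : IsAffineOpen U := isAffineOpen_pullback hb hU₂V₂ hVV₂ hUdef hV₂ hU₂ hVaff
  have hxU : x ∈ U := by
    rw [hUdef]
    refine ⟨?_, hxU₂⟩
    change b.base x ∈ V
    rw [hVdef]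
    refine ⟨hyV₁, ?_⟩
    change pY₂.base (b.base x) ∈ V₂
    rw [e2]
    exact hyV₂
  have hUV : U ≤ b ⁻¹ᵁ V := by rw [hUdef]; exact inf_le_left
  haveI := isIso_pushoutSection_of_isAffineOpen hY hV₂W hV₁W hVdef hW hV₂ hV₁
  have H₁ := (isIso_pushoutSection_iff hY hV₂W hV₁W hVdef).1 inferInstance
  haveI := isIso_pushoutSection_of_isAffineOpen hb hU₂V₂ hVV₂ hUdef hV₂ hU₂ hVaff
  have H₂ := (isIso_pushoutSection_iff hb hU₂V₂ hVV₂ hUdef).1 inferInstance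
  have hs₂ : SelfPC n (f₂.appLE V₂ U₂ hU₂V₂).hom :=
    selfPC_of_isNPseudoCoherent f₂ n hnpc₂ hU₂ hV₂ hU₂V₂
  have hflat : ((q₂.appLE W V₂ hV₂W) ≫ (f₂.appLE V₂ U₂ hU₂V₂)).hom.Flat := by
    have h3 := Scheme.Hom.appLE_comp_appLE f₂ q₂ W V₂ U₂ hV₂W hU₂V₂
    rw [h3]
    exact (f₂ ≫ q₂).flat_appLE hW hU₂ _
  have hs := selfPC_of_isPushout_tor H₁ H₂ (q₂.flat_appLE hW hV₂ hV₂W) hflat n hs₂
  exact ⟨⟨V, hVaff⟩, ⟨U, hUaff⟩, hxU, hUV, b.finiteType_appLE hVaff hUaff hUV, hs⟩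

set_option maxHeartbeats 400000 in
/-- the product of two `n`-pseudo-coherent morphisms over `S`, the second source and target
being flat over `S` -/
theorem isNPseudoCoherent_prod {S X₁ Y₁ X₂ Y₂ X Y : Scheme.{u}} (f₁ : X₁ ⟶ Y₁) (q₁ : Y₁ ⟶ S)
    (f₂ : X₂ ⟶ Y₂) (q₂ : Y₂ ⟶ S) [Flat q₂] [Flat (f₂ ≫ q₂)]
    (pX₁ : X ⟶ X₁) (pX₂ : X ⟶ X₂) (hX : IsPullback pX₁ pX₂ (f₁ ≫ q₁) (f₂ ≫ q₂))
    (pY₁ : Y ⟶ Y₁) (pY₂ : Y ⟶ Y₂) (hY : IsPullback pY₁ pY₂ q₁ q₂)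
    (f : X ⟶ Y) (hf₁ : f ≫ pY₁ = pX₁ ≫ f₁) (hf₂ : f ≫ pY₂ = pX₂ ≫ f₂)
    [LocallyOfFiniteType f₁] [LocallyOfFiniteType f₂] (n : ℤ)
    (h₁ : DerSch.IsNPseudoCoherent f₁ n) (h₂ : DerSch.IsNPseudoCoherent f₂ n) :
    DerSch.IsNPseudoCoherent f n := by
  obtain ⟨m₁, hm₁⟩ : ∃ m₁ : pullback q₁ (f₂ ≫ q₂) ⟶ Y₁, m₁ = pullback.fst q₁ (f₂ ≫ q₂) :=
    ⟨_, rfl⟩
  obtain ⟨m₂, hm₂⟩ : ∃ m₂ : pullback q₁ (f₂ ≫ q₂) ⟶ X₂, m₂ = pullback.snd q₁ (f₂ ≫ q₂) :=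
    ⟨_, rfl⟩
  have hM : IsPullback m₁ m₂ q₁ (f₂ ≫ q₂) := by
    rw [hm₁, hm₂]
    exact IsPullback.of_hasPullback _ _
  haveI : Flat m₁ := by
    rw [hm₁]
    infer_instance
  obtain ⟨b, hb₁, hb₂⟩ : ∃ b : pullback q₁ (f₂ ≫ q₂) ⟶ Y, b ≫ pY₁ = m₁ ∧ b ≫ pY₂ = m₂ ≫ f₂ :=
    ⟨hY.lift m₁ (m₂ ≫ f₂) (by rw [Category.assoc]; exact hM.w), hY.lift_fst _ _ _,
      hY.lift_snd _ _ _⟩
  have hb : IsPullback b m₂ pY₂ f₂ := IsPullback.of_right (by rw [hb₁]; exact hM) hb₂ hY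
  obtain ⟨a, ha₁, ha₂⟩ : ∃ a : X ⟶ pullback q₁ (f₂ ≫ q₂), a ≫ m₁ = pX₁ ≫ f₁ ∧ a ≫ m₂ = pX₂ :=
    ⟨hM.lift (pX₁ ≫ f₁) pX₂ (by rw [Category.assoc]; exact hX.w), hM.lift_fst _ _ _,
      hM.lift_snd _ _ _⟩
  have ha : IsPullback pX₁ a f₁ m₁ := IsPullback.of_bot (by rw [ha₂]; exact hX) ha₁.symm hM
  have hfab : f = a ≫ b := by
    apply hY.hom_ext
    · rw [hf₁, Category.assoc, hb₁, ha₁]
    · rw [hf₂, Category.assoc, hb₂, ← Category.assoc, ha₂]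
  have hPa : npcMor n a :=
    FlatBaseChangeHom.of_isPullback_of_flat (P := npcMor.{u} n) (NQ_flatBaseChange n)
      (NQ_containsIdentities n) (NQ_stableUnderComposition n) f₁ a pX₁ m₁ ha
      ((npcMor_iff f₁ n).2 ⟨inferInstance, h₁⟩)
  have hPb : npcMor n b :=
    npcMor_of_isPullback_tor q₁ q₂ f₂ pY₁ pY₂ hY b m₂ hb n
      ((npcMor_iff f₂ n).2 ⟨inferInstance, h₂⟩)
  haveI : (npcMor.{u} n).IsStableUnderComposition :=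
    HasRingHomProperty.stableUnderComposition (NQ_stableUnderComposition n)
  rw [hfab]
  exact ((npcMor_iff _ n).1 ((npcMor.{u} n).comp_mem _ _ hPa hPb)).2

end Groth.Agent.Lib.Helper15.NPCProd
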