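import Groth.Agent.Lib.Helper15.SelfRel
import Groth.Agent.Lib.Helper43.RelPCBC
import Groth.Agent.Lib.Helper15.LBCKFlat
import Groth.Agent.Lib.Helper90.TorSymm
import Groth.Agent.S8710

/-!
# Flat base change of `m`-pseudo-coherent ring maps (helper15)
-/

set_option autoImplicit false
set_option linter.style.haveILetI false
universe u
open CategoryTheory Limits TensorProduct
attribute [local instance] HasDerivedCategory.standard

namespace Groth.Agent.Lib.Helper15.SelfRelBC

open DRing DerivedCategory Groth.Agent.Lib.Helper43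
  Groth.Agent.Lib.Helper15.PseudoCoh Groth.Agent.Lib.Helper15.PseudoCohFinite
  Groth.Agent.Lib.Helper15.SelfRel Groth.Agent.Lib.Helper84 DerCA

section Unit

variable {A A' : Type u} [CommRing A] [CommRing A']

/-- derived base change of `A[0]` along any ring map is `A'[0]` -/
theorem nonempty_lbcUnitIso (φ : A →+* A') [HasLBaseChange φ] :
    Nonempty ((LBaseChange φ).obj (Dual.inD A A) ≅ Dual.inD A' A') := by
  letI : Algebra A A' := φ.toAlgebra
  have hb : ∀ q : ℤ, 0 < q → IsZero (((CochainComplex.singleFunctor (ModuleCat.{u} A) 0).obj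
      (ModuleCat.of A A)).X q) := fun q hq =>
    HomologicalComplex.isZero_single_obj_X (ComplexShape.up ℤ) 0 _ q (by lia)
  have hfl : ∀ q : ℤ, Module.Flat A (((CochainComplex.singleFunctor (ModuleCat.{u} A) 0).obj
      (ModuleCat.of A A)).X q) := by
    intro q
    by_cases hq : q = 0
    · subst hq
      haveI : Module.Flat A (ModuleCat.of A A) := inferInstanceAs (Module.Flat A A)
      exact TensCx.flat_of_iso
        (HomologicalComplex.singleObjXSelf (ComplexShape.up ℤ) 0 (ModuleCat.of A A)).symm
    · have hz : IsZero (((CochainComplex.singleFunctor (ModuleCat.{u} A) 0).obj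
          (ModuleCat.of A A)).X q) :=
        HomologicalComplex.isZero_single_obj_X (ComplexShape.up ℤ) 0 (ModuleCat.of A A) q hq
      generalize ((CochainComplex.singleFunctor (ModuleCat.{u} A) 0).obj
        (ModuleCat.of A A)).X q = Z at hz ⊢
      haveI : Subsingleton Z := ModuleCat.subsingleton_of_isZero hz
      haveI : Module.Free A Z := Module.Free.of_subsingleton A Z
      exact Module.Flat.of_free
  exact ⟨(LBaseChange φ).mapIso
      ((singleFunctorIsoCompQ (ModuleCat.{u} A) 0).app (ModuleCat.of A A)) ≪≫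
    LBCKFlat.lbcIsoOfFlat φ _ 0 hb hfl ≪≫ PCHomLocal.extSingleSelfIso A A'⟩

end Unit

section BC

variable {R A R' : Type u} [CommRing R] [CommRing A] [CommRing R'] [Algebra R A] [Algebra R R']

theorem tor_subsingleton_of_flat [Module.Flat R R'] (p : ℕ) (hp : 0 < p) :
    Subsingleton (DRing.Tor R p A R') := by
  obtain ⟨i, rfl⟩ : ∃ i, p = i + 1 := ⟨p - 1, by lia⟩
  obtain ⟨e⟩ := Groth.Agent.Lib.Helper90.TorSymm.nonempty_tor_symm
    (ModuleCat.of R A) (ModuleCat.of R R') (i + 1)
  haveI : Module.Flat R (ModuleCat.of R R') := inferInstanceAs (Module.Flat R R')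
  have hz := Groth.Agent.S8710.tor_flat (R := R) (ModuleCat.of R A) (ModuleCat.of R R') i
  exact ModuleCat.subsingleton_of_isZero (IsZero.of_iso hz e)

/-- flat base change of the base ring -/
theorem rel_self_baseChange [Module.Flat R R'] (m : ℤ)
    (h : IsRelPseudoCoherentModule R A m A) :
    IsRelPseudoCoherentModule R' (R' ⊗[R] A) m (R' ⊗[R] A) := by
  haveI : HasLBaseChange (Algebra.TensorProduct.includeRight : A →ₐ[R] R' ⊗[R] A).toRingHom :=
    Groth.Agent.Lib.Helper15.LDerived.hasLBaseChange _
  have h1 := RelPCBC.main (fun p hp => tor_subsingleton_of_flat (R := R) (A := A) (R' := R') p hp) (Dual.inD A A) m h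
  obtain ⟨e⟩ := nonempty_lbcUnitIso
    (Algebra.TensorProduct.includeRight : A →ₐ[R] R' ⊗[R] A).toRingHom
  exact rel_of_iso e h1

end BC

/-- flat base change in pushout form -/
theorem selfPC_of_isPushout {R A R' A' : CommRingCat.{u}} {φ : R ⟶ A} {χ : R ⟶ R'}
    {χ' : A ⟶ A'} {φ' : R' ⟶ A'} (H : IsPushout φ χ χ' φ') (hflat : χ.hom.Flat) (m : ℤ)
    (h : SelfPC m φ.hom) : SelfPC m φ'.hom := by
  letI : Algebra R A := φ.hom.toAlgebra
  letI : Algebra R R' := χ.hom.toAlgebra
  haveI : Module.Flat R R' := hflat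
  letI : Algebra R' A' := φ'.hom.toAlgebra
  have h1 : IsRelPseudoCoherentModule R' (R' ⊗[R] A) m (R' ⊗[R] A) := rel_self_baseChange m h
  let i := (CommRingCat.isPushout_tensorProduct R R' A).isoIsPushout _ _ H.flip
  have hi := (CommRingCat.isPushout_tensorProduct R R' A).inl_isoIsPushout_hom _ _ H.flip
  let e' : R' ⊗[R] A ≃ₐ[R'] A' :=
    { i.commRingCatIsoToRingEquiv with
      commutes' := fun r => congr($(hi).hom r) }
  exact rel_self_of_algEquiv e' m h1

end Groth.Agent.Lib.Helper15.SelfRelBC
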