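import Groth.Agent.Lib.Helper15.SelfRelSch
import Groth.Agent.Lib.Helper15.SelfRelBC

/-!
# Flat base change of `n`-pseudo-coherent morphisms (helper15)
-/

set_option autoImplicit false
set_option linter.style.haveILetI false
universe u
open CategoryTheory Limits AlgebraicGeometry Opposite
attribute [local instance] HasDerivedCategory.standard

namespace Groth.Agent.Lib.Helper15.SelfRelSchBC

open Groth.Agent.Lib.Helper15.SelfRel Groth.Agent.Lib.Helper15.SelfRelSch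
  Groth.Agent.Lib.Helper15.SelfRelBC

/-- sections over affine opens of a pullback square: `SelfPC` passes to the base change along a
flat morphism -/
theorem selfPC_pullback {X Y S T : Scheme.{u}} {f : T ⟶ S} {g : Y ⟶ X} {iX : X ⟶ S} {iY : Y ⟶ T}
    (H : IsPullback g iY iX f) [Flat f]
    {US : S.Opens} {UT : T.Opens} {UX : X.Opens} (hUST : UT ≤ f ⁻¹ᵁ US) (hUSX : UX ≤ iX ⁻¹ᵁ US)
    {UY : Y.Opens} (hUY : UY = g ⁻¹ᵁ UX ⊓ iY ⁻¹ᵁ UT)
    (hUS : IsAffineOpen US) (hUT : IsAffineOpen UT) (hUX : IsAffineOpen UX) (m : ℤ)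
    (h : SelfPC m (iX.appLE US UX hUSX).hom) :
    IsAffineOpen UY ∧ ∃ hle : UY ≤ iY ⁻¹ᵁ UT, SelfPC m (iY.appLE UT UY hle).hom := by
  have hUY' : IsAffineOpen UY := by
    have : IsAffine _ := hUS
    have : IsAffine _ := hUT
    have : IsAffine _ := hUX
    exact .of_isIso (Scheme.Hom.isPullback_resLE H hUST hUSX hUY).isoPullback.hom
  refine ⟨hUY', by simp [hUY], ?_⟩
  haveI := isIso_pushoutSection_of_isAffineOpen H hUST hUSX hUY hUS hUT hUX
  have hpo := (isIso_pushoutSection_iff H hUST hUSX hUY).1 inferInstance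
  exact selfPC_of_isPushout hpo (f.flat_appLE hUS hUT hUST) m h

set_option maxHeartbeats 400000 in
/-- flat base change of an `n`-pseudo-coherent morphism -/
theorem isNPseudoCoherent_baseChange {X Y Y' : Scheme.{u}} (f : X ⟶ Y) [LocallyOfFiniteType f]
    (n : ℤ) (hf : DerSch.IsNPseudoCoherent f n) (h : Y' ⟶ Y) [Flat h] :
    DerSch.IsNPseudoCoherent (pullback.snd f h) n := by
  obtain ⟨𝒱, h𝒱, Hf⟩ := exists_cover_of_isPseudoCoherentRel f hf
  have H := IsPullback.of_hasPullback f h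
  refine isPseudoCoherentRel_unit_of_cover (pullback.snd f h)
    {V' : Y'.affineOpens | ∃ V ∈ 𝒱, (V' : Y'.Opens) ≤ h ⁻¹ᵁ (V : Y.Opens)} ?_ ?_
  · apply le_antisymm le_top
    intro y' _
    have hy : h.base y' ∈ (⨆ V ∈ 𝒱, (V : Y.Opens)) := by rw [h𝒱]; trivial
    obtain ⟨V, hy⟩ := TopologicalSpace.Opens.mem_iSup.1 hy
    obtain ⟨hV, hy⟩ := TopologicalSpace.Opens.mem_iSup.1 hy
    obtain ⟨_, ⟨V', hV', rfl⟩, hyV', hV'V⟩ :=
      Y'.isBasis_affineOpens.exists_subset_of_mem_open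
        (show y' ∈ (h ⁻¹ᵁ (V : Y.Opens) : Set Y') from hy) (h ⁻¹ᵁ (V : Y.Opens)).isOpen
    exact TopologicalSpace.Opens.mem_iSup.2
      ⟨⟨V', hV'⟩, TopologicalSpace.Opens.mem_iSup.2 ⟨⟨V, hV, hV'V⟩, hyV'⟩⟩
  · rintro V' ⟨V, hV, hV'V⟩ x' hx'
    have hfx : (pullback.fst f h).base x' ∈ f ⁻¹ᵁ (V : Y.Opens) := by
      have h1 : h.base ((pullback.snd f h).base x') ∈ (V : Y.Opens) := hV'V hx'
      have h2 : f.base ((pullback.fst f h).base x') = h.base ((pullback.snd f h).base x') := by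
        rw [← Scheme.Hom.comp_apply, ← Scheme.Hom.comp_apply, pullback.condition]
      change f.base ((pullback.fst f h).base x') ∈ (V : Y.Opens)
      rw [h2]
      exact h1
    obtain ⟨U, hxU, hUV, hs⟩ := Hf V hV _ hfx
    obtain ⟨haff, hle, hs'⟩ := selfPC_pullback H hV'V hUV
      (UY := (pullback.fst f h) ⁻¹ᵁ (U : X.Opens) ⊓ (pullback.snd f h) ⁻¹ᵁ (V' : Y'.Opens)) rfl
      V.2 V'.2 U.2 n hs
    exact ⟨⟨_, haff⟩, ⟨hxU, hx'⟩, hle, hs'⟩

end Groth.Agent.Lib.Helper15.SelfRelSchBC
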