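import Groth.Agent.Lib.Helper15.NPCMor
import Groth.Agent.Lib.Helper15.SelfRelSchBC

/-!
# Tor-independent base change of `n`-pseudo-coherent ring maps and products of morphisms (helper15)
-/

set_option autoImplicit false
set_option linter.style.haveILetI false
universe u
open CategoryTheory Limits TensorProduct
attribute [local instance] HasDerivedCategory.standard

namespace Groth.Agent.Lib.Helper15.NPCTor

open DRing DerivedCategory Groth.Agent.Lib.Helper43
  Groth.Agent.Lib.Helper15.PseudoCoh Groth.Agent.Lib.Helper15.PseudoCohFinite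
  Groth.Agent.Lib.Helper15.SelfRel Groth.Agent.Lib.Helper15.SelfRelBC DerCA

section Ring

variable {R₀ P A B₁ P' : Type u} [CommRing R₀] [CommRing P] [CommRing A] [CommRing B₁]
  [CommRing P'] [Algebra R₀ P] [Module.Flat R₀ P] [Algebra R₀ A] [Algebra P A]
  [IsScalarTower R₀ P A] [Module.Flat R₀ A] [Algebra R₀ B₁] [Algebra P P'] [Algebra B₁ P']
  [Algebra R₀ P'] [IsScalarTower R₀ P P'] [IsScalarTower R₀ B₁ P'] [Algebra.IsPushout R₀ P B₁ P']

include R₀ B₁ in
/-- base change of `P → A` along `P → P' = P ⊗_{R₀} B₁` when `P` and `A` are flat over `R₀` -/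
theorem rel_self_baseChange_tor (m : ℤ) (h : IsRelPseudoCoherentModule P A m A) :
    IsRelPseudoCoherentModule P' (P' ⊗[P] A) m (P' ⊗[P] A) := by
  have htor : ∀ p : ℕ, 0 < p → Subsingleton (DRing.Tor P p A P') := by
    intro p hp
    refine RelPCBC.tor_of_flat R₀ P A B₁ P' p ?_
    obtain ⟨i, rfl⟩ : ∃ i, p = i + 1 := ⟨p - 1, by lia⟩
    haveI : Module.Flat R₀ (ModuleCat.of R₀ A) := inferInstanceAs (Module.Flat R₀ A)
    exact ModuleCat.subsingleton_of_isZero
      (Groth.Agent.S8710.tor_flat (R := R₀) (ModuleCat.of R₀ B₁) (ModuleCat.of R₀ A) i)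
  haveI : HasLBaseChange (Algebra.TensorProduct.includeRight : A →ₐ[P] P' ⊗[P] A).toRingHom :=
    Groth.Agent.Lib.Helper15.LDerived.hasLBaseChange _
  have h1 := RelPCBC.main htor (Dual.inD A A) m h
  obtain ⟨e⟩ := nonempty_lbcUnitIso
    (Algebra.TensorProduct.includeRight : A →ₐ[P] P' ⊗[P] A).toRingHom
  exact rel_of_iso e h1

end Ring

set_option maxHeartbeats 400000 in
/-- tor-independent base change in pushout form: `H₁` says `P' = P ⊗_{R₀} B₁`, `H₂` says
`A' = P' ⊗_P A`; `P` and `A` are flat over `R₀` -/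
theorem selfPC_of_isPushout_tor {R₀ P A B₁ P' A' : CommRingCat.{u}} {ρ : R₀ ⟶ P} {β : R₀ ⟶ B₁}
    {χ : P ⟶ P'} {β' : B₁ ⟶ P'} (H₁ : IsPushout β ρ β' χ)
    {φ : P ⟶ A} {χ' : A ⟶ A'} {φ' : P' ⟶ A'} (H₂ : IsPushout χ φ φ' χ')
    (hρ : ρ.hom.Flat) (hA : (ρ ≫ φ).hom.Flat) (m : ℤ) (h : SelfPC m φ.hom) :
    SelfPC m φ'.hom := by
  letI : Algebra R₀ P := ρ.hom.toAlgebra
  letI : Algebra R₀ B₁ := β.hom.toAlgebra
  letI : Algebra P A := φ.hom.toAlgebra
  letI : Algebra R₀ A := (ρ ≫ φ).hom.toAlgebra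
  haveI : IsScalarTower R₀ P A := IsScalarTower.of_algebraMap_eq' rfl
  letI : Algebra P P' := χ.hom.toAlgebra
  letI : Algebra B₁ P' := β'.hom.toAlgebra
  letI : Algebra R₀ P' := (ρ ≫ χ).hom.toAlgebra
  haveI : IsScalarTower R₀ P P' := IsScalarTower.of_algebraMap_eq' rfl
  haveI : IsScalarTower R₀ B₁ P' :=
    IsScalarTower.of_algebraMap_eq' (congrArg CommRingCat.Hom.hom H₁.w).symm
  haveI : Module.Flat R₀ P := hρ
  haveI : Module.Flat R₀ A := hA
  haveI : Algebra.IsPushout R₀ P B₁ P' := CommRingCat.isPushout_iff_isPushout.1 H₁.flip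
  letI : Algebra P' A' := φ'.hom.toAlgebra
  have h1 : IsRelPseudoCoherentModule P' (P' ⊗[P] A) m (P' ⊗[P] A) :=
    rel_self_baseChange_tor (R₀ := R₀) (B₁ := B₁) m h
  let i := (CommRingCat.isPushout_tensorProduct P P' A).isoIsPushout _ _ H₂
  have hi := (CommRingCat.isPushout_tensorProduct P P' A).inl_isoIsPushout_hom _ _ H₂
  let e' : P' ⊗[P] A ≃ₐ[P'] A' :=
    { i.commRingCatIsoToRingEquiv with
      commutes' := fun r => congr($(hi).hom r) }
  exact rel_self_of_algEquiv e' m h1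

end Groth.Agent.Lib.Helper15.NPCTor
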