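import Groth.Prelude.Def_DerSch2
import Mathlib.AlgebraicGeometry.Morphisms.ClosedImmersion
import Groth.Agent.Lib.Helper2.DCohHom
import Groth.Agent.Lib.Helper13.ClosedPushMod
import Groth.Agent.Lib.Helper40.QCohCoprod

/-!
# Cohomology sheaves of relatively pseudo-coherent complexes are quasi-coherent (helper15)
-/

set_option autoImplicit false
set_option linter.style.haveILetI false
universe u

open CategoryTheory CategoryTheory.Limits AlgebraicGeometry Opposite TopologicalSpace
attribute [local instance] HasDerivedCategory.standard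

namespace Groth.Agent.Lib.Helper15.PCRelQCoh

open Groth.Agent.Lib.Helper2.DCohHom Groth.Agent.Lib.Helper2.DCohPC
  Groth.Agent.Lib.Helper40.QCohCoprod

variable {X : Scheme.{u}}

/-- the cohomology sheaves above `m` of an `m`-pseudo-coherent object are quasi-coherent -/
theorem isQuasicoherent_HD_of_isPseudoCoherentD (K : DCoh.D X) (m : ℤ)
    (hK : DCoh.IsPseudoCoherentD m K) (i : ℤ) (hi : m < i) :
    (DCoh.HD K i).IsQuasicoherent := by
  obtain ⟨F₀, ⟨e₀⟩⟩ := Groth.Agent.Lib.Helper2.DCohBase.exists_rep K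
  choose V hxV hV using hK
  have hcov : TopologicalSpace.IsOpenCover V := by
    change ⨆ x, V x = ⊤
    exact top_le_iff.1 fun x _ => TopologicalSpace.Opens.mem_iSup.2 ⟨x, hxV x⟩
  apply isQuasicoherent_of_isOpenCover _ V hcov
  intro x
  obtain ⟨E, α, hE, hiso, -⟩ := hV x F₀ ⟨e₀⟩
  haveI := hiso i hi
  have iso := homRestrictIso K F₀ e₀ (V x).ι i ≪≫
    (asIso ((DerivedCategory.homologyFunctor _ i).map α)).symm ≪≫
    (DerivedCategory.homologyFunctorFactors _ i).app E
  exact qc_of_iso iso.symm (isQuasicoherent_homology_of_isStrictlyPerfect E hE i)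

open scoped ModuleCat.Algebra in
/-- localizing descends along `Spec` of a surjection -/
theorem isLocalizing_of_pushforward {R S : CommRingCat.{u}} (φ : R ⟶ S)
    (hφ : Function.Surjective φ.hom) (M : (Spec S).Modules)
    (h : IsLocalizing (modulesSpecToSheaf.obj
      ((Scheme.Modules.pushforward (Spec.map φ)).obj M))) :
    IsLocalizing (modulesSpecToSheaf.obj M) := by
  rw [← Functor.comp_obj,
    isLocalizing_iff_of_iso ((pushforwardCompModulesSpecToSheafIso φ).app M)] at h
  have : CommRing ((Spec S).ringCatSheaf.obj.obj ((Opens.map (Spec.map φ).base).op.obj (op ⊤))) :=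
    inferInstanceAs (CommRing Γ(Spec S, ⊤))
  algebraize [φ.hom]
  intro g
  obtain ⟨f, rfl⟩ := hφ g
  have h1 := h f
  have h2 : IsLocalizedModule (Algebra.algebraMapSubmonoid S (Submonoid.powers f))
      (ModuleCat.Hom.hom ((modulesSpecToSheaf.obj M).obj.map
        (PrimeSpectrum.basicOpen (φ.hom f)).leTop.op)) := by
    haveI : IsLocalizedModule (Submonoid.powers f) (LinearMap.restrictScalars R
        (ModuleCat.Hom.hom ((modulesSpecToSheaf.obj M).obj.map
          (PrimeSpectrum.basicOpen (φ.hom f)).leTop.op))) := h1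
    exact IsLocalizedModule.of_restrictScalars (Submonoid.powers f) _
  rwa [Algebra.algebraMapSubmonoid_powers] at h2

/-- quasi-coherence descends along `Spec` of a surjection -/
theorem isQuasicoherent_of_pushforward_SpecMap {R S : CommRingCat.{u}} (φ : R ⟶ S)
    (hφ : Function.Surjective φ.hom) (M : (Spec S).Modules)
    (h : ((Scheme.Modules.pushforward (Spec.map φ)).obj M).IsQuasicoherent) :
    M.IsQuasicoherent := by
  rw [isQuasicoherent_iff_isIso_fromTildeΓ, isIso_fromTildeΓ_iff_isLocalizing] at h ⊢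
  exact isLocalizing_of_pushforward φ hφ M h

/-- quasi-coherence descends along an open immersion pushforward (in particular an iso) -/
theorem isQuasicoherent_of_pushforward_openImm {Y Z : Scheme.{u}} (e : Y ⟶ Z) [IsOpenImmersion e]
    (N : Y.Modules) (h : ((Scheme.Modules.pushforward e).obj N).IsQuasicoherent) :
    N.IsQuasicoherent := by
  haveI := h
  exact qc_of_iso ((Scheme.Modules.restrictFunctorAdjCounitIso e).app N)
    (Scheme.Modules.isQuasicoherent_restrictFunctor e _)

theorem isIso_toSpecΓ {U : X.Opens} (hU : IsAffineOpen U) : IsIso U.toSpecΓ := by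
  rw [← hU.isoSpec_hom]; infer_instance

theorem isClosedImmersion_chartImm {U : X.Opens} (hU : IsAffineOpen U) {R : Type u} [CommRing R]
    {n : ℕ} (φ : MvPolynomial (Fin n) R →+* Γ(X, U)) (hφ : Function.Surjective φ) :
    IsClosedImmersion (DerSch.chartImm U φ) := by
  haveI := isIso_toSpecΓ hU
  haveI : IsClosedImmersion (Spec.map (CommRingCat.ofHom φ)) :=
    IsClosedImmersion.spec_of_surjective _ hφ
  unfold DerSch.chartImm
  infer_instance

theorem isQuasicoherent_of_pushforward_chartImm {U : X.Opens} (hU : IsAffineOpen U) {R : Type u}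
    [CommRing R] {n : ℕ} (φ : MvPolynomial (Fin n) R →+* Γ(X, U)) (hφ : Function.Surjective φ)
    (N : (U : Scheme.{u}).Modules)
    (h : ((Scheme.Modules.pushforward (DerSch.chartImm U φ)).obj N).IsQuasicoherent) :
    N.IsQuasicoherent := by
  haveI := isIso_toSpecΓ hU
  apply isQuasicoherent_of_pushforward_openImm U.toSpecΓ
  apply isQuasicoherent_of_pushforward_SpecMap (CommRingCat.ofHom φ) hφ
  exact qc_of_iso ((Scheme.Modules.pushforwardComp _ _).app N).symm h

theorem preservesHomology_pushforward_of_isClosedImmersion {Y Z : Scheme.{u}} (c : Y ⟶ Z)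
    [IsClosedImmersion c] : (Scheme.Modules.pushforward c).PreservesHomology := by
  haveI : PreservesColimitsOfSize.{u, u} (Scheme.Modules.pushforward c) :=
    Groth.Agent.Lib.Helper13.ClosedPushMod.preservesColimitsOfSize_pushforward c
  haveI : PreservesFiniteColimits (Scheme.Modules.pushforward c) :=
    PreservesColimitsOfSize.preservesFiniteColimits _
  haveI : PreservesLimitsOfSize.{u, u} (Scheme.Modules.pushforward c) :=
    (Scheme.Modules.pullbackPushforwardAdjunction c).rightAdjoint_preservesLimits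
  haveI : PreservesFiniteLimits (Scheme.Modules.pushforward c) :=
    PreservesLimitsOfSize.preservesFiniteLimits _
  infer_instance

/-- the cohomology sheaves above `m` of a relatively `m`-pseudo-coherent object are
quasi-coherent -/
theorem isQuasicoherent_HD_of_isPseudoCoherentRel {S : Scheme.{u}} (f : X ⟶ S) (m : ℤ)
    (E : DCoh.D X) (hE : DerSch.IsPseudoCoherentRel f m E) (i : ℤ) (hi : m < i) :
    (DCoh.HD E i).IsQuasicoherent := by
  obtain ⟨G, ⟨e⟩⟩ := Groth.Agent.Lib.Helper2.DCohBase.exists_rep E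
  obtain ⟨-, 𝒱, h𝒱, H⟩ := hE
  have key : ∀ x : X, ∃ U : X.Opens, x ∈ U ∧ ((DCoh.HD E i).restrict U.ι).IsQuasicoherent := by
    intro x
    have hx : f.base x ∈ (⨆ V ∈ 𝒱, (V : S.Opens)) := by rw [h𝒱]; trivial
    obtain ⟨V, hx⟩ := Opens.mem_iSup.1 hx
    obtain ⟨hV, hx⟩ := Opens.mem_iSup.1 hx
    obtain ⟨𝒰, h𝒰, H'⟩ := H V hV
    have hx' : x ∈ (⨆ U ∈ 𝒰, (U : X.Opens)) := by rw [h𝒰]; exact hx
    obtain ⟨U, hx'⟩ := Opens.mem_iSup.1 hx'
    obtain ⟨hU, hx'⟩ := Opens.mem_iSup.1 hx'
    have hle : (U : X.Opens) ≤ f ⁻¹ᵁ (V : S.Opens) := by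
      rw [← h𝒰]; exact le_iSup₂ (f := fun (U : X.affineOpens) _ => (U : X.Opens)) U hU
    obtain ⟨n, φ, ⟨hφ, -⟩, hpc⟩ := H' U hU hle
    refine ⟨U, hx', ?_⟩
    have h1 := hpc G ⟨e⟩
    have h2 := isQuasicoherent_HD_of_isPseudoCoherentD _ m h1 i hi
    haveI := isClosedImmersion_chartImm U.2 φ hφ
    haveI := preservesHomology_pushforward_of_isClosedImmersion (DerSch.chartImm (U : X.Opens) φ)
    have iso : DCoh.HD (DCoh.toD _ ((DerSch.pushCx (DerSch.chartImm (U : X.Opens) φ)).obj
        ((DCoh.restrictCx (U : X.Opens)).obj G))) i ≅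
        (Scheme.Modules.pushforward (DerSch.chartImm (U : X.Opens) φ)).obj
          ((DCoh.HD E i).restrict (U : X.Opens).ι) :=
      (DerivedCategory.homologyFunctorFactors _ i).app _ ≪≫
        (homCx (Scheme.Modules.pushforward (DerSch.chartImm (U : X.Opens) φ)) i).app _ ≪≫
        (Scheme.Modules.pushforward (DerSch.chartImm (U : X.Opens) φ)).mapIso
          ((homCx (Scheme.Modules.restrictFunctor (U : X.Opens).ι) i).app G ≪≫
            (Scheme.Modules.restrictFunctor (U : X.Opens).ι).mapIso
              (((DerivedCategory.homologyFunctorFactors _ i).app G).symm ≪≫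
                (DerivedCategory.homologyFunctor _ i).mapIso e))
    exact isQuasicoherent_of_pushforward_chartImm U.2 φ hφ _ (qc_of_iso iso h2)
  choose U hxU hU using key
  have hcov : TopologicalSpace.IsOpenCover U := by
    change ⨆ x, U x = ⊤
    exact top_le_iff.1 fun x _ => TopologicalSpace.Opens.mem_iSup.2 ⟨x, hxU x⟩
  exact isQuasicoherent_of_isOpenCover _ U hcov hU

end Groth.Agent.Lib.Helper15.PCRelQCoh
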