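import Groth.Agent.Lib.Helper43.PerfAmp
import Groth.Agent.Lib.Helper43.PCTower

/-!
# Flatness of `opcycles` of a pseudo-coherence datum for an object of finite tor amplitude (helper15)
-/

set_option autoImplicit false
set_option linter.style.haveILetI false
universe u

open CategoryTheory CategoryTheory.Limits CategoryTheory.Pretriangulated DerivedCategory
open CochainComplex

attribute [local instance] HasDerivedCategory.standard

namespace Groth.Agent.Lib.Helper15.PcSpreadR

open DRing Groth.Agent.Lib.Helper43 Groth.Agent.Lib.Helper84 Groth.Agent.Lib.Helper15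
  Groth.Agent.Lib.Helper15.PseudoCoh Groth.Agent.Lib.Helper15.MQI
  Groth.Agent.Lib.Helper84.FlatAmp Groth.Agent.Lib.Helper84.TensCx

variable {R : Type u} [CommRing R]

/-- if `α : E ⟶ K` is an `(a - 1)`-quasi-isomorphism from a bounded above complex of flat modules
to an object of tor amplitude in `[a, b]`, then `E^a / B^a(E)` is flat -/
theorem flat_opcycles_of_isMQI (K : Dual.D R) (E : Cx R) (α : toD E ⟶ K) (a b n : ℤ)
    (hEn : VanishesAbove E n) (hEfl : TermwiseFlat E) (hα : IsMQI (a - 1) α)
    (htor : HasTorAmplitudeIn R a b K) : Module.Flat R (E.opcycles a) := by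
  obtain ⟨C, β, γ, hT⟩ := distinguished_cocone_triangle α
  have hC : C.IsLE (a - 1 - 1) := (isMQI_iff_of_distTriang (a - 1) _ hT).1 hα
  have hT' := inv_rot_of_distTriang _ hT
  haveI : (C⟦(-1 : ℤ)⟧).IsLE (a - 1) :=
    TStructure.t.isLE_shift C (a - 1 - 1) (-1) (a - 1) (by ring)
  obtain ⟨PW, hPW1, hPW2, ⟨e₁⟩⟩ := FreeRes.exists_free_representative (C⟦(-1 : ℤ)⟧) (a - 1)
    (fun i hi => DerivedCategory.isZero_of_isLE _ (a - 1) i hi)
  haveI : PW.IsKProjective := KProj.isKProjective_of_vanishesAbove PW (a - 1) hPW1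
    (fun i => (IsProjective.iff_projective (R := R) (P := PW.X i)).1
      (FreeRes.projective_of_termwiseFree hPW2 i))
  obtain ⟨w, ⟨e₃⟩⟩ := ConeRep.exists_cone_iso PW E _ hT' e₁ (Iso.refl _)
  change toD (mappingCone w) ≅ K at e₃
  let B : ℤ := max n (a - 1)
  have hGb : VanishesAbove (mappingCone w) B := by
    intro i hi
    exact ConeRep.isZero_mappingCone_X w i
      (hPW1 (i + 1) (by have := le_max_right n (a - 1); lia))
      (hEn i (by have := le_max_left n (a - 1); lia))
  have hGflat : TermwiseFlat (mappingCone w) := by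
    refine termwiseFlat_mappingCone w (fun i => ?_) hEfl
    haveI := hPW2 i
    infer_instance
  obtain ⟨hop, -⟩ := TorAmpDescent.flat_opcycles_of_hasTorAmplitudeIn (mappingCone w) B hGb hGflat
    a b (torAmp_of_iso htor e₃.symm)
  -- compare the opcycles
  have h1 : IsIso ((mappingCone.inr w).f a) := PCTower.isIso_inr_f w a (hPW1 (a + 1) (by lia))
  have h2 : IsIso ((mappingCone.inr w).f (a - 1)) :=
    PCTower.isIso_inr_f w (a - 1) (hPW1 (a - 1 + 1) (by lia))
  have h3 : IsIso (HomologicalComplex.opcyclesMap (mappingCone.inr w) a) := by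
    refine ShortComplex.isIso_opcyclesMap_of_isIso_of_epi' _ h1 ?_
    have : (ComplexShape.up ℤ).prev a = a - 1 := by simp
    change Epi ((mappingCone.inr w).f ((ComplexShape.up ℤ).prev a))
    rw [this]
    infer_instance
  haveI := hop
  exact flat_of_iso (asIso (HomologicalComplex.opcyclesMap (mappingCone.inr w) a)).symm

end Groth.Agent.Lib.Helper15.PcSpreadR
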