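import Groth.Agent.Lib.Helper15.PcSpreadR
import Groth.Agent.Lib.Helper2.DCohTorAmp
import Groth.Agent.Lib.Helper15.LocFreeLocus
import Groth.Agent.Lib.Helper15.ExactFunctorD
import Groth.Agent.Lib.Helper12.StalkExact
import Groth.Agent.Lib.Helper2.LpullStalk
import Groth.Agent.Lib.Helper2.LpullRes

/-!
# Spreading out perfectness of a pseudo-coherent complex from a stalk (helper15)
-/

set_option autoImplicit false
set_option linter.style.haveILetI false
universe u
open CategoryTheory Limits AlgebraicGeometry HomologicalComplex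
attribute [local instance] HasDerivedCategory.standard

namespace Groth.Agent.Lib.Helper15.PcSpreadS

open Scheme.Modules Groth.Agent.Lib.Helper2.DCohFlat
open Groth.Agent.Lib.Helper2.DCohBase Groth.Agent.Lib.Helper2.DCohHom
open Groth.Agent.Lib.Helper2.DCohCoh Groth.Agent.Lib.Helper2.DCohOpens
open Groth.Agent.Lib.Helper2.DCohPC Groth.Agent.Lib.Helper2.DCohPerf
open Groth.Agent.Lib.Helper2.DCohLift Groth.Agent.Lib.Helper2.DCohFP
open Groth.Agent.Lib.Helper2.DCohTorAmp
open Groth.Agent.Lib.Helper15.MQI Groth.Agent.Lib.Helper12.StalkExact DRing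
open Groth.Agent.Lib.Helper84.FlatAmp Groth.Agent.Lib.Helper84.FlatBC

section Exact

universe w₁ w₂ v₁ v₂ u₁ u₂

variable {C₁ : Type u₁} [Category.{v₁} C₁] [Abelian C₁] [HasDerivedCategory.{w₁} C₁]
  {C₂ : Type u₂} [Category.{v₂} C₂] [Abelian C₂] [HasDerivedCategory.{w₂} C₂]
  (F : C₁ ⥤ C₂) [F.Additive] [PreservesFiniteLimits F] [PreservesFiniteColimits F]

open DerivedCategory in
lemma isLE_mapDerivedCategory (X : DerivedCategory C₁) (n : ℤ) (h : X.IsLE n) :
    (F.mapDerivedCategory.obj X).IsLE n := by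
  obtain ⟨K, ⟨e⟩⟩ : ∃ K : CochainComplex C₁ ℤ, Nonempty (Q.obj K ≅ X) :=
    ⟨_, ⟨(DerivedCategory.Q (C := C₁)).objObjPreimageIso X⟩⟩
  have e' : F.mapDerivedCategory.obj X ≅
      Q.obj ((F.mapHomologicalComplex (ComplexShape.up ℤ)).obj K) :=
    F.mapDerivedCategory.mapIso e.symm ≪≫ F.mapDerivedCategoryFactors.app K
  have h2 : (Q.obj K).IsLE n := TStructure.t.isLE_of_iso e.symm n
  rw [isLE_Q_obj_iff] at h2
  have h1 : (Q.obj ((F.mapHomologicalComplex (ComplexShape.up ℤ)).obj K)).IsLE n := by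
    rw [isLE_Q_obj_iff, CochainComplex.isLE_iff]
    intro i hi
    have h3 := (CochainComplex.isLE_iff K n).1 h2 i hi
    rw [HomologicalComplex.exactAt_iff] at h3 ⊢
    exact h3.map F
  exact TStructure.t.isLE_of_iso e'.symm n

open DerivedCategory Pretriangulated in
lemma isMQI_mapDerivedCategory {X Y : DerivedCategory C₁} (φ : X ⟶ Y) (m : ℤ) (h : IsMQI m φ) :
    IsMQI m (F.mapDerivedCategory.map φ) := by
  obtain ⟨Z, g, k, hT⟩ := distinguished_cocone_triangle φ
  have hT' := F.mapDerivedCategory.map_distinguished _ hT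
  exact (isMQI_iff_of_distTriang m _ hT').2
    (isLE_mapDerivedCategory F Z (m - 1) ((isMQI_iff_of_distTriang m _ hT).1 h))

open DerivedCategory in
lemma isMQI_Q_map {K L : CochainComplex C₁ ℤ} (f : K ⟶ L) (m : ℤ) (h : IsMQI m (Q.map f)) :
    IsMQI m (Q.map ((F.mapHomologicalComplex (ComplexShape.up ℤ)).map f)) := by
  have h1 := isMQI_mapDerivedCategory F (Q.map f) m h
  have nat := F.mapDerivedCategoryFactors.hom.naturality f
  have h2 : Q.map ((F.mapHomologicalComplex (ComplexShape.up ℤ)).map f) =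
      (F.mapDerivedCategoryFactors.inv.app K ≫ F.mapDerivedCategory.map (Q.map f)) ≫
        F.mapDerivedCategoryFactors.hom.app L := by
    have : F.mapDerivedCategory.map (Q.map f) ≫ F.mapDerivedCategoryFactors.hom.app L =
        F.mapDerivedCategoryFactors.hom.app K ≫
          Q.map ((F.mapHomologicalComplex (ComplexShape.up ℤ)).map f) := nat
    rw [Category.assoc, this, ← Category.assoc, Iso.inv_hom_id_app]
    exact (Category.id_comp _).symm
  rw [h2]
  exact ((IsMQI.of_isIso m _).comp h1).comp (IsMQI.of_isIso m _)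

end Exact

section Stalk

variable {U : Scheme.{u}}

/-- flatness at `y` of `P^a / B^a(P)` for an `(a - 1)`-pseudo-coherence datum `P ⟶ G`, when the
stalk of `G` at `y` has tor amplitude in `[a, b]` -/
theorem isFlatAt_opcycles (P G : CochainComplex U.Modules ℤ) (f : P ⟶ G) (a b : ℤ)
    (hf : IsPC (a - 1) P (DerivedCategory.Q.map f)) (y : U)
    (htor : HasTorAmplitudeIn (U.presheaf.stalk y) a b (toD ((stalkCx U y).obj G))) :
    FlatMod.IsFlatAt (P.opcycles a) y := by
  obtain ⟨⟨⟨a', b', hP0⟩, hPfl⟩, hiso, hepi⟩ := hf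
  have hα : IsMQI (a - 1) (DerivedCategory.Q.map ((stalkCx U y).map f)) :=
    isMQI_Q_map (DerSch.stalkFunctor U y) f (a - 1) ⟨hiso, hepi⟩
  have hfl : Module.Flat (U.presheaf.stalk y) (((stalkCx U y).obj P).opcycles a) := by
    refine Groth.Agent.Lib.Helper15.PcSpreadR.flat_opcycles_of_isMQI _ ((stalkCx U y).obj P)
      (DerivedCategory.Q.map ((stalkCx U y).map f)) a b b' ?_ ?_ hα htor
    · intro i hi
      exact Functor.map_isZero (DerSch.stalkFunctor U y) (hP0 i (Or.inr hi))
    · intro i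
      haveI := Groth.Agent.Lib.Helper2.RankSections.isQuasicoherent_of_isFinLocFree _ (hPfl i)
      exact Groth.Agent.Lib.Helper2.FinLocFreeAff.isFlat_of_isFinLocFree _ (hPfl i) y
  let e : ((stalkCx U y).obj P).opcycles a ≅ (DerSch.stalkFunctor U y).obj (P.opcycles a) :=
    (P.sc a).mapOpcyclesIso (DerSch.stalkFunctor U y)
  haveI := hfl
  exact Groth.Agent.Lib.Helper84.TensCx.flat_of_iso e

end Stalk

section Spread

variable {U : Scheme.{u}}

open Groth.Agent.Lib.Helper15.LocFreeLocus in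
/-- if `P^a / B^a(P)` is flat at `y` for a strictly perfect complex `P`, it is finite locally free
on a neighbourhood of `y` -/
theorem exists_isFinLocFree_restrict_opcycles (P : CochainComplex U.Modules ℤ)
    (hP : DCoh.IsStrictlyPerfect P) (a : ℤ) (y : U)
    (hflat : FlatMod.IsFlatAt (P.opcycles a) y) :
    ∃ V : U.Opens, y ∈ V ∧ FlatMod.IsFinLocFree ((P.opcycles a).restrict V.ι) := by
  let M' : U.Modules := cokernel (P.d (a - 1) a)
  let e : P.opcycles a ≅ M' :=
    IsColimit.coconePointUniqueUpToIso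
      (P.opcyclesIsCokernel (a - 1) a (by simp)) (colimit.isColimit _)
  haveI : M'.IsQuasicoherent := isQuasicoherent_cokernel_d P hP (a - 1) a
  haveI : SheafOfModules.IsFinitePresentation (R := U.ringCatSheaf) M' :=
    isFP_cokernel_d P hP (a - 1) a
  have hflat' : Module.Flat (U.presheaf.stalk y) (M'.presheaf.stalk y) := by
    haveI : Module.Flat (U.presheaf.stalk y) ((DerSch.stalkFunctor U y).obj (P.opcycles a)) := hflat
    exact Groth.Agent.Lib.Helper84.TensCx.flat_of_iso ((DerSch.stalkFunctor U y).mapIso e)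
  obtain ⟨_, ⟨U₀, hU₀ : IsAffineOpen U₀, rfl⟩, hy, -⟩ :=
    (U.isBasis_affineOpens).exists_subset_of_mem_open (Set.mem_univ y) isOpen_univ
  haveI : Module.FinitePresentation Γ(U, U₀) Γ(M', U₀) :=
    Groth.Agent.Lib.Helper2.FinTypeAff.finitePresentation_sections M' hU₀
  haveI : Module.Finite (U.presheaf.stalk y) (M'.presheaf.stalk y) :=
    finite_stalk_of_finite_sections M' hU₀ y hy
  haveI := hflat'
  have hfree : Module.Free (U.presheaf.stalk y) (M'.presheaf.stalk y) :=
    Module.free_of_flat_of_isLocalRing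
  obtain ⟨V, hyV, hV⟩ := spread_of_free_stalk M' y hfree U₀ hU₀ hy inferInstance
  refine ⟨V, hyV, ?_⟩
  exact Groth.Agent.Lib.Helper7.FinLocFree.isFinLocFree_of_iso
    ((Scheme.Modules.restrictFunctor V.ι).mapIso e.symm) hV.isFinLocFree_restrict

end Spread

section Chain

variable {W : Scheme.{u}}

/-- chain level: an `(a - 1)`-pseudo-coherence datum `P ⟶ G` with `G` exact below `a` and
`P^a / B^a(P)` finite locally free exhibits `G` as a strictly perfect complex up to
quasi-isomorphism -/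
theorem exists_strictlyPerfect_of_opcycles (P G : CochainComplex W.Modules ℤ) (f : P ⟶ G) (a : ℤ)
    (hf : IsPC (a - 1) P (DerivedCategory.Q.map f))
    (hGa : ∀ i : ℤ, i < a → IsZero (G.homology i))
    (hlf : FlatMod.IsFinLocFree (P.opcycles a)) :
    ∃ E' : CochainComplex W.Modules ℤ, DCoh.IsStrictlyPerfect E' ∧
      Nonempty (DerivedCategory.Q.obj G ≅ DerivedCategory.Q.obj E') := by
  obtain ⟨hPsp, hiso, hepi⟩ := hf
  obtain ⟨⟨a', b', hP0⟩, hPfl⟩ := hPsp
  refine ⟨P.truncGE a, ⟨⟨a, max a b', ?_⟩, ?_⟩, ?_⟩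
  · intro i hi
    rcases hi with hi | hi
    · exact (P.truncGE a).isZero_of_isStrictlyGE a i hi
    · exact IsZero.of_iso (hP0 i (Or.inr (by omega))) (P.truncGEXIso a i (by omega))
  · intro i
    rcases lt_trichotomy i a with hi | hi | hi
    · exact isFinLocFree_of_isZero ((P.truncGE a).isZero_of_isStrictlyGE a i hi)
    · subst hi
      exact Groth.Agent.Lib.Helper7.FinLocFree.isFinLocFree_of_iso (P.truncGEXIsoOpcycles i).symm hlf
    · exact Groth.Agent.Lib.Helper7.FinLocFree.isFinLocFree_of_iso (P.truncGEXIso a i hi).symm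
        (hPfl i)
  · haveI : G.IsGE a := (CochainComplex.isGE_iff G a).2 (fun i hi =>
      (HomologicalComplex.exactAt_iff_isZero_homology _ _).2 (hGa i hi))
    haveI : QuasiIso (CochainComplex.truncGEMap f a) :=
      (CochainComplex.quasiIso_truncGEMap_iff f a).2 (fun i hi => by
        rw [quasiIsoAt_iff_isIso_homologyMap]
        exact isIso_homologyMap_of_Q f i (hiso i (by omega)))
    haveI : QuasiIso (G.πTruncGE a) := inferInstance
    haveI : IsIso (DerivedCategory.Q.map (G.πTruncGE a)) := by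
      rw [DerivedCategory.isIso_Q_map_iff_quasiIso]
      infer_instance
    exact ⟨asIso (DerivedCategory.Q.map (G.πTruncGE a)) ≪≫
      (asIso (DerivedCategory.Q.map (CochainComplex.truncGEMap f a))).symm⟩

/-- the local statement on one scheme, chain level -/
theorem perfAt_of_chain (P G : CochainComplex W.Modules ℤ) (f : P ⟶ G) (a b : ℤ)
    (hf : IsPC (a - 1) P (DerivedCategory.Q.map f))
    (hGa : ∀ i : ℤ, i < a → IsZero (G.homology i)) (y : W)
    (htor : HasTorAmplitudeIn (W.presheaf.stalk y) a b (toD ((stalkCx W y).obj G))) :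
    PerfAt (DerivedCategory.Q.obj G) y := by
  have hflat := isFlatAt_opcycles P G f a b hf y htor
  obtain ⟨V, hyV, hV⟩ := exists_isFinLocFree_restrict_opcycles P hf.1 a y hflat
  let P' := (resCx V.ι).obj P
  let G' := (resCx V.ι).obj G
  let f' : P' ⟶ G' := (resCx V.ι).map f
  have hα' : IsPC (a - 1) P' ((resFac V.ι).inv.app P ≫ (resD V.ι).map (DerivedCategory.Q.map f)) :=
    IsPC.restrict hf V.ι
  have hQf : DerivedCategory.Q.map f' =
      ((resFac V.ι).inv.app P ≫ (resD V.ι).map (DerivedCategory.Q.map f)) ≫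
        (resFac V.ι).hom.app G := by
    have nat : (resD V.ι).map (DerivedCategory.Q.map f) ≫ (resFac V.ι).hom.app G =
        (resFac V.ι).hom.app P ≫ DerivedCategory.Q.map f' := (resFac V.ι).hom.naturality f
    rw [Category.assoc, nat, ← Category.assoc, Iso.inv_hom_id_app]
    exact (Category.id_comp _).symm
  have hPC : IsPC (a - 1) P' (DerivedCategory.Q.map f') := by
    rw [hQf]
    obtain ⟨h1, h2, h3⟩ := hα'
    refine ⟨h1, fun i hi => ?_, ?_⟩
    · rw [Functor.map_comp]
      haveI := h2 i hi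
      infer_instance
    · rw [Functor.map_comp]
      infer_instance
  have hG'a : ∀ i : ℤ, i < a → IsZero (G'.homology i) := fun i hi =>
    isZero_homology_resCx V.ι G i (hGa i hi)
  have hlf : FlatMod.IsFinLocFree (P'.opcycles a) :=
    Groth.Agent.Lib.Helper7.FinLocFree.isFinLocFree_of_iso
      ((P.sc a).mapOpcyclesIso (Scheme.Modules.restrictFunctor V.ι)).symm hV
  obtain ⟨E', hE', ⟨ε⟩⟩ := exists_strictlyPerfect_of_opcycles P' G' f' a hPC hG'a hlf
  exact ⟨V, V.ι, inferInstance, ⟨⟨y, hyV⟩, rfl⟩, E', hE', ⟨resDQ V.ι G ≪≫ ε⟩⟩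

end Chain

section Main

open Groth.Agent.Lib.Helper2.Lpull

variable {X : Scheme.{u}}

/-- the stalk of a restriction to an open has the same tor amplitude -/
theorem torAmp_stalk_resCx {W : Scheme.{u}} (j : W ⟶ X) [IsOpenImmersion j]
    (G : CochainComplex X.Modules ℤ) (y : W) (a b : ℤ)
    (h : HasTorAmplitudeIn (X.presheaf.stalk (j.base y)) a b
      (toD ((stalkCx X (j.base y)).obj G))) :
    HasTorAmplitudeIn (W.presheaf.stalk y) a b (toD ((stalkCx W y).obj ((resCx j).obj G))) := by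
  have hbij : Function.Bijective (j.stalkMap y).hom :=
    ConcreteCategory.bijective_of_isIso (j.stalkMap y)
  have hφ : (j.stalkMap y).hom.Flat := RingHom.Flat.of_bijective hbij
  haveI : PreservesFiniteLimits (ext (j.stalkMap y).hom) := preservesFiniteLimits_ext _ hφ
  have e1 : (stalkCx W y).obj ((resCx j).obj G) ≅
      (extCx (j.stalkMap y).hom).obj ((stalkCx X (j.base y)).obj G) :=
    (stalkCx W y).mapIso ((resCxIsoPbCx j).app G) ≪≫ stalkPbCxIso j G y
  have h2 := hasTorAmplitudeIn_bc (j.stalkMap y).hom a b _ h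
  exact torAmp_of_iso h2 (bcToD (j.stalkMap y).hom _ ≪≫ DerivedCategory.Q.mapIso e1.symm)

/-- **Spreading out perfectness**: if `G` is exact below `a`, `(a - 1)`-pseudo-coherent near `x`,
and the stalk `G_x` has tor amplitude in `[a, b]`, then `G` is perfect near `x`. -/
theorem perfAt_of_pcAt_of_torAmp_stalk (G : CochainComplex X.Modules ℤ) (a b : ℤ)
    (hGa : ∀ i : ℤ, i < a → IsZero (G.homology i)) (x : X)
    (hpc : PCAt (a - 1) (DerivedCategory.Q.obj G) x)
    (htor : HasTorAmplitudeIn (X.presheaf.stalk x) a b (toD ((stalkCx X x).obj G))) :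
    PerfAt (DerivedCategory.Q.obj G) x := by
  obtain ⟨U₁, j₁, hj₁, ⟨y₁, rfl⟩, hd⟩ := hpc
  haveI := hj₁
  let G₁ := (resCx j₁).obj G
  obtain ⟨P, α, hP, hiso, hepi⟩ := hd.of_iso (resDQ j₁ G)
  obtain ⟨U₂, j₂, hj₂, ⟨y₂, rfl⟩, f, hf⟩ := exists_rep_locally P G₁ hP α y₁
  haveI := hj₂
  let P₂ := (resCx j₂).obj P
  let G₂ := (resCx j₂).obj G₁
  have hα₂ : IsPC (a - 1) P₂ ((resFac j₂).inv.app P ≫ (resD j₂).map α) :=
    IsPC.restrict ⟨hP, hiso, hepi⟩ j₂
  have hQf : DerivedCategory.Q.map f =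
      ((resFac j₂).inv.app P ≫ (resD j₂).map α) ≫ (resFac j₂).hom.app G₁ := by
    rw [hf]
    simp
  have hPC : IsPC (a - 1) P₂ (DerivedCategory.Q.map f) := by
    rw [hQf]
    obtain ⟨h1, h2, h3⟩ := hα₂
    refine ⟨h1, fun i hi => ?_, ?_⟩
    · rw [Functor.map_comp]
      haveI := h2 i hi
      infer_instance
    · rw [Functor.map_comp]
      infer_instance
  have hG₂a : ∀ i : ℤ, i < a → IsZero (G₂.homology i) := fun i hi =>
    isZero_homology_resCx j₂ G₁ i (isZero_homology_resCx j₁ G i (hGa i hi))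
  have htor₂ : HasTorAmplitudeIn (U₂.presheaf.stalk y₂) a b (toD ((stalkCx U₂ y₂).obj G₂)) :=
    torAmp_stalk_resCx j₂ G₁ y₂ a b (torAmp_stalk_resCx j₁ G (j₂.base y₂) a b htor)
  have h₂ : PerfAt (DerivedCategory.Q.obj G₂) y₂ := perfAt_of_chain P₂ G₂ f a b hPC hG₂a y₂ htor₂
  have h₁ : PerfAt (DerivedCategory.Q.obj G₁) (j₂.base y₂) :=
    perfAt_of_resD j₂ _ y₂ (perfAt_of_iso (resDQ j₂ G₁).symm h₂)
  exact perfAt_of_resD j₁ _ (j₂.base y₂) (perfAt_of_iso (resDQ j₁ G).symm h₁)

end Main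

end Groth.Agent.Lib.Helper15.PcSpreadS
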