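import Mathlib

/-!
# [KR] Krull step for S4899 SA / KV' (helper15, for helper55/helper49/helper89)
-/

set_option autoImplicit false
universe u
open TensorProduct IsLocalRing

namespace Groth.Agent.Lib.Helper15.PrimKR

/-- coefficient naturality -/
theorem coeff_lTensor {k k' : Type u} [Field k] [Field k'] [Algebra k k'] {ι : Type*}
    [DecidableEq ι] (ℬ : Module.Basis ι k k')
    {V V' : Type u} [AddCommGroup V] [Module k V] [AddCommGroup V'] [Module k V']
    (f : V →ₗ[k] V') (w : k' ⊗[k] V) (i : ι) :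
    TensorProduct.equivFinsuppOfBasisLeft ℬ (LinearMap.lTensor k' f w) i =
      f (TensorProduct.equivFinsuppOfBasisLeft ℬ w i) := by
  induction w using TensorProduct.induction_on with
  | zero => simp
  | tmul a v => simp [TensorProduct.equivFinsuppOfBasisLeft_apply_tmul_apply]
  | add x y hx hy => simp [map_add, hx, hy]

/-- Krull step: a nonzero element of `k' ⊗[k] V` stays nonzero in some `k' ⊗[k] (V / m^n V)`. -/
theorem kr {k k' R V : Type u} [Field k] [Field k'] [Algebra k k'] [CommRing R] [IsLocalRing R]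
    [IsNoetherianRing R] [Algebra k R] [AddCommGroup V] [Module R V] [Module k V]
    [IsScalarTower k R V] [Module.Finite R V] (w : k' ⊗[k] V) (hw : w ≠ 0) :
    ∃ n : ℕ, LinearMap.lTensor k'
      (((IsLocalRing.maximalIdeal R ^ n • (⊤ : Submodule R V)).mkQ).restrictScalars k) w ≠ 0 := by
  classical
  let ℬ := Module.Free.chooseBasis k k'
  have hne : TensorProduct.equivFinsuppOfBasisLeft ℬ w ≠ 0 := fun h =>
    hw ((TensorProduct.equivFinsuppOfBasisLeft (N := V) ℬ).map_eq_zero_iff.1 h)
  obtain ⟨i, hi⟩ : ∃ i, TensorProduct.equivFinsuppOfBasisLeft ℬ w i ≠ 0 := by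
    by_contra hcon
    push_neg at hcon
    exact hne (Finsupp.ext hcon)
  have hK := Ideal.iInf_pow_smul_eq_bot_of_isLocalRing (R := R) (M := V)
    (I := maximalIdeal R) (Ideal.IsPrime.ne_top inferInstance)
  have hnot : TensorProduct.equivFinsuppOfBasisLeft ℬ w i ∉
      (⨅ n : ℕ, maximalIdeal R ^ n • ⊤ : Submodule R V) := by
    rw [hK]
    simpa using hi
  rw [Submodule.mem_iInf] at hnot
  push_neg at hnot
  obtain ⟨n, hn⟩ := hnot
  refine ⟨n, fun h0 => hn ?_⟩
  have h1 := coeff_lTensor ℬ
    (((IsLocalRing.maximalIdeal R ^ n • (⊤ : Submodule R V)).mkQ).restrictScalars k) w i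
  rw [h0] at h1
  simp only [map_zero, Finsupp.coe_zero, Pi.zero_apply, LinearMap.coe_restrictScalars,
    Submodule.mkQ_apply] at h1
  exact (Submodule.Quotient.mk_eq_zero _).1 h1.symm

end Groth.Agent.Lib.Helper15.PrimKR
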