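import Mathlib.LinearAlgebra.Charpoly.ToMatrix
import Mathlib.LinearAlgebra.Matrix.Charpoly.Basic
import Mathlib.LinearAlgebra.Matrix.Charpoly.Coeff
import Mathlib.RingTheory.IsTensorProduct
import Mathlib.Algebra.Module.Projective
import Mathlib.RingTheory.Finiteness.Basic

/-!
# Stabilised characteristic polynomial of an endomorphism of a finite projective module (helper15)
-/

set_option autoImplicit false
universe u v w

open Polynomial

namespace Groth.Agent.Lib.Helper15.ProjCharpoly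

structure Pres (R : Type u) (P : Type v) [CommRing R] [AddCommGroup P] [Module R P] where
  n : ℕ
  i : P →ₗ[R] (Fin n → R)
  p : (Fin n → R) →ₗ[R] P
  hpi : p ∘ₗ i = LinearMap.id

variable {R : Type u} {P : Type v} [CommRing R] [AddCommGroup P] [Module R P]

theorem exists_pres [Module.Finite R P] [Module.Projective R P] : Nonempty (Pres R P) := by
  obtain ⟨n, f, hf⟩ := Module.Finite.exists_fin' R P
  obtain ⟨h, hh⟩ := Module.projective_lifting_property f LinearMap.id hf
  exact ⟨⟨n, h, f, hh⟩⟩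

namespace Pres

variable (π π' : Pres R P) (φ : P →ₗ[R] P)

theorem p_i (x : P) : π.p (π.i x) = x := LinearMap.congr_fun π.hpi x

theorem i_injective : Function.Injective π.i := Function.LeftInverse.injective π.p_i

noncomputable def mat : Matrix (Fin π.n) (Fin π.n) R := LinearMap.toMatrix' (π.i ∘ₗ φ ∘ₗ π.p)

noncomputable def cp : R[X] := (π.mat φ).charpoly

theorem mat_apply (j k : Fin π.n) : π.mat φ j k = π.i (φ (π.p (Pi.single k 1))) j := by
  simp [mat, LinearMap.toMatrix'_apply]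

theorem cp_monic : (π.cp φ).Monic := Matrix.charpoly_monic _

theorem cp_indep : X ^ π'.n * π.cp φ = X ^ π.n * π'.cp φ := by
  have h := Matrix.charpoly_mul_comm' (LinearMap.toMatrix' (π.i ∘ₗ φ ∘ₗ π'.p))
    (LinearMap.toMatrix' (π'.i ∘ₗ π.p))
  rw [← LinearMap.toMatrix'_comp, ← LinearMap.toMatrix'_comp] at h
  have e1 : (π.i ∘ₗ φ ∘ₗ π'.p) ∘ₗ (π'.i ∘ₗ π.p) = π.i ∘ₗ φ ∘ₗ π.p := by
    refine LinearMap.ext fun x => ?_
    simp only [LinearMap.comp_apply, π'.p_i]
  have e2 : (π'.i ∘ₗ π.p) ∘ₗ (π.i ∘ₗ φ ∘ₗ π'.p) = π'.i ∘ₗ φ ∘ₗ π'.p := by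
    refine LinearMap.ext fun x => ?_
    simp only [LinearMap.comp_apply, π.p_i]
  rw [e1, e2] at h
  simpa [cp, mat] using h

theorem aeval_comp_of_intertwine {M N : Type*} [AddCommGroup M] [Module R M] [AddCommGroup N]
    [Module R N] (ψ : N →ₗ[R] N) (φ : M →ₗ[R] M) (i : M →ₗ[R] N) (h : ψ ∘ₗ i = i ∘ₗ φ)
    (Q : R[X]) : (aeval ψ Q) ∘ₗ i = i ∘ₗ (aeval φ Q) := by
  induction Q using Polynomial.induction_on with
  | C a =>
    ext x
    simp
  | add p q hp hq =>
    simp only [map_add, LinearMap.add_comp, LinearMap.comp_add, hp, hq]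
  | monomial n a ih =>
    have e1 : aeval ψ (C a * X ^ (n + 1)) = aeval ψ (C a * X ^ n) * ψ := by
      rw [pow_succ, ← mul_assoc, map_mul _ _ X, aeval_X]
    have e2 : aeval φ (C a * X ^ (n + 1)) = aeval φ (C a * X ^ n) * φ := by
      rw [pow_succ, ← mul_assoc, map_mul _ _ X, aeval_X]
    rw [e1, e2, Module.End.mul_eq_comp, Module.End.mul_eq_comp, LinearMap.comp_assoc, h,
      ← LinearMap.comp_assoc, ih, LinearMap.comp_assoc]

theorem aeval_cp : aeval φ (π.cp φ) = 0 := by
  set ψ : (Fin π.n → R) →ₗ[R] (Fin π.n → R) := π.i ∘ₗ φ ∘ₗ π.p with hψ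
  have h1 : aeval ψ (π.cp φ) = 0 := by
    have : π.cp φ = ψ.charpoly := by
      rw [cp, mat, ← LinearMap.toMatrix_eq_toMatrix', LinearMap.charpoly_toMatrix]
    rw [this]
    exact LinearMap.aeval_self_charpoly ψ
  have h2 : ψ ∘ₗ π.i = π.i ∘ₗ φ := by
    ext x : 1
    simp [hψ, π.p_i]
  have h3 := aeval_comp_of_intertwine ψ φ π.i h2 (π.cp φ)
  rw [h1, LinearMap.zero_comp] at h3
  ext x
  apply π.i_injective
  have := LinearMap.congr_fun h3 x
  simpa using this.symm

section BaseChange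

variable {S : Type w} [CommRing S] [Algebra R S] {P' : Type*} [AddCommGroup P'] [Module R P']
  [Module S P'] [IsScalarTower R S P'] {f : P →ₗ[R] P'}

noncomputable def baseChange (π : Pres R P) (hf : IsBaseChange S f) : Pres S P' where
  n := π.n
  i := hf.lift ((Algebra.linearMap R S).compLeft (Fin π.n) ∘ₗ π.i)
  p := Fintype.linearCombination S (fun k => f (π.p (Pi.single k 1)))
  hpi := by
    apply hf.algHom_ext
    intro x
    simp only [LinearMap.comp_apply, LinearMap.id_apply, IsBaseChange.lift_eq]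
    rw [Fintype.linearCombination_apply]
    simp only [LinearMap.compLeft_apply, Function.comp_apply, Algebra.linearMap_apply,
      algebraMap_smul]
    rw [← π.p_i x]
    conv_rhs => rw [LinearMap.pi_apply_eq_sum_univ π.p (π.i x)]
    simp only [map_sum, map_smul, π.p_i]
    refine Finset.sum_congr rfl fun k _ => ?_
    congr 3
    ext j
    simp [Pi.single_apply, eq_comm]

theorem baseChange_mat (π : Pres R P) (hf : IsBaseChange S f) (φ : P →ₗ[R] P)
    (φ' : P' →ₗ[S] P') (h : ∀ x, φ' (f x) = f (φ x)) :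
    (π.baseChange hf).mat φ' = (π.mat φ).map (algebraMap R S) := by
  ext j k
  rw [mat_apply, Matrix.map_apply, mat_apply]
  change hf.lift ((Algebra.linearMap R S).compLeft (Fin π.n) ∘ₗ π.i)
    (φ' (Fintype.linearCombination S (fun k => f (π.p (Pi.single k 1))) (Pi.single k 1))) j = _
  rw [Fintype.linearCombination_apply_single, one_smul, h, IsBaseChange.lift_eq]
  rfl

theorem baseChange_cp (π : Pres R P) (hf : IsBaseChange S f) (φ : P →ₗ[R] P)
    (φ' : P' →ₗ[S] P') (h : ∀ x, φ' (f x) = f (φ x)) :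
    (π.baseChange hf).cp φ' = (π.cp φ).map (algebraMap R S) := by
  have e := baseChange_mat π hf φ φ' h
  change ((π.baseChange hf).mat φ').charpoly = _
  rw [e]
  exact Matrix.charpoly_map (π.mat φ) (algebraMap R S)

theorem map_cp_mul (π : Pres R P) (hf : IsBaseChange S f) (φ : P →ₗ[R] P)
    (φ' : P' →ₗ[S] P') (h : ∀ x, φ' (f x) = f (φ x)) (π' : Pres S P') :
    X ^ π'.n * (π.cp φ).map (algebraMap R S) = X ^ π.n * π'.cp φ' := by
  rw [← baseChange_cp π hf φ φ' h]
  exact cp_indep (π.baseChange hf) π' φ'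

end BaseChange

end Pres

end Groth.Agent.Lib.Helper15.ProjCharpoly
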