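import Groth.Agent.Lib.Helper15.PseudoCohBC

set_option autoImplicit false
universe u

open CategoryTheory CategoryTheory.Limits CategoryTheory.Pretriangulated DerivedCategory

attribute [local instance] HasDerivedCategory.standard

/-!
# Localizations `A_g` are pseudo-coherent relative to `A` (helper15)
-/

namespace Groth.Agent.Lib.Helper15.PseudoCohAway

open DRing DerCA Groth.Agent.Lib.Helper84 Groth.Agent.Lib.Helper15.MQI
  Groth.Agent.Lib.Helper15.PseudoCoh Groth.Agent.Lib.Helper15.PseudoCohRes Groth.Agent.Lib.Helper43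
  Groth.Agent.Lib.Helper15.PseudoCohFinite Groth.Agent.Lib.Helper15.PseudoCohRel

variable {A : Type u} [CommRing A]

lemma mem_nonZeroDivisors_C_mul_X_sub_one (g : A) :
    (Polynomial.C g * Polynomial.X - 1 : Polynomial A) ∈ nonZeroDivisors (Polynomial A) := by
  apply Polynomial.mem_nonZeroDivisors_of_trailingCoeff
  rcases subsingleton_or_nontrivial A with h | h
  · exact (isUnit_of_subsingleton _).mem_nonZeroDivisors
  · have h0 : (Polynomial.C g * Polynomial.X - 1 : Polynomial A).coeff 0 = -1 := by simp
    have h1 : (Polynomial.C g * Polynomial.X - 1 : Polynomial A).natTrailingDegree = 0 := by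
      rw [Polynomial.natTrailingDegree_eq_zero]
      right
      rw [h0]
      simp
    rw [Polynomial.trailingCoeff, h1, h0]
    exact (isUnit_one.neg).mem_nonZeroDivisors

/-- restriction along a ring isomorphism does not affect `ResPC` -/
lemma resPC_comp_equiv {P Q B : Type u} [CommRing P] [CommRing Q] [CommRing B] (e : P ≃+* Q)
    (ψ : Q →+* B) (h : ResPC ψ (ModuleCat.of B B)) :
    ResPC (ψ.comp (e : P →+* Q)) (ModuleCat.of B B) := fun m =>
  (pc_restrictD_comp_iff (e : P →+* Q) ψ _ rfl m _).1
    ((isPseudoCoherent_restrictD_equiv e m _).1 (h m))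

/-- the standard presentation `A[X] → A_g`, `X ↦ 1/g`, with kernel generated by the
nonzerodivisor `gX - 1` -/
theorem exists_awayPres (g : A) :
    ∃ ψ : Polynomial A →ₐ[A] Localization.Away g, Function.Surjective ψ ∧
      ResPC (ψ : Polynomial A →+* Localization.Away g)
        (ModuleCat.of (Localization.Away g) (Localization.Away g)) := by
  let q : Polynomial A := Polynomial.C g * Polynomial.X - 1
  obtain ⟨ι, -⟩ : ∃ ι : AdjoinRoot q ≃ₐ[A] Localization.Away g, True :=
    ⟨(Localization.awayEquivAdjoin g).symm, trivial⟩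
  let ψ : Polynomial A →ₐ[A] Localization.Away g :=
    (ι : AdjoinRoot q →ₐ[A] Localization.Away g).comp (AdjoinRoot.mkₐ q)
  have hψ : Function.Surjective ψ := ι.surjective.comp AdjoinRoot.mk_surjective
  have hker : RingHom.ker (ψ : Polynomial A →+* Localization.Away g) = Ideal.span {q} := by
    have h1 : (ψ : Polynomial A →+* Localization.Away g) =
        (ι : AdjoinRoot q →+* Localization.Away g).comp (AdjoinRoot.mk q) := rfl
    have h2 := RingHom.ker_comp_of_injective (AdjoinRoot.mk q)
      (f := (ι : AdjoinRoot q →+* Localization.Away g)) ι.injective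
    rw [h1, h2]
    ext x
    rw [RingHom.mem_ker, AdjoinRoot.mk_eq_zero, Ideal.mem_span_singleton]
  exact ⟨ψ, hψ,
    resPC_of_ker_eq_span_nonZeroDivisor _ hψ q (mem_nonZeroDivisors_C_mul_X_sub_one g) hker⟩

/-- `A_g` is pseudo-coherent relative to `A` -/
theorem away_pc (g : A) :
    IsRelPseudoCoherentModuleAll A (Localization.Away g) (Localization.Away g) := by
  obtain ⟨e, -⟩ : ∃ e : MvPolynomial (Fin 1) A ≃ₐ[A] Polynomial A, True :=
    ⟨MvPolynomial.uniqueAlgEquiv A (Fin 1), trivial⟩
  obtain ⟨ψ, hψ, hres⟩ := exists_awayPres g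
  let α : MvPolynomial (Fin 1) A →ₐ[A] Localization.Away g := ψ.comp (e : _ →ₐ[A] _)
  have hα : Function.Surjective α := hψ.comp e.surjective
  intro m
  refine ⟨1, α, hα, ?_⟩
  exact resPC_comp_equiv e.toRingEquiv (ψ : Polynomial A →+* Localization.Away g) hres m

/-- derived base change to a localization is computed termwise -/
noncomputable def lbcAwayIso (g : A) (K : Cx A) :
    (LBaseChange (algebraMap A (Localization.Away g))).obj (toD K) ≅
      toD (((ModuleCat.extendScalars.{u, u, u}
        (algebraMap A (Localization.Away g))).mapHomologicalComplex (ComplexShape.up ℤ)).obj K) :=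
  haveI : PreservesFiniteLimits (FlatBC.ext (algebraMap A (Localization.Away g))) :=
    FlatBC.preservesFiniteLimits_ext _ (RingHom.flat_algebraMap_iff.2 inferInstance)
  (LBCFlat.lbcFlatIso (algebraMap A (Localization.Away g))).app _ ≪≫ FlatBC.bcToD _ K

/-- Stacks 15.81.8 (⇒), 15.81.14: localizing a relatively `m`-pseudo-coherent complex -/
theorem rel_away {R : Type u} [CommRing R] [Algebra R A] [Algebra.FiniteType R A] (g : A)
    (K : Cx A) (m : ℤ) (h : IsRelPseudoCoherent R A m (toD K)) :
    IsRelPseudoCoherent R (Localization.Away g) m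
      (toD (((ModuleCat.extendScalars.{u, u, u}
        (algebraMap A (Localization.Away g))).mapHomologicalComplex (ComplexShape.up ℤ)).obj K)) :=
  haveI : Algebra.FinitePresentation A (Localization.Away g) :=
    IsLocalization.Away.finitePresentation g
  rel_of_iso (lbcAwayIso g K) (PseudoCohBC.rel_LBaseChange (away_pc g) _ m h)

end Groth.Agent.Lib.Helper15.PseudoCohAway
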