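import Groth.Agent.Lib.Helper15.PseudoCohFinite
import Groth.Agent.Lib.Helper15.PseudoCohAway
import Groth.Agent.Lib.Helper43.PCModule

/-!
# Composition of `m`-pseudo-coherent ring maps (helper15)

* `isPC_restrict_of_isPC`: if `P` is an `s`-pseudo-coherent `P'`-module, an `m`-pseudo-coherent
  `P`-module is `max m s`-pseudo-coherent over `P'`;
* `isPC_mvPolynomial_map`: flat base change to polynomial rings, one degree at a time;
* `selfRel_comp`: `B` `s`-pseudo-coherent relative to `C` and `A` `r`-pseudo-coherent relative to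
  `B` imply `A` `max r s`-pseudo-coherent relative to `C`.
-/

set_option autoImplicit false
set_option linter.style.haveILetI false
universe u
open CategoryTheory Limits
attribute [local instance] HasDerivedCategory.standard

namespace Groth.Agent.Lib.Helper15.PseudoCohComp

open DRing DerivedCategory Groth.Agent.Lib.Helper43 Groth.Agent.Lib.Helper43.PCModule
  Groth.Agent.Lib.Helper15.PseudoCoh Groth.Agent.Lib.Helper15.PseudoCohRes
  Groth.Agent.Lib.Helper15.PseudoCohFinite Groth.Agent.Lib.Helper15.PseudoCohRel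
  Groth.Agent.Lib.Helper84 DerCA

section Basic

variable {R : Type u} [CommRing R]

lemma isPC_of_one_le {m : ℤ} (hm : 1 ≤ m) (X : ModuleCat.{u} R) : IsPC m X := by
  haveI : ((singleFunctor (ModuleCat.{u} R) 0).obj X).IsLE (1 - 1) := by
    have : (1 : ℤ) - 1 = 0 := by norm_num
    rw [this]
    infer_instance
  exact of_le hm (of_isLE 1 _)

lemma isPC_prod (m : ℤ) (N₁ N₂ : Type u) [AddCommGroup N₁] [Module R N₁] [AddCommGroup N₂]
    [Module R N₂] (h₁ : IsPC m (ModuleCat.of R N₁)) (h₂ : IsPC m (ModuleCat.of R N₂)) :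
    IsPC m (ModuleCat.of R (N₁ × N₂)) := by
  let S : ShortComplex (ModuleCat.{u} R) :=
    ModuleCat.shortComplexOfCompEqZero (LinearMap.inl R N₁ N₂) (LinearMap.snd R N₁ N₂)
      (by ext x; simp)
  have hS : S.ShortExact :=
    ModuleCat.shortComplex_shortExact S Function.Exact.inl_snd LinearMap.inl_injective
      LinearMap.snd_surjective
  exact obj₂ m _ hS.singleTriangle_distinguished h₁ h₂

lemma isPC_pi (m : ℤ) (N : Type u) [AddCommGroup N] [Module R N] (h : IsPC m (ModuleCat.of R N))
    (r : ℕ) : IsPC m (ModuleCat.of R (Fin r → N)) := by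
  induction r with
  | zero =>
    apply isPC_of_isZero
    have : Subsingleton (ModuleCat.of R (Fin 0 → N)) :=
      inferInstanceAs (Subsingleton (Fin 0 → N))
    exact ModuleCat.isZero_of_subsingleton _
  | succ r ih =>
    have h' := isPC_prod m N (Fin r → N) h ih
    exact isPC_of_iso (Fin.consLinearEquiv R (fun _ : Fin (r + 1) => N)).toModuleIso h'

lemma isPC_pi' (m : ℤ) (X : ModuleCat.{u} R) (h : IsPC m X) (r : ℕ) :
    IsPC m (ModuleCat.of R (Fin r → X)) :=
  isPC_pi m X h r

end Basic

section Trans

variable {P' P : Type u} [CommRing P'] [CommRing P] (φ : P' →+* P)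

lemma isPC_restrict_pi (s : ℤ)
    (hP : IsPC s ((ModuleCat.restrictScalars.{u} φ).obj (ModuleCat.of P P))) :
    ∀ r : ℕ, IsPC s ((ModuleCat.restrictScalars.{u} φ).obj (ModuleCat.of P (Fin r → P)))
  | 0 => by
    apply isPC_of_isZero
    apply Functor.map_isZero
    have : Subsingleton (ModuleCat.of P (Fin 0 → P)) :=
      inferInstanceAs (Subsingleton (Fin 0 → P))
    exact ModuleCat.isZero_of_subsingleton _
  | r + 1 => by
    let S : ShortComplex (ModuleCat.{u} P) :=
      ModuleCat.shortComplexOfCompEqZero (LinearMap.inl P P (Fin r → P))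
        (LinearMap.snd P P (Fin r → P)) (by ext x; simp)
    have hS : S.ShortExact :=
      ModuleCat.shortComplex_shortExact S Function.Exact.inl_snd LinearMap.inl_injective
        LinearMap.snd_surjective
    have hS' := hS.map_of_exact (ModuleCat.restrictScalars.{u} φ)
    have h := obj₂ s _ hS'.singleTriangle_distinguished hP (isPC_restrict_pi s hP r)
    exact isPC_of_iso ((ModuleCat.restrictScalars.{u} φ).mapIso
      (Fin.consLinearEquiv P (fun _ : Fin (r + 1) => P)).toModuleIso) h

/-- Stacks 15.64.11 with degrees: restriction of scalars along a ring map making the target an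
`s`-pseudo-coherent module -/
theorem isPC_restrict_of_isPC (s : ℤ)
    (hP : IsPC s ((ModuleCat.restrictScalars.{u} φ).obj (ModuleCat.of P P))) :
    ∀ (k : ℕ) (m : ℤ) (N : ModuleCat.{u} P), 1 ≤ m + k → IsPC m N →
      IsPC (max m s) ((ModuleCat.restrictScalars.{u} φ).obj N)
  | 0, m, N, hm, _ => isPC_of_one_le (le_max_of_le_left (by simpa using hm)) _
  | k + 1, m, N, hm, hN => by
    by_cases h1 : 1 ≤ m
    · exact isPC_of_one_le (le_max_of_le_left h1) _
    · haveI : Module.Finite P N := finite_of_isPC (m := m) (by lia) N hN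
      obtain ⟨n, f, hf⟩ := Module.Finite.exists_fin' P N
      have hK : IsPC (m + 1) (ModuleCat.of P (LinearMap.ker f)) :=
        isPC_ker f hf (isPC_finiteFree (m + 1) _ ⟨inferInstance, inferInstance⟩) hN
      have ih := isPC_restrict_of_isPC s hP k (m + 1) (ModuleCat.of P (LinearMap.ker f))
        (by push_cast at hm ⊢; lia) hK
      have hS := LinearMap.shortExact_shortComplexKer hf
      have hS' := hS.map_of_exact (ModuleCat.restrictScalars.{u} φ)
      have hT := hS'.singleTriangle_distinguished
      refine obj₃ (max m s) _ hT (of_le ?_ ih) (of_le (le_max_right m s) (isPC_restrict_pi φ s hP n))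
      rcases le_total m s with h | h
      · rw [max_eq_right h]
        exact max_le (by lia) (by lia)
      · rw [max_eq_left h]
        exact max_le (by lia) (by lia)

end Trans

section Poly

open scoped TensorProduct in
/-- flat base change to polynomial rings, in one degree -/
lemma isPC_mvPolynomial_map {P A : Type u} [CommRing P] [CommRing A] (α : P →+* A) (m : ℤ)
    (h : IsPC m ((ModuleCat.restrictScalars.{u} α).obj (ModuleCat.of A A))) (σ : Type) :
    IsPC m ((ModuleCat.restrictScalars.{u}
      (MvPolynomial.map α : MvPolynomial σ P →+* MvPolynomial σ A)).obj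
        (ModuleCat.of (MvPolynomial σ A) (MvPolynomial σ A))) := by
  let _ : Algebra P A := α.toAlgebra
  let e₀ : ((ModuleCat.restrictScalars.{u} α).obj (ModuleCat.of A A)) ≃ₗ[P] A :=
    { AddEquiv.refl A with
      map_smul' := fun a b => rfl }
  have h1 : IsPseudoCoherent P m (Dual.inD P A) := PCModule.isPC_of_iso e₀.toModuleIso h
  have h2 : IsPseudoCoherent (MvPolynomial σ P) m
      (Dual.inD (MvPolynomial σ P) (MvPolynomial σ P ⊗[P] A)) :=
    FlatBC.module_baseChange (A := P) (B := MvPolynomial σ P) A
      (fun K => IsPseudoCoherent P m K) (fun X => IsPseudoCoherent (MvPolynomial σ P) m X)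
      (fun X Y e hX => of_iso e hX) (fun f _ K hK => FlatBC.isPseudoCoherent_bc f m K hK) h1
  let e₁ : (MvPolynomial σ P ⊗[P] A) ≃+ MvPolynomial σ A :=
    (TensorProduct.comm P (MvPolynomial σ P) A).toAddEquiv.trans
      (MvPolynomial.algebraTensorAlgEquiv P A).toAddEquiv
  have he₁ : ∀ (p : MvPolynomial σ P) (a : A), e₁ (p ⊗ₜ a) = a • MvPolynomial.map α p := by
    intro p a
    change MvPolynomial.algebraTensorAlgEquiv P A (a ⊗ₜ p) = _
    rw [MvPolynomial.algebraTensorAlgEquiv_tmul]
    rfl
  let e : (MvPolynomial σ P ⊗[P] A) ≃ₗ[MvPolynomial σ P]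
      ((ModuleCat.restrictScalars.{u} (MvPolynomial.map α : MvPolynomial σ P →+* MvPolynomial σ A)).obj
        (ModuleCat.of (MvPolynomial σ A) (MvPolynomial σ A))) :=
    { e₁ with
      map_smul' := fun q t => by
        change e₁ (q • t) = MvPolynomial.map α q * e₁ t
        induction t using TensorProduct.induction_on with
        | zero => simp
        | tmul p a =>
          rw [TensorProduct.smul_tmul', he₁, he₁, smul_eq_mul, map_mul, mul_smul_comm]
        | add x y hx hy => rw [smul_add, map_add, map_add, hx, hy, mul_add] }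
  exact PCModule.isPC_of_iso e.toModuleIso h2

end Poly

section Comp

variable {C B A : Type u} [CommRing C] [CommRing B] [CommRing A] [Algebra C B] [Algebra B A]
  [Algebra C A] [IsScalarTower C B A]

/-- the restriction of `A[0]` along a ring map, as a module placed in degree `0` -/
noncomputable def restrictSelfIso {P : Type u} [CommRing P] (ψ : P →+* A) :
    (restrictD ψ).obj (Dual.inD A A) ≅
      (singleFunctor (ModuleCat.{u} P) 0).obj
        ((ModuleCat.restrictScalars.{u} ψ).obj (ModuleCat.of A A)) :=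
  ((ModuleCat.restrictScalars.{u} ψ).mapDerivedCategorySingleFunctor 0).app (ModuleCat.of A A)

set_option maxHeartbeats 400000 in
/-- **composition**: `B` is `s`-pseudo-coherent relative to `C` and `A` is `r`-pseudo-coherent
relative to `B` ⇒ `A` is `max r s`-pseudo-coherent relative to `C` -/
theorem selfRel_comp (r s : ℤ) (hB : IsRelPseudoCoherentModule C B s B)
    (hA : IsRelPseudoCoherentModule B A r A) : IsRelPseudoCoherentModule C A (max r s) A := by
  obtain ⟨n, β, hβ, hviaB⟩ := hB
  obtain ⟨k, α, hα, hviaA⟩ := hA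
  unfold IsRelPseudoCoherentVia at hviaB hviaA
  have hB1 : IsPC s ((ModuleCat.restrictScalars.{u} (β : MvPolynomial (Fin n) C →+* B)).obj
      (ModuleCat.of B B)) := of_iso (restrictSelfIso _) hviaB
  have hA1 : IsPC r ((ModuleCat.restrictScalars.{u} (α : MvPolynomial (Fin k) B →+* A)).obj
      (ModuleCat.of A A)) := of_iso (restrictSelfIso _) hviaA
  obtain ⟨σ, -⟩ : ∃ σ : MvPolynomial (Fin (k + n)) C ≃ₐ[C]
      MvPolynomial (Fin k) (MvPolynomial (Fin n) C),
    σ = (MvPolynomial.renameEquiv C finSumFinEquiv.symm).trans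
      (MvPolynomial.sumAlgEquiv C (Fin k) (Fin n)) := ⟨_, rfl⟩
  obtain ⟨μ, hμ⟩ : ∃ μ : MvPolynomial (Fin k) (MvPolynomial (Fin n) C) →+* MvPolynomial (Fin k) B,
    μ = MvPolynomial.map (β : MvPolynomial (Fin n) C →+* B) := ⟨_, rfl⟩
  have hμsurj : Function.Surjective μ := by
    rw [hμ]
    exact MvPolynomial.map_surjective _ hβ
  have hμC : ∀ x, μ (MvPolynomial.C x) = MvPolynomial.C (β x) := fun x => by
    rw [hμ]
    exact MvPolynomial.map_C _ x
  have hmap : IsPC s ((ModuleCat.restrictScalars.{u} μ).obj
      (ModuleCat.of (MvPolynomial (Fin k) B) (MvPolynomial (Fin k) B))) := by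
    rw [hμ]
    exact isPC_mvPolynomial_map _ s hB1 (Fin k)
  -- transitivity
  have h2 := isPC_restrict_of_isPC μ s hmap (1 - r).toNat r _
    (by have := Int.self_le_toNat (1 - r); lia) hA1
  obtain ⟨α'', hα''eq⟩ : ∃ α'' : MvPolynomial (Fin (k + n)) C →ₐ[C] A,
      ((α : MvPolynomial (Fin k) B →+* A).comp μ).comp
        (σ.toRingEquiv : MvPolynomial (Fin (k + n)) C →+* _) = (α'' : _ →+* A) :=
    ⟨{ toRingHom := ((α : MvPolynomial (Fin k) B →+* A).comp μ).comp
          (σ.toRingEquiv : MvPolynomial (Fin (k + n)) C →+* _)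
       commutes' := fun c => by
        change α (μ (σ (algebraMap C _ c))) = _
        rw [AlgEquiv.commutes, MvPolynomial.algebraMap_apply, hμC, AlgHom.commutes,
          ← MvPolynomial.algebraMap_eq, AlgHom.commutes, ← IsScalarTower.algebraMap_apply] },
      rfl⟩
  have hα'' : Function.Surjective α'' := by
    have h : Function.Surjective (((α : MvPolynomial (Fin k) B →+* A).comp μ).comp
        (σ.toRingEquiv : MvPolynomial (Fin (k + n)) C →+* _)) :=
      (hα.comp hμsurj).comp σ.surjective
    rw [hα''eq] at h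
    exact h
  refine ⟨k + n, α'', hα'', ?_⟩
  unfold IsRelPseudoCoherentVia
  have h3 : IsPseudoCoherent (MvPolynomial (Fin k) (MvPolynomial (Fin n) C)) (max r s)
      ((restrictD μ).obj ((restrictD (α : MvPolynomial (Fin k) B →+* A)).obj (Dual.inD A A))) :=
    of_iso (((restrictD μ).mapIso (restrictSelfIso (α : MvPolynomial (Fin k) B →+* A))) ≪≫
      ((ModuleCat.restrictScalars.{u} μ).mapDerivedCategorySingleFunctor 0).app _).symm h2
  have h4 := (pc_restrictD_comp_iff μ (α : MvPolynomial (Fin k) B →+* A) _ rfl (max r s)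
    (Dual.inD A A)).1 h3
  have h5 := (isPseudoCoherent_restrictD_equiv σ.toRingEquiv (max r s) _).1 h4
  have h6 := (pc_restrictD_comp_iff (σ.toRingEquiv : MvPolynomial (Fin (k + n)) C →+* _)
    ((α : MvPolynomial (Fin k) B →+* A).comp μ) (α'' : _ →+* A) hα''eq (max r s)
    (Dual.inD A A))
  have h7 := h6.1 h5
  convert h7 using 2

end Comp

end Groth.Agent.Lib.Helper15.PseudoCohComp
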