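import Groth.Agent.Lib.Helper15.PseudoCohPoly
import Mathlib.Algebra.MvPolynomial.Equiv
import Mathlib.Algebra.MvPolynomial.Eval

/-!
# Pseudo-coherence over `P` versus over `P[x_1, ..., x_k]` through an evaluation map (helper15)
-/

set_option autoImplicit false
universe u

open CategoryTheory CategoryTheory.Limits DerivedCategory

attribute [local instance] HasDerivedCategory.standard

namespace Groth.Agent.Lib.Helper15.PseudoCohMvPoly

open DRing Groth.Agent.Lib.Helper15.PseudoCoh Groth.Agent.Lib.Helper15.PseudoCohRes
  Groth.Agent.Lib.Helper15.PseudoCohPoly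

variable {A B C : Type u} [CommRing A] [CommRing B] [CommRing C]

lemma isPseudoCoherent_restrictD_comp (f : A →+* B) (g : B →+* C) (m : ℤ) (K : Dual.D C) :
    IsPseudoCoherent A m ((restrictD f).obj ((restrictD g).obj K)) ↔
      IsPseudoCoherent A m ((restrictD (g.comp f)).obj K) :=
  ⟨fun h => of_iso ((restrictDComp f g).app K) h, fun h => of_iso ((restrictDComp f g).app K).symm h⟩

lemma isPseudoCoherent_restrictD_congr {f f' : A →+* B} (h : f = f') (m : ℤ) (K : Dual.D B) :
    IsPseudoCoherent A m ((restrictD f).obj K) ↔ IsPseudoCoherent A m ((restrictD f').obj K) := by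
  subst h; rfl

/-- `K ∈ D(P)` is `m`-pseudo-coherent iff it is so over `P[x_1, ..., x_k]` through evaluation at
any point `f`. -/
theorem isPseudoCoherent_iff_restrictD_eval (k : ℕ) :
    ∀ (P : Type u) [CommRing P] (f : Fin k → P) (m : ℤ) (K : Dual.D P),
      IsPseudoCoherent P m K ↔
        IsPseudoCoherent (MvPolynomial (Fin k) P) m ((restrictD (MvPolynomial.eval f)).obj K) := by
  induction k with
  | zero =>
    intro P _ f m K
    let σ : MvPolynomial (Fin 0) P ≃+* P := MvPolynomial.isEmptyRingEquiv P (Fin 0)
    have hσ : MvPolynomial.eval f = (σ : MvPolynomial (Fin 0) P →+* P) := by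
      apply MvPolynomial.ringHom_ext
      · intro r
        change MvPolynomial.eval f (MvPolynomial.C r) =
          MvPolynomial.isEmptyRingEquiv P (Fin 0) (MvPolynomial.C r)
        rw [MvPolynomial.eval_C]
        simp only [MvPolynomial.isEmptyRingEquiv_eq_coeff_zero]
        exact (MvPolynomial.coeff_zero_C r).symm
      · intro i
        exact Fin.elim0 i
    rw [isPseudoCoherent_restrictD_congr hσ]
    exact isPseudoCoherent_restrictD_equiv σ m K
  | succ k ih =>
    intro P _ f m K
    let P' := MvPolynomial (Fin k) P
    let e : MvPolynomial (Fin (k + 1)) P ≃+* Polynomial P' :=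
      (MvPolynomial.finSuccEquiv P k).toRingEquiv
    have he : MvPolynomial.eval f =
        ((MvPolynomial.eval (Fin.tail f)).comp
          (Polynomial.evalRingHom (MvPolynomial.C (f 0) : P'))).comp
            (e : MvPolynomial (Fin (k + 1)) P →+* Polynomial P') := by
      apply MvPolynomial.ringHom_ext
      · intro r
        change MvPolynomial.eval f (MvPolynomial.C r) = MvPolynomial.eval (Fin.tail f)
          (Polynomial.eval (MvPolynomial.C (f 0)) (MvPolynomial.finSuccEquiv P k (MvPolynomial.C r)))
        have hC : (MvPolynomial.finSuccEquiv P k) (MvPolynomial.C r) =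
            Polynomial.C (MvPolynomial.C r) := by
          rw [← MvPolynomial.algebraMap_eq, AlgEquiv.commutes]
          rfl
        rw [hC, Polynomial.eval_C, MvPolynomial.eval_C, MvPolynomial.eval_C]
      · intro i
        change MvPolynomial.eval f (MvPolynomial.X i) = MvPolynomial.eval (Fin.tail f)
          (Polynomial.eval (MvPolynomial.C (f 0)) (MvPolynomial.finSuccEquiv P k (MvPolynomial.X i)))
        refine Fin.cases ?_ (fun j => ?_) i
        · rw [MvPolynomial.finSuccEquiv_X_zero, Polynomial.eval_X, MvPolynomial.eval_C,
            MvPolynomial.eval_X]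
        · rw [MvPolynomial.finSuccEquiv_X_succ, Polynomial.eval_C, MvPolynomial.eval_X,
            MvPolynomial.eval_X]
          rfl
    rw [isPseudoCoherent_restrictD_congr he, ← isPseudoCoherent_restrictD_comp,
      ← isPseudoCoherent_restrictD_equiv e, ← isPseudoCoherent_restrictD_comp,
      ← PseudoCohPoly.isPseudoCoherent_iff_restrictD_eval]
    exact ih P (Fin.tail f) m K

end Groth.Agent.Lib.Helper15.PseudoCohMvPoly
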