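import Groth.Agent.Lib.Helper15.PseudoCohSection
import Mathlib.RingTheory.Polynomial.Basic
import Mathlib.Algebra.Polynomial.Eval.Defs
import Mathlib.RingTheory.Polynomial.Quotient

/-!
# Pseudo-coherence over `R` versus over `R[X]` through an evaluation map (helper15)
-/

set_option autoImplicit false
universe u

open CategoryTheory CategoryTheory.Limits DerivedCategory

attribute [local instance] HasDerivedCategory.standard

namespace Groth.Agent.Lib.Helper15.PseudoCohPoly

open DRing Groth.Agent.Lib.Helper15.PseudoCohSection

variable {R : Type u} [CommRing R]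

/-- Stacks 15.64.14-type statement: `K ∈ D(R)` is `m`-pseudo-coherent iff it is so as an object of
`D(R[X])` through the evaluation `X ↦ f`. -/
theorem isPseudoCoherent_iff_restrictD_eval (f : R) (m : ℤ) (K : Dual.D R) :
    IsPseudoCoherent R m K ↔
      IsPseudoCoherent (Polynomial R) m ((restrictD (Polynomial.evalRingHom f)).obj K) := by
  refine isPseudoCoherent_iff_restrictD_pi (Polynomial.C : R →+* Polynomial R)
    (Polynomial.evalRingHom f) ?_ (Polynomial.X - Polynomial.C f) ?_ ?_ m K
  · ext x
    simp
  · exact Polynomial.ker_evalRingHom f
  · exact (Polynomial.monic_X_sub_C f).isRegular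

end Groth.Agent.Lib.Helper15.PseudoCohPoly
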