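import Groth.Prelude.Def_DerCA
import Groth.Agent.Lib.Helper15.PseudoCohMvPoly

/-!
# Relative pseudo-coherence: independence of the presentation (helper15)

Stacks 15.81.2 (= S6983): for surjections `α : R[x_1..x_n] → A`, `β : R[y_1..y_k] → A`,
`K ∈ D(A)` is `m`-pseudo-coherent via `α` iff via `β`.
-/

set_option autoImplicit false
universe u

open CategoryTheory CategoryTheory.Limits DerivedCategory

attribute [local instance] HasDerivedCategory.standard

namespace Groth.Agent.Lib.Helper15.PseudoCohRel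

open DRing DerCA Groth.Agent.Lib.Helper15.PseudoCoh Groth.Agent.Lib.Helper15.PseudoCohRes
  Groth.Agent.Lib.Helper15.PseudoCohMvPoly

variable {R A : Type u} [CommRing R] [CommRing A] [Algebra R A]

lemma via_iff_of_le {n k : ℕ} (α : MvPolynomial (Fin n) R →ₐ[R] A)
    (β : MvPolynomial (Fin k) R →ₐ[R] A) (f : Fin k → MvPolynomial (Fin n) R)
    (hf : ∀ j, α (f j) = β (MvPolynomial.X j)) (g : Fin n → MvPolynomial (Fin k) R)
    (hg : ∀ i, β (g i) = α (MvPolynomial.X i)) (K : Dual.D A) (m : ℤ) :
    IsRelPseudoCoherentVia α m K ↔ IsRelPseudoCoherentVia β m K := by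
  let P := MvPolynomial (Fin n) R
  let P' := MvPolynomial (Fin k) R
  let σ : MvPolynomial (Fin k) P ≃+* MvPolynomial (Fin n) P' :=
    (MvPolynomial.commAlgEquiv R (Fin k) (Fin n)).toRingEquiv
  have hσ : ((α : P →+* A).comp (MvPolynomial.eval f)) =
      (((β : P' →+* A).comp (MvPolynomial.eval g)).comp
        (σ : MvPolynomial (Fin k) P →+* MvPolynomial (Fin n) P')) := by
    apply MvPolynomial.ringHom_ext
    · intro p
      change α (MvPolynomial.eval f (MvPolynomial.C p)) =
        β (MvPolynomial.eval g (MvPolynomial.commAlgEquiv R (Fin k) (Fin n) (MvPolynomial.C p)))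
      rw [MvPolynomial.eval_C, MvPolynomial.commAlgEquiv_C]
      -- both sides are ring homs in `p`
      have key : (α : P →+* A) = ((β : P' →+* A).comp (MvPolynomial.eval g)).comp
          (MvPolynomial.map (MvPolynomial.C : R →+* P')) := by
        apply MvPolynomial.ringHom_ext
        · intro r
          change α (MvPolynomial.C r) = β (MvPolynomial.eval g
            (MvPolynomial.map (MvPolynomial.C : R →+* P') (MvPolynomial.C r)))
          rw [MvPolynomial.map_C, MvPolynomial.eval_C, ← MvPolynomial.algebraMap_eq,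
            ← MvPolynomial.algebraMap_eq, AlgHom.commutes, AlgHom.commutes]
        · intro i
          change α (MvPolynomial.X i) = β (MvPolynomial.eval g
            (MvPolynomial.map (MvPolynomial.C : R →+* P') (MvPolynomial.X i)))
          rw [MvPolynomial.map_X, MvPolynomial.eval_X, hg]
      exact congrArg (fun φ : P →+* A => φ p) key
    · intro j
      change α (MvPolynomial.eval f (MvPolynomial.X j)) =
        β (MvPolynomial.eval g (MvPolynomial.commAlgEquiv R (Fin k) (Fin n) (MvPolynomial.X j)))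
      rw [MvPolynomial.eval_X, MvPolynomial.commAlgEquiv_X, MvPolynomial.eval_C, hf]
  unfold IsRelPseudoCoherentVia
  rw [PseudoCohMvPoly.isPseudoCoherent_iff_restrictD_eval k P f m,
    PseudoCohMvPoly.isPseudoCoherent_iff_restrictD_eval n P' g m,
    isPseudoCoherent_restrictD_comp, isPseudoCoherent_restrictD_comp,
    isPseudoCoherent_restrictD_congr hσ, ← isPseudoCoherent_restrictD_comp,
    ← isPseudoCoherent_restrictD_equiv σ]

/-- Stacks 15.81.2: relative pseudo-coherence does not depend on the presentation. -/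
theorem via_iff {n k : ℕ} (α : MvPolynomial (Fin n) R →ₐ[R] A) (hα : Function.Surjective α)
    (β : MvPolynomial (Fin k) R →ₐ[R] A) (hβ : Function.Surjective β) (K : Dual.D A) (m : ℤ) :
    IsRelPseudoCoherentVia α m K ↔ IsRelPseudoCoherentVia β m K := by
  choose f hf using fun j : Fin k => hα (β (MvPolynomial.X j))
  choose g hg using fun i : Fin n => hβ (α (MvPolynomial.X i))
  exact via_iff_of_le α β f hf g hg K m

end Groth.Agent.Lib.Helper15.PseudoCohRel

namespace Groth.Agent.Lib.Helper15.PseudoCohRel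

open DRing DerCA Groth.Agent.Lib.Helper15.PseudoCoh Groth.Agent.Lib.Helper15.PseudoCohRes
  Groth.Agent.Lib.Helper15.PseudoCohMvPoly
open CategoryTheory.Pretriangulated

variable {R A : Type u} [CommRing R] [CommRing A] [Algebra R A]

lemma isRel_iff_via {n : ℕ} (α : MvPolynomial (Fin n) R →ₐ[R] A) (hα : Function.Surjective α)
    (m : ℤ) (K : Dual.D A) : IsRelPseudoCoherent R A m K ↔ IsRelPseudoCoherentVia α m K := by
  constructor
  · rintro ⟨n', α', hα', h⟩
    exact (via_iff α' hα' α hα K m).1 h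
  · intro h
    exact ⟨n, α, hα, h⟩

lemma isRelAll_iff_via {n : ℕ} (α : MvPolynomial (Fin n) R →ₐ[R] A) (hα : Function.Surjective α)
    (K : Dual.D A) : IsRelPseudoCoherentAll R A K ↔ ∀ m : ℤ, IsRelPseudoCoherentVia α m K :=
  forall_congr' fun m => isRel_iff_via α hα m K

lemma exists_presentation (R A : Type u) [CommRing R] [CommRing A] [Algebra R A]
    [Algebra.FiniteType R A] :
    ∃ (n : ℕ) (α : MvPolynomial (Fin n) R →ₐ[R] A), Function.Surjective α :=
  Algebra.FiniteType.iff_quotient_mvPolynomial''.1 inferInstance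

/-- two-out-of-three for relative pseudo-coherence with respect to a fixed presentation -/
lemma via_obj₃ {n : ℕ} (α : MvPolynomial (Fin n) R →ₐ[R] A) (m : ℤ) (T : Triangle (Dual.D A))
    (hT : T ∈ distTriang _) (h₁ : IsRelPseudoCoherentVia α (m + 1) T.obj₁)
    (h₂ : IsRelPseudoCoherentVia α m T.obj₂) : IsRelPseudoCoherentVia α m T.obj₃ :=
  PseudoCoh.obj₃ m _ ((restrictD (α : MvPolynomial (Fin n) R →+* A)).map_distinguished _ hT) h₁ h₂

lemma via_obj₂ {n : ℕ} (α : MvPolynomial (Fin n) R →ₐ[R] A) (m : ℤ) (T : Triangle (Dual.D A))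
    (hT : T ∈ distTriang _) (h₁ : IsRelPseudoCoherentVia α m T.obj₁)
    (h₃ : IsRelPseudoCoherentVia α m T.obj₃) : IsRelPseudoCoherentVia α m T.obj₂ :=
  PseudoCoh.obj₂ m _ ((restrictD (α : MvPolynomial (Fin n) R →+* A)).map_distinguished _ hT) h₁ h₃

lemma via_obj₁ {n : ℕ} (α : MvPolynomial (Fin n) R →ₐ[R] A) (m : ℤ) (T : Triangle (Dual.D A))
    (hT : T ∈ distTriang _) (h₂ : IsRelPseudoCoherentVia α (m + 1) T.obj₂)
    (h₃ : IsRelPseudoCoherentVia α m T.obj₃) : IsRelPseudoCoherentVia α (m + 1) T.obj₁ :=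
  PseudoCoh.obj₁ m _ ((restrictD (α : MvPolynomial (Fin n) R →+* A)).map_distinguished _ hT) h₂ h₃

end Groth.Agent.Lib.Helper15.PseudoCohRel

namespace Groth.Agent.Lib.Helper15.PseudoCohRel

open DRing DerCA Groth.Agent.Lib.Helper15.PseudoCoh Groth.Agent.Lib.Helper15.PseudoCohRes
  Groth.Agent.Lib.Helper15.PseudoCohMvPoly
open CategoryTheory.Pretriangulated

variable {R A : Type u} [CommRing R] [CommRing A] [Algebra R A]

lemma via_of_biprod {n : ℕ} (α : MvPolynomial (Fin n) R →ₐ[R] A) (m : ℤ) (K L : Dual.D A)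
    [HasBinaryBiproduct K L] (h : IsRelPseudoCoherentVia α m (K ⊞ L)) :
    IsRelPseudoCoherentVia α m K ∧ IsRelPseudoCoherentVia α m L := by
  have hT := (restrictD (α : MvPolynomial (Fin n) R →+* A)).map_distinguished _
    (binaryBiproductTriangle_distinguished K L)
  refine PseudoCoh.of_split m _ hT ?_ h
  change (restrictD (α : MvPolynomial (Fin n) R →+* A)).map (0 : L ⟶ K⟦(1 : ℤ)⟧) ≫ _ = 0
  rw [Functor.map_zero, zero_comp]

end Groth.Agent.Lib.Helper15.PseudoCohRel
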