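import Groth.Agent.Lib.Helper15.PseudoCohFinite

/-!
# Dévissage in the module variable for `N ⊗ F` (helper15)

For a bounded above complex `F` of flat `A`-modules, the functor `tF F : N ↦ N ⊗_A F` (termwise),
its short exact sequences, and the dévissage statement `devissage`: if `F`, restricted along
`μ : Q → A`, is `m`-pseudo-coherent over `Q`, then so is `N ⊗_A F` for every pseudo-coherent
`A`-module `N`.
-/

set_option autoImplicit false
universe u

open CategoryTheory CategoryTheory.Limits CategoryTheory.Pretriangulated DerivedCategory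
  MonoidalCategory

attribute [local instance] HasDerivedCategory.standard

namespace Groth.Agent.Lib.Helper15.PseudoCohTensor

open DRing Groth.Agent.Lib.Helper84 Groth.Agent.Lib.Helper15.MQI
  Groth.Agent.Lib.Helper15.PseudoCoh Groth.Agent.Lib.Helper15.PseudoCohRes Groth.Agent.Lib.Helper43

variable {A : Type u} [CommRing A]

/-- `N ↦ N ⊗ F` (termwise tensor product with a fixed complex), as a functor in `N` -/
noncomputable def tF (F : Cx A) : ModuleCat.{u} A ⥤ Cx A where
  obj N := ((tensorLeft N).mapHomologicalComplex (ComplexShape.up ℤ)).obj F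
  map {N N'} f :=
    { f := fun i => f ▷ F.X i
      comm' := fun i j _ => (whisker_exchange f (F.d i j)).symm }
  map_id N := by
    apply HomologicalComplex.hom_ext
    intro i
    exact id_whiskerRight N (F.X i)
  map_comp f g := by
    apply HomologicalComplex.hom_ext
    intro i
    exact comp_whiskerRight f g (F.X i)

@[simp] lemma tF_obj_X (F : Cx A) (N : ModuleCat.{u} A) (i : ℤ) :
    ((tF F).obj N).X i = N ⊗ F.X i := rfl

@[simp] lemma tF_map_f (F : Cx A) {N N' : ModuleCat.{u} A} (f : N ⟶ N') (i : ℤ) :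
    ((tF F).map f).f i = f ▷ F.X i := rfl

/-- `A ⊗ F ≅ F` -/
noncomputable def tFUnit (F : Cx A) : (tF F).obj (ModuleCat.of A A) ≅ F :=
  HomologicalComplex.Hom.isoOfComponents (fun i => λ_ (F.X i)) (fun i j _ => by
    exact (leftUnitor_naturality (F.d i j)).symm)

lemma isZero_tF_X (F : Cx A) (N : ModuleCat.{u} A) (i : ℤ) (h : IsZero (F.X i)) :
    IsZero (((tF F).obj N).X i) :=
  (tensorLeft N).map_isZero h

lemma isZero_tF_X' (F : Cx A) (N : ModuleCat.{u} A) (i : ℤ) (h : IsZero N) :
    IsZero (((tF F).obj N).X i) :=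
  (tensorRight (F.X i)).map_isZero h

/-- short exact sequences of modules give short exact sequences of complexes after tensoring with
a termwise flat complex -/
lemma shortExact_tF (F : Cx A) (hF : TermwiseFlat F) (S : ShortComplex (ModuleCat.{u} A))
    (hS : S.ShortExact) :
    (ShortComplex.mk ((tF F).map S.f) ((tF F).map S.g)
      (by rw [← Functor.map_comp, S.zero]; apply HomologicalComplex.hom_ext; intro i; exact MonoidalPreadditive.zero_whiskerRight)).ShortExact := by
  apply HomologicalComplex.shortExact_of_degreewise_shortExact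
  intro i
  haveI : Module.Flat A (F.X i) := hF i
  have hex : Function.Exact S.f.hom S.g.hom :=
    (ShortComplex.ShortExact.moduleCat_exact_iff_function_exact S).1 hS.exact
  have hinj : Function.Injective S.f.hom := (ModuleCat.mono_iff_injective _).1 hS.mono_f
  have hsurj : Function.Surjective S.g.hom := (ModuleCat.epi_iff_surjective _).1 hS.epi_g
  refine ModuleCat.shortComplex_shortExact _ ?_ ?_ ?_
  · exact rTensor_exact (F.X i) hex hsurj
  · exact Module.Flat.rTensor_preserves_injective_linearMap S.f.hom hinj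
  · exact LinearMap.rTensor_surjective (F.X i) hsurj

section Dev

variable {Q₀ : Type u} [CommRing Q₀] (μ : Q₀ →+* A) (F : Cx A)

/-- the property used in the dévissage -/
def Φ (j : ℤ) (N : ModuleCat.{u} A) : Prop :=
  IsPseudoCoherent Q₀ j ((restrictD μ).obj (toD ((tF F).obj N)))

variable {μ F}

lemma Φ_of_iso {j : ℤ} {N N' : ModuleCat.{u} A} (e : N ≅ N') (h : Φ μ F j N) : Φ μ F j N' :=
  of_iso ((restrictD μ).mapIso (Q.mapIso ((tF F).mapIso e))) h

lemma Φ_of_le {j j' : ℤ} (hj : j ≤ j') {N : ModuleCat.{u} A} (h : Φ μ F j N) : Φ μ F j' N :=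
  of_le hj h

/-- if `N ⊗ F` vanishes in degrees `≥ j`, it is trivially `j`-pseudo-coherent -/
lemma Φ_of_vanishing {j : ℤ} {N : ModuleCat.{u} A}
    (h : ∀ i : ℤ, j - 1 < i → IsZero (((tF F).obj N).X i)) : Φ μ F j N := by
  haveI : ((tF F).obj N).IsStrictlyLE (j - 1) :=
    (CochainComplex.isStrictlyLE_iff _ _).2 fun i hi => h i hi
  haveI : (toD ((tF F).obj N)).IsLE (j - 1) := inferInstance
  haveI : ((restrictD μ).obj (toD ((tF F).obj N))).IsLE (j - 1) :=
    (isLE_restrictD_iff μ _ (j - 1)).2 inferInstance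
  exact of_isLE j _

lemma Φ_of_isZero {j : ℤ} {N : ModuleCat.{u} A} (h : IsZero N) : Φ μ F j N :=
  Φ_of_vanishing fun i _ => isZero_tF_X' F N i h

variable (hF : TermwiseFlat F)
include hF

lemma Φ_X₃ {j : ℤ} (S : ShortComplex (ModuleCat.{u} A)) (hS : S.ShortExact)
    (h₁ : Φ μ F (j + 1) S.X₁) (h₂ : Φ μ F j S.X₂) : Φ μ F j S.X₃ :=
  PseudoCoh.obj₃ j _ ((restrictD μ).map_distinguished _
    (triangleOfSES_distinguished (shortExact_tF F hF S hS))) h₁ h₂

lemma Φ_X₂ {j : ℤ} (S : ShortComplex (ModuleCat.{u} A)) (hS : S.ShortExact)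
    (h₁ : Φ μ F j S.X₁) (h₃ : Φ μ F j S.X₃) : Φ μ F j S.X₂ :=
  PseudoCoh.obj₂ j _ ((restrictD μ).map_distinguished _
    (triangleOfSES_distinguished (shortExact_tF F hF S hS))) h₁ h₃

lemma Φ_prod {j : ℤ} (N₁ N₂ : Type u) [AddCommGroup N₁] [Module A N₁] [AddCommGroup N₂]
    [Module A N₂] (h₁ : Φ μ F j (ModuleCat.of A N₁)) (h₂ : Φ μ F j (ModuleCat.of A N₂)) :
    Φ μ F j (ModuleCat.of A (N₁ × N₂)) := by
  let S : ShortComplex (ModuleCat.{u} A) :=
    ModuleCat.shortComplexOfCompEqZero (LinearMap.inl A N₁ N₂) (LinearMap.snd A N₁ N₂)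
      (by ext x; simp)
  have hS : S.ShortExact :=
    ModuleCat.shortComplex_shortExact S Function.Exact.inl_snd LinearMap.inl_injective
      LinearMap.snd_surjective
  exact Φ_X₂ hF S hS h₁ h₂

lemma Φ_pi {j : ℤ} (h : Φ μ F j (ModuleCat.of A A)) (r : ℕ) :
    Φ μ F j (ModuleCat.of A (Fin r → A)) := by
  induction r with
  | zero =>
    apply Φ_of_isZero
    have : Subsingleton (ModuleCat.of A (Fin 0 → A)) :=
      inferInstanceAs (Subsingleton (Fin 0 → A))
    exact ModuleCat.isZero_of_subsingleton _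
  | succ r ih =>
    have h' := Φ_prod hF A (Fin r → A) h ih
    exact Φ_of_iso (Fin.consLinearEquiv A (fun _ : Fin (r + 1) => A)).toModuleIso h'

/-- the main dévissage -/
theorem devissage_aux (b m : ℤ) (hb : VanishesAbove F b) (h : Φ μ F m (ModuleCat.of A A)) :
    ∀ (t : ℕ) (N : ModuleCat.{u} A), (∀ j : ℤ, PCModule.IsPC j N) →
      ∀ j : ℤ, m ≤ j → b + 1 ≤ j + t → Φ μ F j N := by
  intro t
  induction t with
  | zero =>
    intro N _ j _ hj
    apply Φ_of_vanishing
    intro i hi
    exact isZero_tF_X F N i (hb i (by omega))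
  | succ t ih =>
    intro N hN j hmj hj
    haveI : Module.Finite A N := PCModule.finite_of_isPC (m := 0) le_rfl N (hN 0)
    obtain ⟨r, π, hπ⟩ := Module.Finite.exists_fin' A N
    have hS := LinearMap.shortExact_shortComplexKer hπ
    have hfree : ∀ j' : ℤ, PCModule.IsPC j' (ModuleCat.of A (Fin r → A)) := fun j' =>
      PCModule.isPC_finiteFree j' _ ⟨inferInstanceAs (Module.Finite A (Fin r → A)),
        inferInstanceAs (Module.Free A (Fin r → A))⟩
    have hker : ∀ j' : ℤ, PCModule.IsPC j' (ModuleCat.of A (LinearMap.ker π)) := fun j' => by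
      have := PCModule.isPC_ker (m := j' - 1) π hπ (by simpa using hfree j') (hN (j' - 1))
      simpa using this
    have h1 : Φ μ F (j + 1) (ModuleCat.of A (LinearMap.ker π)) :=
      ih _ hker (j + 1) (by omega) (by push_cast at hj ⊢; omega)
    have h2 : Φ μ F j (ModuleCat.of A (Fin r → A)) := Φ_pi hF (Φ_of_le hmj h) r
    exact Φ_X₃ hF _ hS h1 h2

/-- **Dévissage**: if `F` (bounded above, termwise flat) restricted along `μ` is
`m`-pseudo-coherent over `Q`, so is `N ⊗ F` for every pseudo-coherent `A`-module `N`. -/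
theorem devissage (b m : ℤ) (hb : VanishesAbove F b)
    (h : IsPseudoCoherent Q₀ m ((restrictD μ).obj (toD F)))
    (N : ModuleCat.{u} A) (hN : ∀ j : ℤ, PCModule.IsPC j N) :
    IsPseudoCoherent Q₀ m ((restrictD μ).obj (toD ((tF F).obj N))) := by
  have h0 : Φ μ F m (ModuleCat.of A A) :=
    of_iso ((restrictD μ).mapIso (Q.mapIso (tFUnit F).symm)) h
  exact devissage_aux hF b m hb h0 (b + 1 - m).toNat N hN m le_rfl (by omega)

end Dev

end Groth.Agent.Lib.Helper15.PseudoCohTensor
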