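import Groth.Prelude.Def_DerSch
import Groth.Agent.Lib.Helper78.ModStalk
import Groth.Agent.Lib.Helper64.CohPush

/-!
# Stalks of a pushforward along an (inducing, e.g. closed) immersion, as modules (helper15)

For `i : Z ⟶ X` with `i.base` inducing and `z : Z`:
`pushStalkIso i hi z : pushforward i ⋙ stalkFunctor X (i z) ≅
  stalkFunctor Z z ⋙ restrictScalars (i.stalkMap z)`.
-/

set_option autoImplicit false
universe u
open CategoryTheory CategoryTheory.Limits AlgebraicGeometry Opposite TopologicalSpace

namespace Groth.Agent.Lib.Helper15.PushStalkMod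

open Groth.Agent.Lib.Helper78.ModStalk

variable {Z X : Scheme.{u}} (i : Z ⟶ X)

/-- the comparison map `(i_* M)_{i z} → M_z` -/
noncomputable def sp (M : Z.Modules) (z : Z) :
    ((Scheme.Modules.pushforward i).obj M).presheaf.stalk (i z) →+ M.presheaf.stalk z :=
  (TopCat.Presheaf.stalkPushforward Ab i.base M.presheaf z).hom

theorem sp_germ (M : Z.Modules) (z : Z) (U : X.Opens) (hz : i z ∈ U)
    (s : Γ((Scheme.Modules.pushforward i).obj M, U)) :
    sp i M z (((Scheme.Modules.pushforward i).obj M).presheaf.germ U (i z) hz s) =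
      M.presheaf.germ (i ⁻¹ᵁ U) z hz (show Γ(M, i ⁻¹ᵁ U) from s) :=
  congrArg (fun f => f.hom s)
    (TopCat.Presheaf.stalkPushforward_germ Ab i.base M.presheaf U z hz)

theorem sp_smul (M : Z.Modules) (z : Z) (r : X.presheaf.stalk (i z))
    (m : ((Scheme.Modules.pushforward i).obj M).presheaf.stalk (i z)) :
    sp i M z (r • m) = (i.stalkMap z).hom r • sp i M z m := by
  obtain ⟨W, hW, r', m', rfl, rfl⟩ := exists_germ_eq₂ _ (i z) r m
  rw [← germ_smul, sp_germ, sp_germ, Groth.Agent.Lib.Helper64.CohPush.pushforward_smul]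
  erw [Scheme.Hom.germ_stalkMap_apply]
  exact germ_smul M z (i ⁻¹ᵁ W) hW _ _

/-- the comparison map as a linear map over `O_{X, i z}` -/
noncomputable def spL (M : Z.Modules) (z : Z) :
    ((DerSch.stalkFunctor X (i z)).obj ((Scheme.Modules.pushforward i).obj M)) →ₗ[X.presheaf.stalk (i z)]
      ((ModuleCat.restrictScalars (i.stalkMap z).hom).obj ((DerSch.stalkFunctor Z z).obj M)) where
  toFun := sp i M z
  map_add' := map_add _
  map_smul' := fun r m => sp_smul i M z r m

/-- the comparison map as a morphism of modules over `O_{X, i z}` -/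
noncomputable def spLin (M : Z.Modules) (z : Z) :
    (DerSch.stalkFunctor X (i z)).obj ((Scheme.Modules.pushforward i).obj M) ⟶
      (ModuleCat.restrictScalars (i.stalkMap z).hom).obj ((DerSch.stalkFunctor Z z).obj M) :=
  ConcreteCategory.ofHom (C := ModuleCat (X.presheaf.stalk (i z))) (spL i M z)

theorem spLin_apply (M : Z.Modules) (z : Z)
    (m : ((Scheme.Modules.pushforward i).obj M).presheaf.stalk (i z)) :
    (spLin i M z).hom m = sp i M z m := rfl

theorem spLin_naturality {M N : Z.Modules} (φ : M ⟶ N) (z : Z) :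
    (DerSch.stalkFunctor X (i z)).map ((Scheme.Modules.pushforward i).map φ) ≫ spLin i N z =
      spLin i M z ≫ (ModuleCat.restrictScalars (i.stalkMap z).hom).map
        ((DerSch.stalkFunctor Z z).map φ) := by
  ext m
  obtain ⟨U, hU, s, rfl⟩ :=
    ((Scheme.Modules.pushforward i).obj M).presheaf.exists_germ_eq (x := i z) m
  change sp i N z ((DerSch.stalkFunctor X (i z)).map ((Scheme.Modules.pushforward i).map φ)
    (((Scheme.Modules.pushforward i).obj M).presheaf.germ U (i z) hU s)) =
    (DerSch.stalkFunctor Z z).map φ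
      (sp i M z (((Scheme.Modules.pushforward i).obj M).presheaf.germ U (i z) hU s))
  rw [DerSch.stalkFunctor_map_germ, sp_germ, sp_germ, DerSch.stalkFunctor_map_germ]
  rfl

theorem bijective_sp (hi : Topology.IsInducing i) (M : Z.Modules) (z : Z) :
    Function.Bijective (sp i M z) := by
  have hiso := TopCat.Presheaf.stalkPushforward.stalkPushforward_iso_of_isInducing (C := Ab)
    (f := i.base) hi M.presheaf z
  exact (ConcreteCategory.isIso_iff_bijective _).mp hiso

/-- **Stalks of a pushforward along an immersion.** -/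
noncomputable def pushStalkIso (hi : Topology.IsInducing i) (z : Z) :
    Scheme.Modules.pushforward i ⋙ DerSch.stalkFunctor X (i z) ≅
      DerSch.stalkFunctor Z z ⋙ ModuleCat.restrictScalars (i.stalkMap z).hom :=
  NatIso.ofComponents
    (fun M => (LinearEquiv.ofBijective (spLin i M z).hom (bijective_sp i hi M z)).toModuleIso)
    (fun φ => spLin_naturality i φ z)

end Groth.Agent.Lib.Helper15.PushStalkMod
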