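import Groth.Agent.S1349
import Groth.Agent.Lib.Helper73.DimFormula.CMFlat.CMLocusFP
import Groth.Agent.Lib.Helper73.DimFormula.CMFlat.CMOpenFP
import Groth.Agent.Lib.Helper73.DimFormula.Hypersurface

/-!
# Quasi-finite flat multisections of fppf covers (helper15)

* `exists_isCMAt_closed_in_fiber`: a flat morphism locally of finite presentation is
  Cohen–Macaulay at some point closed in any given nonempty fibre.
* `exists_affine_qf_flat_over`: for `f` flat lfp and `y` in its range there is an affine scheme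
  `Z` with `g : Z ⟶ X` such that `g ≫ f` is flat, lfp, locally quasi-finite, with `y` in its range.
-/

set_option autoImplicit false
universe u
open CategoryTheory CategoryTheory.Limits AlgebraicGeometry TopologicalSpace

namespace Groth.Agent.Lib.Helper15.QFCover

open Groth.Agent.Lib.Helper73

variable {X Y : Scheme.{u}} (f : X ⟶ Y)

/-- a point with no proper specialization in its fibre is closed in the fibre -/
theorem isClosed_singleton_asFiber (x : X)
    (h : ∀ t : X, x ⤳ t → f t = f x → t = x) :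
    IsClosed ({f.asFiber x} : Set ↑(f.fiber (f x))) := by
  rw [← closure_subset_iff_isClosed]
  intro q hq
  have hsp : f.asFiber x ⤳ q := specializes_iff_mem_closure.mpr hq
  have h1 : f.fiberι (f x) (f.asFiber x) ⤳ f.fiberι (f x) q := hsp.map (f.fiberι (f x)).continuous
  rw [f.fiberι_asFiber x] at h1
  have h2 : f (f.fiberι (f x) q) = f x := by
    have : f.fiberι (f x) q ∈ Set.range (f.fiberι (f x)) := ⟨q, rfl⟩
    rw [f.range_fiberι] at this
    exact this
  have h3 := h _ h1 h2
  rw [Set.mem_singleton_iff]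
  apply (f.fiberι (f x)).isEmbedding.injective
  rw [h3, f.fiberι_asFiber x]

theorem exists_isCMAt_closed_in_fiber [Flat f] [LocallyOfFinitePresentation f] (x₀ : X) :
    ∃ x : X, f x = f x₀ ∧ MoreMor.IsCMAt f x ∧
      IsClosed ({f.asFiber x} : Set ↑(f.fiber (f x))) := by
  obtain ⟨ξ, -, hξf, hξmax⟩ := exists_maximal_fiber_specializes f x₀
  have hξCM : MoreMor.IsCMAt f ξ := isCMAt_of_maximal_fiber f ξ (Flat.stalkMap f ξ) hξmax
  have hW : IsOpen {x : X | MoreMor.IsCMAt f x} := isOpen_setOf_isCMAt_fp f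
  let y := f x₀
  let O : Set ↑(f.fiber y) := (f.fiberι y) ⁻¹' {x : X | MoreMor.IsCMAt f x}
  have hO : IsOpen O := hW.preimage (f.fiberι y).continuous
  have hne : O.Nonempty := by
    have : ξ ∈ Set.range (f.fiberι y) := by
      rw [f.range_fiberι]
      exact hξf
    obtain ⟨p, hp⟩ := this
    exact ⟨p, by change MoreMor.IsCMAt f (f.fiberι y p); rw [hp]; exact hξCM⟩
  obtain ⟨p, hpO, hpcl⟩ := nonempty_inter_closedPoints hne hO.isLocallyClosed
  have hpcl' : IsClosed ({p} : Set ↑(f.fiber y)) := hpcl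
  have hfx : f (f.fiberι y p) = y := by
    have : f.fiberι y p ∈ Set.range (f.fiberι y) := ⟨p, rfl⟩
    rw [f.range_fiberι] at this
    exact this
  refine ⟨f.fiberι y p, hfx, hpO, ?_⟩
  apply isClosed_singleton_asFiber
  intro t ht hft
  have htr : t ∈ Set.range (f.fiberι y) := by
    rw [f.range_fiberι]
    exact hft.trans hfx
  obtain ⟨q, rfl⟩ := htr
  have hsp : p ⤳ q := (f.fiberι y).isEmbedding.isInducing.specializes_iff.mp ht
  have : q ∈ ({p} : Set ↑(f.fiber y)) := hsp.mem_closed hpcl' rfl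
  rw [Set.mem_singleton_iff.mp this]

theorem exists_affine_qf_flat_over [Flat f] [LocallyOfFinitePresentation f] (x₀ : X) :
    ∃ (Z : Scheme.{u}) (g : Z ⟶ X), IsAffine Z ∧ Flat (g ≫ f) ∧
      LocallyOfFinitePresentation (g ≫ f) ∧ LocallyQuasiFinite (g ≫ f) ∧
      f x₀ ∈ Set.range (g ≫ f) := by
  obtain ⟨x, hfx, hCM, hcl⟩ := exists_isCMAt_closed_in_fiber f x₀
  obtain ⟨V, Z, i, -, ⟨z, hz⟩, hfl, hfp, hqf, -⟩ := Groth.Agent.S1349.result f x hCM hcl
  obtain ⟨U, hU, hzU, -⟩ :=
    exists_isAffineOpen_mem_and_subset (X := Z) (x := z) (U := ⊤) trivial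
  haveI := hfl
  haveI := hfp
  haveI := hqf
  refine ⟨U, U.ι ≫ i ≫ V.ι, hU, ?_, ?_, ?_, ?_⟩
  · rw [Category.assoc, Category.assoc]
    infer_instance
  · rw [Category.assoc, Category.assoc]
    infer_instance
  · rw [Category.assoc, Category.assoc]
    infer_instance
  · refine ⟨⟨z, hzU⟩, ?_⟩
    rw [← hfx, ← hz]
    simp only [Scheme.Hom.comp_apply]
    rfl

/-- an fppf morphism onto a quasi-compact scheme is refined by an affine scheme which is flat,
lfp, locally quasi-finite and surjective over the base -/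
theorem exists_affine_qf_cover [Flat f] [LocallyOfFinitePresentation f] [Surjective f]
    [CompactSpace Y] :
    ∃ (T : Scheme.{u}) (h : T ⟶ X), IsAffine T ∧ Flat (h ≫ f) ∧
      LocallyOfFinitePresentation (h ≫ f) ∧ LocallyQuasiFinite (h ≫ f) ∧ Surjective (h ≫ f) := by
  have key : ∀ y : Y, ∃ (Z : Scheme.{u}) (g : Z ⟶ X), IsAffine Z ∧ Flat (g ≫ f) ∧
      LocallyOfFinitePresentation (g ≫ f) ∧ LocallyQuasiFinite (g ≫ f) ∧
      y ∈ Set.range (g ≫ f) := by
    intro y
    obtain ⟨x₀, rfl⟩ := f.surjective y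
    exact exists_affine_qf_flat_over f x₀
  choose Z g hZ hfl hfp hqf hy using key
  have hopen : ∀ y : Y, IsOpen (Set.range (g y ≫ f)) := fun y => by
    haveI := hfl y
    haveI := hfp y
    exact (g y ≫ f).isOpenMap.isOpen_range
  obtain ⟨t, ht⟩ := isCompact_univ.elim_finite_subcover (fun y : Y => Set.range (g y ≫ f)) hopen
    (fun y _ => Set.mem_iUnion.2 ⟨y, hy y⟩)
  let T : Scheme.{u} := ∐ fun y : t => Z y.1
  let h : T ⟶ X := Sigma.desc (fun y : t => g y.1)
  have hcomp : h ≫ f = Sigma.desc (fun y : t => g y.1 ≫ f) := by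
    apply Sigma.hom_ext
    intro y
    rw [Sigma.ι_desc, ← Category.assoc, Sigma.ι_desc]
  haveI : ∀ y : t, IsAffine (Z y.1) := fun y => hZ y.1
  refine ⟨T, h, inferInstance, ?_, ?_, ?_, ?_⟩
  · rw [hcomp]
    exact IsZariskiLocalAtSource.sigmaDesc (fun y => hfl y.1)
  · rw [hcomp]
    exact IsZariskiLocalAtSource.sigmaDesc (fun y => hfp y.1)
  · rw [hcomp]
    exact IsZariskiLocalAtSource.sigmaDesc (fun y => hqf y.1)
  · rw [hcomp]
    apply Surjective.sigmaDesc_of_union_range_eq_univ
    rw [Set.eq_univ_iff_forall]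
    intro y
    have := ht (Set.mem_univ y)
    simp only [Set.mem_iUnion] at this
    obtain ⟨y', hy't, hyy'⟩ := this
    exact Set.mem_iUnion.2 ⟨⟨y', hy't⟩, hyy'⟩

end Groth.Agent.Lib.Helper15.QFCover
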