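import Groth.Agent.Lib.Helper15.KProjRes
import Mathlib.CategoryTheory.Functor.Derived.LeftDerived
import Mathlib.CategoryTheory.Functor.KanExtension.Basic

/-!
# The left adjoint of `Qh : K(R) ⥤ D(R)` and total left derived functors

* `QhAdj.ρ : D(R) ⥤ K(R)` (K-projective resolution functor) with `QhAdj.adj : ρ ⊣ Qh`,
  unit an isomorphism, counit an isomorphism at K-projective complexes.
* `isRightKanExtension_of_adjunction`: if `ρ ⊣ L` then `ρ ⋙ F` is the right Kan extension of
  `F` along `L`.
* Consequently EVERY functor `F : K(R) ⥤ H` has a total left derived functor with respect to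
  quasi-isomorphisms (`hasLeftDerivedFunctor`), and the counit
  `(F.totalLeftDerivedCounit Qh W).app ((quotient _ _).obj P)` is an isomorphism for every
  K-projective complex `P` (`isIso_totalLeftDerivedCounit_app`).
-/

set_option autoImplicit false
universe u

namespace Groth.Agent.Lib.Helper15.QhAdj

open CategoryTheory CategoryTheory.Limits DerivedCategory
open Groth.Agent.Lib.Helper25.TensorCx

attribute [local instance] HasDerivedCategory.standard

section KanAdj

variable {C D H : Type*} [Category C] [Category D] [Category H]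
  {L : C ⥤ D} {ρ : D ⥤ C} (adj : ρ ⊣ L) (F : C ⥤ H)

/-- the counit of the Kan extension `ρ ⋙ F` -/
def kanCounit : L ⋙ ρ ⋙ F ⟶ F :=
  (Functor.associator _ _ _).inv ≫ Functor.whiskerRight adj.counit F ≫ F.leftUnitor.hom

@[simp]
theorem kanCounit_app (X : C) : (kanCounit adj F).app X = F.map (adj.counit.app X) := by
  simp [kanCounit]

/-- the lift into `ρ ⋙ F` -/
def kanLift (G : D ⥤ H) (γ : L ⋙ G ⟶ F) : G ⟶ ρ ⋙ F where
  app Y := G.map (adj.unit.app Y) ≫ γ.app (ρ.obj Y)
  naturality Y Y' g := by
    have h1 := γ.naturality (ρ.map g)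
    have h2 := adj.unit.naturality g
    dsimp at h1 h2 ⊢
    rw [← G.map_comp_assoc, h2, G.map_comp_assoc, h1, Category.assoc]

theorem kanLift_fac (G : D ⥤ H) (γ : L ⋙ G ⟶ F) :
    Functor.whiskerLeft L (kanLift adj F G γ) ≫ kanCounit adj F = γ := by
  ext X
  have h1 := γ.naturality (adj.counit.app X)
  dsimp at h1
  simp only [NatTrans.comp_app, Functor.whiskerLeft_app, kanCounit_app, kanLift, Category.assoc]
  rw [← h1, ← G.map_comp_assoc, adj.right_triangle_components]
  simp

theorem kanLift_uniq (G : D ⥤ H) (γ : L ⋙ G ⟶ F) (μ : G ⟶ ρ ⋙ F)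
    (hμ : Functor.whiskerLeft L μ ≫ kanCounit adj F = γ) : μ = kanLift adj F G γ := by
  ext Y
  have hm := congrArg (fun τ => τ.app (ρ.obj Y)) hμ
  simp only [NatTrans.comp_app, Functor.whiskerLeft_app, kanCounit_app] at hm
  have h3 := μ.naturality (adj.unit.app Y)
  dsimp at h3
  dsimp [kanLift]
  rw [← hm, ← Category.assoc, h3, Category.assoc, ← F.map_comp, adj.left_triangle_components]
  simp

/-- If `ρ ⊣ L`, the right Kan extension of `F` along `L` is `ρ ⋙ F`. -/
theorem isRightKanExtension_of_adjunction :
    (ρ ⋙ F).IsRightKanExtension (kanCounit adj F) := by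
  refine ⟨⟨IsTerminal.ofUniqueHom (fun G => CostructuredArrow.homMk
    (kanLift adj F G.left G.hom) (kanLift_fac adj F G.left G.hom)) ?_⟩⟩
  intro G m
  apply CostructuredArrow.hom_ext
  exact kanLift_uniq adj F G.left G.hom m.left (CostructuredArrow.w m)

end KanAdj

variable {R : Type u} [CommRing R]

/-- the homotopy category -/
abbrev KA (R : Type u) [CommRing R] := HomotopyCategory (ModuleCat.{u} R) (ComplexShape.up ℤ)
/-- the derived category -/
abbrev DA (R : Type u) [CommRing R] := DerivedCategory (ModuleCat.{u} R)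
/-- the quotient functor -/
abbrev quot (R : Type u) [CommRing R] : Cx R ⥤ KA R := HomotopyCategory.quotient _ _

theorem exists_kproj (X : DA R) :
    ∃ (P : Cx R), CochainComplex.IsKProjective P ∧ Nonempty (Qh.obj ((quot R).obj P) ≅ X) := by
  obtain ⟨P, π, hP, hπ, -⟩ := KProjRes.exists_kprojective_resolution (Q.objPreimage X)
  have : IsIso (Q.map π) := by rw [isIso_Q_map_iff_quasiIso]; exact hπ
  exact ⟨P, hP, ⟨(quotientCompQhIso _).app P ≪≫ asIso (Q.map π) ≪≫ Q.objObjPreimageIso X⟩⟩

/-- a chosen K-projective resolution of an object of the derived category -/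
noncomputable def resObj (X : DA R) : Cx R := (exists_kproj X).choose

instance (X : DA R) : CochainComplex.IsKProjective (resObj X) := (exists_kproj X).choose_spec.1

/-- the comparison isomorphism -/
noncomputable def resIso (X : DA R) : Qh.obj ((quot R).obj (resObj X)) ≅ X :=
  (exists_kproj X).choose_spec.2.some

/-- the hom-set bijection defining the adjunction -/
noncomputable def homEquiv (X : DA R) (Y : KA R) :
    ((quot R).obj (resObj X) ⟶ Y) ≃ (X ⟶ Qh.obj Y) :=
  (Equiv.ofBijective _ (CochainComplex.IsKProjective.Qh_map_bijective (resObj X) Y)).trans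
    ((resIso X).homCongr (Iso.refl _))

theorem homEquiv_apply (X : DA R) (Y : KA R) (h : (quot R).obj (resObj X) ⟶ Y) :
    homEquiv X Y h = (resIso X).inv ≫ Qh.map h := by
  simp [homEquiv]

/-- The K-projective resolution functor `D(R) ⥤ K(R)`, left adjoint to `Qh`. -/
noncomputable def ρ : DA R ⥤ KA R :=
  Adjunction.leftAdjointOfEquiv (G := Qh) (F_obj := fun X => (quot R).obj (resObj X)) homEquiv
    (by intro X Y Y' g h; simp [homEquiv_apply])

/-- `ρ ⊣ Qh`. -/
noncomputable def adj : (ρ : DA R ⥤ KA R) ⊣ Qh :=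
  Adjunction.adjunctionOfEquivLeft _ _

theorem ρ_obj (X : DA R) : (ρ : DA R ⥤ KA R).obj X = (quot R).obj (resObj X) := rfl

theorem adj_unit_app (X : DA R) : (adj (R := R)).unit.app X = (resIso X).inv := by
  have : (adj (R := R)).unit.app X = homEquiv X _ (𝟙 _) := by
    simp [adj]
  rw [this, homEquiv_apply]
  simp

instance (X : DA R) : IsIso ((adj (R := R)).unit.app X) := by
  rw [adj_unit_app]; infer_instance

instance : IsIso (adj (R := R)).unit := NatIso.isIso_of_isIso_app _

/-- The counit of `ρ ⊣ Qh` is an isomorphism at K-projective complexes. -/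
instance isIso_counit_app (P : Cx R) [CochainComplex.IsKProjective P] :
    IsIso ((adj (R := R)).counit.app ((quot R).obj P)) := by
  set X := (quot R).obj P
  set ε := (adj (R := R)).counit.app X
  -- `Qh.map ε` is an isomorphism with inverse the unit
  have h1 : (adj (R := R)).unit.app (Qh.obj X) ≫ Qh.map ε = 𝟙 _ :=
    (adj (R := R)).right_triangle_components X
  have h2 : Qh.map ε ≫ (adj (R := R)).unit.app (Qh.obj X) = 𝟙 _ := by
    rw [← cancel_epi ((adj (R := R)).unit.app (Qh.obj X)), ← Category.assoc, h1]
    simp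
  obtain ⟨s, hs⟩ := (CochainComplex.IsKProjective.Qh_map_bijective P
    ((ρ : DA R ⥤ KA R).obj (Qh.obj X))).surjective ((adj (R := R)).unit.app (Qh.obj X))
  refine ⟨s, ?_, ?_⟩
  · apply (CochainComplex.IsKProjective.Qh_map_bijective (resObj (Qh.obj X)) _).injective
    change Qh.map (ε ≫ s) = Qh.map (𝟙 _)
    rw [Functor.map_comp, hs, h2, CategoryTheory.Functor.map_id]
  · apply (CochainComplex.IsKProjective.Qh_map_bijective P _).injective
    change Qh.map (s ≫ ε) = Qh.map (𝟙 _)
    rw [Functor.map_comp, hs, h1, CategoryTheory.Functor.map_id]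
    rfl

section Derived

variable {H : Type*} [Category H] (F : KA R ⥤ H)

/-- the class of quasi-isomorphisms in the homotopy category -/
abbrev W (R : Type u) [CommRing R] : MorphismProperty (KA R) :=
  HomotopyCategory.quasiIso (ModuleCat.{u} R) (ComplexShape.up ℤ)

instance isLeftDerivedFunctor_ρ_comp :
    (ρ ⋙ F).IsLeftDerivedFunctor (kanCounit (adj (R := R)) F) (W R) := by
  rw [Functor.isLeftDerivedFunctor_iff_isRightKanExtension]
  exact isRightKanExtension_of_adjunction _ _

/-- Every functor on `K(R)` has a total left derived functor w.r.t. quasi-isomorphisms. -/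
instance hasLeftDerivedFunctor : F.HasLeftDerivedFunctor (W R) :=
  Functor.HasLeftDerivedFunctor.mk' (ρ ⋙ F) (kanCounit (adj (R := R)) F)

/-- The total left derived functor is computed by K-projective resolutions. -/
noncomputable def totalLeftDerivedIso : F.totalLeftDerived Qh (W R) ≅ ρ ⋙ F :=
  Functor.leftDerivedUnique _ _ (F.totalLeftDerivedCounit Qh (W R)) (kanCounit (adj (R := R)) F)
    (W R)

theorem totalLeftDerivedIso_hom_fac (X : KA R) :
    (totalLeftDerivedIso F).hom.app (Qh.obj X) ≫ F.map ((adj (R := R)).counit.app X) =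
      (F.totalLeftDerivedCounit Qh (W R)).app X := by
  have := Functor.leftDerivedNatTrans_app (F.totalLeftDerived Qh (W R)) (ρ ⋙ F)
    (F.totalLeftDerivedCounit Qh (W R)) (kanCounit (adj (R := R)) F) (W R) (𝟙 F) X
  simpa [totalLeftDerivedIso, Functor.leftDerivedUnique] using this

/-- The counit of the total left derived functor is an isomorphism at K-projective complexes. -/
instance isIso_totalLeftDerivedCounit_app (P : Cx R) [CochainComplex.IsKProjective P] :
    IsIso ((F.totalLeftDerivedCounit Qh (W R)).app ((quot R).obj P)) := by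
  rw [← totalLeftDerivedIso_hom_fac]
  infer_instance

/-- Any left derived functor (along `Qh`) is isomorphic to `ρ ⋙ F`, compatibly with counits. -/
noncomputable def leftDerivedIso (LF : DA R ⥤ H) (α : Qh ⋙ LF ⟶ F)
    [LF.IsLeftDerivedFunctor α (W R)] : LF ≅ ρ ⋙ F :=
  Functor.leftDerivedUnique _ _ α (kanCounit (adj (R := R)) F) (W R)

theorem leftDerivedIso_hom_fac (LF : DA R ⥤ H) (α : Qh ⋙ LF ⟶ F)
    [LF.IsLeftDerivedFunctor α (W R)] (X : KA R) :
    (leftDerivedIso F LF α).hom.app (Qh.obj X) ≫ F.map ((adj (R := R)).counit.app X) =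
      α.app X := by
  have := Functor.leftDerivedNatTrans_app LF (ρ ⋙ F) α (kanCounit (adj (R := R)) F) (W R) (𝟙 F) X
  simpa [leftDerivedIso, Functor.leftDerivedUnique] using this

/-- Left derived functors along `Qh` are absolute: they remain left derived functors after
post-composition with any functor. -/
theorem isLeftDerivedFunctor_comp {H' : Type*} [Category H'] (LF : DA R ⥤ H)
    (α : Qh ⋙ LF ⟶ F) [LF.IsLeftDerivedFunctor α (W R)] (T : H ⥤ H') :
    (LF ⋙ T).IsLeftDerivedFunctor
      ((Functor.associator _ _ _).inv ≫ Functor.whiskerRight α T) (W R) := by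
  rw [Functor.isLeftDerivedFunctor_iff_of_iso (LF := LF ⋙ T) (LF' := ρ ⋙ (F ⋙ T))
    (α := (Functor.associator _ _ _).inv ≫ Functor.whiskerRight α T)
    (α' := kanCounit (adj (R := R)) (F ⋙ T)) (W := W R)
    (e := Functor.isoWhiskerRight (leftDerivedIso F LF α) T ≪≫ Functor.associator _ _ _)]
  · infer_instance
  · ext X
    have h := leftDerivedIso_hom_fac F LF α X
    simp only [NatTrans.comp_app, Functor.whiskerLeft_app, Iso.trans_hom,
      Functor.isoWhiskerRight_hom, Functor.whiskerRight_app, Functor.associator_hom_app,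
      Functor.associator_inv_app, kanCounit_app, Functor.comp_map, Category.comp_id,
      Category.id_comp, Functor.comp_obj]
    rw [← T.map_comp, h]

end Derived

end Groth.Agent.Lib.Helper15.QhAdj
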