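import Groth.Agent.Lib.Helper15.SuppTensor
import Groth.Agent.Lib.Helper21.CohPullback
import Groth.Agent.Lib.Helper64.QuasiFlat

/-!
# Base change of quasi-flat morphisms (helper15)

* `isQuasiFlat_of_isPullback`: quasi-flatness is stable under base change.
* `universallyOpen_of_isQuasiFlat`: quasi-flat + locally of finite presentation ⟹ universally open.
-/

set_option autoImplicit false
universe u
open CategoryTheory CategoryTheory.Limits AlgebraicGeometry TopologicalSpace

namespace Groth.Agent.Lib.Helper15.QuasiFlatBC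

theorem isQuasiFlat_of_isPullback {X Y X' Y' : Scheme.{u}} (f : X ⟶ Y) (f' : X' ⟶ Y')
    (g' : X' ⟶ X) (g : Y' ⟶ Y) (hc : IsPullback g' f' f g) (hf : FDesc.IsQuasiFlat f) :
    FDesc.IsQuasiFlat f' := by
  obtain ⟨M, hM, hfl, hnt⟩ := hf
  haveI : M.IsQuasicoherent := hM.1
  refine ⟨(Scheme.Modules.pullback g').obj M, ⟨?_, ?_⟩, ?_, ?_⟩
  · exact Groth.Agent.Lib.Lead.PullbackAff.isQuasicoherent_pullback g' M
  · exact Groth.Agent.Lib.Helper21.CohPullback.isFiniteType_pullback g' M hM.2
  · intro x'
    exact Groth.Agent.Lib.Helper22.FlatBC.isFlatOverAt_pullback f f' g' g hc M hM.1 x' (hfl (g' x'))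
  · intro x'
    have h1 : g' x' ∈ CohB1.support M := not_subsingleton_iff_nontrivial.2 (hnt (g' x'))
    have h2 := (Groth.Agent.Lib.Helper15.SuppTensor.mem_support_pullback_iff g' M hM x').2 h1
    exact not_subsingleton_iff_nontrivial.1 h2

theorem universallyOpen_of_isQuasiFlat {X Y : Scheme.{u}} (f : X ⟶ Y)
    (hf : FDesc.IsQuasiFlat f) [LocallyOfFinitePresentation f] : UniversallyOpen f :=
  ⟨MorphismProperty.universally_mk' _ _ fun g _ =>
    isOpenMap_of_generalizingMap _
      (Groth.Agent.Lib.Helper64.QuasiFlat.generalizingMap_of_isQuasiFlat _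
        (isQuasiFlat_of_isPullback f (pullback.fst g f) (pullback.snd g f) g
          (IsPullback.of_hasPullback g f).flip hf))⟩

end Groth.Agent.Lib.Helper15.QuasiFlatBC
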