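import Mathlib.Algebra.Ring.Units
import Mathlib.Algebra.Group.Basic
import Mathlib.Tactic.Ring
import Mathlib.Tactic.LinearCombination
import Mathlib.Tactic.Group

set_option autoImplicit false

namespace Groth.Agent.Lib.Helper15

structure RankOne (R : Type*) [CommRing R] (Γ : Type*) [Group Γ] where
  Pp : R → Γ
  Pm : R → Γ
  H : Rˣ → Γ
  Pp_add : ∀ a b, Pp (a + b) = Pp a * Pp b
  Pm_add : ∀ a b, Pm (a + b) = Pm a * Pm b
  H_mul : ∀ v w, H (v * w) = H v * H w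
  H_Pp : ∀ (v : Rˣ) a, H v * Pp a * (H v)⁻¹ = Pp ((v : R) ^ 2 * a)
  H_Pm : ∀ (v : Rˣ) a, H v * Pm a * (H v)⁻¹ = Pm (((v⁻¹ : Rˣ) : R) ^ 2 * a)
  comm : ∀ a b (u : Rˣ), (u : R) = 1 + a * b →
    Pp a * Pm b = Pm (b * ((u⁻¹ : Rˣ) : R)) * H u * Pp (a * ((u⁻¹ : Rˣ) : R))

namespace RankOne

variable {R : Type*} [CommRing R] {Γ : Type*} [Group Γ] (D : RankOne R Γ)

def IsTor (t : Γ) (c : Rˣ) : Prop :=
  (∀ a, t * D.Pp a * t⁻¹ = D.Pp ((c : R) * a)) ∧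
    (∀ a, t * D.Pm a * t⁻¹ = D.Pm (((c⁻¹ : Rˣ) : R) * a))

theorem Pp_zero : D.Pp 0 = 1 := by
  have h := D.Pp_add 0 0
  rw [add_zero] at h
  exact (mul_eq_left.mp h.symm)

theorem Pm_zero : D.Pm 0 = 1 := by
  have h := D.Pm_add 0 0
  rw [add_zero] at h
  exact (mul_eq_left.mp h.symm)

theorem Pp_neg (a : R) : D.Pp (-a) = (D.Pp a)⁻¹ := by
  have h := D.Pp_add (-a) a
  rw [neg_add_cancel, Pp_zero] at h
  exact eq_inv_of_mul_eq_one_left h.symm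

theorem Pm_neg (a : R) : D.Pm (-a) = (D.Pm a)⁻¹ := by
  have h := D.Pm_add (-a) a
  rw [neg_add_cancel, Pm_zero] at h
  exact eq_inv_of_mul_eq_one_left h.symm

theorem H_one : D.H 1 = 1 := by
  have h := D.H_mul 1 1
  rw [mul_one] at h
  exact (mul_eq_left.mp h.symm)

theorem H_inv (v : Rˣ) : D.H v⁻¹ = (D.H v)⁻¹ := by
  have h := D.H_mul v⁻¹ v
  rw [inv_mul_cancel, H_one] at h
  exact eq_inv_of_mul_eq_one_left h.symm

theorem Pp_congr {a b : R} (h : a = b) : D.Pp a = D.Pp b := by rw [h]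

theorem Pm_congr {a b : R} (h : a = b) : D.Pm a = D.Pm b := by rw [h]

theorem H_congr {a b : Rˣ} (h : (a : R) = b) : D.H a = D.H b := by rw [Units.ext h]

theorem isTor_H (v : Rˣ) : D.IsTor (D.H v) (v ^ 2) := by
  refine ⟨fun a => ?_, fun a => ?_⟩
  · rw [D.H_Pp]
    simp
  · rw [D.H_Pm]
    simp

theorem IsTor.mul_Pp {t : Γ} {c : Rˣ} (h : D.IsTor t c) (a : R) :
    t * D.Pp a = D.Pp ((c : R) * a) * t := by
  rw [← h.1 a]
  group

theorem IsTor.mul_Pm {t : Γ} {c : Rˣ} (h : D.IsTor t c) (a : R) :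
    t * D.Pm a = D.Pm (((c⁻¹ : Rˣ) : R) * a) * t := by
  rw [← h.2 a]
  group

theorem IsTor.Pp_mul {t : Γ} {c : Rˣ} (h : D.IsTor t c) (a : R) :
    D.Pp a * t = t * D.Pp (((c⁻¹ : Rˣ) : R) * a) := by
  rw [h.mul_Pp]
  congr 1
  apply D.Pp_congr
  rw [← mul_assoc, Units.mul_inv, one_mul]

theorem IsTor.Pm_mul {t : Γ} {c : Rˣ} (h : D.IsTor t c) (a : R) :
    D.Pm a * t = t * D.Pm ((c : R) * a) := by
  rw [h.mul_Pm]
  congr 1
  apply D.Pm_congr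
  rw [← mul_assoc, Units.inv_mul, one_mul]

theorem comm_rev (a b a' b' : R) (u : Rˣ) (hu : (u : R) = 1 + a * b) (ha : a' * u = a)
    (hb : b' * u = b) : D.Pm b * D.Pp a = D.Pp a' * (D.H u)⁻¹ * D.Pm b' := by
  have h := D.comm (-a) (-b) u (by rw [hu]; ring)
  have e1 : -a * ((u⁻¹ : Rˣ) : R) = -a' := by
    rw [← ha]
    linear_combination (-a') * u.mul_inv
  have e2 : -b * ((u⁻¹ : Rˣ) : R) = -b' := by
    rw [← hb]
    linear_combination (-b') * u.mul_inv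
  rw [e1, e2, Pp_neg, Pm_neg, Pp_neg, Pm_neg] at h
  have h' := congrArg (fun g => g⁻¹) h
  simp only [mul_inv_rev, inv_inv] at h'
  rw [h', mul_assoc]

theorem coroot_eq (z : Rˣ) (y₁ x₁ y₂ x₂ : R) (hy₁ : y₁ * z = 1 - z) (hx₁ : x₁ = 1)
    (hy₂ : y₂ = z - 1) (hx₂ : x₂ * z = -1) :
    D.H z = D.Pm y₁ * D.Pp x₁ * D.Pm y₂ * D.Pp x₂ := by
  have h := D.comm x₁ y₂ z (by rw [hx₁, hy₂]; ring)
  have e1 : y₂ * ((z⁻¹ : Rˣ) : R) = -y₁ := by
    have : y₁ = (1 - z) * ((z⁻¹ : Rˣ) : R) := by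
      rw [← hy₁, mul_assoc, Units.mul_inv, mul_one]
    rw [this, hy₂]
    ring
  have e2 : x₁ * ((z⁻¹ : Rˣ) : R) = -x₂ := by
    have : x₂ = -((z⁻¹ : Rˣ) : R) := by
      have h1 : x₂ * z * ((z⁻¹ : Rˣ) : R) = -((z⁻¹ : Rˣ) : R) := by rw [hx₂]; ring
      rwa [mul_assoc, Units.mul_inv, mul_one] at h1
    rw [this, hx₁]
    ring
  rw [e1, e2, Pm_neg, Pp_neg] at h
  rw [mul_assoc (D.Pm y₁), h]
  group

theorem bigCell_mul {t t' : Γ} {c c' : Rˣ} (ht : D.IsTor t c) (ht' : D.IsTor t' c')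
    (x y x' y' y₂ x₂ : R) (u : Rˣ) (hu : (u : R) = 1 + x * y')
    (hy₂ : (y₂ - y) * u * c = y') (hx₂ : (x₂ - x') * u * c' = x) :
    (D.Pm y * t * D.Pp x) * (D.Pm y' * t' * D.Pp x') = D.Pm y₂ * (t * D.H u * t') * D.Pp x₂ := by
  have h := D.comm x y' u hu
  have e1 : ((c⁻¹ : Rˣ) : R) * (y' * ((u⁻¹ : Rˣ) : R)) = y₂ - y := by
    rw [← hy₂]
    linear_combination ((y₂ - y) * u * ((u⁻¹ : Rˣ) : R)) * c.mul_inv + (y₂ - y) * u.mul_inv
  have e2 : ((c'⁻¹ : Rˣ) : R) * (x * ((u⁻¹ : Rˣ) : R)) = x₂ - x' := by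
    rw [← hx₂]
    linear_combination ((x₂ - x') * u * ((u⁻¹ : Rˣ) : R)) * c'.mul_inv + (x₂ - x') * u.mul_inv
  have h1 : t * D.Pm (y' * ((u⁻¹ : Rˣ) : R)) = D.Pm (y₂ - y) * t := by
    rw [ht.mul_Pm, e1]
  have h2 : D.Pp (x * ((u⁻¹ : Rˣ) : R)) * t' = t' * D.Pp (x₂ - x') := by
    rw [ht'.Pp_mul, e2]
  have h3 : D.Pm y₂ = D.Pm y * D.Pm (y₂ - y) := by
    rw [← D.Pm_add]
    apply D.Pm_congr
    ring
  have h4 : D.Pp x₂ = D.Pp (x₂ - x') * D.Pp x' := by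
    rw [← D.Pp_add]
    apply D.Pp_congr
    ring
  calc (D.Pm y * t * D.Pp x) * (D.Pm y' * t' * D.Pp x')
      = D.Pm y * t * (D.Pp x * D.Pm y') * t' * D.Pp x' := by group
    _ = D.Pm y * (t * D.Pm (y' * ((u⁻¹ : Rˣ) : R))) * D.H u *
          (D.Pp (x * ((u⁻¹ : Rˣ) : R)) * t') * D.Pp x' := by rw [h]; group
    _ = D.Pm y₂ * (t * D.H u * t') * D.Pp x₂ := by rw [h1, h2, h3, h4]; group

def W (a a' : R) : Γ := D.Pp a * D.Pm a' * D.Pp a

theorem W_smul (z : Rˣ) (x x' y y' : R) (hx : x' * x = -1) (hy : y = z * x)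
    (hy' : y' * y = -1) : D.W y y' = D.H z * D.W x x' := by
  have hx'e : x' = (z : R) ^ 2 * (y' * ((z⁻¹ : Rˣ) : R)) := by
    have h1 : y' * z * x = -1 := by rw [← hy', hy]; ring
    have h2 : y' * z = x' := by
      have : y' * z = y' * z * (-(x' * x)) := by rw [hx]; ring
      rw [this]
      linear_combination (-x') * h1
    rw [← h2]
    linear_combination (-(y' * z)) * z.mul_inv
  have h := D.comm (z * x * (1 - z)) y' z (by
    have h1 : y' * z * x = -1 := by rw [← hy', hy]; ring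
    linear_combination (z - 1 : R) * h1)
  have e1 : z * x * (1 - z) * ((z⁻¹ : Rˣ) : R) = x * (1 - z) := by
    linear_combination (x * (1 - z)) * z.mul_inv
  rw [e1] at h
  have hT := D.isTor_H z
  have e2 : ((z ^ 2 : Rˣ) : R) = (z : R) ^ 2 := by simp
  have e3 : (((z ^ 2 : Rˣ)⁻¹ : Rˣ) : R) = ((z⁻¹ : Rˣ) : R) ^ 2 := by simp
  have s1 : D.Pp y = D.Pp ((z : R) ^ 2 * x) * D.Pp (z * x * (1 - z)) := by
    rw [← D.Pp_add]
    apply D.Pp_congr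
    rw [hy]
    ring
  have s2 : D.Pp (x * (1 - z)) * D.Pp y = D.Pp x := by
    rw [← D.Pp_add]
    apply D.Pp_congr
    rw [hy]
    ring
  have s3 : D.H z * D.Pp x = D.Pp ((z : R) ^ 2 * x) * D.H z := by
    rw [hT.mul_Pp, e2]
  have s4 : D.H z * D.Pm x' = D.Pm (y' * ((z⁻¹ : Rˣ) : R)) * D.H z := by
    rw [hT.mul_Pm, e3]
    congr 1
    apply D.Pm_congr
    rw [hx'e]
    linear_combination (((z⁻¹ : Rˣ) : R) * y' * ((z : R) * ((z⁻¹ : Rˣ) : R) + 1)) * z.mul_inv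
  have lhs : D.W y y' = D.Pp ((z : R) ^ 2 * x) * D.Pm (y' * ((z⁻¹ : Rˣ) : R)) *
      (D.H z * D.Pp x) := by
    unfold W
    calc D.Pp y * D.Pm y' * D.Pp y
        = D.Pp ((z : R) ^ 2 * x) * (D.Pp (z * x * (1 - z)) * D.Pm y') * D.Pp y := by
          rw [s1]; simp only [mul_assoc]
      _ = D.Pp ((z : R) ^ 2 * x) * D.Pm (y' * ((z⁻¹ : Rˣ) : R)) * D.H z *
            (D.Pp (x * (1 - z)) * D.Pp y) := by rw [h]; simp only [mul_assoc]
      _ = D.Pp ((z : R) ^ 2 * x) * D.Pm (y' * ((z⁻¹ : Rˣ) : R)) * (D.H z * D.Pp x) := by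
          rw [s2]; simp only [mul_assoc]
  have rhs : D.H z * D.W x x' = D.Pp ((z : R) ^ 2 * x) * D.Pm (y' * ((z⁻¹ : Rˣ) : R)) *
      (D.H z * D.Pp x) := by
    unfold W
    calc D.H z * (D.Pp x * D.Pm x' * D.Pp x)
        = (D.H z * D.Pp x) * D.Pm x' * D.Pp x := by simp only [mul_assoc]
      _ = D.Pp ((z : R) ^ 2 * x) * (D.H z * D.Pm x') * D.Pp x := by
          rw [s3]; simp only [mul_assoc]
      _ = D.Pp ((z : R) ^ 2 * x) * D.Pm (y' * ((z⁻¹ : Rˣ) : R)) * (D.H z * D.Pp x) := by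
          rw [s4]; simp only [mul_assoc]
  rw [lhs, rhs]

theorem IsTor.inv {t : Γ} {c : Rˣ} (h : D.IsTor t c) : D.IsTor t⁻¹ c⁻¹ := by
  refine ⟨fun a => ?_, fun a => ?_⟩
  · have := h.1 (((c⁻¹ : Rˣ) : R) * a)
    rw [← mul_assoc, Units.mul_inv, one_mul] at this
    rw [← this]
    group
  · have := h.2 ((c : R) * a)
    rw [← mul_assoc, Units.inv_mul, one_mul] at this
    rw [inv_inv, ← this]
    group

theorem W_conj {t : Γ} {c : Rˣ} (ht : D.IsTor t c) (x x' : R) (hx : x' * x = -1) :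
    D.W x x' * t * (D.W x x')⁻¹ = (D.H c)⁻¹ * t := by
  have h1 : t * D.W x x' * t⁻¹ = D.W ((c : R) * x) (((c⁻¹ : Rˣ) : R) * x') := by
    unfold W
    rw [← ht.1 x, ← ht.2 x']
    group
  have h2 : D.W ((c : R) * x) (((c⁻¹ : Rˣ) : R) * x') = D.H c * D.W x x' :=
    D.W_smul c x x' _ _ hx rfl (by linear_combination (x' * x) * c.inv_mul + hx)
  rw [h2] at h1
  have h3 : t * D.W x x' = D.H c * D.W x x' * t := by
    rw [← h1]
    group
  have h4 : D.W x x' * t = (D.H c)⁻¹ * t * D.W x x' := by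
    rw [mul_assoc, h3]
    group
  rw [h4]
  group

theorem W_smul' (z : Rˣ) (x x' y y' : R) (hx : x' * x = -1) (hy : y = z * x)
    (hy' : y' * y = -1) : D.W y y' = D.W x x' * (D.H z)⁻¹ := by
  rw [D.W_smul z x x' y y' hx hy hy']
  have h1 := D.W_conj (D.isTor_H z).inv x x' hx
  have e : (D.H ((z ^ 2)⁻¹))⁻¹ * (D.H z)⁻¹ = D.H z := by
    rw [D.H_inv, inv_inv, ← D.H_inv, ← D.H_mul]
    apply D.H_congr
    simp [pow_two]
  rw [e] at h1
  calc D.H z * D.W x x' = (D.W x x' * (D.H z)⁻¹ * (D.W x x')⁻¹) * D.W x x' := by rw [h1]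
    _ = D.W x x' * (D.H z)⁻¹ := by group

theorem W_neg (y y' : R) : D.W (-y) (-y') = (D.W y y')⁻¹ := by
  unfold W
  rw [Pp_neg, Pm_neg]
  group

theorem W_sq (y y' : R) (hy : y' * y = -1) (n : Rˣ) (hn : (n : R) = -1) :
    D.W y y' ^ 2 = D.H n := by
  have h1 := D.W_smul n y y' (-y) (-y') hy (by rw [hn]; ring) (by rw [← hy]; ring)
  rw [W_neg] at h1
  have h2 : D.H n * D.W y y' ^ 2 = 1 := by
    rw [pow_two, ← mul_assoc, ← h1]
    group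
  have h3 : D.H n * D.H n = 1 := by
    rw [← D.H_mul, ← D.H_one]
    apply D.H_congr
    simp [hn]
  have h4 : D.W y y' ^ 2 = (D.H n)⁻¹ := eq_inv_of_mul_eq_one_right h2
  rw [h4]
  exact inv_eq_of_mul_eq_one_left h3

theorem W_mul_W (x x' y y' : R) (hx : x' * x = -1) (hy : y' * y = -1) (m n : Rˣ)
    (hm : (m : R) * y = -x) (hn : (n : R) = -1) :
    D.W x x' * D.W y y' = D.H m ∧ D.W x x' ^ 2 = D.H n := by
  refine ⟨?_, D.W_sq x x' hx n hn⟩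
  have h1 := D.W_smul (m * n) y y' x x' hy (by
    rw [Units.val_mul, hn]
    linear_combination hm) hx
  rw [h1, mul_assoc, ← pow_two, D.W_sq y y' hy n hn, ← D.H_mul]
  apply D.H_congr
  simp only [Units.val_mul, hn]
  ring

end RankOne

end Groth.Agent.Lib.Helper15
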