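import Groth.Agent.Lib.Helper15.GaPts
import Groth.Agent.Lib.Helper15.RankOne

set_option autoImplicit false

universe u

open CategoryTheory MonoidalCategory CartesianMonoidalCategory MonObj GrpObj AlgebraicGeometry CategoryTheory.Limits

noncomputable section

namespace Groth.Agent.Lib.Helper15

variable {S : Scheme.{u}} {G T : Over S} [GrpObj G] [GrpObj T]

structure RankOneData (i : T ⟶ G) (α : T ⟶ Red.Gm S) (pp pm : Red.Ga S ⟶ G)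
    (av : Red.Gm S ⟶ T) : Prop where
  hpp : ∀ (X : Over S) (t : X ⟶ T) (x : X ⟶ Red.Ga S), ∃ x' : X ⟶ Red.Ga S,
      x' ≫ pp = (t ≫ i) * (x ≫ pp) * (t ≫ i)⁻¹ ∧ Red.gaFn x' = Red.gmFn (t ≫ α) * Red.gaFn x
  hpm : ∀ (X : Over S) (t : X ⟶ T) (y : X ⟶ Red.Ga S), ∃ y' : X ⟶ Red.Ga S,
      y' ≫ pm = (t ≫ i) * (y ≫ pm) * (t ≫ i)⁻¹ ∧ Red.gaFn y' * Red.gmFn (t ≫ α) = Red.gaFn y
  h2 : av ≫ α = (𝟙 (Red.Gm S)) ^ 2
  hF : ∀ (X : Over S) (x y : X ⟶ Red.Ga S), IsUnit (1 + Red.gaFn x * Red.gaFn y) →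
      ∃ (x' y' : X ⟶ Red.Ga S) (z : X ⟶ Red.Gm S), Red.gmFn z = 1 + Red.gaFn x * Red.gaFn y ∧
        Red.gaFn x' * Red.gmFn z = Red.gaFn x ∧ Red.gaFn y' * Red.gmFn z = Red.gaFn y ∧
        (x ≫ pp) * (y ≫ pm) = (y' ≫ pm) * (z ≫ av ≫ i) * (x' ≫ pp)

variable {i : T ⟶ G} [IsMonHom i] {α : T ⟶ Red.Gm S} [IsMonHom α] {pp pm : Red.Ga S ⟶ G}
  [IsMonHom pp] [IsMonHom pm] {av : Red.Gm S ⟶ T} [IsMonHom av]

theorem RankOneData.conj_pp (h : RankOneData i α pp pm av) {X : Over S} (t : X ⟶ T)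
    (a : Γ(X.left, ⊤)) :
    (t ≫ i) * (GaPts.ptOfFn a ≫ pp) * (t ≫ i)⁻¹ =
      GaPts.ptOfFn (Red.gmFn (t ≫ α) * a) ≫ pp := by
  obtain ⟨x', h1, h2⟩ := h.hpp X t (GaPts.ptOfFn a)
  rw [GaPts.gaFn_ptOfFn] at h2
  rw [← h1, ← h2, GaPts.ptOfFn_gaFn]

theorem RankOneData.conj_pm (h : RankOneData i α pp pm av) {X : Over S} (t : X ⟶ T)
    (a : Γ(X.left, ⊤)) :
    (t ≫ i) * (GaPts.ptOfFn a ≫ pm) * (t ≫ i)⁻¹ =
      GaPts.ptOfFn ((((GmPts.unitOfPt (t ≫ α))⁻¹ : (Γ(X.left, ⊤))ˣ) : Γ(X.left, ⊤)) * a) ≫ pm := by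
  obtain ⟨y', h1, h2⟩ := h.hpm X t (GaPts.ptOfFn a)
  rw [GaPts.gaFn_ptOfFn] at h2
  rw [← h1]
  congr 1
  apply GaPts.eq_of_gaFn_eq
  rw [GaPts.gaFn_ptOfFn, ← h2]
  have : Red.gmFn (t ≫ α) = ((GmPts.unitOfPt (t ≫ α) : (Γ(X.left, ⊤))ˣ) : Γ(X.left, ⊤)) := rfl
  rw [this, _root_.mul_comm, _root_.mul_assoc, Units.mul_inv, _root_.mul_one]

theorem unitOfPt_comp_av_α (h : RankOneData i α pp pm av) {X : Over S} (v : (Γ(X.left, ⊤))ˣ) :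
    GmPts.unitOfPt ((GmPts.ptOfUnit v ≫ av) ≫ α) = v ^ 2 := by
  rw [Category.assoc, h.h2, MonObj.comp_pow, Category.comp_id, pow_two, GmPts.unitOfPt_mul,
    GmPts.unitOfPt_ptOfUnit, pow_two]

def RankOneData.rankOne (h : RankOneData i α pp pm av) (X : Over S) :
    RankOne Γ(X.left, ⊤) (X ⟶ G) where
  Pp a := GaPts.ptOfFn a ≫ pp
  Pm a := GaPts.ptOfFn a ≫ pm
  H v := GmPts.ptOfUnit v ≫ av ≫ i
  Pp_add a b := by rw [GaPts.ptOfFn_add, MonObj.mul_comp]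
  Pm_add a b := by rw [GaPts.ptOfFn_add, MonObj.mul_comp]
  H_mul v w := by rw [GmPts.ptOfUnit_mul, MonObj.mul_comp]
  H_Pp v a := by
    have := h.conj_pp (GmPts.ptOfUnit v ≫ av) a
    rw [Category.assoc] at this
    rw [this]
    congr 2
    have e := unitOfPt_comp_av_α h v
    have : Red.gmFn ((GmPts.ptOfUnit v ≫ av) ≫ α) =
      ((GmPts.unitOfPt ((GmPts.ptOfUnit v ≫ av) ≫ α) : (Γ(X.left, ⊤))ˣ) : Γ(X.left, ⊤)) := rfl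
    rw [this, e]
    simp
  H_Pm v a := by
    have := h.conj_pm (GmPts.ptOfUnit v ≫ av) a
    rw [Category.assoc] at this
    rw [this, unitOfPt_comp_av_α h v]
    congr 2
  comm a b u hu := by
    obtain ⟨x', y', z, hz, hx', hy', hxy⟩ := h.hF X (GaPts.ptOfFn a) (GaPts.ptOfFn b) (by
      rw [GaPts.gaFn_ptOfFn, GaPts.gaFn_ptOfFn, ← hu]
      exact u.isUnit)
    simp only [GaPts.gaFn_ptOfFn] at hz hx' hy'
    have hzu : z = GmPts.ptOfUnit u := by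
      apply GmPts.gmFn_injective
      show Red.gmFn z = Red.gmFn (GmPts.ptOfUnit u)
      rw [GmPts.gmFn_ptOfUnit, hz, hu]
    have hzv : Red.gmFn z = (u : Γ(X.left, ⊤)) := by rw [hz, hu]
    rw [hzv] at hx' hy'
    have ex : x' = GaPts.ptOfFn (a * ((u⁻¹ : (Γ(X.left, ⊤))ˣ) : Γ(X.left, ⊤))) := by
      apply GaPts.eq_of_gaFn_eq
      rw [GaPts.gaFn_ptOfFn, ← hx', _root_.mul_assoc, Units.mul_inv, _root_.mul_one]
    have ey : y' = GaPts.ptOfFn (b * ((u⁻¹ : (Γ(X.left, ⊤))ˣ) : Γ(X.left, ⊤))) := by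
      apply GaPts.eq_of_gaFn_eq
      rw [GaPts.gaFn_ptOfFn, ← hy', _root_.mul_assoc, Units.mul_inv, _root_.mul_one]
    rw [hxy, ex, ey, hzu]

theorem RankOneData.isTor (h : RankOneData i α pp pm av) {X : Over S} (t : X ⟶ T) :
    (h.rankOne X).IsTor (t ≫ i) (GmPts.unitOfPt (t ≫ α)) :=
  ⟨fun a => h.conj_pp t a, fun a => h.conj_pm t a⟩

theorem RankOneData.Pp_gaFn (h : RankOneData i α pp pm av) {X : Over S} (x : X ⟶ Red.Ga S) :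
    (h.rankOne X).Pp (Red.gaFn x) = x ≫ pp := by
  show GaPts.ptOfFn (Red.gaFn x) ≫ pp = x ≫ pp
  rw [GaPts.ptOfFn_gaFn]

theorem RankOneData.Pm_gaFn (h : RankOneData i α pp pm av) {X : Over S} (x : X ⟶ Red.Ga S) :
    (h.rankOne X).Pm (Red.gaFn x) = x ≫ pm := by
  show GaPts.ptOfFn (Red.gaFn x) ≫ pm = x ≫ pm
  rw [GaPts.ptOfFn_gaFn]

theorem RankOneData.H_unitOfPt (h : RankOneData i α pp pm av) {X : Over S} (z : X ⟶ Red.Gm S) :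
    (h.rankOne X).H (GmPts.unitOfPt z) = z ≫ av ≫ i := by
  show GmPts.ptOfUnit (GmPts.unitOfPt z) ≫ av ≫ i = z ≫ av ≫ i
  rw [GmPts.ptOfUnit_unitOfPt]

end Groth.Agent.Lib.Helper15

end
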