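import Groth.Agent.Lib.Helper77.RegularAB
import Groth.Agent.Lib.Helper22.FibreFree
import Groth.Agent.Lib.Helper64.FinTypeStalk
import Groth.Agent.Lib.Lead.QCohAff5

/-!
# Maximal Cohen–Macaulay modules over regular local rings are free (helper15)

* `free_of_cm`: `R` regular local, `M` finite nonzero with full support and Cohen–Macaulay ⟹ free.
* `cm_of_free`: a nonzero finite free module over a regular local ring is Cohen–Macaulay.
* `support_stalk_eq_univ`: a quasi-coherent module with support `X` has stalks of full support.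
-/

set_option autoImplicit false
universe u

namespace Groth.Agent.Lib.Helper15.RegCMFree

open CategoryTheory LocCoh

section Algebra

theorem supportDim_eq_of_support_eq_univ (R : Type u) [CommRing R] (M : Type u) [AddCommGroup M]
    [Module R M] (h : Module.support R M = Set.univ) : Module.supportDim R M = ringKrullDim R := by
  rw [Module.supportDim, h]
  exact Order.krullDim_eq_of_orderIso OrderIso.Set.univ

theorem free_of_cm (R : Type u) [CommRing R] [IsRegularLocalRing R] (M : Type u) [AddCommGroup M]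
    [Module R M] [Module.Finite R M] [Nontrivial M] (hsupp : Module.support R M = Set.univ)
    (hCM : LocCoh.IsCohenMacaulayModule R M) : Module.Free R M := by
  obtain ⟨d, hd⟩ := Groth.Agent.Lib.Helper77.RegularAB.exists_ringKrullDim_eq R
  obtain ⟨e, hpd, hdim⟩ := Groth.Agent.Lib.Helper77.RegularAB.exists_pd_add_depth_eq_dim R M
  have h1 := supportDim_eq_of_support_eq_univ R M hsupp
  unfold LocCoh.IsCohenMacaulayModule at hCM
  rw [h1, hdim] at hCM
  have h2 : (e : ℕ∞) + depth R M = depth R M := WithBot.coe_injective hCM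
  have hfin : depth R M ≠ ⊤ := by
    intro htop
    rw [htop, hd] at hdim
    have : ((d : ℕ∞) : WithBot ℕ∞) = (((e : ℕ∞) + ⊤ : ℕ∞) : WithBot ℕ∞) := hdim
    rw [WithBot.coe_inj] at this
    simp at this
  obtain ⟨t, ht⟩ := ENat.ne_top_iff_exists.1 hfin
  rw [← ht] at h2
  have he : e = 0 := by
    have : ((e + t : ℕ) : ℕ∞) = (t : ℕ∞) := by push_cast; exact h2
    have := ENat.coe_inj.1 this
    omega
  subst he
  have h3 : HasProjectiveDimensionLT (ModuleCat.of R M) 1 := by
    rw [← projectiveDimension_lt_iff, hpd]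
    norm_cast
  have h4 : Projective (ModuleCat.of R M) := projective_iff_hasProjectiveDimensionLT_one.2 h3
  have h5 : Module.Projective R M := (IsProjective.iff_projective M).2 h4
  exact Module.free_of_flat_of_isLocalRing

theorem cm_of_free (R : Type u) [CommRing R] [IsRegularLocalRing R] (M : Type u) [AddCommGroup M]
    [Module R M] [Module.Finite R M] [Module.Free R M] [Nontrivial M] :
    LocCoh.IsCohenMacaulayModule R M := by
  unfold LocCoh.IsCohenMacaulayModule
  rw [Groth.Agent.Lib.Helper77.AuslanderBuchsbaum.depth_of_free R M,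
    Groth.Agent.Lib.Helper77.RegularCM.depth_eq_dim R]
  apply le_antisymm (Module.supportDim_le_ringKrullDim R M)
  rw [← Module.supportDim_self_eq_ringKrullDim]
  let b := Module.Free.chooseBasis R M
  haveI : Nonempty (Module.Free.ChooseBasisIndex R M) := by
    by_contra h
    rw [not_nonempty_iff] at h
    exact not_subsingleton M (b.repr.toEquiv.subsingleton)
  let i0 : Module.Free.ChooseBasisIndex R M := Classical.arbitrary _
  refine Module.supportDim_le_of_injective (LinearMap.toSpanSingleton R M (b i0)) ?_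
  intro r s hrs
  have h1 : r • b i0 = s • b i0 := hrs
  have h2 := congrArg (fun m => b.repr m i0) h1
  simpa using h2

end Algebra

section Scheme

open AlgebraicGeometry TopologicalSpace
open Groth.Agent.Lib.Lead.QCohAff Scheme.Modules

variable {X : Scheme.{u}}

/-- A quasi-coherent module with support all of `X` has stalks with full support. -/
theorem support_stalk_eq_univ (F : X.Modules) [F.IsQuasicoherent]
    (hsupp : CohB1.support F = Set.univ) (x : X) :
    Module.support (X.presheaf.stalk x) (F.presheaf.stalk x) = Set.univ := by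
  obtain ⟨U, hU, hxU, -⟩ := exists_isAffineOpen_mem_and_subset (U := (⊤ : X.Opens))
    (x := x) trivial
  letI alg : Algebra Γ(X, U) (X.presheaf.stalk x) := X.presheaf.algebra_section_stalk ⟨x, hxU⟩
  haveI loc := hU.isLocalization_stalk ⟨x, hxU⟩
  haveI t1 : IsScalarTower Γ(X, U) (X.presheaf.stalk x) (StalkOver F U x hxU) :=
    IsScalarTower.of_algebraMap_smul fun r m => rfl
  have hA : Module.support Γ(X, U) Γ(F, U) = Set.univ := by
    rw [Set.eq_univ_iff_forall]
    intro y
    have hy := fromSpec_mem hU y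
    rw [← primeIdealOf_fromSpec hU y hy, primeIdealOf_mem_support_iff F hU _ hy]
    have : hU.fromSpec y ∈ CohB1.support F := by rw [hsupp]; trivial
    exact this
  rw [Set.eq_univ_iff_forall]
  intro q
  let y : PrimeSpectrum Γ(X, U) := q.comap (algebraMap Γ(X, U) (X.presheaf.stalk x))
  have hy : y ∈ Module.support Γ(X, U) Γ(F, U) := by rw [hA]; trivial
  obtain ⟨m, hm⟩ := Module.mem_support_iff'.1 hy
  show q ∈ Module.support (X.presheaf.stalk x) (StalkOver F U x hxU)
  rw [Module.mem_support_iff']
  refine ⟨germL F U x hxU m, ?_⟩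
  intro r' hr' h0
  obtain ⟨b, s, hbs⟩ := IsLocalization.exists_mk'_eq
    (hU.primeIdealOf ⟨x, hxU⟩).asIdeal.primeCompl r'
  subst hbs
  have hsu : IsUnit (algebraMap Γ(X, U) (X.presheaf.stalk x) s.1) :=
    IsLocalization.map_units _ s
  have hb0 : algebraMap Γ(X, U) (X.presheaf.stalk x) b • germL F U x hxU m = 0 := by
    rw [← IsLocalization.mk'_spec (X.presheaf.stalk x) b s, mul_smul, smul_comm, h0, smul_zero]
  rw [algebraMap_smul, ← LinearMap.map_smul,
    IsLocalizedModule.eq_zero_iff (hU.primeIdealOf ⟨x, hxU⟩).asIdeal.primeCompl] at hb0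
  obtain ⟨t, ht⟩ := hb0
  have hle : y.asIdeal ≤ (hU.primeIdealOf ⟨x, hxU⟩).asIdeal := by
    intro a ha
    by_contra hna
    have hu : IsUnit (algebraMap Γ(X, U) (X.presheaf.stalk x) a) :=
      IsLocalization.map_units _ (⟨a, hna⟩ : (hU.primeIdealOf ⟨x, hxU⟩).asIdeal.primeCompl)
    exact q.2.ne_top (Ideal.eq_top_of_isUnit_mem _ ha hu)
  have hby : b ∉ y.asIdeal := by
    intro hb
    apply hr'
    have hb' : algebraMap Γ(X, U) (X.presheaf.stalk x) b ∈ q.asIdeal := hb
    rw [← IsLocalization.mk'_spec (X.presheaf.stalk x) b s] at hb'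
    rcases q.2.mem_or_mem hb' with h | h
    · exact h
    · exact absurd (Ideal.eq_top_of_isUnit_mem _ h hsu) q.2.ne_top
  have hty : t.1 ∉ y.asIdeal := fun h => t.2 (hle h)
  refine hm (t.1 * b) ?_ ?_
  · intro h
    rcases y.2.mem_or_mem h with h | h
    · exact hty h
    · exact hby h
  · rw [mul_smul]
    exact ht

/-- If `F|_U ≅ O_U^0` then the stalks of `F` on `U` vanish. -/
theorem subsingleton_stalk_of_iso_freeMod_zero (F : X.Modules) [F.IsQuasicoherent] (x : X)
    {U : X.Opens} (hxU : x ∈ U) (h : Nonempty (F.restrict U.ι ≅ FlatMod.freeMod (↑U) 0)) :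
    Subsingleton (F.presheaf.stalk x) := by
  obtain ⟨V, hV, hxV, hVU⟩ := exists_isAffineOpen_mem_and_subset (U := U) (x := x) hxU
  have h' := Groth.Agent.Lib.Helper2.FreeModAff.nonempty_iso_freeMod_of_le F hVU 0 h
  rw [Groth.Agent.Lib.Helper2.FreeModAff.nonempty_iso_freeMod_iff F hV] at h'
  obtain ⟨e⟩ := h'
  haveI : Subsingleton Γ(F, V) := e.toEquiv.subsingleton
  rw [subsingleton_stalk_iff F hV x hxV]
  intro s
  rw [Subsingleton.elim s 0, map_zero]

/-- If `F|_U ≅ O_U^n` with `n > 0` then the stalks of `F` on `U` are nonzero. -/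
theorem nontrivial_stalk_of_iso_freeMod_pos (F : X.Modules) [F.IsQuasicoherent] (x : X)
    {U : X.Opens} (hxU : x ∈ U) {n : ℕ} (hn : 0 < n)
    (h : Nonempty (F.restrict U.ι ≅ FlatMod.freeMod (↑U) n)) :
    ¬ Subsingleton (F.presheaf.stalk x) := by
  obtain ⟨V, hV, hxV, hVU⟩ := exists_isAffineOpen_mem_and_subset (U := U) (x := x) hxU
  have h' := Groth.Agent.Lib.Helper2.FreeModAff.nonempty_iso_freeMod_of_le F hVU n h
  rw [Groth.Agent.Lib.Helper2.FreeModAff.nonempty_iso_freeMod_iff F hV] at h'
  obtain ⟨e⟩ := h'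
  rw [← primeIdealOf_mem_support_iff F hV x hxV, Module.mem_support_iff']
  refine ⟨e.symm (Pi.single ⟨0, hn⟩ 1), ?_⟩
  intro r hr h0
  have h1 := congrArg e h0
  rw [e.map_smul, LinearEquiv.apply_symm_apply, map_zero] at h1
  have h2 := congrFun h1 ⟨0, hn⟩
  simp at h2
  exact hr (h2 ▸ (hV.primeIdealOf ⟨x, hxV⟩).asIdeal.zero_mem)

end Scheme

end Groth.Agent.Lib.Helper15.RegCMFree
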