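import Groth.Agent.Lib.Helper15.CohSuppK0
import Groth.Agent.Lib.Helper77.RegularGlobal
import Groth.Agent.Lib.Helper77.RegularScheme
import Groth.Agent.Lib.Helper2.FreeModAff
import Groth.Agent.Lib.Helper2.FinLocFreeAff
import Groth.Agent.Lib.Helper21.CohPullback

/-!
# Coherent sheaves on regular locally Noetherian schemes are perfect (helper15)
-/

set_option autoImplicit false
set_option linter.style.haveILetI false
universe u

open CategoryTheory CategoryTheory.Limits AlgebraicGeometry
open scoped ZeroObject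
attribute [local instance] HasDerivedCategory.standard

namespace Groth.Agent.Lib.Helper15.RegPerfect

open Groth.Agent.Lib.Lead.CohAff Groth.Agent.Lib.Helper21.QCohSections
  Groth.Agent.Lib.Helper21.Devissage
  Groth.Agent.Lib.Helper15.DCohLocal Groth.Agent.Lib.Helper2.DCohPerf
  Groth.Agent.Lib.Helper2.DCohBase Groth.Agent.Lib.Helper2.DCohPC

variable {X : Scheme.{u}}

/-- a strictly perfect complex is perfect -/
theorem isPerfect_Q_of_isStrictlyPerfect (E : CochainComplex X.Modules ℤ)
    (hE : DCoh.IsStrictlyPerfect E) : DCoh.IsPerfect (DerivedCategory.Q.obj E) := by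
  rw [isPerfect_iff]
  intro x
  exact ⟨X, 𝟙 X, inferInstance, ⟨x, rfl⟩, (resCx (𝟙 X)).obj E, isStrictlyPerfect_resCx _ E hE,
    ⟨resDQ (𝟙 X) E⟩⟩

/-- a finite locally free module in degree `0` is perfect -/
theorem isPerfect_inD_of_isFinLocFree (F : X.Modules) (hF : FlatMod.IsFinLocFree F) :
    DCoh.IsPerfect (DCoh.inD X F) := by
  have hE : DCoh.IsStrictlyPerfect ((CochainComplex.singleFunctor X.Modules 0).obj F) := by
    refine ⟨⟨0, 0, fun i hi => ?_⟩, fun i => ?_⟩
    · exact HomologicalComplex.isZero_single_obj_X _ _ _ _ (by omega)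
    · by_cases h : i = 0
      · subst h
        intro x
        obtain ⟨U, n, hxU, ⟨e⟩⟩ := hF x
        exact ⟨U, n, hxU, ⟨(Scheme.Modules.restrictFunctor U.ι).mapIso
          (HomologicalComplex.singleObjXSelf (ComplexShape.up ℤ) 0 F) ≪≫ e⟩⟩
      · exact isFinLocFree_of_isZero (HomologicalComplex.isZero_single_obj_X _ _ _ _ h)
  exact isPerfect_of_iso ((DerivedCategory.singleFunctorIsoCompQ X.Modules 0).app F).symm
    (isPerfect_Q_of_isStrictlyPerfect _ hE)

/-- two-out-of-three for perfection of the terms of a short exact sequence -/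
theorem isPerfect_inD_X₃ (S : ShortComplex X.Modules) (hS : S.ShortExact)
    (h1 : DCoh.IsPerfect (DCoh.inD X S.X₁)) (h2 : DCoh.IsPerfect (DCoh.inD X S.X₂)) :
    DCoh.IsPerfect (DCoh.inD X S.X₃) :=
  isPerfect_obj₃ _ hS.singleTriangle_distinguished h1 h2

open Groth.Agent.Lib.Helper2.FinLocFreeAff Groth.Agent.Lib.Helper2.FreeModAff
  Groth.Agent.Lib.Helper21.QuotIdeal

/-- on an affine locally Noetherian scheme, a coherent module with projective global sections is
finite locally free -/
theorem isFinLocFree_of_projective_sections [IsLocallyNoetherian X]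
    (hA : IsAffineOpen (⊤ : X.Opens)) (M : X.Modules) (hM : Coh.IsCoh M)
    [Module.Projective Γ(X, ⊤) Γ(M, ⊤)] : FlatMod.IsFinLocFree M := by
  haveI := hM.1
  apply isFinLocFree_of_flat_of_isFP M
  · intro x
    exact (flat_sections_iff_isFlatAt M hA).1 inferInstance x trivial
  · apply isFinitePresentation_of_sections
    intro x
    obtain ⟨_, ⟨U, hU : IsAffineOpen U, rfl⟩, hxU, -⟩ :=
      (X.isBasis_affineOpens).exists_subset_of_mem_open (Set.mem_univ x) isOpen_univ
    refine ⟨U, hU, hxU, ?_⟩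
    haveI : IsNoetherianRing Γ(X, U) := IsLocallyNoetherian.component_noetherian ⟨U, hU⟩
    haveI := finite_sections_of_isFiniteType M hM.2 hU
    exact Module.finitePresentation_of_finite _ _

/-- a coherent module on `Spec R` is a quotient of a finite free module -/
theorem exists_epi_freeMod_Spec {R : CommRingCat.{u}} (N : (Spec R).Modules)
    (hN : Coh.IsCoh N) : ∃ (n : ℕ) (π : FlatMod.freeMod (Spec R) n ⟶ N), Epi π := by
  haveI := hN.1
  haveI : Module.Finite R (moduleSpecΓFunctor.obj N) :=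
    (finite_iff_Γ N).2 (finite_sections_of_isFiniteType N hN.2 (isAffineOpen_top _))
  obtain ⟨n, s, hs⟩ := Module.Finite.exists_fin (R := R) (M := moduleSpecΓFunctor.obj N)
  have hg : Submodule.span R (Set.range (fun i : Idx.{u} n => s i.down)) = ⊤ := by
    rw [← hs]
    congr 1
    ext y
    constructor
    · rintro ⟨i, rfl⟩; exact ⟨i.down, rfl⟩
    · rintro ⟨i, rfl⟩; exact ⟨⟨i⟩, rfl⟩
  exact ⟨n, (exists_epi_freeMod_iff_free N n).2
    ((exists_epi_free_iff_Spec N (Idx.{u} n)).2 ⟨_, hg⟩)⟩

/-- dimension shifting along the sections of a short exact sequence over an affine open -/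
theorem pdLT_sections_X₁ (S : ShortComplex X.Modules) (hS : S.ShortExact)
    [S.X₁.IsQuasicoherent] [S.X₂.IsQuasicoherent] [S.X₃.IsQuasicoherent]
    {U : X.Opens} (hU : IsAffineOpen U) (n : ℕ) [Module.Projective Γ(X, U) Γ(S.X₂, U)]
    (hpd : HasProjectiveDimensionLT (ModuleCat.of Γ(X, U) Γ(S.X₃, U)) (n + 2)) :
    HasProjectiveDimensionLT (ModuleCat.of Γ(X, U) Γ(S.X₁, U)) (n + 1) := by
  have hex : Function.Exact (appL S.f U) (appL S.g U) := sections_exact S hS U
  haveI : Mono S.f := hS.mono_f
  haveI : Epi S.g := hS.epi_g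
  have hinj : Function.Injective (appL S.f U) := app_injective_of_mono S.f U
  have hsurj : Function.Surjective (appL S.g U) := app_surjective_of_epi S.g hU
  have h0 : (appL S.g U).comp (appL S.f U) = 0 := by
    ext x
    exact hex.apply_apply_eq_zero x
  have hT : (ModuleCat.shortComplexOfCompEqZero (appL S.f U) (appL S.g U) h0).ShortExact :=
    ModuleCat.shortComplex_shortExact _ hex hinj hsurj
  have hproj : Projective (ModuleCat.of Γ(X, U) Γ(S.X₂, U)) :=
    (IsProjective.iff_projective _).1 inferInstance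
  exact (hT.hasProjectiveDimensionLT_X₃_iff n hproj).1 hpd

theorem isPerfect_inD_of_pdLT_Spec {R : CommRingCat.{u}} [IsLocallyNoetherian (Spec R)] (n : ℕ) :
    ∀ (N : (Spec R).Modules), Coh.IsCoh N →
      HasProjectiveDimensionLT (ModuleCat.of Γ(Spec R, ⊤) Γ(N, ⊤)) (n + 1) →
      DCoh.IsPerfect (DCoh.inD (Spec R) N) := by
  induction n with
  | zero =>
    intro N hN hpd
    have h1 : Projective (ModuleCat.of Γ(Spec R, ⊤) Γ(N, ⊤)) :=
      projective_iff_hasProjectiveDimensionLT_one.2 hpd
    haveI : Module.Projective Γ(Spec R, ⊤) Γ(N, ⊤) := (IsProjective.iff_projective _).2 h1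
    exact isPerfect_inD_of_isFinLocFree N
      (isFinLocFree_of_projective_sections (isAffineOpen_top _) N hN)
  | succ n ih =>
    intro N hN hpd
    obtain ⟨r, π, hπ⟩ := exists_epi_freeMod_Spec N hN
    have hF : FlatMod.IsFinLocFree (FlatMod.freeMod (Spec R) r) := isFinLocFree_freeMod _ r
    have hFc : Coh.IsCoh (FlatMod.freeMod (Spec R) r) := isCoh_of_isFinLocFree _ hF
    have hS : (ShortComplex.mk (kernel.ι π) π (kernel.condition π)).ShortExact :=
      shortExact_kernel_epi π
    have hK : Coh.IsCoh (kernel π) := isCoh_kernel π hFc hN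
    haveI q1 : (kernel π).IsQuasicoherent := hK.1
    haveI q2 : (FlatMod.freeMod (Spec R) r).IsQuasicoherent := hFc.1
    haveI q3 : N.IsQuasicoherent := hN.1
    haveI hP : Module.Projective Γ(Spec R, ⊤) Γ(FlatMod.freeMod (Spec R) r, ⊤) :=
      projective_sections_of_isFinLocFree _ hF (isAffineOpen_top _)
    have hpdK : HasProjectiveDimensionLT (ModuleCat.of Γ(Spec R, ⊤) Γ(kernel π, ⊤)) (n + 1) :=
      @pdLT_sections_X₁ _ _ hS q1 q2 q3 _ (isAffineOpen_top (Spec R)) n hP hpd
    exact isPerfect_inD_X₃ _ hS (ih _ hK hpdK) (isPerfect_inD_of_isFinLocFree _ hF)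

/-- regularity of the localizations of the ring of sections over an affine open -/
theorem regular_localization_of_stalks {U : X.Opens} (hU : IsAffineOpen U)
    (hreg : ∀ x : X, IsRegularLocalRing (X.presheaf.stalk x)) (p : PrimeSpectrum Γ(X, U)) :
    IsRegularLocalRing (Localization.AtPrime p.asIdeal) := by
  let x : ↥U := hU.isoSpec.inv p
  have hp : hU.primeIdealOf x = p := by
    change hU.isoSpec.hom (hU.isoSpec.inv p) = p
    rw [← Scheme.Hom.comp_apply, Iso.inv_hom_id]
    rfl
  rw [← hp]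
  exact (Groth.Agent.Lib.Helper77.RegularScheme.stalk_regular_iff hU x.1 x.2).1 (hreg x.1)

/-- restriction along an open immersion preserves coherence -/
theorem isCoh_restrict' {Y : Scheme.{u}} (j : Y ⟶ X) [IsOpenImmersion j] (M : X.Modules)
    (hM : Coh.IsCoh M) : Coh.IsCoh (M.restrict j) := by
  haveI := hM.1
  refine ⟨inferInstance, ?_⟩
  have h1 := Groth.Agent.Lib.Helper21.CohPullback.isFiniteType_pullback j M hM.2
  let e : M.restrict j ≅ (Scheme.Modules.pullback j).obj M :=
    (Scheme.Modules.restrictFunctorIsoPullback j).app M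
  exact Groth.Agent.Lib.Helper21.CohNoeth.isFiniteType_of_epi e.inv h1

theorem isPerfect_inD_of_isCoh_Spec {R : CommRingCat.{u}} [IsLocallyNoetherian (Spec R)]
    (hreg : ∀ y : Spec R, IsRegularLocalRing ((Spec R).presheaf.stalk y))
    (N : (Spec R).Modules) (hN : Coh.IsCoh N) : DCoh.IsPerfect (DCoh.inD (Spec R) N) := by
  haveI : IsNoetherianRing Γ(Spec R, ⊤) :=
    IsLocallyNoetherian.component_noetherian ⟨⊤, isAffineOpen_top _⟩
  haveI := hN.1
  haveI : Module.Finite Γ(Spec R, ⊤) Γ(N, ⊤) :=
    finite_sections_of_isFiniteType N hN.2 (isAffineOpen_top _)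
  obtain ⟨n, hn⟩ := Groth.Agent.Lib.Helper77.RegularGlobal.exists_hasProjectiveDimensionLE
    Γ(Spec R, ⊤) (regular_localization_of_stalks (isAffineOpen_top _) hreg) Γ(N, ⊤)
  exact isPerfect_inD_of_pdLT_Spec n N hN hn

/-- **coherent modules on a regular locally Noetherian scheme are perfect** -/
theorem isPerfect_inD_of_isCoh_of_regular [IsLocallyNoetherian X]
    (hreg : ∀ x : X, IsRegularLocalRing (X.presheaf.stalk x)) (G : X.Modules)
    (hG : Coh.IsCoh G) : DCoh.IsPerfect (DCoh.inD X G) := by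
  rw [isPerfect_iff]
  intro x
  obtain ⟨_, ⟨U, hU : IsAffineOpen U, rfl⟩, hxU, -⟩ :=
    (X.isBasis_affineOpens).exists_subset_of_mem_open (Set.mem_univ x) isOpen_univ
  have hx : x ∈ Set.range hU.fromSpec := by
    rw [hU.range_fromSpec]; exact hxU
  obtain ⟨y, rfl⟩ := hx
  apply perfAt_of_resD hU.fromSpec _ y
  haveI : IsLocallyNoetherian (Spec Γ(X, U)) := isLocallyNoetherian_of_isOpenImmersion hU.fromSpec
  have hregY : ∀ y, IsRegularLocalRing ((Spec Γ(X, U)).presheaf.stalk y) := fun y => by
    haveI := hreg (hU.fromSpec y)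
    exact IsRegularLocalRing.of_ringEquiv (asIso (hU.fromSpec.stalkMap y)).commRingCatIsoToRingEquiv
  have hN : Coh.IsCoh (G.restrict hU.fromSpec) := isCoh_restrict' hU.fromSpec G hG
  have hP := isPerfect_inD_of_isCoh_Spec hregY _ hN
  exact perfAt_of_iso
    (((Scheme.Modules.restrictFunctor hU.fromSpec).mapDerivedCategorySingleFunctor 0).app G).symm
    ((isPerfect_iff _).1 hP y)

open Groth.Agent.Lib.Helper84 Groth.Agent.Lib.Helper15.CohSuppK0 DerivedCategory in
/-- bounded complexes with coherent cohomology on a regular locally Noetherian scheme are perfect -/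
theorem isPerfect_of_bounded_coherent_of_regular [IsLocallyNoetherian X]
    (hreg : ∀ x : X, IsRegularLocalRing (X.presheaf.stalk x)) (K : DCoh.D X) (a b : ℤ)
    (ha : K.IsGE a) (hb : K.IsLE b) (hK : DCoh.IsCohD K) : DCoh.IsPerfect K := by
  have hperf : ∀ G : X.Modules, Coh.IsCoh G → CohB1.support G ⊆ Set.univ →
      DCoh.IsPerfect (DCoh.inD X G) :=
    fun G hG _ => isPerfect_inD_of_isCoh_of_regular hreg G hG
  exact isPerfect_of_qP Set.univ hperf K ⟨fun i => ⟨hK i, Set.subset_univ _⟩, a, b, ha, hb⟩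

end Groth.Agent.Lib.Helper15.RegPerfect
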