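import Groth.Agent.Lib.Helper15.TildePerf
import Groth.Agent.Lib.Helper12.StalkTor
import Groth.Agent.Lib.Helper2.StalkLpull
import Groth.Prelude.Def_DCoh3

/-!
# Relative tor amplitude: stalkwise form versus `S`-flat representatives (helper15)
-/

set_option autoImplicit false
set_option linter.style.haveILetI false
universe u

open CategoryTheory CategoryTheory.Limits AlgebraicGeometry Opposite TopologicalSpace TensorProduct
attribute [local instance] HasDerivedCategory.standard

namespace Groth.Agent.Lib.Helper15.RelAmp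

open Groth.Agent.Lib.Helper84.FlatBC Groth.Agent.Lib.Helper84.FlatAmp DRing

section UnitIso

variable {A S : Type u} [CommRing A] [CommRing S] (σ : A →+* S)

theorem isIso_unit_app (hσ : Function.Bijective σ) (M : ModuleCat.{u} A) :
    IsIso ((ModuleCat.extendRestrictScalarsAdj σ).unit.app M) := by
  rw [ConcreteCategory.isIso_iff_bijective]
  letI := σ.toAlgebra
  haveI : Module.FaithfullyFlat A S := RingHom.FaithfullyFlat.of_bijective hσ
  constructor
  · intro m m' h
    have h1 : (1 : S) ⊗ₜ[A] m = (1 : S) ⊗ₜ[A] m' := h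
    exact Module.FaithfullyFlat.tensorProduct_mk_injective (A := A) (B := S) M h1
  · intro y
    change S ⊗[A] M at y
    induction y using TensorProduct.induction_on with
    | zero => exact ⟨0, map_zero _⟩
    | tmul s m =>
      obtain ⟨a, rfl⟩ := hσ.2 s
      refine ⟨a • m, ?_⟩
      change (1 : S) ⊗ₜ[A] (a • m) = σ a ⊗ₜ[A] m
      rw [TensorProduct.tmul_smul, TensorProduct.smul_tmul', Algebra.smul_def, mul_one]
      rfl
    | add x y hx hy =>
      obtain ⟨a, ha⟩ := hx
      obtain ⟨b, hb⟩ := hy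
      exact ⟨a + b, by rw [map_add, ha, hb]; rfl⟩

/-- for a bijective ring map, `restrict ∘ extend` is the identity -/
noncomputable def unitIso (hσ : Function.Bijective σ) :
    𝟭 (ModuleCat.{u} A) ≅ ext σ ⋙ ModuleCat.restrictScalars σ :=
  haveI : ∀ M, IsIso ((ModuleCat.extendRestrictScalarsAdj σ).unit.app M) := isIso_unit_app σ hσ
  NatIso.ofComponents (fun M => asIso ((ModuleCat.extendRestrictScalarsAdj σ).unit.app M))
    (fun f => ((ModuleCat.extendRestrictScalarsAdj σ).unit.naturality f))

end UnitIso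

section Restrict

open Groth.Agent.Lib.Helper12.StalkExact Groth.Agent.Lib.Helper12.StalkTor
  Groth.Agent.Lib.Helper2.Lpull Groth.Agent.Lib.Helper2.DCohBase DerivedCategory

variable {X S : Scheme.{u}} (f : X ⟶ S) (V : X.Opens)

theorem bijective_stalkMap_ι (x' : (V : Scheme.{u})) :
    Function.Bijective (V.ι.stalkMap x').hom :=
  ConcreteCategory.bijective_of_isIso (V.ι.stalkMap x')

/-- the stalk complex of a restriction to an open, over the stalk of the ambient scheme -/
noncomputable def stalkCxOverιIso (F : CochainComplex X.Modules ℤ) (x' : (V : Scheme.{u})) :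
    (DerSch.stalkCxOver V.ι x').obj ((resCx V.ι).obj F) ≅ (stalkCx X (V.ι.base x')).obj F :=
  (DRing.restrictCx (V.ι.stalkMap x').hom).mapIso
      ((stalkCx (V : Scheme.{u}) x').mapIso ((resCxIsoPbCx V.ι).app F) ≪≫ stalkPbCxIso V.ι F x') ≪≫
    ((NatIso.mapHomologicalComplex (unitIso (V.ι.stalkMap x').hom (bijective_stalkMap_ι V x'))
      (ComplexShape.up ℤ)).app ((stalkCx X (V.ι.base x')).obj F)).symm

/-- the stalk complex of a restriction to an open, over the base -/
noncomputable def stalkCxOverResIso (F : CochainComplex X.Modules ℤ) (x' : (V : Scheme.{u})) :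
    (DerSch.stalkCxOver (V.ι ≫ f) x').obj ((resCx V.ι).obj F) ≅
      (DerSch.stalkCxOver f (V.ι.base x')).obj F :=
  (stalkCxOverCompIso V.ι f x' ((resCx V.ι).obj F)).symm ≪≫
    (DRing.restrictCx (f.stalkMap (V.ι.base x')).hom).mapIso (stalkCxOverιIso V F x')

theorem hasTorAmplitudeAt_res_iff (F : CochainComplex X.Modules ℤ) (a b : ℤ)
    (x' : (V : Scheme.{u})) :
    DerSch.HasTorAmplitudeAt (V.ι ≫ f) a b ((resCx V.ι).obj F) x' ↔
      DerSch.HasTorAmplitudeAt f a b F (V.ι.base x') :=
  ⟨fun h => torAmp_of_iso h (Q.mapIso (stalkCxOverResIso f V F x')),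
    fun h => torAmp_of_iso h (Q.mapIso (stalkCxOverResIso f V F x')).symm⟩

end Restrict

section RelRep

open Groth.Agent.Lib.Helper12.StalkExact Groth.Agent.Lib.Helper12.StalkTor
  Groth.Agent.Lib.Helper2.StalkLpull DerivedCategory

variable {X S : Scheme.{u}} (f : X ⟶ S)

/-- flatness over the base at a point, in terms of `stalkOver` -/
theorem isFlatOverAt_iff (M : X.Modules) (x : X) :
    FlatMod.IsFlatOverAt f M x ↔
      Module.Flat (S.presheaf.stalk (f.base x)) ((DerSch.stalkOver f x).obj M) := Iff.rfl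

theorem isFlatOver_of_iso {M N : X.Modules} (e : M ≅ N) (h : FlatMod.IsFlatOver f M) :
    FlatMod.IsFlatOver f N := by
  intro x
  rw [isFlatOverAt_iff]
  have hx := (isFlatOverAt_iff f M x).1 (h x)
  exact Module.Flat.of_linearEquiv ((DerSch.stalkOver f x).mapIso e).toLinearEquiv.symm

theorem isFlatOver_of_isZero {M : X.Modules} (h : IsZero M) : FlatMod.IsFlatOver f M := by
  intro x
  rw [isFlatOverAt_iff]
  have hz : IsZero ((DerSch.stalkOver f x).obj M) := Functor.map_isZero _ h
  have := ModuleCat.isZero_iff_subsingleton.1 hz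
  infer_instance

/-- a flat `O_X`-module is flat over the base of a flat morphism -/
theorem isFlatOver_of_isFlat [Flat f] {M : X.Modules} (h : FlatMod.IsFlat M) :
    FlatMod.IsFlatOver f M := by
  intro x
  have hfl : (f.stalkMap x).hom.Flat := (Flat.iff_flat_stalkMap f).1 inferInstance x
  letI := (f.stalkMap x).hom.toAlgebra
  haveI : Module.Flat (S.presheaf.stalk (f.base x)) (X.presheaf.stalk x) := hfl
  letI := FlatMod.moduleStalkOver f M x
  haveI : IsScalarTower (S.presheaf.stalk (f.base x)) (X.presheaf.stalk x)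
      (M.presheaf.stalk x) := IsScalarTower.of_algebraMap_smul fun r m => rfl
  haveI : Module.Flat (X.presheaf.stalk x) (M.presheaf.stalk x) := h x
  exact Module.Flat.trans (S.presheaf.stalk (f.base x)) (X.presheaf.stalk x) (M.presheaf.stalk x)

theorem hasTorAmplitude_of_hasRelFlatAmplitudeIn (F : CochainComplex X.Modules ℤ) (a b : ℤ)
    (h : DCoh.HasRelFlatAmplitudeIn f a b (DCoh.toD X F)) : DerSch.HasTorAmplitude f a b F := by
  obtain ⟨E, hE, hflat, ⟨e⟩⟩ := h
  intro x
  refine ⟨(DerSch.stalkCxOver f x).obj E, ?_, ?_, ⟨stalkCxOverDIso f e x⟩⟩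
  · intro i hi
    exact Functor.map_isZero (DerSch.stalkOver f x) (hE i hi)
  · intro i
    exact hflat i x

/-- `opcycles` of the complex of stalks over the base -/
noncomputable def stalkOverOpcyclesIso (K : CochainComplex X.Modules ℤ) (x : X) (i : ℤ) :
    ((DerSch.stalkCxOver f x).obj K).opcycles i ≅ (DerSch.stalkOver f x).obj (K.opcycles i) :=
  (K.sc i).mapOpcyclesIso (DerSch.stalkOver f x)

theorem exactAt_stalkCxOver_iff (K : CochainComplex X.Modules ℤ) (x : X) (i : ℤ) :
    ((DerSch.stalkCxOver f x).obj K).ExactAt i ↔ ((stalkCx X x).obj K).ExactAt i :=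
  Groth.Agent.Lib.Helper15.ExactFunctorD.exactAt_map_iff
    (ModuleCat.restrictScalars (f.stalkMap x).hom) ((stalkCx X x).obj K) i

/-- **relative version of the flat-representative criterion**: for flat `f`, stalkwise tor
amplitude in `[a, b]` relative to `f` gives a representative by `S`-flat modules in `[a, b]` -/
theorem hasRelFlatAmplitudeIn_of_hasTorAmplitude [Flat f] (F : CochainComplex X.Modules ℤ)
    (a b : ℤ) (h : DerSch.HasTorAmplitude f a b F) :
    DCoh.HasRelFlatAmplitudeIn f a b (DCoh.toD X F) := by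
  have hFle : F.IsLE b := by
    rw [CochainComplex.isLE_iff]
    intro i hi
    rw [exactAt_iff_stalk]
    intro x
    rw [← exactAt_stalkCxOver_iff f F x i]
    have : (DRing.toD ((DerSch.stalkCxOver f x).obj F)).IsLE b := torAmp_isLE (h x)
    have h1 : ((DerSch.stalkCxOver f x).obj F).IsLE b :=
      (DerivedCategory.isLE_Q_obj_iff _ b).mp inferInstance
    exact (CochainComplex.isLE_iff _ b).1 h1 i hi
  have hι : QuasiIso (F.ιTruncLE b) := (CochainComplex.quasiIso_ιTruncLE_iff F b).mpr hFle
  obtain ⟨R, q, hq, hRb, hRflX⟩ := exists_flat_resolution (F.truncLE b) b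
      (fun i hi => CochainComplex.isZero_of_isStrictlyLE (F.truncLE b) b i hi)
  let eR : DCoh.toD X R ≅ DCoh.toD X F := qIso q hq ≪≫ qIso (F.ιTruncLE b) hι
  have hRflS : ∀ i, FlatMod.IsFlatOver f (R.X i) := fun i => isFlatOver_of_isFlat f (hRflX i)
  have key : ∀ x : X, Module.Flat (S.presheaf.stalk (f.base x))
      (((DerSch.stalkCxOver f x).obj R).opcycles a) ∧
      ∀ i : ℤ, i < a → ((DerSch.stalkCxOver f x).obj R).ExactAt i := by
    intro x
    apply Groth.Agent.Lib.Helper43.TorAmpDescent.flat_opcycles_of_hasTorAmplitudeIn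
      ((DerSch.stalkCxOver f x).obj R) b
    · intro i hi
      exact Functor.map_isZero (DerSch.stalkOver f x) (hRb i hi)
    · intro i
      exact hRflS i x
    · exact torAmp_of_iso (h x) (stalkCxOverDIso f eR x).symm
  have hRge : R.IsGE a := by
    rw [CochainComplex.isGE_iff]
    intro i hi
    rw [exactAt_iff_stalk]
    intro x
    rw [← exactAt_stalkCxOver_iff f R x i]
    exact (key x).2 i hi
  have hπ : QuasiIso (R.πTruncGE a) := (CochainComplex.quasiIso_πTruncGE_iff R a).mpr hRge
  have hop : FlatMod.IsFlatOver f (R.opcycles a) := by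
    intro x
    rw [isFlatOverAt_iff]
    have := (key x).1
    exact Module.Flat.of_linearEquiv (stalkOverOpcyclesIso f R x a).toLinearEquiv.symm
  refine ⟨R.truncGE a, ?_, ?_, ⟨(qIso (R.πTruncGE a) hπ).symm ≪≫ eR⟩⟩
  · intro i hi
    rcases lt_trichotomy i a with hlt | rfl | hgt
    · exact CochainComplex.isZero_of_isStrictlyGE _ a i hlt
    · have hi' : b < i := by
        rcases hi with hi | hi
        · exact absurd hi (lt_irrefl _)
        · exact hi
      exact IsZero.of_iso (IsZero.of_epi (R.pOpcycles i) (hRb i hi')) (R.truncGEXIsoOpcycles i)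
    · have hi' : b < i := by
        rcases hi with hi | hi
        · lia
        · exact hi
      exact IsZero.of_iso (hRb i hi') (R.truncGEXIso a i hgt)
  · intro i
    rcases lt_trichotomy i a with hlt | rfl | hgt
    · exact isFlatOver_of_isZero f (CochainComplex.isZero_of_isStrictlyGE _ a i hlt)
    · exact isFlatOver_of_iso f (R.truncGEXIsoOpcycles i).symm hop
    · exact isFlatOver_of_iso f (R.truncGEXIso a i hgt).symm (hRflS i)

theorem hasRelFlatAmplitudeIn_iff [Flat f] (F : CochainComplex X.Modules ℤ) (a b : ℤ) :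
    DCoh.HasRelFlatAmplitudeIn f a b (DCoh.toD X F) ↔ DerSch.HasTorAmplitude f a b F :=
  ⟨hasTorAmplitude_of_hasRelFlatAmplitudeIn f F a b,
    hasRelFlatAmplitudeIn_of_hasTorAmplitude f F a b⟩

end RelRep

section Loc

open Groth.Agent.Lib.Helper2.DCohBase DerivedCategory

variable {X S : Scheme.{u}} (f : X ⟶ S)

/-- local `S`-flat representatives give stalkwise tor amplitude on the open -/
theorem hasTorAmplitudeAt_of_local (F : CochainComplex X.Modules ℤ) (V : X.Opens) (a b : ℤ)
    (h : DCoh.HasRelFlatAmplitudeIn (V.ι ≫ f) a b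
      (DerivedCategory.Q.obj ((DCoh.restrictCx V).obj F))) (x' : (V : Scheme.{u})) :
    DerSch.HasTorAmplitudeAt f a b F (V.ι.base x') :=
  (hasTorAmplitudeAt_res_iff f V F a b x').1
    (hasTorAmplitude_of_hasRelFlatAmplitudeIn (V.ι ≫ f) _ a b h x')

/-- on a quasi-compact scheme, local finite relative tor dimension gives a uniform stalkwise tor
amplitude -/
theorem exists_hasTorAmplitude_of_locHasFiniteRelTorDim [CompactSpace X]
    (F : CochainComplex X.Modules ℤ) (h : DCoh.LocHasFiniteRelTorDim f (DCoh.toD X F)) :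
    ∃ a b : ℤ, DerSch.HasTorAmplitude f a b F := by
  have key : ∀ x : X, ∃ (V : X.Opens) (a b : ℤ), x ∈ V ∧
      ∀ x' : (V : Scheme.{u}), DerSch.HasTorAmplitudeAt f a b F (V.ι.base x') := by
    intro x
    obtain ⟨V, a, b, hxV, hV⟩ := h x
    exact ⟨V, a, b, hxV, fun x' => hasTorAmplitudeAt_of_local f F V a b (hV F ⟨Iso.refl _⟩) x'⟩
  choose V a b hxV hV using key
  obtain ⟨s, hs⟩ := isCompact_univ.elim_finite_subcover (fun x => (V x : Set X))
    (fun x => (V x).isOpen) (fun x _ => Set.mem_iUnion.2 ⟨x, hxV x⟩)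
  obtain ⟨A, hA⟩ := (s.image (fun x => -a x)).exists_le
  obtain ⟨B, hB⟩ := (s.image b).exists_le
  refine ⟨-A, B, fun y => ?_⟩
  obtain ⟨x, hx⟩ := Set.mem_iUnion.1 (hs (Set.mem_univ y))
  obtain ⟨hxs, hyV⟩ := Set.mem_iUnion.1 hx
  have h1 := hV x ⟨y, hyV⟩
  have h2 := hA (-a x) (Finset.mem_image_of_mem (fun x => -a x) hxs)
  have h3 := hB (b x) (Finset.mem_image_of_mem b hxs)
  exact torAmp_mono h1 (by omega) (by omega)

/-- for flat `f`, stalkwise tor amplitude of every representative gives local finite relative tor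
dimension -/
theorem locHasFiniteRelTorDim_of_hasTorAmplitude [Flat f] (K : DCoh.D X) (a b : ℤ)
    (h : ∀ F' : CochainComplex X.Modules ℤ, Nonempty (DCoh.toD X F' ≅ K) →
      DerSch.HasTorAmplitude f a b F') : DCoh.LocHasFiniteRelTorDim f K := by
  intro x
  refine ⟨⊤, a, b, trivial, fun F' hF' => ?_⟩
  apply hasRelFlatAmplitudeIn_of_hasTorAmplitude
  intro x'
  exact (hasTorAmplitudeAt_res_iff f ⊤ F' a b x').2 (h F' hF' _)

end Loc

end Groth.Agent.Lib.Helper15.RelAmp
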