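import Groth.Agent.Lib.Helper15.RelResJ

/-!
# Relatively perfect complexes, local form (helper15)

* `FPFlatOver g M`: `M` finitely presented and flat over the base of `g`.
* `RPAt f K x`: near `x`, `K` is represented by a bounded complex of `FPFlatOver` modules.
* `rpAt_core`, `rpAt_of_pc_of_locTor`: pseudo-coherent + locally finite relative tor dimension ⇒
  `RPAt` at every point (flat `f`).
* `exists_opens_of_rpAt`: passage to the `X.Opens` form; `isFP_restrict`, `pcAt_restrict`.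
-/

set_option autoImplicit false
set_option linter.style.haveILetI false
universe u
open CategoryTheory Limits AlgebraicGeometry HomologicalComplex
attribute [local instance] HasDerivedCategory.standard

namespace Groth.Agent.Lib.Helper15.RelPerfLoc

open Scheme.Modules Groth.Agent.Lib.Helper2.DCohFlat
open Groth.Agent.Lib.Helper2.DCohBase Groth.Agent.Lib.Helper2.DCohHom
open Groth.Agent.Lib.Helper2.DCohCoh Groth.Agent.Lib.Helper2.DCohOpens
open Groth.Agent.Lib.Helper2.DCohPC Groth.Agent.Lib.Helper2.DCohPerf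
open Groth.Agent.Lib.Helper2.DCohLift Groth.Agent.Lib.Helper2.DCohFP
open Groth.Agent.Lib.Helper2.DCohTorAmp
open Groth.Agent.Lib.Helper15.MQI Groth.Agent.Lib.Helper12.StalkExact DRing
open Groth.Agent.Lib.Helper84.FlatAmp Groth.Agent.Lib.Helper84.FlatBC
open Groth.Agent.Lib.Helper15.RelAmp Groth.Agent.Lib.Helper15.RelResJ
open Groth.Agent.Lib.Helper15.PcSpreadS

section Chain

variable {W S : Scheme.{u}} (g : W ⟶ S)

/-- relative flatness of `P^a / B^a(P)` for an `(a - 1)`-pseudo-coherence datum `P ⟶ G` onto a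
complex of `S`-flat modules in `[a, b]` -/
theorem isFlatOver_opcycles [Flat g] (P G : CochainComplex W.Modules ℤ) (φ : P ⟶ G) (a b : ℤ)
    (hφ : IsPC (a - 1) P (DerivedCategory.Q.map φ)) (hG : DCoh.VanishesOutside G a b)
    (hGfl : ∀ i : ℤ, FlatMod.IsFlatOver g (G.X i)) :
    FlatMod.IsFlatOver g (P.opcycles a) := by
  intro y
  obtain ⟨⟨⟨a', b', hP0⟩, hPfl⟩, hiso, hepi⟩ := hφ
  have hα : IsMQI (a - 1) (DerivedCategory.Q.map ((DerSch.stalkCxOver g y).map φ)) :=
    isMQI_Q_map (DerSch.stalkOver g y) φ (a - 1) ⟨hiso, hepi⟩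
  have hfl : Module.Flat (S.presheaf.stalk (g.base y)) (((DerSch.stalkCxOver g y).obj P).opcycles a) := by
    refine Groth.Agent.Lib.Helper15.PcSpreadR.flat_opcycles_of_isMQI _ ((DerSch.stalkCxOver g y).obj P)
      (DerivedCategory.Q.map ((DerSch.stalkCxOver g y).map φ)) a b b' ?_ ?_ hα ?_
    · intro i hi
      exact Functor.map_isZero (DerSch.stalkOver g y) (hP0 i (Or.inr hi))
    · intro i
      haveI := Groth.Agent.Lib.Helper2.RankSections.isQuasicoherent_of_isFinLocFree _ (hPfl i)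
      exact isFlatOver_of_isFlat g
        (Groth.Agent.Lib.Helper2.FinLocFreeAff.isFlat_of_isFinLocFree _ (hPfl i)) y
    · refine ⟨(DerSch.stalkCxOver g y).obj G, ?_, ?_, ⟨Iso.refl _⟩⟩
      · intro i hi
        exact Functor.map_isZero (DerSch.stalkOver g y) (hG i hi)
      · intro i
        exact hGfl i y
  rw [isFlatOverAt_iff]
  haveI := hfl
  exact Groth.Agent.Lib.Helper84.TensCx.flat_of_iso (stalkOverOpcyclesIso g P y a)


/-- the property of the terms: finitely presented and flat over the base -/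
def FPFlatOver (M : W.Modules) : Prop := CohB1.IsFP M ∧ FlatMod.IsFlatOver g M

variable {g}

theorem FPFlatOver.of_iso {M N : W.Modules} (e : M ≅ N) (h : FPFlatOver g M) : FPFlatOver g N :=
  ⟨isFP_of_iso e h.1, isFlatOver_of_iso g e h.2⟩

theorem FPFlatOver.of_isFinLocFree [Flat g] {M : W.Modules} (h : FlatMod.IsFinLocFree M) :
    FPFlatOver g M := by
  haveI := Groth.Agent.Lib.Helper2.RankSections.isQuasicoherent_of_isFinLocFree _ h
  exact ⟨Groth.Agent.Lib.Helper2.FinLocFreeAff.isFP_of_isFinLocFree M h,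
    isFlatOver_of_isFlat g (Groth.Agent.Lib.Helper2.FinLocFreeAff.isFlat_of_isFinLocFree _ h)⟩

theorem FPFlatOver.of_isZero [Flat g] {M : W.Modules} (h : IsZero M) : FPFlatOver g M :=
  FPFlatOver.of_isFinLocFree (isFinLocFree_of_isZero h)

variable (g)

/-- chain level: an `(a - 1)`-pseudo-coherence datum `P ⟶ G` onto a complex of `S`-flat modules in
`[a, b]` exhibits `G` as a bounded complex of finitely presented `S`-flat modules -/
theorem exists_fpFlat_of_chain [Flat g] (P G : CochainComplex W.Modules ℤ) (φ : P ⟶ G) (a b : ℤ)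
    (hφ : IsPC (a - 1) P (DerivedCategory.Q.map φ)) (hG : DCoh.VanishesOutside G a b)
    (hGfl : ∀ i : ℤ, FlatMod.IsFlatOver g (G.X i)) :
    ∃ (E' : CochainComplex W.Modules ℤ) (b' : ℤ), DCoh.VanishesOutside E' a b' ∧
      (∀ i : ℤ, FPFlatOver g (E'.X i)) ∧
      Nonempty (DerivedCategory.Q.obj G ≅ DerivedCategory.Q.obj E') := by
  have hop := isFlatOver_opcycles g P G φ a b hφ hG hGfl
  obtain ⟨hPsp, hiso, hepi⟩ := hφ
  have hopfp : CohB1.IsFP (P.opcycles a) := by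
    let e : P.opcycles a ≅ cokernel (P.d (a - 1) a) :=
      IsColimit.coconePointUniqueUpToIso
        (P.opcyclesIsCokernel (a - 1) a (by simp)) (colimit.isColimit _)
    exact isFP_of_iso e.symm (isFP_cokernel_d P hPsp (a - 1) a)
  obtain ⟨⟨a', b', hP0⟩, hPfl⟩ := hPsp
  refine ⟨P.truncGE a, max a b', ?_, ?_, ?_⟩
  · intro i hi
    rcases hi with hi | hi
    · exact (P.truncGE a).isZero_of_isStrictlyGE a i hi
    · exact IsZero.of_iso (hP0 i (Or.inr (by omega))) (P.truncGEXIso a i (by omega))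
  · intro i
    rcases lt_trichotomy i a with hi | hi | hi
    · exact FPFlatOver.of_isZero ((P.truncGE a).isZero_of_isStrictlyGE a i hi)
    · subst hi
      exact FPFlatOver.of_iso (P.truncGEXIsoOpcycles i).symm ⟨hopfp, hop⟩
    · exact FPFlatOver.of_iso (P.truncGEXIso a i hi).symm (FPFlatOver.of_isFinLocFree (hPfl i))
  · have hGa : ∀ i : ℤ, i < a → IsZero (G.homology i) := fun i hi =>
      (HomologicalComplex.exactAt_iff_isZero_homology _ _).1
        (HomologicalComplex.ExactAt.of_isZero (hG i (Or.inl hi)))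
    haveI : G.IsGE a := (CochainComplex.isGE_iff G a).2 (fun i hi =>
      (HomologicalComplex.exactAt_iff_isZero_homology _ _).2 (hGa i hi))
    haveI : QuasiIso (CochainComplex.truncGEMap φ a) :=
      (CochainComplex.quasiIso_truncGEMap_iff φ a).2 (fun i hi => by
        rw [quasiIsoAt_iff_isIso_homologyMap]
        exact isIso_homologyMap_of_Q φ i (hiso i (by omega)))
    haveI : QuasiIso (G.πTruncGE a) := inferInstance
    haveI : IsIso (DerivedCategory.Q.map (G.πTruncGE a)) := by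
      rw [DerivedCategory.isIso_Q_map_iff_quasiIso]
      infer_instance
    exact ⟨asIso (DerivedCategory.Q.map (G.πTruncGE a)) ≪≫
      (asIso (DerivedCategory.Q.map (CochainComplex.truncGEMap φ a))).symm⟩

end Chain


section Core

variable {X S : Scheme.{u}} (f : X ⟶ S)

/-- `K` is relatively perfect near `x`: on a neighbourhood it is represented by a bounded complex of
finitely presented modules flat over the base -/
def RPAt (K : DCoh.D X) (x : X) : Prop :=
  ∃ (U : Scheme.{u}) (j : U ⟶ X) (_ : IsOpenImmersion j), x ∈ Set.range j ∧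
    ∃ (G : CochainComplex U.Modules ℤ) (a b : ℤ), DCoh.VanishesOutside G a b ∧
      (∀ i : ℤ, FPFlatOver (j ≫ f) (G.X i)) ∧
      Nonempty ((resD j).obj K ≅ DerivedCategory.Q.obj G)

theorem rpAt_of_iso {K K' : DCoh.D X} (e : K ≅ K') {x : X} (h : RPAt f K x) : RPAt f K' x := by
  obtain ⟨U, j, hj, hx, G, a, b, h1, h2, ⟨ε⟩⟩ := h
  haveI := hj
  exact ⟨U, j, hj, hx, G, a, b, h1, h2, ⟨(resD j).mapIso e.symm ≪≫ ε⟩⟩

theorem rpAt_of_resD {U : Scheme.{u}} (j : U ⟶ X) [IsOpenImmersion j] (K : DCoh.D X) (y : U)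
    (h : RPAt (j ≫ f) ((resD j).obj K) y) : RPAt f K (j y) := by
  obtain ⟨U', j', hj', ⟨z, hz⟩, G, a, b, h1, h2, ⟨ε⟩⟩ := h
  haveI := hj'
  refine ⟨U', j' ≫ j, inferInstance, ⟨z, by rw [Scheme.Hom.comp_apply, hz]⟩, G, a, b, h1, ?_,
    ⟨resDComp j j' K ≪≫ ε⟩⟩
  intro i
  rw [Category.assoc]
  exact h2 i

/-- **Core**: a complex of `S`-flat modules in `[a, b]` which is `(a - 1)`-pseudo-coherent near `x`
is relatively perfect near `x`. -/
theorem rpAt_core [Flat f] (G : CochainComplex X.Modules ℤ) (a b : ℤ)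
    (hG : DCoh.VanishesOutside G a b) (hGfl : ∀ i : ℤ, FlatMod.IsFlatOver f (G.X i)) (x : X)
    (hpc : PCAt (a - 1) (DerivedCategory.Q.obj G) x) : RPAt f (DerivedCategory.Q.obj G) x := by
  obtain ⟨U₁, j₁, hj₁, ⟨y₁, rfl⟩, hd⟩ := hpc
  haveI := hj₁
  let G₁ := (resCx j₁).obj G
  obtain ⟨P, α, hP, hiso, hepi⟩ := hd.of_iso (resDQ j₁ G)
  obtain ⟨U₂, j₂, hj₂, ⟨y₂, rfl⟩, φ, hφ⟩ := exists_rep_locally P G₁ hP α y₁
  haveI := hj₂
  let P₂ := (resCx j₂).obj P
  let G₂ := (resCx j₂).obj G₁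
  have hα₂ : IsPC (a - 1) P₂ ((resFac j₂).inv.app P ≫ (resD j₂).map α) :=
    IsPC.restrict ⟨hP, hiso, hepi⟩ j₂
  have hQf : DerivedCategory.Q.map φ =
      ((resFac j₂).inv.app P ≫ (resD j₂).map α) ≫ (resFac j₂).hom.app G₁ := by
    rw [hφ]
    simp
  have hPC : IsPC (a - 1) P₂ (DerivedCategory.Q.map φ) := by
    rw [hQf]
    obtain ⟨h1, h2, h3⟩ := hα₂
    refine ⟨h1, fun i hi => ?_, ?_⟩
    · rw [Functor.map_comp]
      haveI := h2 i hi
      infer_instance
    · rw [Functor.map_comp]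
      infer_instance
  have hG₂ : DCoh.VanishesOutside G₂ a b := fun i hi =>
    (restrictFunctor j₂).map_isZero ((restrictFunctor j₁).map_isZero (hG i hi))
  have hG₂fl : ∀ i : ℤ, FlatMod.IsFlatOver (j₂ ≫ j₁ ≫ f) (G₂.X i) :=
    isFlatOver_resCx (j₁ ≫ f) j₂ G₁ (isFlatOver_resCx f j₁ G hGfl)
  obtain ⟨E', b', hE', hterms, ⟨ε⟩⟩ :=
    exists_fpFlat_of_chain (j₂ ≫ j₁ ≫ f) P₂ G₂ φ a b hPC hG₂ hG₂fl
  refine ⟨U₂, j₂ ≫ j₁, inferInstance, ⟨y₂, by rw [Scheme.Hom.comp_apply]⟩, E', a, b', hE', ?_,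
    ⟨resDComp j₁ j₂ _ ≪≫ (resD j₂).mapIso (resDQ j₁ G) ≪≫ resDQ j₂ G₁ ≪≫ ε⟩⟩
  intro i
  rw [Category.assoc]
  exact hterms i

end Core



section FPRestrict

variable {X U : Scheme.{u}} (j : U ⟶ X) [IsOpenImmersion j]

set_option backward.isDefEq.respectTransparency false in
/-- finite presentation is preserved by restriction along an open immersion -/
theorem isFP_restrict (M : X.Modules) (hM : CohB1.IsFP M) :
    CohB1.IsFP ((restrictFunctor j).obj M) := by
  refine isFP_of_locally_hasFinPres _ (fun y => ?_)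
  obtain ⟨V, hxV, hV⟩ := exists_hasFinPres_restrict M hM (j y)
  refine ⟨j ⁻¹ᵁ V, hxV, ?_⟩
  let e1 : (restrictFunctor (j ⁻¹ᵁ V).ι).obj ((restrictFunctor j).obj M) ≅
      (restrictFunctor (j ∣_ V)).obj ((restrictFunctor V.ι).obj M) :=
    ((restrictFunctorComp (j ⁻¹ᵁ V).ι j).app M).symm ≪≫
      (restrictFunctorCongr (morphismRestrict_ι j V).symm).app M ≪≫
      (restrictFunctorComp (j ∣_ V) V.ι).app M
  have : PreservesColimitsOfSize.{u, u} (restrictFunctor (j ∣_ V)) := inferInstance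
  exact (hV.map (restrictFunctor (j ∣_ V)) (Scheme.Modules.restrictUnitIso _).symm).of_iso e1.symm

end FPRestrict

section Assemble

variable {X S : Scheme.{u}} (f : X ⟶ S)

theorem pcAt_restrict {m : ℤ} {U : Scheme.{u}} (j : U ⟶ X) [IsOpenImmersion j] (K : DCoh.D X)
    (y : U) (h : PCAt m K (j y)) : PCAt m ((resD j).obj K) y := by
  obtain ⟨U₁, j₁, hj₁, hx₁, h₁⟩ := h
  haveI := hj₁
  refine ⟨pullback j₁ j, pullback.snd j₁ j, inferInstance, ?_, ?_⟩
  · rw [IsOpenImmersion.range_pullbackSnd]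
    exact hx₁
  · exact (h₁.restrict (pullback.fst j₁ j)).of_iso
      ((resDComp j₁ (pullback.fst j₁ j) K).symm ≪≫ resDCongr pullback.condition K ≪≫
        resDComp j (pullback.snd j₁ j) K)

/-- pseudo-coherent + locally of finite relative tor dimension ⇒ relatively perfect near any
point -/
theorem rpAt_of_pc_of_locTor [Flat f] (E : DCoh.D X)
    (hpc : ∀ m : ℤ, DCoh.IsPseudoCoherentD m E) (htor : DCoh.LocHasFiniteRelTorDim f E) (x : X) :
    RPAt f E x := by
  obtain ⟨F₀, ⟨e₀⟩⟩ := exists_rep E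
  obtain ⟨V, a, b, hxV, hV⟩ := htor x
  obtain ⟨G, hG, hGfl, ⟨e⟩⟩ := hV F₀ ⟨e₀⟩
  have h1 : PCAt (a - 1) E (V.ι ⟨x, hxV⟩) := (isPseudoCoherentD_iff _ E).1 (hpc _) x
  have h2 : PCAt (a - 1) ((resD V.ι).obj E) ⟨x, hxV⟩ := pcAt_restrict V.ι E ⟨x, hxV⟩ h1
  let ε : (resD V.ι).obj E ≅ DerivedCategory.Q.obj G :=
    (resD V.ι).mapIso e₀.symm ≪≫ resDQ V.ι F₀ ≪≫ e.symm
  have h3 : PCAt (a - 1) (DerivedCategory.Q.obj G) ⟨x, hxV⟩ := pcAt_of_iso ε h2
  have h4 := rpAt_core (V.ι ≫ f) G a b hG hGfl ⟨x, hxV⟩ h3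
  have h5 : RPAt (V.ι ≫ f) ((resD V.ι).obj E) ⟨x, hxV⟩ := rpAt_of_iso _ ε.symm h4
  exact rpAt_of_resD f V.ι E ⟨x, hxV⟩ h5

/-- passage from the abstract local form to the `X.Opens` form -/
theorem exists_opens_of_rpAt (E : DCoh.D X) (x : X) (h : RPAt f E x) :
    ∃ V : X.Opens, x ∈ V ∧ ∀ F : CochainComplex X.Modules ℤ, Nonempty (DCoh.toD X F ≅ E) →
      ∃ (G : CochainComplex (V : Scheme.{u}).Modules ℤ) (a b : ℤ), DCoh.VanishesOutside G a b ∧
        (∀ i : ℤ, CohB1.IsFP (G.X i) ∧ FlatMod.IsFlatOver (V.ι ≫ f) (G.X i)) ∧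
        Nonempty (DerivedCategory.Q.obj ((DCoh.restrictCx V).obj F) ≅ DerivedCategory.Q.obj G) := by
  obtain ⟨U, j, hj, hx, G, a, b, h1, h2, ⟨ε⟩⟩ := h
  haveI := hj
  refine ⟨j.opensRange, hx, fun F ⟨e'⟩ => ?_⟩
  let k := j.isoOpensRange.inv
  have hk : k ≫ j = j.opensRange.ι := Scheme.Hom.isoOpensRange_inv_comp j
  refine ⟨(resCx k).obj G, a, b, fun i hi => (restrictFunctor k).map_isZero (h1 i hi), ?_, ⟨?_⟩⟩
  · intro i
    refine ⟨?_, ?_⟩
    · exact isFP_restrict k _ (h2 i).1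
    · have := isFlatOver_resCx (j ≫ f) k G (fun i => (h2 i).2) i
      rw [← Category.assoc, hk] at this
      exact this
  · exact DerivedCategory.Q.mapIso ((resCxCongr hk F).symm ≪≫ resCxComp j k F) ≪≫
      (resDQ k ((resCx j).obj F)).symm ≪≫
      (resD k).mapIso ((resDQ j F).symm ≪≫ (resD j).mapIso e' ≪≫ ε) ≪≫ resDQ k G

end Assemble

end Groth.Agent.Lib.Helper15.RelPerfLoc
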