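import Groth.Agent.Lib.Helper15.RelAmp
import Groth.Agent.Lib.Helper84.FlatAmpTri
import Groth.Agent.Lib.Helper2.DCohPC

/-!
# `S`-perfect objects form a thick triangulated subcategory (helper15)
-/

set_option autoImplicit false
set_option linter.style.haveILetI false
universe u

open CategoryTheory CategoryTheory.Limits AlgebraicGeometry Opposite TopologicalSpace
open CategoryTheory.Pretriangulated
attribute [local instance] HasDerivedCategory.standard

namespace Groth.Agent.Lib.Helper15.RelPerfTri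

open Groth.Agent.Lib.Helper84.FlatAmp DRing
  Groth.Agent.Lib.Helper15.RelAmp Groth.Agent.Lib.Helper2.DCohBase Groth.Agent.Lib.Helper2.DCohPC
  Groth.Agent.Lib.Helper12.StalkExact DerivedCategory

variable {X S : Scheme.{u}} (f : X ⟶ S)

/-- the stalk functor over the base, on derived categories -/
noncomputable abbrev stalkD (x : X) : DCoh.D X ⥤ Dual.D (S.presheaf.stalk (f.base x)) :=
  (DerSch.stalkFunctor X x).mapDerivedCategory ⋙ DRing.restrictD (f.stalkMap x).hom

noncomputable def stalkDQIso (F : CochainComplex X.Modules ℤ) (x : X) :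
    (stalkD f x).obj (Q.obj F) ≅ DRing.toD ((DerSch.stalkCxOver f x).obj F) :=
  (DRing.restrictD (f.stalkMap x).hom).mapIso
      ((DerSch.stalkFunctor X x).mapDerivedCategoryFactors.app F) ≪≫
    Groth.Agent.Lib.Helper15.PseudoCohRes.restrictDQIso (f.stalkMap x).hom ((stalkCx X x).obj F)

/-- tor amplitude at a point, for objects of the derived category -/
def TorAt (a b : ℤ) (K : DCoh.D X) (x : X) : Prop :=
  HasTorAmplitudeIn (S.presheaf.stalk (f.base x)) a b ((stalkD f x).obj K)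

theorem torAt_Q_iff (F : CochainComplex X.Modules ℤ) (a b : ℤ) (x : X) :
    TorAt f a b (Q.obj F) x ↔ DerSch.HasTorAmplitudeAt f a b F x :=
  ⟨fun h => torAmp_of_iso h (stalkDQIso f F x), fun h => torAmp_of_iso h (stalkDQIso f F x).symm⟩

theorem torAt_of_iso {K L : DCoh.D X} (e : K ≅ L) {a b : ℤ} {x : X} (h : TorAt f a b K x) :
    TorAt f a b L x :=
  torAmp_of_iso h ((stalkD f x).mapIso e)

/-- locally finite tor amplitude, stalkwise form for objects of the derived category -/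
def LocTor (K : DCoh.D X) : Prop :=
  ∀ x : X, ∃ (V : X.Opens) (a b : ℤ), x ∈ V ∧ ∀ x' : X, x' ∈ V → TorAt f a b K x'

theorem locHasFiniteRelTorDim_iff_locTor [Flat f] (K : DCoh.D X) :
    DCoh.LocHasFiniteRelTorDim f K ↔ LocTor f K := by
  obtain ⟨F, ⟨e⟩⟩ := exists_rep K
  constructor
  · intro h x
    obtain ⟨V, a, b, hxV, hV⟩ := h x
    refine ⟨V, a, b, hxV, fun x' hx' => ?_⟩
    have h1 := hasTorAmplitudeAt_of_local f F V a b (hV F ⟨e⟩) ⟨x', hx'⟩
    exact torAt_of_iso f e ((torAt_Q_iff f F a b x').2 h1)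
  · intro h x
    obtain ⟨V, a, b, hxV, hV⟩ := h x
    refine ⟨V, a, b, hxV, fun F' ⟨e'⟩ => ?_⟩
    apply hasRelFlatAmplitudeIn_of_hasTorAmplitude
    intro x'
    refine (hasTorAmplitudeAt_res_iff f V F' a b x').2 ?_
    exact (torAt_Q_iff f F' a b _).1 (torAt_of_iso f e'.symm (hV _ x'.2))

section Closure

theorem locTor_of_isZero {K : DCoh.D X} (hK : IsZero K) : LocTor f K := fun x =>
  ⟨⊤, 0, 0, trivial, fun x' _ => torAmp_of_isZero (Functor.map_isZero (stalkD f x') hK) 0 0⟩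

theorem locTor_of_iso {K L : DCoh.D X} (e : K ≅ L) (h : LocTor f K) : LocTor f L := fun x => by
  obtain ⟨V, a, b, hxV, hV⟩ := h x
  exact ⟨V, a, b, hxV, fun x' hx' => torAt_of_iso f e (hV x' hx')⟩

theorem locTor_shift {K : DCoh.D X} (h : LocTor f K) (n : ℤ) : LocTor f (K⟦n⟧) := fun x => by
  obtain ⟨V, a, b, hxV, hV⟩ := h x
  refine ⟨V, a - n, b - n, hxV, fun x' hx' => ?_⟩
  exact torAmp_of_iso (torAmp_shift (hV x' hx') n) (((stalkD f x').commShiftIso n).app K).symm

theorem locTor_obj₂ (T : Triangle (DCoh.D X)) (hT : T ∈ distTriang _) (h₁ : LocTor f T.obj₁)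
    (h₃ : LocTor f T.obj₃) : LocTor f T.obj₂ := fun x => by
  obtain ⟨V₁, a₁, b₁, hxV₁, hV₁⟩ := h₁ x
  obtain ⟨V₃, a₃, b₃, hxV₃, hV₃⟩ := h₃ x
  refine ⟨V₁ ⊓ V₃, min a₁ a₃, max b₁ b₃, ⟨hxV₁, hxV₃⟩, fun x' hx' => ?_⟩
  have hT' := (stalkD f x').map_distinguished T hT
  exact torAmp_obj₂ _ hT' _ _
    (torAmp_mono (hV₁ x' hx'.1) (min_le_left _ _) (le_max_left _ _))
    (torAmp_mono (hV₃ x' hx'.2) (min_le_right _ _) (le_max_right _ _))

theorem locTor_of_retract {K L : DCoh.D X} (r : Retract K L) (h : LocTor f L) : LocTor f K :=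
  fun x => by
  obtain ⟨V, a, b, hxV, hV⟩ := h x
  refine ⟨V, a, b, hxV, fun x' hx' => ?_⟩
  refine torAmp_of_retract ((stalkD f x').map r.i) ((stalkD f x').map r.r) ?_ a b (hV x' hx')
  rw [← Functor.map_comp, r.retract, CategoryTheory.Functor.map_id]

end Closure

section PC

open ZeroObject

/-- pseudo-coherent in all degrees, pointwise form -/
def PCAll (K : DCoh.D X) : Prop := ∀ (m : ℤ) (x : X), PCAt m K x

theorem pcAll_iff (K : DCoh.D X) : (∀ m : ℤ, DCoh.IsPseudoCoherentD m K) ↔ PCAll K :=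
  ⟨fun h m => (isPseudoCoherentD_iff m K).1 (h m), fun h m => (isPseudoCoherentD_iff m K).2 (h m)⟩

theorem pcAll_of_isZero {K : DCoh.D X} (hK : IsZero K) : PCAll K := fun m x =>
  (pcData_of_isZero_homology K m (fun _ _ => Functor.map_isZero _ hK)).pcAt x

theorem pcAll_of_iso {K L : DCoh.D X} (e : K ≅ L) (h : PCAll K) : PCAll L := fun m x =>
  pcAt_of_iso e (h m x)

theorem pcAll_shift {K : DCoh.D X} (h : PCAll K) (n : ℤ) : PCAll (K⟦n⟧) := fun m x =>
  pcAt_shift (h (n + m) x) n m rfl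

theorem pcAll_obj₂ (T : Triangle (DCoh.D X)) (hT : T ∈ distTriang _) (h₁ : PCAll T.obj₁)
    (h₃ : PCAll T.obj₃) : PCAll T.obj₂ := fun m =>
  isPseudoCoherentD_obj₂ T hT m (h₁ m) (h₃ m)

theorem pcAll_of_retract {K L : DCoh.D X} (r : Retract K L) (h : PCAll L) : PCAll K := by
  obtain ⟨Z, g, δ, hT⟩ := distinguished_cocone_triangle r.i
  have h0 : δ = 0 := by
    have h1 : δ ≫ r.i⟦(1 : ℤ)⟧' = 0 := comp_distTriang_mor_zero₃₁ _ hT
    have h2 : r.i⟦(1 : ℤ)⟧' ≫ r.r⟦(1 : ℤ)⟧' = 𝟙 _ := by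
      rw [← CategoryTheory.Functor.map_comp, r.retract, CategoryTheory.Functor.map_id]
    calc δ = δ ≫ (r.i⟦(1 : ℤ)⟧' ≫ r.r⟦(1 : ℤ)⟧') := by rw [h2, Category.comp_id]
      _ = 0 := by rw [← Category.assoc, h1, zero_comp]
  obtain ⟨e, -, -⟩ := exists_iso_binaryBiproduct_of_distTriang _ hT h0
  intro m x
  exact pcAt_biprod_left m K Z x (pcAt_of_iso e (h m x))

end PC

section Main

open ZeroObject

/-- the `S`-perfect objects -/
def RelPerf : ObjectProperty (DCoh.D X) := fun E =>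
  (∀ m : ℤ, DCoh.IsPseudoCoherentD m E) ∧ DCoh.LocHasFiniteRelTorDim f E

theorem relPerf_iff [Flat f] (K : DCoh.D X) : RelPerf f K ↔ PCAll K ∧ LocTor f K := by
  unfold RelPerf
  rw [pcAll_iff, locHasFiniteRelTorDim_iff_locTor]

theorem relPerf_isTriangulated [Flat f] : (RelPerf f).IsTriangulated where
  exists_zero := ⟨0, isZero_zero _, (relPerf_iff f _).2
    ⟨pcAll_of_isZero (isZero_zero _), locTor_of_isZero f (isZero_zero _)⟩⟩
  isStableUnderShiftBy n :=
    { le_shift := fun K hK => by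
        obtain ⟨h1, h2⟩ := (relPerf_iff f K).1 hK
        exact (relPerf_iff f _).2 ⟨pcAll_shift h1 n, locTor_shift f h2 n⟩ }
  ext₂' T hT h₁ h₃ := by
    apply ObjectProperty.le_isoClosure
    obtain ⟨h11, h12⟩ := (relPerf_iff f _).1 h₁
    obtain ⟨h31, h32⟩ := (relPerf_iff f _).1 h₃
    exact (relPerf_iff f _).2 ⟨pcAll_obj₂ T hT h11 h31, locTor_obj₂ f T hT h12 h32⟩

theorem relPerf_isStableUnderRetracts [Flat f] : (RelPerf f).IsStableUnderRetracts where
  of_retract {K L} r hL := by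
    obtain ⟨h1, h2⟩ := (relPerf_iff f L).1 hL
    exact (relPerf_iff f K).2 ⟨pcAll_of_retract r h1, locTor_of_retract f r h2⟩

end Main

end Groth.Agent.Lib.Helper15.RelPerfTri
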