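import Groth.Agent.Lib.Helper15.RelAmp
import Groth.Agent.Lib.Helper15.PcSpreadS

/-!
# Relative stalks of a restriction along an arbitrary open immersion (helper15)
-/

set_option autoImplicit false
set_option linter.style.haveILetI false
universe u

open CategoryTheory CategoryTheory.Limits AlgebraicGeometry Opposite TopologicalSpace
attribute [local instance] HasDerivedCategory.standard

namespace Groth.Agent.Lib.Helper15.RelResJ

open Groth.Agent.Lib.Helper84.FlatBC Groth.Agent.Lib.Helper84.FlatAmp DRing
open Groth.Agent.Lib.Helper12.StalkExact Groth.Agent.Lib.Helper12.StalkTor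
  Groth.Agent.Lib.Helper2.Lpull Groth.Agent.Lib.Helper2.DCohBase DerivedCategory
  Groth.Agent.Lib.Helper15.RelAmp Scheme.Modules

variable {X S U : Scheme.{u}} (f : X ⟶ S) (j : U ⟶ X) [IsOpenImmersion j]

theorem bijective_stalkMap (y : U) : Function.Bijective (j.stalkMap y).hom :=
  ConcreteCategory.bijective_of_isIso (j.stalkMap y)

/-- the stalk complex of a restriction along an open immersion, over the stalk of the ambient
scheme -/
noncomputable def stalkCxOverJIso (F : CochainComplex X.Modules ℤ) (y : U) :
    (DerSch.stalkCxOver j y).obj ((resCx j).obj F) ≅ (stalkCx X (j.base y)).obj F :=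
  (DRing.restrictCx (j.stalkMap y).hom).mapIso
      ((stalkCx U y).mapIso ((resCxIsoPbCx j).app F) ≪≫ stalkPbCxIso j F y) ≪≫
    ((NatIso.mapHomologicalComplex (unitIso (j.stalkMap y).hom (bijective_stalkMap j y))
      (ComplexShape.up ℤ)).app ((stalkCx X (j.base y)).obj F)).symm

/-- the stalk complex of a restriction along an open immersion, over the base -/
noncomputable def stalkCxOverResJIso (F : CochainComplex X.Modules ℤ) (y : U) :
    (DerSch.stalkCxOver (j ≫ f) y).obj ((resCx j).obj F) ≅
      (DerSch.stalkCxOver f (j.base y)).obj F :=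
  (stalkCxOverCompIso j f y ((resCx j).obj F)).symm ≪≫
    (DRing.restrictCx (f.stalkMap (j.base y)).hom).mapIso (stalkCxOverJIso j F y)

/-- termwise flatness over the base is preserved by restriction along an open immersion -/
theorem isFlatOver_resCx (G : CochainComplex X.Modules ℤ)
    (h : ∀ i : ℤ, FlatMod.IsFlatOver f (G.X i)) (i : ℤ) :
    FlatMod.IsFlatOver (j ≫ f) (((resCx j).obj G).X i) := by
  intro y
  rw [isFlatOverAt_iff]
  have h1 : Module.Flat (S.presheaf.stalk (f.base (j.base y)))
      ((DerSch.stalkOver f (j.base y)).obj (G.X i)) := (isFlatOverAt_iff f (G.X i) (j.base y)).1 (h i _)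
  let e := (HomologicalComplex.eval _ _ i).mapIso (stalkCxOverResJIso f j G y)
  haveI : Module.Flat (S.presheaf.stalk ((j ≫ f).base y))
      ((HomologicalComplex.eval (ModuleCat (S.presheaf.stalk ((j ≫ f).base y)))
        (ComplexShape.up ℤ) i).obj ((DerSch.stalkCxOver f (j.base y)).obj G)) := h1
  exact Module.Flat.of_linearEquiv e.toLinearEquiv


/-- flatness over the base is preserved by restriction along an open immersion -/
theorem isFlatOver_restrict (M : X.Modules) (h : FlatMod.IsFlatOver f M) :
    FlatMod.IsFlatOver (j ≫ f) ((restrictFunctor j).obj M) := by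
  let G := (HomologicalComplex.single X.Modules (ComplexShape.up ℤ) 0).obj M
  have hG : ∀ i, FlatMod.IsFlatOver f (G.X i) := by
    intro i
    by_cases hi : i = 0
    · subst hi
      exact isFlatOver_of_iso f (HomologicalComplex.singleObjXSelf (ComplexShape.up ℤ) 0 M).symm h
    · exact isFlatOver_of_isZero f
        (HomologicalComplex.isZero_single_obj_X (ComplexShape.up ℤ) 0 M i hi)
  have := isFlatOver_resCx f j G hG 0
  exact isFlatOver_of_iso (j ≫ f)
    ((restrictFunctor j).mapIso (HomologicalComplex.singleObjXSelf (ComplexShape.up ℤ) 0 M)) this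

end Groth.Agent.Lib.Helper15.RelResJ
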