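import Groth.Agent.Lib.Helper15.RelTorAmp
import Groth.Agent.Lib.Helper43.PushoutBC

/-!
# Tor amplitude over `R` of complexes of `A`-modules is local on `Spec A` (helper15)

`torAmp_res_iff_forall_prime`: for an arbitrary ring map `φ : R → A` and a complex `K` of
`A`-modules, `K|_R` has tor amplitude in `[a, b]` iff all localizations `(K_𝔭)|_R` have.
The proof covers `A` by a polynomial ring over `R` (flat over `R`) and uses
`RelTorAmp.relTorAmp_iff_forall_prime`.
-/

set_option autoImplicit false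
set_option linter.style.haveILetI false
universe u

open CategoryTheory CategoryTheory.Limits CategoryTheory.Pretriangulated DerivedCategory
open CochainComplex TensorProduct

attribute [local instance] HasDerivedCategory.standard

namespace Groth.Agent.Lib.Helper15.RelTorAmp

open DRing Groth.Agent.Lib.Helper43 Groth.Agent.Lib.Helper84 Groth.Agent.Lib.Helper84.FlatAmp
  Groth.Agent.Lib.Helper84.FlatBC Groth.Agent.Lib.Helper84.TensCx Groth.Agent.Lib.Helper69.TorAmpWEt
  Groth.Agent.Lib.Helper15.ExactFunctorD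

section Comp

variable {A B C : Type u} [CommRing A] [CommRing B] [CommRing C]

/-- restriction of scalars of complexes along a composition -/
noncomputable def restrictCxComp (f : A →+* B) (g : B →+* C) (gf : A →+* C) (h : gf = g.comp f)
    (K : Cx C) : (restrictCx f).obj ((restrictCx g).obj K) ≅ (restrictCx gf).obj K :=
  HomologicalComplex.Hom.isoOfComponents
    (fun i => (ModuleCat.restrictScalarsComp'App f g gf h (K.X i)).symm)
    (fun i j _ => ModuleCat.restrictScalarsComp'App_inv_naturality f g gf h (K.d i j))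

/-- a termwise zero complex has every tor amplitude -/
theorem torAmp_of_termwise_isZero (K : Cx A) (h : ∀ i, IsZero (K.X i)) (a b : ℤ) :
    HasTorAmplitudeIn A a b (toD K) :=
  ⟨K, fun i _ => h i, fun i => flat_of_isZero (h i), ⟨Iso.refl _⟩⟩

end Comp

section Zero

variable {P A P' : Type u} [CommRing P] [CommRing A] [CommRing P']
  (π : P →+* A) (m' : P →+* P') (𝔭' : Ideal P) [𝔭'.IsPrime]
  (hloc' : @IsLocalization.AtPrime P _ P' _ m'.toAlgebra 𝔭' _)

include hloc' in
theorem isZero_ext_res (h : ¬ RingHom.ker π ≤ 𝔭') (M : ModuleCat.{u} A) :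
    IsZero ((ext m').obj ((ModuleCat.restrictScalars.{u} π).obj M)) := by
  obtain ⟨s, hs, hs'⟩ := SetLike.not_le_iff_exists.1 h
  rw [ModuleCat.isZero_iff_subsingleton]
  letI := m'.toAlgebra
  haveI := hloc'
  change Subsingleton (P' ⊗[P] ((ModuleCat.restrictScalars.{u} π).obj M))
  have hu : IsUnit (m' s) := IsLocalization.map_units P' (⟨s, hs'⟩ : 𝔭'.primeCompl)
  obtain ⟨u, hu⟩ := hu.exists_right_inv
  have key : ∀ z : P' ⊗[P] ((ModuleCat.restrictScalars.{u} π).obj M), z = 0 := by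
    intro z
    induction z using TensorProduct.induction_on with
    | zero => rfl
    | tmul x m =>
      have h1 : x = s • (x * u) := by
        rw [Algebra.smul_def]
        change x = m' s * (x * u)
        rw [mul_comm x u, ← mul_assoc, hu, one_mul]
      have h2 : s • m = 0 := by
        change π s • (m : M) = 0
        rw [(RingHom.mem_ker).1 hs, zero_smul]
      rw [h1, TensorProduct.smul_tmul, h2, TensorProduct.tmul_zero]
    | add x y hx hy => rw [hx, hy, add_zero]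
  exact ⟨fun x y => by rw [key x, key y]⟩

end Zero

section Compare

variable {P A P' A' : Type u} [CommRing P] [CommRing A] [CommRing P'] [CommRing A']
  (π : P →+* A) (hπ : Function.Surjective π) (𝔭 : Ideal A) [𝔭.IsPrime]
  (𝔭' : Ideal P) [𝔭'.IsPrime] (h𝔭 : 𝔭.comap π = 𝔭')
  (m' : P →+* P') (hloc' : @IsLocalization.AtPrime P _ P' _ m'.toAlgebra 𝔭' _)
  (lam : A →+* A') (hloc : @IsLocalization.AtPrime A _ A' _ lam.toAlgebra 𝔭 _)

include h𝔭 hloc in
theorem isUnit_lam_pi (y : 𝔭'.primeCompl) : IsUnit ((lam.comp π) y) := by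
  letI := lam.toAlgebra
  haveI := hloc
  have hy : π y ∈ 𝔭.primeCompl := by
    intro hmem
    have h1 : (y : P) ∈ 𝔭.comap π := hmem
    rw [h𝔭] at h1
    exact y.2 h1
  exact IsLocalization.map_units A' (⟨π y, hy⟩ : 𝔭.primeCompl)

/-- the induced map on localizations -/
noncomputable def locMap : P' →+* A' :=
  letI := m'.toAlgebra
  haveI := hloc'
  IsLocalization.lift (M := 𝔭'.primeCompl) (g := lam.comp π) (isUnit_lam_pi π 𝔭 𝔭' h𝔭 lam hloc)

theorem locMap_comp : (locMap π 𝔭 𝔭' h𝔭 m' hloc' lam hloc).comp m' = lam.comp π := by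
  letI := m'.toAlgebra
  haveI := hloc'
  exact IsLocalization.lift_comp (M := 𝔭'.primeCompl) (isUnit_lam_pi π 𝔭 𝔭' h𝔭 lam hloc)

include hπ in
/-- the comparison isomorphism `P_𝔭' ⊗_P (K|_P) ≅ (A_𝔭 ⊗_A K)|_{P_𝔭'}` -/
theorem nonempty_cmp (K : Cx A) :
    Nonempty ((extCx m').obj ((restrictCx π).obj K) ≅
      (restrictCx (locMap π 𝔭 𝔭' h𝔭 m' hloc' lam hloc)).obj ((extCx lam).obj K)) := by
  letI := m'.toAlgebra
  letI := π.toAlgebra
  letI := lam.toAlgebra
  letI := (locMap π 𝔭 𝔭' h𝔭 m' hloc' lam hloc).toAlgebra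
  letI : Algebra P A' := (lam.comp π).toAlgebra
  haveI : IsScalarTower P P' A' :=
    IsScalarTower.of_algebraMap_eq' (locMap_comp π 𝔭 𝔭' h𝔭 m' hloc' lam hloc).symm
  haveI : IsScalarTower P A A' := IsScalarTower.of_algebraMap_eq' rfl
  haveI := hloc'
  have hS : Algebra.algebraMapSubmonoid A 𝔭'.primeCompl = 𝔭.primeCompl := by
    ext x
    constructor
    · rintro ⟨y, hy, rfl⟩
      intro hmem
      have h1 : y ∈ 𝔭.comap π := hmem
      rw [h𝔭] at h1
      exact hy h1
    · intro hx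
      obtain ⟨y, rfl⟩ := hπ x
      refine ⟨y, ?_, rfl⟩
      intro hmem
      have h1 : y ∈ 𝔭' := hmem
      rw [← h𝔭] at h1
      exact hx h1
  haveI : IsLocalization (Algebra.algebraMapSubmonoid A 𝔭'.primeCompl) A' := by
    rw [hS]
    exact hloc
  haveI : Algebra.IsPushout P P' A A' :=
    (Algebra.isPushout_of_isLocalization 𝔭'.primeCompl P' A A').symm
  exact ⟨PushoutBC.cmpCx P P' A A' K⟩

end Compare

section RT

variable {R A : Type u} [CommRing R] [CommRing A] (φ : R →+* A)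
  (Ap : PrimeSpectrum A → Type u) [∀ 𝔭, CommRing (Ap 𝔭)] (lam : ∀ 𝔭, A →+* Ap 𝔭)
  (hloc : ∀ 𝔭, @IsLocalization.AtPrime A _ (Ap 𝔭) _ (lam 𝔭).toAlgebra 𝔭.asIdeal _)

include hloc in
/-- **Tor amplitude over `R` of a complex of `A`-modules is local on `Spec A`.** -/
theorem torAmp_res_iff_forall_prime (K : Cx A) (a b : ℤ) :
    HasTorAmplitudeIn R a b (toD ((restrictCx φ).obj K)) ↔
      ∀ 𝔭 : PrimeSpectrum A, HasTorAmplitudeIn R a b
        (toD ((restrictCx ((lam 𝔭).comp φ)).obj ((extCx (lam 𝔭)).obj K))) := by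
  let P := MvPolynomial A R
  let ψ : R →+* P := MvPolynomial.C
  let π : P →+* A := MvPolynomial.eval₂Hom φ id
  have hπψ : π.comp ψ = φ := by
    ext r
    exact MvPolynomial.eval₂_C φ id r
  have hπ : Function.Surjective π := fun x => ⟨MvPolynomial.X x, MvPolynomial.eval₂_X φ id x⟩
  have hψ : ψ.Flat := by
    change (algebraMap R P).Flat
    rw [RingHom.flat_algebraMap_iff]
    infer_instance
  let Pp : PrimeSpectrum P → Type u := fun 𝔭' => Localization.AtPrime 𝔭'.asIdeal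
  let mu : ∀ 𝔭' : PrimeSpectrum P, P →+* Pp 𝔭' := fun 𝔭' => algebraMap P _
  have hloc' : ∀ 𝔭' : PrimeSpectrum P,
      @IsLocalization.AtPrime P _ (Pp 𝔭') _ (mu 𝔭').toAlgebra 𝔭'.asIdeal _ := by
    intro 𝔭'
    have h1 : (mu 𝔭').toAlgebra = (inferInstance : Algebra P (Localization.AtPrime 𝔭'.asIdeal)) :=
      Algebra.algebra_ext _ _ (fun r => rfl)
    rw [h1]
    infer_instance
  have AL := relTorAmp_iff_forall_prime ψ Pp mu hloc' hψ ((restrictCx π).obj K) a b
  have e0 : (restrictCx ψ).obj ((restrictCx π).obj K) ≅ (restrictCx φ).obj K :=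
    restrictCxComp ψ π φ hπψ.symm K
  -- the comparison at a prime of `A`
  have cmp : ∀ (𝔭 : PrimeSpectrum A) (𝔭' : PrimeSpectrum P) (h𝔭 : 𝔭.asIdeal.comap π = 𝔭'.asIdeal),
      Nonempty ((restrictCx ((mu 𝔭').comp ψ)).obj ((extCx (mu 𝔭')).obj ((restrictCx π).obj K)) ≅
        (restrictCx ((lam 𝔭).comp φ)).obj ((extCx (lam 𝔭)).obj K)) := by
    intro 𝔭 𝔭' h𝔭
    obtain ⟨e⟩ := nonempty_cmp π hπ 𝔭.asIdeal 𝔭'.asIdeal h𝔭 (mu 𝔭') (hloc' 𝔭') (lam 𝔭) (hloc 𝔭) K
    refine ⟨(restrictCx ((mu 𝔭').comp ψ)).mapIso e ≪≫ restrictCxComp _ _ _ ?_ _⟩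
    rw [← RingHom.comp_assoc, locMap_comp, RingHom.comp_assoc, hπψ]
  constructor
  · intro h 𝔭
    have h1 := AL.1 (torAmp_of_iso h (Q.mapIso e0).symm)
    let 𝔭' : PrimeSpectrum P := ⟨𝔭.asIdeal.comap π, inferInstance⟩
    obtain ⟨e⟩ := cmp 𝔭 𝔭' rfl
    exact torAmp_of_iso (h1 𝔭') (Q.mapIso e)
  · intro h
    refine torAmp_of_iso (AL.2 (fun 𝔭' => ?_)) (Q.mapIso e0)
    by_cases hk : RingHom.ker π ≤ 𝔭'.asIdeal
    · haveI : (𝔭'.asIdeal.map π).IsPrime := Ideal.map_isPrime_of_surjective hπ hk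
      let 𝔭 : PrimeSpectrum A := ⟨𝔭'.asIdeal.map π, inferInstance⟩
      have h𝔭 : 𝔭.asIdeal.comap π = 𝔭'.asIdeal := by
        change (𝔭'.asIdeal.map π).comap π = 𝔭'.asIdeal
        rw [Ideal.comap_map_of_surjective' π hπ]
        exact sup_eq_left.2 hk
      obtain ⟨e⟩ := cmp 𝔭 𝔭' h𝔭
      exact torAmp_of_iso (h 𝔭) (Q.mapIso e).symm
    · refine torAmp_of_termwise_isZero _ (fun i => ?_) a b
      exact Functor.map_isZero (ModuleCat.restrictScalars.{u} ((mu 𝔭').comp ψ))
        (isZero_ext_res π (mu 𝔭') 𝔭'.asIdeal (hloc' 𝔭') hk (K.X i))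

end RT

end Groth.Agent.Lib.Helper15.RelTorAmp
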