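import Groth.Agent.Lib.Helper15.TildeAmp
import Groth.Agent.Lib.Helper15.RelTorAmpRT

/-!
# Relative tor amplitude of `M~` on `Spec A` over `Spec R` (helper15)
-/

set_option autoImplicit false
set_option linter.style.haveILetI false
universe u
open CategoryTheory CategoryTheory.Limits AlgebraicGeometry TensorProduct TopologicalSpace
attribute [local instance] HasDerivedCategory.standard

namespace Groth.Agent.Lib.Helper15.RelTildeAmp

open Groth.Agent.Lib.Helper12.Sky Groth.Agent.Lib.Helper12.StalkExact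
  Groth.Agent.Lib.Helper84.FlatBC Groth.Agent.Lib.Helper84.FlatAmp DRing
  Groth.Agent.Lib.Helper15.TildeAmp Groth.Agent.Lib.Helper15.RelTorAmp
  Groth.Agent.Lib.Helper15.PseudoCohRes Groth.Agent.Lib.Helper69.TorAmpWEt

variable (R A : CommRingCat.{u}) (φ : R ⟶ A)

/-- the morphism `Spec A ⟶ Spec R` -/
noncomputable abbrev fS : Spec (.of A) ⟶ Spec (.of R) := Spec.map (CommRingCat.ofHom φ.hom)

theorem stalkMap_comp_phi (x : Spec (.of A)) :
    ((fS R A φ).stalkMap x).hom.comp (phi R ((fS R A φ).base x)) = (phi A x).comp φ.hom := by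
  have h1 := Scheme.Hom.germ_stalkMap (fS R A φ) ⊤ x (Opens.mem_top _)
  have h2 := Scheme.ΓSpecIso_inv_naturality (CommRingCat.ofHom φ.hom)
  have h3 : (Scheme.ΓSpecIso (.of R)).inv ≫ (Spec (.of R)).presheaf.germ ⊤ ((fS R A φ).base x)
      (Opens.mem_top _) ≫ (fS R A φ).stalkMap x =
      CommRingCat.ofHom φ.hom ≫ (Scheme.ΓSpecIso (.of A)).inv ≫
        (Spec (.of A)).presheaf.germ ⊤ x (Opens.mem_top _) := by
    rw [h1, ← Category.assoc, ← Category.assoc, h2]
    rfl
  exact congrArg CommRingCat.Hom.hom h3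

/-- for a localization `ρ : R → S`, tor amplitude over `S` can be tested over `R` -/
theorem torAmp_iff_restrictD_of_isLocalization {R S : Type u} [CommRing R] [CommRing S]
    (ρ : R →+* S) (𝔮 : Ideal R) [𝔮.IsPrime]
    (hloc : @IsLocalization.AtPrime R _ S _ ρ.toAlgebra 𝔮 _) (a b : ℤ) (K : Dual.D S) :
    HasTorAmplitudeIn S a b K ↔ HasTorAmplitudeIn R a b ((restrictD ρ).obj K) := by
  have hρ : ρ.Flat := flat_of_isLocalization ρ 𝔮 hloc
  refine ⟨torAmp_restrictD_of_flat ρ hρ, torAmp_of_torAmp_restrictD ρ hρ ?_⟩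
  intro M hM
  letI := ρ.toAlgebra
  haveI := hloc
  letI : Module R M := Module.compHom M ρ
  haveI : IsScalarTower R S M := IsScalarTower.of_algebraMap_smul fun r m => rfl
  haveI : Module.Flat R M := hM
  exact (Module.flat_iff_of_isLocalization S 𝔮.primeCompl M).2 inferInstance

/-- the stalkwise relative tor amplitude of a complex representing `K~`, in ring terms -/
theorem hasTorAmplitudeAt_iff (K : Cx A) (F : CochainComplex (Spec (.of A)).Modules ℤ)
    (e : DCoh.toD (Spec (.of A)) F ≅ DCoh.toD (Spec (.of A))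
      (((tilde.functor A).mapHomologicalComplex (ComplexShape.up ℤ)).obj K))
    (a b : ℤ) (x : Spec (.of A)) :
    DerSch.HasTorAmplitudeAt (fS R A φ) a b F x ↔
      HasTorAmplitudeIn R a b
        (toD ((restrictCx ((phi A x).comp φ.hom)).obj ((extCx (phi A x)).obj K))) := by
  let sm := ((fS R A φ).stalkMap x).hom
  let ρ := phi R ((fS R A φ).base x)
  let Z : Cx ((Spec (.of A)).presheaf.stalk x) := (extCx (phi A x)).obj K
  -- step 1: replace `F_x` by `Z`
  have e1 : toD ((DerSch.stalkCxOver (fS R A φ) x).obj F) ≅ (restrictD sm).obj (toD Z) :=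
    (restrictDQIso sm ((stalkCx _ x).obj F)).symm ≪≫
      (restrictD sm).mapIso (stalkCxDIso e x ≪≫ DerivedCategory.Q.mapIso (stalkCxTildeIso A x K))
  -- step 2: down to `R`
  have e2 : (restrictD ρ).obj ((restrictD sm).obj (toD Z)) ≅
      toD ((restrictCx ((phi A x).comp φ.hom)).obj Z) :=
    (restrictDComp ρ sm).app (toD Z) ≪≫
      (restrictDOfEq (stalkMap_comp_phi R A φ x)).app (toD Z) ≪≫ restrictDQIso _ Z
  have h1 : DerSch.HasTorAmplitudeAt (fS R A φ) a b F x ↔
      HasTorAmplitudeIn _ a b ((restrictD sm).obj (toD Z)) :=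
    ⟨fun h => torAmp_of_iso h e1, fun h => torAmp_of_iso h e1.symm⟩
  rw [h1, torAmp_iff_restrictD_of_isLocalization ρ ((fS R A φ).base x).asIdeal
    (isLocalization_phi R _) a b]
  exact ⟨fun h => torAmp_of_iso h e2, fun h => torAmp_of_iso h e2.symm⟩

variable [PreservesFiniteLimits (tilde.functor A)]

/-- **Relative tor amplitude of `M~`**: for `f : Spec A ⟶ Spec R` and `F` representing `M~`,
`F` has tor amplitude in `[a, b]` relative to `f` (stalkwise) iff `M|_R` has tor amplitude in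
`[a, b]`. -/
theorem hasTorAmplitude_rel_tildeD_iff (M : Dual.D A)
    (F : CochainComplex (Spec (.of A)).Modules ℤ)
    (hF : Nonempty (DCoh.toD (Spec (.of A)) F ≅ (DCoh.tildeD A).obj M)) (a b : ℤ) :
    DerSch.HasTorAmplitude (fS R A φ) a b F ↔
      HasTorAmplitudeIn R a b ((restrictD φ.hom).obj M) := by
  obtain ⟨eF⟩ := hF
  obtain ⟨K, ⟨eK⟩⟩ : ∃ K : Cx A, Nonempty (toD K ≅ M) :=
    ⟨_, ⟨DerivedCategory.Q.objObjPreimageIso M⟩⟩
  let T := ((tilde.functor A).mapHomologicalComplex (ComplexShape.up ℤ)).obj K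
  have eT : DCoh.toD _ T ≅ (DCoh.tildeD A).obj M :=
    ((tilde.functor A).mapDerivedCategoryFactors.app K).symm ≪≫ (DCoh.tildeD A).mapIso eK
  have e : DCoh.toD (Spec (.of A)) F ≅ DCoh.toD (Spec (.of A)) T := eF ≪≫ eT.symm
  have eR : toD ((restrictCx φ.hom).obj K) ≅ (restrictD φ.hom).obj M :=
    (restrictDQIso φ.hom K).symm ≪≫ (restrictD φ.hom).mapIso eK
  have RT := torAmp_res_iff_forall_prime φ.hom
    (fun x : PrimeSpectrum A => (Spec (.of A)).presheaf.stalk x) (fun x => phi A x)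
    (fun x => isLocalization_phi A x) K a b
  constructor
  · intro h
    refine torAmp_of_iso (RT.2 (fun x => ?_)) eR
    exact (hasTorAmplitudeAt_iff R A φ K F e a b x).1 (h x)
  · intro h x
    exact (hasTorAmplitudeAt_iff R A φ K F e a b x).2 (RT.1 (torAmp_of_iso h eR.symm) x)

end Groth.Agent.Lib.Helper15.RelTildeAmp
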