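import Groth.Agent.Lib.Helper69.TorAmpWEt
import Groth.Agent.Lib.Helper43.TorAmpDescent
import Groth.Agent.Lib.Helper22.RelCartierRing

/-!
# Relative tor amplitude: tor amplitude over `R` of complexes of modules over an `R`-flat
algebra `P`, and its local nature on `Spec P` (helper15)

* `relTorAmp_iff_of_flat`: for `ψ : R → P` flat and `E` a bounded above complex of flat
  `P`-modules, `E|_R` has tor amplitude in `[a, b]` iff `E` is exact in degrees `< a` and
  `opcycles a` is `R`-flat.
* `relDescent`: for a family of flat ring maps `P → P_t` detecting vanishing and `R`-flatness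
  of `P`-modules: `L|_R` has tor amplitude in `[a, b]` iff all `(P_t ⊗_P L)|_R` do.
* `relTorAmp_iff_forall_prime`: the case of the localizations at all primes of `P`.
-/

set_option autoImplicit false
set_option linter.style.haveILetI false
universe u

open CategoryTheory CategoryTheory.Limits CategoryTheory.Pretriangulated DerivedCategory
open CochainComplex TensorProduct

attribute [local instance] HasDerivedCategory.standard

namespace Groth.Agent.Lib.Helper15.RelTorAmp

open DRing Groth.Agent.Lib.Helper43 Groth.Agent.Lib.Helper84 Groth.Agent.Lib.Helper84.FlatAmp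
  Groth.Agent.Lib.Helper84.FlatBC Groth.Agent.Lib.Helper84.TensCx Groth.Agent.Lib.Helper69.TorAmpWEt
  Groth.Agent.Lib.Helper15.ExactFunctorD

section General

variable {C₁ C₂ : Type*} [Category C₁] [Abelian C₁] [HasDerivedCategory C₁]
  [Category C₂] [Abelian C₂] [HasDerivedCategory C₂]
  (F : C₁ ⥤ C₂) [F.Additive] [PreservesFiniteLimits F] [PreservesFiniteColimits F]

lemma isIso_Q_map_of_exact {K L : CochainComplex C₁ ℤ} (α : K ⟶ L) (hα : IsIso (Q.map α)) :
    IsIso (Q.map ((F.mapHomologicalComplex (ComplexShape.up ℤ)).map α)) := by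
  rw [isIso_Q_map_iff_quasiIso] at hα ⊢
  haveI := hα
  infer_instance

end General

variable {R P : Type u} [CommRing R] [CommRing P] (ψ : R →+* P)

/-- the criterion for relative tor amplitude of a bounded above complex of flat `P`-modules -/
theorem relTorAmp_iff_of_flat (hψ : ψ.Flat) (E : Cx P) (a b : ℤ) (hb : VanishesAbove E b)
    (hE : TermwiseFlat E) :
    HasTorAmplitudeIn R a b (toD ((restrictCx ψ).obj E)) ↔
      (∀ i : ℤ, i < a → E.ExactAt i) ∧
        Module.Flat R ((ModuleCat.restrictScalars.{u} ψ).obj (E.opcycles a)) := by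
  have hGb : VanishesAbove ((restrictCx ψ).obj E) b := fun i hi =>
    Functor.map_isZero (ModuleCat.restrictScalars.{u} ψ) (hb i hi)
  have hGflat : TermwiseFlat ((restrictCx ψ).obj E) := fun i => by
    haveI := hE i
    exact flat_restrictScalars_of_flat ψ hψ (E.X i)
  constructor
  · intro h
    obtain ⟨hop, hex⟩ :=
      TorAmpDescent.flat_opcycles_of_hasTorAmplitudeIn _ b hGb hGflat a b h
    refine ⟨fun i hi => (exactAt_map_iff (ModuleCat.restrictScalars.{u} ψ) E i).1 (hex i hi), ?_⟩
    haveI := hop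
    exact flat_of_iso (restrictOpcyclesIso ψ E a)
  · rintro ⟨hex, hop⟩
    refine TorAmpDescent.hasTorAmplitudeIn_of_flat_opcycles _ a b hGb hGflat
      (fun i hi => (exactAt_map_iff (ModuleCat.restrictScalars.{u} ψ) E i).2 (hex i hi)) ?_
    haveI := hop
    exact flat_of_iso (restrictOpcyclesIso ψ E a).symm

/-- **Relative descent of tor amplitude.**  `ψ : R → P` flat, `mu t : P → P_t` a family of flat
ring maps which jointly detects vanishing (`D1`) and `R`-flatness (`D3`) of `P`-modules and
preserves `R`-flatness (`F`).  Then for a complex `L` of `P`-modules, `L|_R` has tor amplitude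
in `[a, b]` iff all the `(P_t ⊗_P L)|_R` have. -/
theorem relDescent (hψ : ψ.Flat) {T : Type*} (Pt : T → Type u) [∀ t, CommRing (Pt t)]
    (mu : ∀ t, P →+* Pt t) (hmu : ∀ t, (mu t).Flat)
    (D1 : ∀ N : ModuleCat.{u} P, (∀ t, IsZero ((ext (mu t)).obj N)) → IsZero N)
    (D3 : ∀ N : ModuleCat.{u} P,
      (∀ t, Module.Flat R ((ModuleCat.restrictScalars.{u} ((mu t).comp ψ)).obj
        ((ext (mu t)).obj N))) → Module.Flat R ((ModuleCat.restrictScalars.{u} ψ).obj N))
    (F : ∀ (N : ModuleCat.{u} P) (t : T), Module.Flat R ((ModuleCat.restrictScalars.{u} ψ).obj N) →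
      Module.Flat R ((ModuleCat.restrictScalars.{u} ((mu t).comp ψ)).obj ((ext (mu t)).obj N)))
    (L : Cx P) (a b : ℤ) :
    HasTorAmplitudeIn R a b (toD ((restrictCx ψ).obj L)) ↔
      ∀ t, HasTorAmplitudeIn R a b
        (toD ((restrictCx ((mu t).comp ψ)).obj ((extCx (mu t)).obj L))) := by
  haveI : ∀ t, PreservesFiniteLimits (ext (mu t)) := fun t =>
    preservesFiniteLimits_ext _ (hmu t)
  have hψt : ∀ t, ((mu t).comp ψ).Flat := fun t => RingHom.Flat.comp hψ (hmu t)
  -- the common part: given a free resolution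
  have main : ∀ (E : Cx P) (α : E ⟶ L), VanishesAbove E b → FreeRes.TermwiseFree E →
      IsIso (Q.map α) →
      (HasTorAmplitudeIn R a b (toD ((restrictCx ψ).obj L)) ↔
        ∀ t, HasTorAmplitudeIn R a b
          (toD ((restrictCx ((mu t).comp ψ)).obj ((extCx (mu t)).obj L)))) := by
    intro E α hEb hEfree hα
    have hEflat : TermwiseFlat E := fun i => by
      haveI := hEfree i
      infer_instance
    -- transport along `α`
    haveI h1 : IsIso (Q.map ((restrictCx ψ).map α)) :=
      isIso_Q_map_of_exact (ModuleCat.restrictScalars.{u} ψ) α hα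
    have h2 : ∀ t, IsIso (Q.map ((restrictCx ((mu t).comp ψ)).map ((extCx (mu t)).map α))) :=
      fun t => isIso_Q_map_of_exact (ModuleCat.restrictScalars.{u} ((mu t).comp ψ)) _
        (isIso_Q_map_of_exact (ext (mu t)) α hα)
    have e1 : toD ((restrictCx ψ).obj E) ≅ toD ((restrictCx ψ).obj L) :=
      asIso (Q.map ((restrictCx ψ).map α))
    have e2 : ∀ t, toD ((restrictCx ((mu t).comp ψ)).obj ((extCx (mu t)).obj E)) ≅
        toD ((restrictCx ((mu t).comp ψ)).obj ((extCx (mu t)).obj L)) := fun t =>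
      @asIso _ _ _ _ (Q.map ((restrictCx ((mu t).comp ψ)).map ((extCx (mu t)).map α))) (h2 t)
    have c1 := relTorAmp_iff_of_flat ψ hψ E a b hEb hEflat
    have c2 : ∀ t, _ := fun t => relTorAmp_iff_of_flat ((mu t).comp ψ) (hψt t)
      ((extCx (mu t)).obj E) a b (vanishesAbove_extCx (mu t) E b hEb)
      (termwiseFlat_extCx (mu t) E hEflat)
    constructor
    · intro h t
      obtain ⟨hex, hop⟩ := c1.1 (torAmp_of_iso h e1.symm)
      refine torAmp_of_iso ((c2 t).2 ⟨?_, ?_⟩) (e2 t)
      · intro i hi
        rw [HomologicalComplex.exactAt_iff_isZero_homology]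
        refine IsZero.of_iso ?_ (PCDescent.extHomologyIso (mu t) E i)
        exact (ext (mu t)).map_isZero
          ((HomologicalComplex.exactAt_iff_isZero_homology _ _).1 (hex i hi))
      · haveI := F _ t hop
        exact flat_of_iso ((ModuleCat.restrictScalars.{u} ((mu t).comp ψ)).mapIso
          (TorAmpDescent.extOpcyclesIso (mu t) E a)).symm
    · intro h
      have key : ∀ t, _ := fun t => (c2 t).1 (torAmp_of_iso (h t) (e2 t).symm)
      refine torAmp_of_iso (c1.2 ⟨?_, ?_⟩) e1
      · intro i hi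
        rw [HomologicalComplex.exactAt_iff_isZero_homology]
        refine D1 _ (fun t => ?_)
        refine IsZero.of_iso ?_ (PCDescent.extHomologyIso (mu t) E i).symm
        exact (HomologicalComplex.exactAt_iff_isZero_homology _ _).1 ((key t).1 i hi)
      · refine D3 _ (fun t => ?_)
        haveI := (key t).2
        exact flat_of_iso ((ModuleCat.restrictScalars.{u} ((mu t).comp ψ)).mapIso
          (TorAmpDescent.extOpcyclesIso (mu t) E a))
  -- boundedness of `L` under either hypothesis
  have hLb : (HasTorAmplitudeIn R a b (toD ((restrictCx ψ).obj L)) ∨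
      ∀ t, HasTorAmplitudeIn R a b
        (toD ((restrictCx ((mu t).comp ψ)).obj ((extCx (mu t)).obj L)))) →
      ∀ i : ℤ, b < i → IsZero ((homologyFunctor (ModuleCat.{u} P) i).obj (Q.obj L)) := by
    intro h i hi
    refine IsZero.of_iso ?_ (PCHomology.homologyIso L i)
    rw [← HomologicalComplex.exactAt_iff_isZero_homology]
    rcases h with h | h
    · haveI := torAmp_isLE h
      have h3 : ((restrictCx ψ).obj L).IsLE b := (isLE_Q_obj_iff _ _).1 inferInstance
      have h4 : L.IsLE b := (isLE_map_iff (ModuleCat.restrictScalars.{u} ψ) L b).1 h3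
      exact CochainComplex.exactAt_of_isLE L b i hi
    · rw [HomologicalComplex.exactAt_iff_isZero_homology]
      refine D1 _ (fun t => ?_)
      refine IsZero.of_iso ?_ (PCDescent.extHomologyIso (mu t) L i).symm
      rw [← HomologicalComplex.exactAt_iff_isZero_homology]
      haveI := torAmp_isLE (h t)
      have h3 : ((restrictCx ((mu t).comp ψ)).obj ((extCx (mu t)).obj L)).IsLE b :=
        (isLE_Q_obj_iff _ _).1 inferInstance
      have h4 : ((extCx (mu t)).obj L).IsLE b :=
        (isLE_map_iff (ModuleCat.restrictScalars.{u} ((mu t).comp ψ)) _ b).1 h3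
      exact CochainComplex.exactAt_of_isLE _ b i hi
  constructor
  · intro h
    obtain ⟨E, α, hEb, hEfree, hα⟩ := FreeRes.exists_free_resolution L b (hLb (Or.inl h))
    exact (main E α hEb hEfree hα).1 h
  · intro h
    obtain ⟨E, α, hEb, hEfree, hα⟩ := FreeRes.exists_free_resolution L b (hLb (Or.inr h))
    exact (main E α hEb hEfree hα).2 h

section Prime

section One

variable {P' : Type u} [CommRing P'] (m : P →+* P') (𝔭 : Ideal P) [𝔭.IsPrime]
  (hloc : @IsLocalization.AtPrime P _ P' _ m.toAlgebra 𝔭 _)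

include hloc

theorem flat_of_isLocalization : m.Flat := by
  letI := m.toAlgebra
  haveI := hloc
  exact IsLocalization.flat _ 𝔭.primeCompl

theorem isLocalizedModule_mk (N : ModuleCat.{u} P) :
    letI := m.toAlgebra
    IsLocalizedModule 𝔭.primeCompl (TensorProduct.mk P P' N 1) := by
  letI := m.toAlgebra
  haveI := hloc
  exact (isLocalizedModule_iff_isBaseChange 𝔭.primeCompl P' _).2 (TensorProduct.isBaseChange P N _)

theorem subsingleton_localizedModule (N : ModuleCat.{u} P) (h : IsZero ((ext m).obj N)) :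
    Subsingleton (LocalizedModule 𝔭.primeCompl N) := by
  letI := m.toAlgebra
  haveI := isLocalizedModule_mk m 𝔭 hloc N
  let e := IsLocalizedModule.iso 𝔭.primeCompl (TensorProduct.mk P P' N 1)
  haveI : Subsingleton (P' ⊗[P] N) := (ModuleCat.isZero_iff_subsingleton).1 h
  exact e.toEquiv.subsingleton

/-- the `R`-linear identification of the localized module with the base change -/
theorem flat_res_ext_iff (N : ModuleCat.{u} P) :
    letI : Algebra R P := ψ.toAlgebra
    letI : Module R N := Module.compHom N ψ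
    haveI : IsScalarTower R P N := IsScalarTower.of_algebraMap_smul fun r n => rfl
    Module.Flat R ((ModuleCat.restrictScalars.{u} (m.comp ψ)).obj ((ext m).obj N)) ↔
      Module.Flat R (LocalizedModule 𝔭.primeCompl N) := by
  letI := m.toAlgebra
  letI : Algebra R P := ψ.toAlgebra
  letI : Module R N := Module.compHom N ψ
  haveI : IsScalarTower R P N := IsScalarTower.of_algebraMap_smul fun r n => rfl
  letI : Module R (P' ⊗[P] N) := Module.compHom (P' ⊗[P] N) (m.comp ψ)
  haveI : IsScalarTower R P (P' ⊗[P] N) := IsScalarTower.of_algebraMap_smul fun r x => by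
    change ψ r • x = (m (ψ r)) • x
    exact (algebraMap_smul P' (ψ r) x).symm
  haveI := isLocalizedModule_mk m 𝔭 hloc N
  let e : LocalizedModule 𝔭.primeCompl N ≃ₗ[R] P' ⊗[P] N :=
    (IsLocalizedModule.iso 𝔭.primeCompl (TensorProduct.mk P P' N 1)).restrictScalars R
  change Module.Flat R (P' ⊗[P] N) ↔ _
  exact ⟨fun h => Module.Flat.of_linearEquiv e, fun h => Module.Flat.of_linearEquiv e.symm⟩

theorem flat_res_ext (N : ModuleCat.{u} P)
    (h : Module.Flat R ((ModuleCat.restrictScalars.{u} ψ).obj N)) :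
    Module.Flat R ((ModuleCat.restrictScalars.{u} (m.comp ψ)).obj ((ext m).obj N)) := by
  rw [flat_res_ext_iff ψ m 𝔭 hloc N]
  letI : Algebra R P := ψ.toAlgebra
  letI : Module R N := Module.compHom N ψ
  haveI : IsScalarTower R P N := IsScalarTower.of_algebraMap_smul fun r n => rfl
  haveI : Module.Flat R N := h
  exact Groth.Agent.Lib.Helper22.RelCartier.flat_of_isLocalizedModule 𝔭.primeCompl
    (LocalizedModule.mkLinearMap 𝔭.primeCompl N)

end One

variable (Pp : PrimeSpectrum P → Type u) [∀ 𝔭, CommRing (Pp 𝔭)] (mu : ∀ 𝔭, P →+* Pp 𝔭)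
  (hloc : ∀ 𝔭, @IsLocalization.AtPrime P _ (Pp 𝔭) _ (mu 𝔭).toAlgebra 𝔭.asIdeal _)

include hloc

theorem D1_prime (N : ModuleCat.{u} P)
    (h : ∀ 𝔭 : PrimeSpectrum P, IsZero ((ext (mu 𝔭)).obj N)) : IsZero N := by
  rw [ModuleCat.isZero_iff_subsingleton]
  apply Module.subsingleton_of_localization_maximal (R := P)
    (fun m _ => LocalizedModule m.primeCompl N)
    (fun m _ => LocalizedModule.mkLinearMap m.primeCompl N)
  intro m hm
  exact subsingleton_localizedModule (mu ⟨m, hm.isPrime⟩) m (hloc ⟨m, hm.isPrime⟩) N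
    (h ⟨m, hm.isPrime⟩)

theorem D3_prime (N : ModuleCat.{u} P)
    (h : ∀ 𝔭 : PrimeSpectrum P, Module.Flat R
      ((ModuleCat.restrictScalars.{u} ((mu 𝔭).comp ψ)).obj ((ext (mu 𝔭)).obj N))) :
    Module.Flat R ((ModuleCat.restrictScalars.{u} ψ).obj N) := by
  letI : Algebra R P := ψ.toAlgebra
  letI : Module R N := Module.compHom N ψ
  haveI : IsScalarTower R P N := IsScalarTower.of_algebraMap_smul fun r n => rfl
  change Module.Flat R N
  refine Module.flat_of_isLocalized_maximal (R := R) P N
    (fun (m : Ideal P) [m.IsMaximal] => LocalizedModule m.primeCompl N)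
    (fun (m : Ideal P) [m.IsMaximal] => LocalizedModule.mkLinearMap m.primeCompl N) ?_
  intro m hm
  exact (flat_res_ext_iff ψ (mu ⟨m, hm.isPrime⟩) m (hloc ⟨m, hm.isPrime⟩) N).1
    (h ⟨m, hm.isPrime⟩)

/-- **Relative tor amplitude is local on `Spec P`.** -/
theorem relTorAmp_iff_forall_prime (hψ : ψ.Flat) (L : Cx P) (a b : ℤ) :
    HasTorAmplitudeIn R a b (toD ((restrictCx ψ).obj L)) ↔
      ∀ 𝔭 : PrimeSpectrum P, HasTorAmplitudeIn R a b
        (toD ((restrictCx ((mu 𝔭).comp ψ)).obj ((extCx (mu 𝔭)).obj L))) :=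
  relDescent ψ hψ Pp mu (fun 𝔭 => flat_of_isLocalization (mu 𝔭) 𝔭.asIdeal (hloc 𝔭))
    (D1_prime Pp mu hloc) (D3_prime ψ Pp mu hloc)
    (fun N 𝔭 => flat_res_ext ψ (mu 𝔭) 𝔭.asIdeal (hloc 𝔭) N) L a b

end Prime

end Groth.Agent.Lib.Helper15.RelTorAmp
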