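import Mathlib

/-!
# PLUMB for S4877 (helper15, for helper65): affine tensor charts of `X ×_k S'`
-/

set_option autoImplicit false
set_option linter.style.haveILetI false
universe u
open CategoryTheory CategoryTheory.Limits AlgebraicGeometry TensorProduct

namespace Groth.Agent.Lib.Helper15.SD77PLUMB

set_option maxHeartbeats 800000 in
theorem plumb {k : Type u} [Field k] {X S' : Scheme.{u}} (p : X ⟶ Spec (CommRingCat.of k)) (q : S' ⟶ Spec (CommRingCat.of k)) (V : (pullback p q).Opens) (x : ↥(pullback p q)) (hx : x ∈ V) : ∃ (U : X.Opens) (_ : IsAffineOpen U) (U' : (pullback p q).Opens) (_ : IsAffineOpen U') (hUU' : U' ≤ (pullback.fst p q) ⁻¹ᵁ U) (_ : x ∈ U') (_ : U' ≤ V) (_ : Algebra k Γ(X, U)) (R : Type u) (_ : CommRing R) (_ : Algebra k R) (ι : Γ(X, U) ⊗[k] R →+* Γ(pullback p q, U')) (b : Γ(X, U) ⊗[k] R), ι.comp Algebra.TensorProduct.includeLeftRingHom = ((pullback.fst p q).appLE U U' hUU').hom ∧ (letI := ι.toAlgebra; IsLocalization.Away b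 Γ(pullback p q, U')) := by
  have H : IsPullback (pullback.fst p q) (pullback.snd p q) p q := IsPullback.of_hasPullback p q
  obtain ⟨_, ⟨U, hU, rfl⟩, hxU, -⟩ := X.isBasis_affineOpens.exists_subset_of_mem_open
    (Set.mem_univ ((pullback.fst p q).base x)) isOpen_univ
  obtain ⟨_, ⟨T, hT, rfl⟩, hxT, -⟩ := S'.isBasis_affineOpens.exists_subset_of_mem_open
    (Set.mem_univ ((pullback.snd p q).base x)) isOpen_univ
  have hUS : IsAffineOpen (⊤ : (Spec (CommRingCat.of k)).Opens) := isAffineOpen_top _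
  have hUST : T ≤ q ⁻¹ᵁ ⊤ := le_top
  have hUSX : U ≤ p ⁻¹ᵁ ⊤ := le_top
  obtain ⟨W, hWdef⟩ : ∃ W : (pullback p q).Opens,
    W = (pullback.fst p q) ⁻¹ᵁ U ⊓ (pullback.snd p q) ⁻¹ᵁ T := ⟨_, rfl⟩
  have hW : IsAffineOpen W := by
    have : IsAffine _ := hUS
    have : IsAffine _ := hT
    have : IsAffine _ := hU
    exact .of_isIso (Scheme.Hom.isPullback_resLE H hUST hUSX hWdef).isoPullback.hom
  haveI := isIso_pushoutSection_of_isAffineOpen H hUST hUSX hWdef hUS hT hU
  have H₁ := (isIso_pushoutSection_iff H hUST hUSX hWdef).1 inferInstance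
  have hxW : x ∈ W := by
    rw [hWdef]
    exact ⟨hxU, hxT⟩
  obtain ⟨f, hfV, hxf⟩ := hW.exists_basicOpen_le (V := V ⊓ W) ⟨x, ⟨hx, hxW⟩⟩ hxW
  let e₀ := Scheme.ΓSpecIso (CommRingCat.of k)
  letI algA : Algebra k Γ(X, U) := (e₀.inv ≫ p.appLE ⊤ U hUSX).hom.toAlgebra
  letI algR : Algebra k Γ(S', T) := (e₀.inv ≫ q.appLE ⊤ T hUST).hom.toAlgebra
  have hWU : W ≤ (pullback.fst p q) ⁻¹ᵁ U := by rw [hWdef]; exact inf_le_left
  have hWT : W ≤ (pullback.snd p q) ⁻¹ᵁ T := by rw [hWdef]; exact inf_le_right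
  have H₂ : IsPushout (CommRingCat.ofHom (algebraMap k Γ(X, U)))
      (CommRingCat.ofHom (algebraMap k Γ(S', T)))
      ((pullback.fst p q).appLE U W hWU) ((pullback.snd p q).appLE T W hWT) := by
    refine IsPushout.of_iso H₁ e₀ (Iso.refl _) (Iso.refl _) (Iso.refl _) ?_ ?_ ?_ ?_
    · change _ = e₀.hom ≫ e₀.inv ≫ p.appLE ⊤ U hUSX
      simp
    · change _ = e₀.hom ≫ e₀.inv ≫ q.appLE ⊤ T hUST
      simp
    · simp
    · simp
  have H₃ := CommRingCat.isPushout_tensorProduct k Γ(X, U) Γ(S', T)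
  let e : CommRingCat.of (Γ(X, U) ⊗[k] Γ(S', T)) ≅ Γ(pullback p q, W) :=
    H₃.isoIsPushout _ _ H₂
  have he₁ : CommRingCat.ofHom (Algebra.TensorProduct.includeLeftRingHom (A := Γ(X, U))
      (R := k) (B := Γ(S', T))) ≫ e.hom = (pullback.fst p q).appLE U W hWU :=
    IsPushout.inl_isoIsPushout_hom _ _ H₃ H₂
  let h : Γ(pullback p q, W) ≃+* Γ(X, U) ⊗[k] Γ(S', T) := e.symm.commRingCatIsoToRingEquiv
  have hfW : (pullback p q).basicOpen f ≤ W := (pullback p q).basicOpen_le f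
  have hUU' : (pullback p q).basicOpen f ≤ (pullback.fst p q) ⁻¹ᵁ U := hfW.trans hWU
  haveI hloc := hW.isLocalization_basicOpen f
  refine ⟨U, hU, (pullback p q).basicOpen f, hW.basicOpen f, hUU', hxf,
    hfV.trans inf_le_left, algA, Γ(S', T), inferInstance, algR,
    (algebraMap Γ(pullback p q, W) Γ(pullback p q, (pullback p q).basicOpen f)).comp
      h.symm.toRingHom, h f, ?_, ?_⟩
  · ext a
    have h1 : h.symm (Algebra.TensorProduct.includeLeftRingHom a) =
        ((pullback.fst p q).appLE U W hWU).hom a := by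
      rw [← he₁]
      rfl
    change algebraMap Γ(pullback p q, W) Γ(pullback p q, (pullback p q).basicOpen f)
      (h.symm (Algebra.TensorProduct.includeLeftRingHom a)) = _
    rw [h1, RingHom.algebraMap_toAlgebra, ← CommRingCat.comp_apply, Scheme.Hom.appLE_map]
  · have := IsLocalization.isLocalization_of_base_ringEquiv (Submonoid.powers f)
      Γ(pullback p q, (pullback p q).basicOpen f) h
    rw [Submonoid.map_powers] at this
    exact this
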