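import Groth.Agent.Lib.Helper15.PseudoCohComp
import Groth.Agent.Lib.Helper43.PCHomLocal

/-!
# `m`-pseudo-coherent ring maps: localization of source and base (helper15)

`SelfPC m φ`: `A` (placed in degree `0`) is `m`-pseudo-coherent relative to `R` through
`φ : R →+* A`.  Composition, invariance under algebra isomorphisms, localization of the source
at one element and of the base at one element.
-/

set_option autoImplicit false
set_option linter.style.haveILetI false
universe u
open CategoryTheory Limits
attribute [local instance] HasDerivedCategory.standard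

namespace Groth.Agent.Lib.Helper15.SelfRel

open DRing DerivedCategory Groth.Agent.Lib.Helper43 Groth.Agent.Lib.Helper43.PCModule
  Groth.Agent.Lib.Helper15.PseudoCoh Groth.Agent.Lib.Helper15.PseudoCohRes
  Groth.Agent.Lib.Helper15.PseudoCohFinite Groth.Agent.Lib.Helper15.PseudoCohRel
  Groth.Agent.Lib.Helper15.PseudoCohComp Groth.Agent.Lib.Helper15.PseudoCohAway
  Groth.Agent.Lib.Helper84 DerCA

section Alg

variable {R A A' : Type u} [CommRing R] [CommRing A] [CommRing A'] [Algebra R A] [Algebra R A']

set_option maxHeartbeats 400000 in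
/-- invariance under isomorphisms of `R`-algebras -/
theorem rel_self_of_algEquiv (e : A ≃ₐ[R] A') (m : ℤ)
    (h : IsRelPseudoCoherentModule R A m A) : IsRelPseudoCoherentModule R A' m A' := by
  obtain ⟨n, α, hα, hvia⟩ := h
  unfold IsRelPseudoCoherentVia at hvia
  refine ⟨n, (e : A →ₐ[R] A').comp α, e.surjective.comp hα, ?_⟩
  unfold IsRelPseudoCoherentVia
  have h1 : IsPC m ((ModuleCat.restrictScalars.{u} (α : MvPolynomial (Fin n) R →+* A)).obj
      (ModuleCat.of A A)) := of_iso (restrictSelfIso _) hvia
  let ε : ((ModuleCat.restrictScalars.{u} (α : MvPolynomial (Fin n) R →+* A)).obj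
      (ModuleCat.of A A)) ≃ₗ[MvPolynomial (Fin n) R]
      ((ModuleCat.restrictScalars.{u}
        (((e : A →ₐ[R] A').comp α : MvPolynomial (Fin n) R →ₐ[R] A') :
          MvPolynomial (Fin n) R →+* A')).obj (ModuleCat.of A' A')) :=
    { toFun := fun a => e a
      invFun := fun a => e.symm a
      map_add' := fun a b => map_add e a b
      map_smul' := fun p a => by
        let a' : A := a
        change e (α p * a') = e (α p) * e a'
        exact map_mul e _ _
      left_inv := fun a => e.symm_apply_apply a
      right_inv := fun a => e.apply_symm_apply a }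
  have h2 := isPC_of_iso ε.toModuleIso h1
  exact of_iso (restrictSelfIso _).symm h2

variable [Algebra A A'] [IsScalarTower R A A']

set_option maxHeartbeats 400000 in
/-- localization of the source at one element -/
theorem rel_self_away [Algebra.FiniteType R A] (g : A) [IsLocalization.Away g A'] (m : ℤ)
    (h : IsRelPseudoCoherentModule R A m A) : IsRelPseudoCoherentModule R A' m A' := by
  have h1 : IsRelPseudoCoherent R A m (DRing.toD ((CochainComplex.singleFunctor
      (ModuleCat.{u} A) 0).obj (ModuleCat.of A A))) :=
    rel_of_iso ((singleFunctorIsoCompQ (ModuleCat.{u} A) 0).app _) h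
  have h2 := rel_away g _ m h1
  have h3 : IsRelPseudoCoherentModule R (Localization.Away g) m (Localization.Away g) :=
    rel_of_iso (PCHomLocal.extSingleSelfIso A (Localization.Away g)) h2
  exact rel_self_of_algEquiv
    ((IsLocalization.algEquiv (Submonoid.powers g) (Localization.Away g) A').restrictScalars R)
    m h3

end Alg

/-- `A` is `m`-pseudo-coherent relative to `R` through the ring map `φ` -/
def SelfPC (m : ℤ) {R A : Type u} [CommRing R] [CommRing A] (φ : R →+* A) : Prop :=
  letI := φ.toAlgebra
  IsRelPseudoCoherentModule R A m A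

section Hom

variable {C B A : Type u} [CommRing C] [CommRing B] [CommRing A]

theorem SelfPC.comp (φ : C →+* B) (ψ : B →+* A) (r s : ℤ) (hφ : SelfPC s φ) (hψ : SelfPC r ψ) :
    SelfPC (max r s) (ψ.comp φ) := by
  letI := φ.toAlgebra
  letI := ψ.toAlgebra
  letI := (ψ.comp φ).toAlgebra
  haveI : IsScalarTower C B A := IsScalarTower.of_algebraMap_eq' rfl
  exact selfRel_comp r s hφ hψ

/-- localization of the source -/
theorem SelfPC.away_source (φ : C →+* B) (hft : φ.FiniteType) (χ : B →+* A) (g : B)
    (hχ : @IsLocalization.Away _ _ g A _ χ.toAlgebra) (m : ℤ) (h : SelfPC m φ) :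
    SelfPC m (χ.comp φ) := by
  letI := φ.toAlgebra
  letI := χ.toAlgebra
  letI := (χ.comp φ).toAlgebra
  haveI : IsScalarTower C B A := IsScalarTower.of_algebraMap_eq' rfl
  haveI : Algebra.FiniteType C B := hft
  exact rel_self_away g m h

/-- localization of the base -/
theorem SelfPC.away_base (χ : C →+* B) (b : C)
    (hχ : @IsLocalization.Away _ _ b B _ χ.toAlgebra) (ψ : B →+* A) (hft : ψ.FiniteType) (m : ℤ)
    (h : SelfPC m (ψ.comp χ)) : SelfPC m ψ := by
  letI := χ.toAlgebra
  letI := ψ.toAlgebra
  letI := (ψ.comp χ).toAlgebra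
  haveI : IsScalarTower C B A := IsScalarTower.of_algebraMap_eq' rfl
  haveI : Algebra.FiniteType B A := hft
  haveI : Algebra.FinitePresentation C B := IsLocalization.Away.finitePresentation b
  have hB : IsRelPseudoCoherentModuleAll C B B := fun m' =>
    rel_self_of_algEquiv (IsLocalization.algEquiv (Submonoid.powers b) (Localization.Away b) B)
      m' (away_pc b m')
  exact (rel_base_iff hB (Dual.inD A A) m).2 h

end Hom

end Groth.Agent.Lib.Helper15.SelfRel
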