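import Groth.Agent.Lib.Helper15.ChartD
import Groth.Agent.Lib.Helper15.ChartMod
import Groth.Agent.Lib.Helper15.ChartUnit
import Groth.Agent.Lib.Helper2.DCohSingle
import Groth.Agent.S6935

/-!
# Relative pseudo-coherence of a module placed in degree `0` (helper15)

* `isPseudoCoherentRel_of_iso`, `isPseudoCoherentRel_of_charts`;
* `chartPC_single_of_isPseudoCoherentD` (converse of `ChartD.isPseudoCoherentD_single_of_chartPC`);
* `isPseudoCoherentRel_inD_of_pos`: every module is `m`-pseudo-coherent relative to `f`, `m > 0`;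
* `isPseudoCoherentRel_negOne_iff`: `(-1)`-pseudo-coherent iff quasi-coherent and finitely presented
  relative to `f`.
-/

set_option autoImplicit false
set_option linter.style.haveILetI false
universe u
open CategoryTheory Limits AlgebraicGeometry Opposite
attribute [local instance] HasDerivedCategory.standard

namespace Groth.Agent.Lib.Helper15.SinglePC

open Scheme.Modules Groth.Agent.Lib.Helper15.ChartPCAff Groth.Agent.Lib.Helper15.ChartUnit
  Groth.Agent.Lib.Helper15.ChartD Groth.Agent.Lib.Helper15.ChartMod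
  Groth.Agent.Lib.Helper2.DCohPC Groth.Agent.Lib.Helper2.DCohSingle

variable {X Y : Scheme.{u}} (f : X ⟶ Y)

theorem isPseudoCoherentRel_of_iso {m : ℤ} {K K' : DCoh.D X} (e : K ≅ K')
    (hK : DerSch.IsPseudoCoherentRel f m K) : DerSch.IsPseudoCoherentRel f m K' := by
  obtain ⟨hlft, 𝒱, h𝒱, H⟩ := hK
  refine ⟨hlft, 𝒱, h𝒱, fun V hV => ?_⟩
  obtain ⟨𝒰, h𝒰, H'⟩ := H V hV
  refine ⟨𝒰, h𝒰, fun U hU hle => ?_⟩
  obtain ⟨n, φ, hc, hpc⟩ := H' U hU hle
  exact ⟨n, φ, hc, chartPC_of_iso (V : Y.Opens) φ e hpc⟩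

/-- relative pseudo-coherence from the chart test on all charts of all pairs of affine opens -/
theorem isPseudoCoherentRel_of_charts [LocallyOfFiniteType f] (m : ℤ) (K : DCoh.D X)
    (H : ∀ (U : X.affineOpens) (V : Y.affineOpens) (h : (U : X.Opens) ≤ f ⁻¹ᵁ (V : Y.Opens))
      (n : ℕ) (φ : MvPolynomial (Fin n) Γ(Y, (V : Y.Opens)) →+* Γ(X, (U : X.Opens))),
      DerSch.IsChart f (U : X.Opens) (V : Y.Opens) h φ →
        DerSch.ChartPC m K (U : X.Opens) (V : Y.Opens) φ) :
    DerSch.IsPseudoCoherentRel f m K := by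
  refine ⟨inferInstance, Set.univ, iSup_univ_affineOpens, fun V _ => ?_⟩
  refine ⟨{U : X.affineOpens | (U : X.Opens) ≤ f ⁻¹ᵁ (V : Y.Opens)},
    iSup_affineOpens_le_preimage f (V : Y.Opens), fun U _ hle => ?_⟩
  obtain ⟨n, φ, hc⟩ := exists_isChart f U.2 V.2 hle
  exact ⟨n, φ, hc, H U V hle n φ hc⟩

section Chart

variable {U : X.Opens} (hU : IsAffineOpen U) {V : Y.Opens}
  (h : U ≤ f ⁻¹ᵁ V) {n : ℕ}
  (φ : MvPolynomial (Fin n) Γ(Y, V) →+* Γ(X, U)) (hc : DerSch.IsChart f U V h φ)

include hU hc in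
/-- the chart test of a module placed in one degree from the pseudo-coherence of its direct
image -/
theorem chartPC_single_of_isPseudoCoherentD (M : X.Modules) (m i₀ : ℤ)
    (hpc : DCoh.IsPseudoCoherentD m
      ((DerivedCategory.singleFunctor
        (Spec (CommRingCat.of (MvPolynomial (Fin n) Γ(Y, V)))).Modules i₀).obj
          ((pushforward (DerSch.chartImm U φ)).obj ((restrictFunctor U.ι).obj M)))) :
    DerSch.ChartPC m ((DerivedCategory.singleFunctor X.Modules i₀).obj M) U V φ := by
  let e1 : (DerSch.pushCx (DerSch.chartImm U φ)).obj ((DCoh.restrictCx U).obj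
      ((HomologicalComplex.single X.Modules (ComplexShape.up ℤ) i₀).obj M)) ≅
      (HomologicalComplex.single _ (ComplexShape.up ℤ) i₀).obj
        ((pushforward (DerSch.chartImm U φ)).obj ((restrictFunctor U.ι).obj M)) :=
    (DerSch.pushCx (DerSch.chartImm U φ)).mapIso
      ((HomologicalComplex.singleMapHomologicalComplex (restrictFunctor U.ι)
        (ComplexShape.up ℤ) i₀).app M) ≪≫
    (HomologicalComplex.singleMapHomologicalComplex (pushforward (DerSch.chartImm U φ))
      (ComplexShape.up ℤ) i₀).app _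
  have h1 := chartPC_of_rep f hU h φ hc m
    ((HomologicalComplex.single X.Modules (ComplexShape.up ℤ) i₀).obj M)
    (Groth.Agent.Lib.Helper15.ChartPCAff.isPseudoCoherentD_of_iso
      (DerivedCategory.Q.mapIso e1 ≪≫
        ((DerivedCategory.singleFunctorIsoCompQ _ i₀).app _).symm).symm hpc)
  exact chartPC_of_iso V φ ((DerivedCategory.singleFunctorIsoCompQ X.Modules i₀).app M).symm h1

end Chart

/-- on any scheme, a module placed in degree `0` is `m`-pseudo-coherent for `m > 0` -/
theorem isPseudoCoherentD_inD_of_pos {W : Scheme.{u}} (N : W.Modules) (m : ℤ) (hm : 0 < m) :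
    DCoh.IsPseudoCoherentD m (DCoh.inD W N) := by
  rw [isPseudoCoherentD_iff]
  intro x
  exact (pcData_of_isZero_homology _ m (fun i hi => isZero_hd_inD N i (by lia))).pcAt x

/-- every module is `m`-pseudo-coherent relative to `f` for `m > 0` -/
theorem isPseudoCoherentRel_inD_of_pos [LocallyOfFiniteType f] (M : X.Modules) (m : ℤ)
    (hm : 0 < m) : DerSch.IsPseudoCoherentRel f m (DCoh.inD X M) :=
  isPseudoCoherentRel_of_charts f m _ (fun U V h _ φ hc =>
    chartPC_single_of_isPseudoCoherentD f U.2 h φ hc M m 0 (isPseudoCoherentD_inD_of_pos _ m hm))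

set_option maxHeartbeats 400000 in
/-- `(-1)`-pseudo-coherent relative to `f` iff quasi-coherent and finitely presented relative
to `f` -/
theorem isPseudoCoherentRel_negOne_iff [LocallyOfFiniteType f] (M : X.Modules) :
    DerSch.IsPseudoCoherentRel f (-1) (DCoh.inD X M) ↔ (Coh.IsQCoh M ∧ Flatn.IsRelFP f M) := by
  constructor
  · intro hpc
    have hpc' := isPseudoCoherentRel_of_iso f (toDSingleIso M).symm hpc
    haveI := isQuasicoherent_of_isPseudoCoherentRel_single f M hpc'
    exact ⟨inferInstance, isRelFP_of_isPseudoCoherentRel_single f M hpc'⟩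
  · rintro ⟨hq, hfp⟩
    haveI : M.IsQuasicoherent := hq
    refine isPseudoCoherentRel_of_charts f (-1) _ (fun U V h n φ hc => ?_)
    rw [chartPC_single_iff U.2 (V : Y.Opens) φ hc.1 M (-1) 0]
    have h1 := fp_sections_of_isRelFP f M hfp U.2 V.2 h φ hc
    exact (Groth.Agent.S6935.result (MvPolynomial (Fin n) Γ(Y, (V : Y.Opens)))
      ((ModuleCat.restrictScalars φ).obj
        (ModuleCat.of Γ(X, (U : X.Opens)) Γ(M, (U : X.Opens))))).2.2 h1

end Groth.Agent.Lib.Helper15.SinglePC
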