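import Groth.Agent.Lib.Helper15.SinglePC
import Groth.Agent.Lib.Helper2.FTPushL1
import Groth.Agent.Lib.Helper80.FTPushT1
import Groth.Agent.Lib.Helper7.FTPushT2
import Groth.Agent.Lib.Helper2.DCohCoh
import Groth.Agent.S6518

/-!
# `0`-pseudo-coherence relative to `f` of a module in degree `0` is finite type (helper15)

Uses the finite-type transfer lemmas of helper2 (`FTPushL1.isFT_restrict`), helper80
(`FTPushT1.isFT_of_isFT_pushforward`) and helper7 (`FTPushT2.isFT_pushforward`).
-/

set_option autoImplicit false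
set_option linter.style.haveILetI false
universe u
open CategoryTheory Limits AlgebraicGeometry Opposite
attribute [local instance] HasDerivedCategory.standard

namespace Groth.Agent.Lib.Helper15.SinglePCZero

open Scheme.Modules Groth.Agent.Lib.Helper15.ChartPCAff Groth.Agent.Lib.Helper15.ChartUnit
  Groth.Agent.Lib.Helper15.ChartD Groth.Agent.Lib.Helper15.ChartMod
  Groth.Agent.Lib.Helper15.SinglePC

variable {X Y : Scheme.{u}} (f : X ⟶ Y)

theorem isPseudoCoherentRel_zero_iff [LocallyOfFiniteType f] (M : X.Modules) :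
    DerSch.IsPseudoCoherentRel f 0 (DCoh.inD X M) ↔ CohB1.IsFT M := by
  constructor
  · intro hpc
    refine Groth.Agent.Lib.Helper2.DCohCoh.isFiniteType_of_locally (M := M) (fun x => ?_)
    obtain ⟨V, U, hxU, hle, n, φ, hc, hchart⟩ := exists_chart_of_isPseudoCoherentRel f hpc x
    refine ⟨(U : X.Opens), hxU, ?_⟩
    haveI := isClosedImmersion_chartImm f U.2 hle φ hc
    have h1 := isPseudoCoherentD_single_of_chartPC φ M 0 0 hchart
    have h2 := (Groth.Agent.S6518.result _).1.1 h1
    exact Groth.Agent.Lib.Helper80.FTPushT1.isFT_of_isFT_pushforward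
      (DerSch.chartImm (U : X.Opens) φ) _ h2
  · intro hM
    refine isPseudoCoherentRel_of_charts f 0 _ (fun U V h n φ hc => ?_)
    haveI := isClosedImmersion_chartImm f U.2 h φ hc
    refine chartPC_single_of_isPseudoCoherentD f U.2 h φ hc M 0 0 ?_
    refine (Groth.Agent.S6518.result _).1.2 ?_
    exact Groth.Agent.Lib.Helper7.FTPushT2.isFT_pushforward (DerSch.chartImm (U : X.Opens) φ) _
      (Groth.Agent.Lib.Helper2.FTPushL1.isFT_restrict M hM (U : X.Opens))

end Groth.Agent.Lib.Helper15.SinglePCZero
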