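import Mathlib.AlgebraicGeometry.SpreadingOut
import Mathlib.AlgebraicGeometry.Morphisms.FiniteType

set_option autoImplicit false

universe u

open CategoryTheory AlgebraicGeometry TopologicalSpace

namespace Groth.Agent.Lib.Helper15

variable {X Y S : Scheme.{u}}

theorem exists_restrict_eq_of_finiteType {R A : CommRingCat.{u}} {U : X.Opens} {x : X}
    (hxU : x ∈ U) (φ ψ : A ⟶ Γ(X, U)) (φRA : R ⟶ A)
    (hφRA : RingHom.FiniteType φRA.hom) (e1 : φRA ≫ φ = φRA ≫ ψ)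
    (e2 : φ ≫ X.presheaf.germ U x hxU = ψ ≫ X.presheaf.germ U x hxU) :
    ∃ (V : X.Opens) (_ : x ∈ V) (i : V ≤ U),
      φ ≫ X.presheaf.map (homOfLE i).op = ψ ≫ X.presheaf.map (homOfLE i).op := by
  let := φRA.hom.toAlgebra
  obtain ⟨s, hs⟩ := hφRA
  have hgerm : ∀ t : A, X.presheaf.germ U x hxU (φ t) = X.presheaf.germ U x hxU (ψ t) := by
    intro t
    exact DFunLike.congr_fun (congr_arg CommRingCat.Hom.hom e2) t
  choose W hxW iU iV hW using fun t : A => X.presheaf.germ_eq x hxU hxU (φ t) (ψ t) (hgerm t)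
  have H : x ∈ s.inf W ⊓ U := by
    rw [← SetLike.mem_coe, TopologicalSpace.Opens.coe_inf, TopologicalSpace.Opens.coe_finset_inf]
    exact ⟨by simpa using fun x _ ↦ hxW x, hxU⟩
  refine ⟨s.inf W ⊓ U, H, inf_le_right, ?_⟩
  let := (φRA ≫ φ ≫ X.presheaf.map (homOfLE (inf_le_right (a := s.inf W) (b := U))).op).hom.toAlgebra
  let φ' : A →ₐ[R] Γ(X, s.inf W ⊓ U) :=
    { (φ ≫ X.presheaf.map (homOfLE (inf_le_right (a := s.inf W) (b := U))).op).hom with
      commutes' := fun r => rfl }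
  let ψ' : A →ₐ[R] Γ(X, s.inf W ⊓ U) :=
    { (ψ ≫ X.presheaf.map (homOfLE (inf_le_right (a := s.inf W) (b := U))).op).hom with
      commutes' := fun r => by
        have := DFunLike.congr_fun (congr_arg CommRingCat.Hom.hom e1) r
        simp only [CommRingCat.hom_comp, RingHom.coe_comp, Function.comp_apply] at this
        show (X.presheaf.map _).hom (ψ.hom (φRA.hom r)) = (X.presheaf.map _).hom (φ.hom (φRA.hom r))
        rw [this] }
  have key : φ' = ψ' := by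
    apply AlgHom.ext_of_adjoin_eq_top hs
    intro t ht
    have hle : s.inf W ⊓ U ≤ W t := inf_le_left.trans (Finset.inf_le ht)
    show (X.presheaf.map (homOfLE inf_le_right).op).hom (φ.hom t) =
      (X.presheaf.map (homOfLE inf_le_right).op).hom (ψ.hom t)
    have h1 : (X.presheaf.map (homOfLE hle).op).hom ((X.presheaf.map (iU t).op).hom (φ.hom t)) =
        (X.presheaf.map (homOfLE hle).op).hom ((X.presheaf.map (iV t).op).hom (ψ.hom t)) :=
      congrArg _ (hW t)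
    have e3 : ∀ (j : W t ⟶ U) (a : Γ(X, U)),
        (X.presheaf.map (homOfLE hle).op).hom ((X.presheaf.map j.op).hom a) =
        (X.presheaf.map (homOfLE (inf_le_right (a := s.inf W) (b := U))).op).hom a := by
      intro j a
      rw [← CommRingCat.comp_apply, ← Functor.map_comp]
      rfl
    rw [e3, e3] at h1
    exact h1
  ext t
  exact DFunLike.congr_fun key t

theorem appLE_congr {X S : Scheme.{u}} {a b : X ⟶ S} (h : a = b) (T : S.Opens) (U : X.Opens)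
    (e₁ : U ≤ a ⁻¹ᵁ T) (e₂ : U ≤ b ⁻¹ᵁ T) : a.appLE T U e₁ = b.appLE T U e₂ := by
  subst h
  rfl

set_option backward.isDefEq.respectTransparency.types false in
theorem spread_out_unique_of_locallyOfFiniteType (sY : Y ⟶ S) [LocallyOfFiniteType sY] {x : X}
    (f g : X ⟶ Y) (hfg : f ≫ sY = g ≫ sY)
    (e : X.fromSpecStalk x ≫ f = X.fromSpecStalk x ≫ g) :
    ∃ (U : X.Opens), x ∈ U ∧ U.ι ≫ f = U.ι ≫ g := by
  have exy : f x = g x := by simpa using congr($e (IsLocalRing.closedPoint _))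
  have H : f.stalkMap x =
      Y.presheaf.stalkSpecializes (Inseparable.of_eq exy.symm).specializes ≫ g.stalkMap x := by
    apply Spec.map_injective
    rw [← cancel_mono (Y.fromSpecStalk _)]
    simpa [Scheme.SpecMap_stalkSpecializes_fromSpecStalk]
  obtain ⟨_, ⟨T : S.Opens, hT, rfl⟩, hxT, -⟩ :=
    S.isBasis_affineOpens.exists_subset_of_mem_open (Set.mem_univ (sY (f x))) isOpen_univ
  obtain ⟨_, ⟨V : Y.Opens, hV, rfl⟩, hxV, hVT⟩ :=
    Y.isBasis_affineOpens.exists_subset_of_mem_open (show f x ∈ sY ⁻¹ᵁ T from hxT) (sY ⁻¹ᵁ T).2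
  have hVT' : V ≤ sY ⁻¹ᵁ T := hVT
  have hxV' : g x ∈ V := exy ▸ hxV
  have hxU₀ : x ∈ f ⁻¹ᵁ V ⊓ g ⁻¹ᵁ V := ⟨hxV, hxV'⟩
  obtain ⟨_, ⟨U₀ : X.Opens, hU₀, rfl⟩, hxU₀', hU₀le⟩ :=
    X.isBasis_affineOpens.exists_subset_of_mem_open hxU₀ (f ⁻¹ᵁ V ⊓ g ⁻¹ᵁ V).2
  have hU₀le' : U₀ ≤ f ⁻¹ᵁ V ⊓ g ⁻¹ᵁ V := hU₀le
  have hft : (sY.appLE T V hVT').hom.FiniteType :=
    HasRingHomProperty.appLE (P := @LocallyOfFiniteType) sY inferInstance ⟨T, hT⟩ ⟨V, hV⟩ hVT'
  have e1 : sY.appLE T V hVT' ≫ f.appLE V U₀ (hU₀le'.trans inf_le_left) =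
      sY.appLE T V hVT' ≫ g.appLE V U₀ (hU₀le'.trans inf_le_right) := by
    rw [Scheme.Hom.appLE_comp_appLE, Scheme.Hom.appLE_comp_appLE]
    exact appLE_congr hfg _ _ _ _
  have e2 : f.appLE V U₀ (hU₀le'.trans inf_le_left) ≫ X.presheaf.germ U₀ x hxU₀' =
      g.appLE V U₀ (hU₀le'.trans inf_le_right) ≫ X.presheaf.germ U₀ x hxU₀' := by
    simp only [Scheme.Hom.appLE, Category.assoc, X.presheaf.germ_res', ← Scheme.Hom.germ_stalkMap, H]
    simp only [TopCat.Presheaf.germ_stalkSpecializes_assoc, Scheme.Hom.germ_stalkMap]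
  obtain ⟨U, hxU, hUU₀, hU⟩ := exists_restrict_eq_of_finiteType hxU₀' _ _ _ hft e1 e2
  refine ⟨U, hxU, ?_⟩
  have hUf : U ≤ f ⁻¹ᵁ V := hUU₀.trans (hU₀le'.trans inf_le_left)
  have hUg : U ≤ g ⁻¹ᵁ V := hUU₀.trans (hU₀le'.trans inf_le_right)
  rw [Scheme.Hom.appLE_map, Scheme.Hom.appLE_map] at hU
  rw [← Scheme.Hom.resLE_comp_ι _ hUf, ← Scheme.Hom.resLE_comp_ι _ hUg]
  congr 1
  have : IsAffine V := hV
  suffices ∀ (U₁ V₁) (eU : U = U₁) (eV : V = V₁),
      f.appLE V₁ U₁ (eU ▸ eV ▸ hUf) = g.appLE V₁ U₁ (eU ▸ eV ▸ hUg) by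
    rw [← cancel_mono V.toScheme.isoSpec.hom]
    simp only [Scheme.isoSpec, asIso_hom, Scheme.toSpecΓ_naturality,
      Scheme.Hom.app_eq_appLE, Scheme.Hom.resLE_appLE]
    congr 2
    apply this <;> simp
  rintro U V rfl rfl
  exact hU

end Groth.Agent.Lib.Helper15
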