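import Mathlib
import Groth.Agent.Lib.Helper15.LiftCone
import Groth.Agent.Lib.Helper15.PseudoCohBC

/-!
# helper15: stable isomorphism of complexes that are homotopy equivalent

* `nonempty_iso_of_split`: a termwise split short exact sequence of cochain complexes
  `0 → A → B → C → 0` with `C` contractible splits: `A ⊞ C ≅ B`.
* `nonempty_iso_cyl`: for `α : M ⟶ N` with contractible cone, `M ⊞ cone(α) ≅ N ⊞ cone(𝟙 M)`.
-/

set_option autoImplicit false
universe u

open CategoryTheory CategoryTheory.Limits TensorProduct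
open CochainComplex

namespace Groth.Agent.Lib.Helper15.StableIso

section Split

variable {R : Type u} [Ring R] {A B C : CochainComplex (ModuleCat.{u} R) ℤ}
  (i : A ⟶ B) (p : B ⟶ C)
  (ρ : ∀ n, B.X n ⟶ A.X n) (σ : ∀ n, C.X n ⟶ B.X n)

/-- the chain map section built from termwise sections and a contraction -/
noncomputable def tau (s : Homotopy (𝟙 C) 0) : C ⟶ B := Homotopy.nullHomotopicMap (fun a b => s.hom a b ≫ σ b)

theorem tau_p (s : Homotopy (𝟙 C) 0) (h2 : ∀ n, σ n ≫ p.f n = 𝟙 _) : tau σ s ≫ p = 𝟙 C := by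
  rw [tau, Homotopy.nullHomotopicMap_comp]
  have : (fun a b => (s.hom a b ≫ σ b) ≫ p.f b) = s.hom := by
    funext a b
    rw [Category.assoc, h2, Category.comp_id]
  rw [this]
  ext n : 1
  have := s.comm n
  simp only [HomologicalComplex.zero_f, add_zero] at this
  exact this.symm

theorem biprod_total_f {K L : CochainComplex (ModuleCat.{u} R) ℤ} (n : ℤ) :
    (biprod.fst : K ⊞ L ⟶ K).f n ≫ (biprod.inl : K ⟶ K ⊞ L).f n +
      (biprod.snd : K ⊞ L ⟶ L).f n ≫ (biprod.inr : L ⟶ K ⊞ L).f n = 𝟙 ((K ⊞ L).X n) := by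
  rw [← HomologicalComplex.comp_f, ← HomologicalComplex.comp_f, ← HomologicalComplex.add_f_apply,
    biprod.total, HomologicalComplex.id_f]

theorem biprod_X_hom_ext {K L : CochainComplex (ModuleCat.{u} R) ℤ} (n : ℤ) {Z : ModuleCat.{u} R}
    (f g : (K ⊞ L).X n ⟶ Z)
    (h1 : (biprod.inl : K ⟶ K ⊞ L).f n ≫ f = (biprod.inl : K ⟶ K ⊞ L).f n ≫ g)
    (h2 : (biprod.inr : L ⟶ K ⊞ L).f n ≫ f = (biprod.inr : L ⟶ K ⊞ L).f n ≫ g) : f = g := by
  have ht := biprod_total_f (K := K) (L := L) n
  calc f = 𝟙 _ ≫ f := (Category.id_comp f).symm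
    _ = 𝟙 _ ≫ g := by
        rw [← ht, Preadditive.add_comp, Preadditive.add_comp, Category.assoc, Category.assoc,
          Category.assoc, Category.assoc, h1, h2]
    _ = g := Category.id_comp g

theorem nonempty_iso_of_split (s : Homotopy (𝟙 C) 0) (hip : i ≫ p = 0)
    (h1 : ∀ n, i.f n ≫ ρ n = 𝟙 _) (h2 : ∀ n, σ n ≫ p.f n = 𝟙 _)
    (h3 : ∀ n, ρ n ≫ i.f n + p.f n ≫ σ n = 𝟙 _) : Nonempty (A ⊞ C ≅ B) := by
  let τ := tau σ s
  have hτp : τ ≫ p = 𝟙 C := tau_p p σ s h2
  let Φ : A ⊞ C ⟶ B := biprod.desc i τ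
  have hilΦ : ∀ n, (biprod.inl : A ⟶ A ⊞ C).f n ≫ Φ.f n = i.f n := fun n => by
    rw [← HomologicalComplex.comp_f, biprod.inl_desc]
  have hirΦ : ∀ n, (biprod.inr : C ⟶ A ⊞ C).f n ≫ Φ.f n = τ.f n := fun n => by
    rw [← HomologicalComplex.comp_f, biprod.inr_desc]
  have hipn : ∀ n, i.f n ≫ p.f n = 0 := fun n => by
    rw [← HomologicalComplex.comp_f, hip, HomologicalComplex.zero_f]
  have hτpn : ∀ n, τ.f n ≫ p.f n = 𝟙 _ := fun n => by
    rw [← HomologicalComplex.comp_f, hτp, HomologicalComplex.id_f]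
  have hipn' : ∀ n {Z : ModuleCat.{u} R} (f : C.X n ⟶ Z), i.f n ≫ p.f n ≫ f = 0 := fun n Z f => by
    rw [← Category.assoc, hipn, zero_comp]
  have hτpn' : ∀ n {Z : ModuleCat.{u} R} (f : C.X n ⟶ Z), τ.f n ≫ p.f n ≫ f = f := fun n Z f => by
    rw [← Category.assoc, hτpn, Category.id_comp]
  have h1' : ∀ n {Z : ModuleCat.{u} R} (f : A.X n ⟶ Z), i.f n ≫ ρ n ≫ f = f := fun n Z f => by
    rw [← Category.assoc, h1, Category.id_comp]
  have hΦ : ∀ n, IsIso (Φ.f n) := fun n => by
    refine ⟨(ρ n - p.f n ≫ τ.f n ≫ ρ n) ≫ (biprod.inl : A ⟶ A ⊞ C).f n +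
      p.f n ≫ (biprod.inr : C ⟶ A ⊞ C).f n, ?_, ?_⟩
    · apply biprod_X_hom_ext
      · rw [← Category.assoc, hilΦ, Category.comp_id, Preadditive.comp_add, Preadditive.sub_comp,
          Preadditive.comp_sub]
        simp only [Category.assoc, h1', hipn', sub_zero, add_zero]
      · rw [← Category.assoc, hirΦ, Category.comp_id, Preadditive.comp_add, Preadditive.sub_comp,
          Preadditive.comp_sub]
        simp only [Category.assoc, hτpn', sub_self, zero_add]
    · rw [Preadditive.add_comp, Category.assoc, Category.assoc, hilΦ, hirΦ, Preadditive.sub_comp]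
      have h3' : ρ n ≫ i.f n = 𝟙 _ - p.f n ≫ σ n := by rw [← h3 n]; abel
      simp only [Category.assoc]
      rw [h3']
      simp only [Preadditive.comp_sub, Category.comp_id, hτpn']
      abel
  haveI : IsIso Φ := HomologicalComplex.Hom.isIso_of_components Φ
  exact ⟨asIso Φ⟩

end Split

section Cyl

variable {R : Type u} [Ring R] {M N : CochainComplex (ModuleCat.{u} R) ℤ} (α : M ⟶ N)

/-- the comparison of cones `cone(𝟙 M) ⟶ cone(α)` -/
noncomputable def cq : mappingCone (𝟙 M) ⟶ mappingCone α :=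
  mappingCone.map (𝟙 M) α (𝟙 M) α (by simp)

/-- the inclusion `M ⟶ N ⊞ cone(𝟙 M)` -/
noncomputable def ci : M ⟶ N ⊞ mappingCone (𝟙 M) :=
  biprod.lift α (mappingCone.inr (𝟙 M))

/-- the projection `N ⊞ cone(𝟙 M) ⟶ cone(α)` -/
noncomputable def cp : N ⊞ mappingCone (𝟙 M) ⟶ mappingCone α :=
  biprod.desc (mappingCone.inr α) (-(cq α))

/-- termwise retraction -/
noncomputable def cρ (n : ℤ) : (N ⊞ mappingCone (𝟙 M)).X n ⟶ M.X n :=
  (biprod.snd : N ⊞ mappingCone (𝟙 M) ⟶ mappingCone (𝟙 M)).f n ≫
    (mappingCone.snd (𝟙 M)).v n n (add_zero n)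

/-- termwise section -/
noncomputable def cσ (n : ℤ) : (mappingCone α).X n ⟶ (N ⊞ mappingCone (𝟙 M)).X n :=
  (mappingCone.snd α).v n n (add_zero n) ≫
      (biprod.inl : N ⟶ N ⊞ mappingCone (𝟙 M)).f n -
    (mappingCone.fst α).1.v n (n + 1) rfl ≫ (mappingCone.inl (𝟙 M)).v (n + 1) n (by omega) ≫
      (biprod.inr : mappingCone (𝟙 M) ⟶ N ⊞ mappingCone (𝟙 M)).f n

theorem ci_cp : ci α ≫ cp α = 0 := by
  simp [ci, cp, cq, mappingCone.map, biprod.lift_desc]

theorem inl_cq (n : ℤ) :
    (mappingCone.inl (𝟙 M)).v (n + 1) n (by omega) ≫ (cq α).f n =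
      (mappingCone.inl α).v (n + 1) n (by omega) := by
  simp [cq, mappingCone.map]

theorem inr_cq (n : ℤ) :
    (mappingCone.inr (𝟙 M)).f n ≫ (cq α).f n = α.f n ≫ (mappingCone.inr α).f n := by
  simp [cq, mappingCone.map]

theorem ci_cρ (n : ℤ) : (ci α).f n ≫ cρ (N := N) n = 𝟙 _ := by
  rw [cρ, ← Category.assoc, ← HomologicalComplex.comp_f, ci, biprod.lift_snd,
    mappingCone.inr_f_snd_v]

theorem inl_cp (n : ℤ) :
    (biprod.inl : N ⟶ N ⊞ mappingCone (𝟙 M)).f n ≫ (cp α).f n = (mappingCone.inr α).f n := by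
  rw [← HomologicalComplex.comp_f, cp, biprod.inl_desc]

theorem inr_cp (n : ℤ) :
    (biprod.inr : mappingCone (𝟙 M) ⟶ N ⊞ mappingCone (𝟙 M)).f n ≫ (cp α).f n = -(cq α).f n := by
  rw [← HomologicalComplex.comp_f, cp, biprod.inr_desc, HomologicalComplex.neg_f_apply]

theorem cσ_cp (n : ℤ) : cσ α n ≫ (cp α).f n = 𝟙 _ := by
  rw [cσ, Preadditive.sub_comp, Category.assoc, Category.assoc, Category.assoc, inl_cp, inr_cp,
    Preadditive.comp_neg, Preadditive.comp_neg, inl_cq, sub_neg_eq_add, add_comm]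
  exact mappingCone.id_X α n (n + 1) rfl

theorem inr_cσ (n : ℤ) :
    (mappingCone.inr α).f n ≫ cσ α n = (biprod.inl : N ⟶ N ⊞ mappingCone (𝟙 M)).f n := by
  rw [cσ, Preadditive.comp_sub, ← Category.assoc, mappingCone.inr_f_snd_v, Category.id_comp,
    ← Category.assoc, mappingCone.inr_f_fst_v, zero_comp, sub_zero]

theorem inl_cσ (n : ℤ) :
    (mappingCone.inl α).v (n + 1) n (by omega) ≫ cσ α n =
      -((mappingCone.inl (𝟙 M)).v (n + 1) n (by omega) ≫
        (biprod.inr : mappingCone (𝟙 M) ⟶ N ⊞ mappingCone (𝟙 M)).f n) := by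
  rw [cσ, Preadditive.comp_sub, ← Category.assoc, mappingCone.inl_v_snd_v, zero_comp,
    ← Category.assoc, mappingCone.inl_v_fst_v, Category.id_comp, zero_sub]

@[reassoc]
theorem inl_cρ (n : ℤ) :
    (biprod.inl : N ⟶ N ⊞ mappingCone (𝟙 M)).f n ≫ cρ (N := N) n = 0 := by
  rw [cρ, ← Category.assoc, ← HomologicalComplex.comp_f, biprod.inl_snd,
    HomologicalComplex.zero_f, zero_comp]

@[reassoc]
theorem inr_cρ (n : ℤ) :
    (biprod.inr : mappingCone (𝟙 M) ⟶ N ⊞ mappingCone (𝟙 M)).f n ≫ cρ (N := N) n =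
      (mappingCone.snd (𝟙 M)).v n n (add_zero n) := by
  rw [cρ, ← Category.assoc, ← HomologicalComplex.comp_f, biprod.inr_snd,
    HomologicalComplex.id_f, Category.id_comp]

theorem ci_eq (n : ℤ) : (ci α).f n = α.f n ≫ (biprod.inl : N ⟶ N ⊞ mappingCone (𝟙 M)).f n +
    (mappingCone.inr (𝟙 M)).f n ≫
      (biprod.inr : mappingCone (𝟙 M) ⟶ N ⊞ mappingCone (𝟙 M)).f n := by
  rw [← HomologicalComplex.comp_f, ← HomologicalComplex.comp_f,
    ← HomologicalComplex.add_f_apply, ci, biprod.lift_eq]

theorem cρ_ci_add (n : ℤ) : cρ (N := N) n ≫ (ci α).f n + (cp α).f n ≫ cσ α n = 𝟙 _ := by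
  apply biprod_X_hom_ext
  · rw [Preadditive.comp_add, Category.comp_id, inl_cρ_assoc, zero_comp, zero_add,
      ← Category.assoc, inl_cp, inr_cσ]
  · rw [Preadditive.comp_add, Category.comp_id, inr_cρ_assoc, ← Category.assoc _ ((cp α).f n),
      inr_cp, Preadditive.neg_comp]
    rw [mappingCone.ext_from_iff _ (n + 1) n rfl]
    constructor
    · rw [Preadditive.comp_add, Preadditive.comp_neg, ← Category.assoc, mappingCone.inl_v_snd_v,
        zero_comp, zero_add, ← Category.assoc, inl_cq, inl_cσ, neg_neg]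
    · rw [Preadditive.comp_add, Preadditive.comp_neg, ← Category.assoc, mappingCone.inr_f_snd_v,
        Category.id_comp, ← Category.assoc, inr_cq, Category.assoc, inr_cσ, ci_eq]
      abel

/-- **Stable isomorphism**: if the cone of `α : M ⟶ N` is contractible, then
`M ⊞ cone(α) ≅ N ⊞ cone(𝟙 M)`. -/
theorem nonempty_iso_cyl (s : Homotopy (𝟙 (mappingCone α)) 0) :
    Nonempty (M ⊞ mappingCone α ≅ N ⊞ mappingCone (𝟙 M)) :=
  nonempty_iso_of_split (ci α) (cp α) (fun n => cρ n) (cσ α) s (ci_cp α) (ci_cρ α) (cσ_cp α)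
    (cρ_ci_add α)

end Cyl

section Contract

attribute [local instance] HasDerivedCategory.standard

variable {R : Type u} [CommRing R]

open Groth.Agent.Lib.Helper15.LiftCone

/-- the terms of the cone as products -/
noncomputable def coneEquiv {K L : CochainComplex (ModuleCat.{u} R) ℤ} (φ : K ⟶ L) (j : ℤ) :
    (mappingCone φ).X j ≃ₗ[R] (K.X (j + 1) × L.X j) where
  toFun z := (cfst φ j z, csnd φ j z)
  map_add' x y := by simp
  map_smul' r x := by simp
  invFun a := cinl φ j a.1 + cinr φ j a.2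
  left_inv z := cinl_cfst_add φ j z
  right_inv a := by
    ext
    · simp [cfst_cinl, cfst_cinr]
    · simp [csnd_cinl, csnd_cinr]

theorem cone_finite {K L : CochainComplex (ModuleCat.{u} R) ℤ} (φ : K ⟶ L) (j : ℤ)
    [Module.Finite R (K.X (j + 1))] [Module.Finite R (L.X j)] :
    Module.Finite R ((mappingCone φ).X j) :=
  Module.Finite.equiv (coneEquiv φ j).symm

theorem cone_projective {K L : CochainComplex (ModuleCat.{u} R) ℤ} (φ : K ⟶ L) (j : ℤ)
    [Module.Projective R (K.X (j + 1))] [Module.Projective R (L.X j)] :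
    Module.Projective R ((mappingCone φ).X j) :=
  Module.Projective.of_equiv (coneEquiv φ j).symm

/-- the cone of a quasi-isomorphism between bounded above complexes of projectives is
contractible -/
theorem contractible_cone_of_quasiIso (M N : DRing.Cx R) (b : ℤ)
    (hMb : ∀ i, b < i → IsZero (M.X i)) (hNb : ∀ i, b < i → IsZero (N.X i))
    (hMp : ∀ i, Module.Projective R (M.X i)) (hNp : ∀ i, Module.Projective R (N.X i))
    (α : M ⟶ N) (hq : QuasiIso α) :
    Nonempty (Homotopy (𝟙 (mappingCone α)) 0) := by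
  have hac : (mappingCone α).Acyclic := (quasiIso_iff_acyclic_mappingCone α).1 hq
  haveI : (mappingCone α).IsStrictlyLE b := by
    refine (CochainComplex.isStrictlyLE_iff _ _).2 (fun i hi => ?_)
    rw [mappingCone.isZero_X_iff]
    exact ⟨hMb _ (by omega), hNb _ hi⟩
  haveI : ∀ n, Projective ((mappingCone α).X n) := fun n => by
    haveI := hMp (n + 1)
    haveI := hNp n
    haveI := cone_projective α n
    infer_instance
  haveI : (mappingCone α).IsKProjective :=
    CochainComplex.isKProjective_of_projective (mappingCone α) b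
  exact ⟨CochainComplex.IsKProjective.homotopyZero (𝟙 (mappingCone α)) hac⟩

/-- an isomorphism in the derived category between bounded above complexes of projectives is
induced by a morphism of complexes with contractible cone -/
theorem exists_contractible_cone (M N : DRing.Cx R) (b : ℤ)
    (hMb : ∀ i, b < i → IsZero (M.X i)) (hNb : ∀ i, b < i → IsZero (N.X i))
    (hMp : ∀ i, Module.Projective R (M.X i)) (hNp : ∀ i, Module.Projective R (N.X i))
    (φ : DRing.toD M ≅ DRing.toD N) :
    ∃ α : M ⟶ N, Nonempty (Homotopy (𝟙 (mappingCone α)) 0) := by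
  haveI : M.IsStrictlyLE b := (CochainComplex.isStrictlyLE_iff _ _).2 (fun i hi => hMb i hi)
  haveI : ∀ n, Projective (M.X n) := fun n => by
    haveI := hMp n
    infer_instance
  haveI : M.IsKProjective := CochainComplex.isKProjective_of_projective M b
  obtain ⟨α, hα⟩ := exists_map_eq M N φ.hom
  have hq : QuasiIso α := by
    rw [← DerivedCategory.isIso_Q_map_iff_quasiIso, hα]
    infer_instance
  exact ⟨α, contractible_cone_of_quasiIso M N b hMb hNb hMp hNp α hq⟩

theorem cone_vanishesOutside {M N : DRing.Cx R} (α : M ⟶ N) (a b : ℤ)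
    (hM : DRing.VanishesOutside M a b) (hN : DRing.VanishesOutside N a b) :
    DRing.VanishesOutside (mappingCone α) (a - 1) b := by
  intro i hi
  rw [mappingCone.isZero_X_iff]
  exact ⟨hM _ (by omega), hN _ (by omega)⟩

theorem cone_termwiseFiniteProjective {M N : DRing.Cx R} (α : M ⟶ N)
    (hM : DRing.TermwiseFiniteProjective M) (hN : DRing.TermwiseFiniteProjective N) :
    DRing.TermwiseFiniteProjective (mappingCone α) := by
  intro i
  haveI := (hM (i + 1)).1
  haveI := (hM (i + 1)).2
  haveI := (hN i).1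
  haveI := (hN i).2
  exact ⟨cone_finite α i, cone_projective α i⟩

end Contract

section Free

variable {R : Type u} [CommRing R]

theorem exists_free_of_isUnit (p : Ideal R) [p.IsPrime] (X : Type u) [AddCommGroup X] [Module R X]
    [Module.Finite R X] [Module.Projective R X] :
    ∃ r : R, r ∉ p ∧ ∀ (S : Type u) [CommRing S] [Algebra R S], IsUnit (algebraMap R S r) →
      Module.Free S (S ⊗[R] X) := by
  haveI : Module.FinitePresentation R X := Module.finitePresentation_of_projective R X
  haveI : Module.Free (Localization.AtPrime p) (LocalizedModule p.primeCompl X) :=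
    Module.free_of_flat_of_isLocalRing
  obtain ⟨r, hr, hfree, -⟩ := Module.FinitePresentation.exists_free_localizedModule_powers
    p.primeCompl (LocalizedModule.mkLinearMap p.primeCompl X) (Localization.AtPrime p)
  refine ⟨r, hr, ?_⟩
  intro S _ _ hu
  letI : Algebra (Localization (Submonoid.powers r)) S :=
    (IsLocalization.Away.lift (S := Localization (Submonoid.powers r)) r hu).toAlgebra
  haveI : IsScalarTower R (Localization (Submonoid.powers r)) S :=
    IsScalarTower.of_algebraMap_eq' (IsLocalization.Away.lift_comp r hu).symm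
  let e1 : (Localization (Submonoid.powers r)) ⊗[R] X ≃ₗ[Localization (Submonoid.powers r)]
      LocalizedModule (Submonoid.powers r) X :=
    (IsLocalizedModule.isBaseChange (Submonoid.powers r) (Localization (Submonoid.powers r))
      (LocalizedModule.mkLinearMap (Submonoid.powers r) X)).equiv
  haveI : Module.Free (Localization (Submonoid.powers r))
      ((Localization (Submonoid.powers r)) ⊗[R] X) := Module.Free.of_equiv e1.symm
  exact Module.Free.of_equiv
    (TensorProduct.AlgebraTensorModule.cancelBaseChange R (Localization (Submonoid.powers r)) S S X)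

theorem exists_free_of_isUnit_family (p : Ideal R) [p.IsPrime] (X : ℤ → ModuleCat.{u} R)
    (hX : ∀ i, Module.Finite R (X i) ∧ Module.Projective R (X i)) (T : Finset ℤ)
    (hT : ∀ i, i ∉ T → Subsingleton (X i)) :
    ∃ r : R, r ∉ p ∧ ∀ (S : Type u) [CommRing S] [Algebra R S], IsUnit (algebraMap R S r) →
      ∀ i, Module.Free S (S ⊗[R] X i) := by
  classical
  have hch : ∀ i, ∃ r : R, r ∉ p ∧ ∀ (S : Type u) [CommRing S] [Algebra R S],
      IsUnit (algebraMap R S r) → Module.Free S (S ⊗[R] X i) := fun i => by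
    haveI := (hX i).1
    haveI := (hX i).2
    exact exists_free_of_isUnit p (X i)
  choose r hr hfree using hch
  refine ⟨∏ i ∈ T, r i, ?_, ?_⟩
  · rw [Ideal.IsPrime.prod_mem_iff]
    rintro ⟨i, -, hi⟩
    exact hr i hi
  · intro S _ _ hu i
    by_cases hi : i ∈ T
    · refine hfree i S ?_
      exact isUnit_of_dvd_unit (map_dvd (algebraMap R S) (Finset.dvd_prod_of_mem r hi)) hu
    · haveI := hT i hi
      exact Module.Free.of_subsingleton S _

end Free

section Range

variable {R : Type u} [CommRing R] (S : Type u) [CommRing S] [Algebra R S]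

theorem free_range_baseChange [Module.Flat R S] {X Y : Type u} [AddCommGroup X] [Module R X]
    [AddCommGroup Y] [Module R Y] (g : X →ₗ[R] Y) [Module.Free S (S ⊗[R] LinearMap.range g)] :
    Module.Free S (LinearMap.range (g.baseChange S)) := by
  have hπ : Function.Surjective (g.rangeRestrict.baseChange S) := by
    rw [LinearMap.baseChange_eq_ltensor]
    exact LinearMap.lTensor_surjective _ (LinearMap.surjective_rangeRestrict g)
  have hι : Function.Injective ((LinearMap.range g).subtype.baseChange S) := by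
    rw [LinearMap.baseChange_eq_ltensor]
    exact Module.Flat.lTensor_preserves_injective_linearMap _ (Submodule.injective_subtype _)
  have hcomp : g.baseChange S =
      ((LinearMap.range g).subtype.baseChange S) ∘ₗ (g.rangeRestrict.baseChange S) := by
    rw [← LinearMap.baseChange_comp]
    congr 1
  have hr : LinearMap.range (g.baseChange S) =
      LinearMap.range ((LinearMap.range g).subtype.baseChange S) := by
    rw [hcomp, LinearMap.range_comp_of_range_eq_top _ (LinearMap.range_eq_top.2 hπ)]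
  rw [hr]
  exact Module.Free.of_equiv (LinearEquiv.ofInjective _ hι)

theorem free_range_of_conj {X X' Y Y' : Type u} [AddCommGroup X] [Module S X]
    [AddCommGroup X'] [Module S X'] [AddCommGroup Y] [Module S Y] [AddCommGroup Y'] [Module S Y']
    (f : X →ₗ[S] Y) (f' : X' →ₗ[S] Y') (e₁ : X' ≃ₗ[S] X) (e₂ : Y' ≃ₗ[S] Y)
    (h : ∀ x, e₂ (f' x) = f (e₁ x)) [Module.Free S (LinearMap.range f)] :
    Module.Free S (LinearMap.range f') := by
  have hr : LinearMap.range f' = (LinearMap.range f).map (e₂.symm : Y →ₗ[S] Y') := by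
    ext y
    constructor
    · rintro ⟨x, rfl⟩
      exact ⟨f (e₁ x), ⟨e₁ x, rfl⟩, by rw [← h]; simp⟩
    · rintro ⟨_, ⟨x, rfl⟩, rfl⟩
      refine ⟨e₁.symm x, ?_⟩
      apply e₂.injective
      rw [h]
      simp
  rw [hr]
  exact Module.Free.of_equiv (e₂.symm.submoduleMap (LinearMap.range f))

theorem ext_conj {X Y : ModuleCat.{u} R} (g : X ⟶ Y)
    (t : (ModuleCat.extendScalars.{u, u, u} (algebraMap R S)).obj X) :
    (PseudoCohBC.extModuleIso R S Y).hom.hom
        (((ModuleCat.extendScalars.{u, u, u} (algebraMap R S)).map g).hom t) =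
      g.hom.baseChange S ((PseudoCohBC.extModuleIso R S X).hom.hom t) := by
  let L : (ModuleCat.extendScalars.{u, u, u} (algebraMap R S)).obj X →ₗ[S] S ⊗[R] Y :=
    ((PseudoCohBC.extModuleIso R S Y).hom.hom).comp
      (((ModuleCat.extendScalars.{u, u, u} (algebraMap R S)).map g).hom)
  let L' : (ModuleCat.extendScalars.{u, u, u} (algebraMap R S)).obj X →ₗ[S] S ⊗[R] Y :=
    (g.hom.baseChange S).comp (PseudoCohBC.extModuleIso R S X).hom.hom
  change L t = L' t
  induction t using TensorProduct.induction_on with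
  | zero => exact (L.map_zero).trans (L'.map_zero).symm
  | tmul s m => rfl
  | add x y hx hy =>
    refine (L.map_add x y).trans ?_
    rw [hx, hy]
    exact (L'.map_add x y).symm

theorem free_range_ext [Module.Flat R S] {X Y : ModuleCat.{u} R} (g : X ⟶ Y)
    [Module.Free S (S ⊗[R] LinearMap.range g.hom)] :
    Module.Free S (LinearMap.range
      ((ModuleCat.extendScalars.{u, u, u} (algebraMap R S)).map g).hom) := by
  haveI := free_range_baseChange S g.hom
  exact free_range_of_conj S (g.hom.baseChange S) _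
    (PseudoCohBC.extModuleIso R S X).toLinearEquiv (PseudoCohBC.extModuleIso R S Y).toLinearEquiv
    (fun t => ext_conj S g t)

theorem free_ext (X : ModuleCat.{u} R) [Module.Free S (S ⊗[R] X)] :
    Module.Free S ((ModuleCat.extendScalars.{u, u, u} (algebraMap R S)).obj X) :=
  Module.Free.of_equiv (PseudoCohBC.extModuleIso R S X).toLinearEquiv.symm

theorem finite_ext (X : ModuleCat.{u} R) [Module.Finite R X] :
    Module.Finite S ((ModuleCat.extendScalars.{u, u, u} (algebraMap R S)).obj X) :=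
  Module.Finite.equiv (PseudoCohBC.extModuleIso R S X).toLinearEquiv.symm

end Range

section Main

attribute [local instance] HasDerivedCategory.standard

variable {R : Type u} [CommRing R]

theorem range_d_projective (C : DRing.Cx R) (s : Homotopy (𝟙 C) 0) (i : ℤ)
    [Module.Projective R (C.X (i + 1))] :
    Module.Projective R (LinearMap.range (C.d i (i + 1)).hom) := by
  have hcomm := s.comm (i + 1)
  rw [dNext_eq s.hom (show (ComplexShape.up ℤ).Rel (i + 1) (i + 1 + 1) from rfl),
    prevD_eq s.hom (show (ComplexShape.up ℤ).Rel i (i + 1) from rfl)] at hcomm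
  simp only [HomologicalComplex.zero_f, add_zero, HomologicalComplex.id_f] at hcomm
  refine Module.Projective.of_split (LinearMap.range (C.d i (i + 1)).hom).subtype
    ((C.d i (i + 1)).hom.rangeRestrict ∘ₗ (s.hom (i + 1) i).hom) ?_
  ext ⟨_, ⟨y, rfl⟩⟩
  have h1 := congrArg (fun g => g.hom ((C.d i (i + 1)).hom y)) hcomm
  simp only [ModuleCat.hom_id, LinearMap.id_coe, id_eq, ModuleCat.hom_add, ModuleCat.hom_comp,
    LinearMap.add_apply, LinearMap.coe_comp, Function.comp_apply] at h1
  have h2 : (C.d (i + 1) (i + 1 + 1)).hom ((C.d i (i + 1)).hom y) = 0 := by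
    have := C.d_comp_d i (i + 1) (i + 1 + 1)
    exact congrArg (fun g => g.hom y) this
  rw [h2, map_zero, zero_add] at h1
  simp only [LinearMap.coe_comp, Function.comp_apply, Submodule.coe_subtype,
    LinearMap.codRestrict_apply, LinearMap.id_coe, id_eq, LinearMap.rangeRestrict]
  exact h1.symm

theorem exists_props (p : Ideal R) [p.IsPrime] (C : DRing.Cx R) (a' b' : ℤ)
    (hC : DRing.VanishesOutside C a' b') (hCp : DRing.TermwiseFiniteProjective C)
    (s : Homotopy (𝟙 C) 0) :
    ∃ r : R, r ∉ p ∧ ∀ (S : Type u) [CommRing S] [Algebra R S] [Module.Flat R S],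
      IsUnit (algebraMap R S r) →
      (DRing.VanishesOutside (((ModuleCat.extendScalars.{u, u, u}
          (algebraMap R S)).mapHomologicalComplex (ComplexShape.up ℤ)).obj C) a' b') ∧
      DRing.TermwiseFiniteFree (((ModuleCat.extendScalars.{u, u, u}
          (algebraMap R S)).mapHomologicalComplex (ComplexShape.up ℤ)).obj C) ∧
      (∀ i : ℤ, Module.Free S (LinearMap.range ((((ModuleCat.extendScalars.{u, u, u}
          (algebraMap R S)).mapHomologicalComplex (ComplexShape.up ℤ)).obj C).d i (i + 1)).hom)) ∧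
      Nonempty (Homotopy (𝟙 (((ModuleCat.extendScalars.{u, u, u}
          (algebraMap R S)).mapHomologicalComplex (ComplexShape.up ℤ)).obj C)) 0) := by
  classical
  have hsub : ∀ i, i ∉ Finset.Icc a' b' → Subsingleton (C.X i) := fun i hi => by
    apply ModuleCat.subsingleton_of_isZero
    apply hC
    rw [Finset.mem_Icc] at hi
    omega
  obtain ⟨r1, hr1, h1⟩ := exists_free_of_isUnit_family p (fun i => C.X i) hCp (Finset.Icc a' b') hsub
  obtain ⟨r2, hr2, h2⟩ := exists_free_of_isUnit_family p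
    (fun i => ModuleCat.of R (LinearMap.range (C.d i (i + 1)).hom))
    (fun i => by
      haveI := (hCp i).1
      haveI := (hCp (i + 1)).2
      exact ⟨inferInstanceAs (Module.Finite R (LinearMap.range (C.d i (i + 1)).hom)),
        range_d_projective C s i⟩)
    (Finset.Icc a' b')
    (fun i hi => by
      haveI := hsub i hi
      refine ⟨fun x y => ?_⟩
      obtain ⟨_, ⟨x', rfl⟩⟩ := x
      obtain ⟨_, ⟨y', rfl⟩⟩ := y
      rw [Subsingleton.elim x' y'])
  refine ⟨r1 * r2, fun h => (Ideal.IsPrime.mem_or_mem inferInstance h).elim hr1 hr2, ?_⟩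
  intro S _ _ _ hu
  rw [map_mul, IsUnit.mul_iff] at hu
  refine ⟨?_, ?_, ?_, ?_⟩
  · intro i hi
    exact Functor.map_isZero (ModuleCat.extendScalars.{u, u, u} (algebraMap R S)) (hC i hi)
  · intro i
    haveI := (hCp i).1
    haveI := h1 S hu.1 i
    exact ⟨finite_ext S (C.X i), free_ext S (C.X i)⟩
  · intro i
    haveI : Module.Free S (S ⊗[R] LinearMap.range (C.d i (i + 1)).hom) := h2 S hu.2 i
    exact free_range_ext S (C.d i (i + 1))
  · refine ⟨(Homotopy.ofEq ?_).trans (((ModuleCat.extendScalars.{u, u, u}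
      (algebraMap R S)).mapHomotopy s).trans (Homotopy.ofEq ?_))⟩
    · exact (CategoryTheory.Functor.map_id _ _).symm
    · exact CategoryTheory.Functor.map_zero _ _ _

end Main

end Groth.Agent.Lib.Helper15.StableIso
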