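import Groth.Agent.Lib.Helper15.GenLiftSch
import Groth.Agent.Lib.Helper15.FFTensorSch

/-!
# Supports of `f^* E ⊗ F` and of pullbacks of finite type modules (helper15)

* `mem_support_pullback_iff`: `F` quasi-coherent of finite type: `z ∈ Supp (ι^* F) ↔ ι z ∈ Supp F`.
* `mem_support_tensor_pullback_iff`: `F` quasi-coherent of finite type, flat over `Y` at `x`,
  `E` quasi-coherent on `Y`: `x ∈ Supp (f^* E ⊗ F) ↔ f x ∈ Supp E ∧ x ∈ Supp F`.
-/

set_option autoImplicit false
set_option linter.style.haveILetI false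
universe u
open CategoryTheory CategoryTheory.Limits AlgebraicGeometry TopologicalSpace TensorProduct

namespace Groth.Agent.Lib.Helper15.SuppTensor

open Groth.Agent.Lib.Helper15.GenLiftSch Groth.Agent.Lib.Helper15.FibNe

theorem mem_support_pullback_iff {Z X : Scheme.{u}} (ι : Z ⟶ X) (F : X.Modules)
    (hF : Coh.IsCoh F) (z : Z) :
    z ∈ CohB1.support ((Scheme.Modules.pullback ι).obj F) ↔ ι z ∈ CohB1.support F := by
  haveI : F.IsQuasicoherent := hF.1
  letI alg : Algebra (X.presheaf.stalk (ι z)) (Z.presheaf.stalk z) := (ι.stalkMap z).hom.toAlgebra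
  obtain ⟨e⟩ := Groth.Agent.Lib.Lead.PullbackAff.nonempty_stalk_pullback_equiv ι F z
  change ¬ Subsingleton (((Scheme.Modules.pullback ι).obj F).presheaf.stalk z) ↔
    ¬ Subsingleton (F.presheaf.stalk (ι z))
  rw [not_iff_not]
  constructor
  · intro h
    by_contra hns
    rw [not_subsingleton_iff_nontrivial] at hns
    haveI := hns
    haveI hfin : Module.Finite (X.presheaf.stalk (ι z)) (F.presheaf.stalk (ι z)) :=
      Groth.Agent.Lib.Helper64.FinTypeStalk.finite_stalk F hF.2 (ι z)
    letI algK : Algebra (X.presheaf.stalk (ι z)) (IsLocalRing.ResidueField (Z.presheaf.stalk z)) :=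
      ((algebraMap (Z.presheaf.stalk z) (IsLocalRing.ResidueField (Z.presheaf.stalk z))).comp
        (algebraMap (X.presheaf.stalk (ι z)) (Z.presheaf.stalk z))).toAlgebra
    haveI : IsScalarTower (X.presheaf.stalk (ι z)) (Z.presheaf.stalk z)
        (IsLocalRing.ResidueField (Z.presheaf.stalk z)) := IsScalarTower.of_algebraMap_eq' rfl
    have h0 : ∀ r ∈ IsLocalRing.maximalIdeal (X.presheaf.stalk (ι z)),
        algebraMap (X.presheaf.stalk (ι z)) (IsLocalRing.ResidueField (Z.presheaf.stalk z)) r = 0 := by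
      intro r hr
      change IsLocalRing.residue _ ((ι.stalkMap z).hom r) = 0
      rw [IsLocalRing.residue_eq_zero_iff]
      rw [IsLocalRing.mem_maximalIdeal, mem_nonunits_iff] at hr ⊢
      exact fun hu => hr (isUnit_of_map_unit (ι.stalkMap z).hom r hu)
    haveI h1 : Nontrivial ((F.presheaf.stalk (ι z)) ⊗[X.presheaf.stalk (ι z)]
        (IsLocalRing.ResidueField (Z.presheaf.stalk z))) :=
      nontrivial_tensor_residue h0 maximalIdeal_smul_top_ne_top
    -- the surjection `O_z ⊗ F → κ(z) ⊗ F`
    let π : Z.presheaf.stalk z →ₗ[X.presheaf.stalk (ι z)]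
        IsLocalRing.ResidueField (Z.presheaf.stalk z) :=
      (Algebra.linearMap (Z.presheaf.stalk z)
        (IsLocalRing.ResidueField (Z.presheaf.stalk z))).restrictScalars (X.presheaf.stalk (ι z))
    have hπ : Function.Surjective π := IsLocalRing.residue_surjective
    have hsurj := LinearMap.rTensor_surjective (F.presheaf.stalk (ι z)) hπ
    haveI : Subsingleton ((Z.presheaf.stalk z) ⊗[X.presheaf.stalk (ι z)]
        (F.presheaf.stalk (ι z))) := e.symm.toEquiv.subsingleton
    haveI : Subsingleton ((IsLocalRing.ResidueField (Z.presheaf.stalk z))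
        ⊗[X.presheaf.stalk (ι z)] (F.presheaf.stalk (ι z))) := hsurj.subsingleton
    haveI : Subsingleton ((F.presheaf.stalk (ι z)) ⊗[X.presheaf.stalk (ι z)]
        (IsLocalRing.ResidueField (Z.presheaf.stalk z))) :=
      (TensorProduct.comm _ _ _).toEquiv.subsingleton
    exact not_subsingleton _ ‹_›
  · intro h
    haveI := h
    exact e.toEquiv.subsingleton

theorem mem_support_tensor_pullback_iff {X Y : Scheme.{u}} (f : X ⟶ Y) (F : X.Modules)
    (hF : Coh.IsCoh F) (E : Y.Modules) (hE : Coh.IsQCoh E) (x : X)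
    (hfl : FlatMod.IsFlatOverAt f F x) :
    x ∈ CohB1.support (CohB1.tensorMod ((Scheme.Modules.pullback f).obj E) F) ↔
      (f x ∈ CohB1.support E ∧ x ∈ CohB1.support F) := by
  haveI : E.IsQuasicoherent := hE
  letI alg : Algebra (Y.presheaf.stalk (f x)) (X.presheaf.stalk x) := (f.stalkMap x).hom.toAlgebra
  letI modR : Module (Y.presheaf.stalk (f x)) (F.presheaf.stalk x) :=
    FlatMod.moduleStalkOver f F x
  haveI : IsScalarTower (Y.presheaf.stalk (f x)) (X.presheaf.stalk x) (F.presheaf.stalk x) :=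
    IsScalarTower.of_algebraMap_smul fun r m => rfl
  obtain ⟨e2⟩ := Groth.Agent.Lib.Lead.PullbackAff.nonempty_stalk_pullback_equiv f E x
  let e1 : (CohB1.tensorMod ((Scheme.Modules.pullback f).obj E) F).presheaf.stalk x
      ≃ₗ[X.presheaf.stalk x]
      (((Scheme.Modules.pullback f).obj E).presheaf.stalk x) ⊗[X.presheaf.stalk x]
        (F.presheaf.stalk x) :=
    (Groth.Agent.Lib.Helper12.Sky.stalkTensorIso x ((Scheme.Modules.pullback f).obj E) F).toLinearEquiv
  let e3 : (((Scheme.Modules.pullback f).obj E).presheaf.stalk x) ⊗[X.presheaf.stalk x]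
        (F.presheaf.stalk x) ≃ₗ[X.presheaf.stalk x]
      (F.presheaf.stalk x) ⊗[X.presheaf.stalk x]
        (((Scheme.Modules.pullback f).obj E).presheaf.stalk x) := TensorProduct.comm _ _ _
  let e4 : (F.presheaf.stalk x) ⊗[X.presheaf.stalk x]
        (((Scheme.Modules.pullback f).obj E).presheaf.stalk x) ≃ₗ[X.presheaf.stalk x]
      (F.presheaf.stalk x) ⊗[X.presheaf.stalk x]
        ((X.presheaf.stalk x) ⊗[Y.presheaf.stalk (f x)] (E.presheaf.stalk (f x))) :=
    TensorProduct.AlgebraTensorModule.congr (LinearEquiv.refl _ _) e2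
  let e5 := TensorProduct.AlgebraTensorModule.cancelBaseChange (Y.presheaf.stalk (f x))
    (X.presheaf.stalk x) (X.presheaf.stalk x) (F.presheaf.stalk x) (E.presheaf.stalk (f x))
  let eT := (e1 ≪≫ₗ e3 ≪≫ₗ e4 ≪≫ₗ e5).toEquiv
  change ¬ Subsingleton ((CohB1.tensorMod ((Scheme.Modules.pullback f).obj E) F).presheaf.stalk x) ↔
    (¬ Subsingleton (E.presheaf.stalk (f x)) ∧ ¬ Subsingleton (F.presheaf.stalk x))
  constructor
  · intro h
    constructor
    · intro hs
      haveI := hs
      exact h eT.subsingleton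
    · intro hs
      haveI := hs
      exact h eT.subsingleton
  · rintro ⟨hEy, hFx⟩ hs
    haveI : Module.Flat (Y.presheaf.stalk (f x)) (F.presheaf.stalk x) := hfl
    haveI : Module.FaithfullyFlat (Y.presheaf.stalk (f x)) (F.presheaf.stalk x) :=
      Groth.Agent.Lib.Helper15.FFRel.faithfullyFlat_of_local (fibre_ne_of_finite f F hF.2 x hFx)
    haveI : Nontrivial (E.presheaf.stalk (f x)) := not_subsingleton_iff_nontrivial.1 hEy
    haveI : Nontrivial ((F.presheaf.stalk x) ⊗[Y.presheaf.stalk (f x)] (E.presheaf.stalk (f x))) :=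
      Module.FaithfullyFlat.lTensor_nontrivial _ _ _
    haveI := hs
    exact not_subsingleton _ eT.symm.subsingleton

end Groth.Agent.Lib.Helper15.SuppTensor
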