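import Groth.Agent.Lib.Helper12.SkyTilde2
import Groth.Agent.Lib.Helper12.StalkExact2
import Groth.Agent.Lib.Helper43.TorAmpDescent

/-!
# Tor amplitude of `M~` on `Spec A` versus tor amplitude of `M` (helper15)
-/

set_option autoImplicit false
universe u
open CategoryTheory CategoryTheory.Limits AlgebraicGeometry TensorProduct
attribute [local instance] HasDerivedCategory.standard

namespace Groth.Agent.Lib.Helper15.TildeAmp

open Groth.Agent.Lib.Helper12.Sky Groth.Agent.Lib.Helper12.StalkExact
  Groth.Agent.Lib.Helper84.FlatBC Groth.Agent.Lib.Helper84.FlatAmp DRing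

variable (R : CommRingCat.{u})

/-- the stalk of `Spec R` at `x` is the localization of `R` at the prime `x`, via `phi`. -/
theorem isLocalization_phi (x : Spec (.of R)) :
    @IsLocalization.AtPrime R _ ((Spec (.of R)).presheaf.stalk x) _ (phi R x).toAlgebra
      x.asIdeal _ :=
  StructureSheaf.IsLocalization.to_stalk R x

theorem flat_phi (x : Spec (.of R)) : (phi R x).Flat := by
  letI := (phi R x).toAlgebra
  haveI := isLocalization_phi R x
  exact IsLocalization.flat _ x.asIdeal.primeCompl

instance (x : Spec (.of R)) : PreservesFiniteLimits (ext (phi R x)) :=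
  preservesFiniteLimits_ext _ (flat_phi R x)

/-- the point of `Spec R` given by a prime ideal -/
def pt (P : Ideal R) [P.IsPrime] : Spec (.of R) := (⟨P, inferInstance⟩ : PrimeSpectrum R)

theorem isLocalizedModule_mk (x : Spec (.of R)) (M : ModuleCat.{u} R) :
    letI := (phi R x).toAlgebra
    IsLocalizedModule x.asIdeal.primeCompl
      (TensorProduct.mk R ((Spec (.of R)).presheaf.stalk x) M 1) := by
  letI := (phi R x).toAlgebra
  haveI := isLocalization_phi R x
  exact (isLocalizedModule_iff_isBaseChange x.asIdeal.primeCompl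
    ((Spec (.of R)).presheaf.stalk x) _).2 (TensorProduct.isBaseChange R M _)

theorem subsingleton_localizedModule (x : Spec (.of R)) (M : ModuleCat.{u} R)
    (h : IsZero ((ext (phi R x)).obj M)) :
    Subsingleton (LocalizedModule x.asIdeal.primeCompl M) := by
  letI := (phi R x).toAlgebra
  haveI := isLocalizedModule_mk R x M
  let e := IsLocalizedModule.iso x.asIdeal.primeCompl
    (TensorProduct.mk R ((Spec (.of R)).presheaf.stalk x) M 1)
  haveI : Subsingleton ((Spec (.of R)).presheaf.stalk x ⊗[R] M) :=
    (ModuleCat.isZero_iff_subsingleton).1 h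
  exact e.toEquiv.subsingleton

theorem flat_localizedModule (x : Spec (.of R)) (M : ModuleCat.{u} R)
    (h : Module.Flat ((Spec (.of R)).presheaf.stalk x) ((ext (phi R x)).obj M)) :
    Module.Flat R (LocalizedModule x.asIdeal.primeCompl M) := by
  letI := (phi R x).toAlgebra
  haveI := isLocalizedModule_mk R x M
  haveI := isLocalization_phi R x
  let e := IsLocalizedModule.iso x.asIdeal.primeCompl
    (TensorProduct.mk R ((Spec (.of R)).presheaf.stalk x) M 1)
  haveI : Module.Flat R ((Spec (.of R)).presheaf.stalk x) :=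
    IsLocalization.flat _ x.asIdeal.primeCompl
  haveI : Module.Flat ((Spec (.of R)).presheaf.stalk x)
      ((Spec (.of R)).presheaf.stalk x ⊗[R] M) := h
  haveI : Module.Flat R ((Spec (.of R)).presheaf.stalk x ⊗[R] M) :=
    Module.Flat.trans R ((Spec (.of R)).presheaf.stalk x) _
  exact Module.Flat.of_linearEquiv e

theorem D1 (M : ModuleCat.{u} R)
    (h : ∀ x : Spec (.of R), IsZero ((ext (phi R x)).obj M)) : IsZero M := by
  rw [ModuleCat.isZero_iff_subsingleton]
  apply Module.subsingleton_of_localization_maximal (R := R)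
    (fun P _ => LocalizedModule P.primeCompl M)
    (fun P _ => LocalizedModule.mkLinearMap P.primeCompl M)
  intro P _
  exact subsingleton_localizedModule R (pt R P) M (h (pt R P))

theorem D3 (M : ModuleCat.{u} R)
    (h : ∀ x : Spec (.of R), Module.Flat ((Spec (.of R)).presheaf.stalk x)
      ((ext (phi R x)).obj M)) : Module.Flat R M := by
  refine Module.flat_of_localized_maximal M ?_
  intro P _
  exact flat_localizedModule R (pt R P) M (h (pt R P))

/-- tor amplitude of a complex of `R`-modules can be checked at the stalks of `Spec R`. -/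
theorem hasTorAmplitudeIn_of_stalks (K : Cx R) (a b : ℤ)
    (h : ∀ x : Spec (.of R), HasTorAmplitudeIn ((Spec (.of R)).presheaf.stalk x) a b
      (toD ((extCx (phi R x)).obj K))) : HasTorAmplitudeIn R a b (toD K) :=
  Groth.Agent.Lib.Helper43.TorAmpDescent.descent
    (fun x : Spec (.of R) => (Spec (.of R)).presheaf.stalk x) (fun x => phi R x)
    (D1 R) (D3 R) K a b h

section Main


theorem flat_tilde (N : ModuleCat.{u} R) (h : Module.Flat R N) :
    FlatMod.IsFlat ((tilde.functor R).obj N) := by
  intro x
  haveI := flat_ext (phi R x) N h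
  exact Module.Flat.of_linearEquiv
    ((tildeStalkIso R x).app N).toLinearEquiv

variable [PreservesFiniteLimits (tilde.functor R)]

theorem hasFlatAmplitudeIn_tildeD_iff (M : Dual.D R) (a b : ℤ) :
    DCoh.HasFlatAmplitudeIn a b ((DCoh.tildeD R).obj M) ↔
      DRing.HasTorAmplitudeIn R a b M := by
  constructor
  · rintro ⟨E', hE', hfl', ⟨e'⟩⟩
    obtain ⟨K, ⟨eK⟩⟩ : ∃ K : Cx R, Nonempty (toD K ≅ M) :=
      ⟨_, ⟨DerivedCategory.Q.objObjPreimageIso M⟩⟩
    let T := ((tilde.functor R).mapHomologicalComplex (ComplexShape.up ℤ)).obj K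
    have eT : DCoh.toD _ T ≅ (DCoh.tildeD R).obj M :=
      ((tilde.functor R).mapDerivedCategoryFactors.app K).symm ≪≫
        (DCoh.tildeD R).mapIso eK
    have h1 : DCoh.HasFlatAmplitudeIn a b (DCoh.toD _ T) := ⟨E', hE', hfl', ⟨e' ≪≫ eT.symm⟩⟩
    have h2 := hasTorAmplitude_id_of_hasFlatAmplitudeIn T a b h1
    have h3 : HasTorAmplitudeIn R a b (toD K) := by
      refine hasTorAmplitudeIn_of_stalks R K a b (fun x => ?_)
      have h4 := (hasTorAmplitudeAt_id_iff a b T x).1 (h2 x)
      exact torAmp_of_iso h4 (DerivedCategory.Q.mapIso (stalkCxTildeIso R x K))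
    exact torAmp_of_iso h3 eK
  · rintro ⟨E, hE, hfl, ⟨e⟩⟩
    refine ⟨((tilde.functor R).mapHomologicalComplex (ComplexShape.up ℤ)).obj E,
      ?_, ?_, ⟨?_⟩⟩
    · intro i hi
      exact Functor.map_isZero (tilde.functor R) (hE i hi)
    · intro i
      exact flat_tilde R (E.X i) (hfl i)
    · exact ((tilde.functor R).mapDerivedCategoryFactors.app E).symm ≪≫
        (DCoh.tildeD R).mapIso e

end Main

end Groth.Agent.Lib.Helper15.TildeAmp
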