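import Groth.Agent.Lib.Helper15.TildePC
import Groth.Agent.Lib.Helper15.TildeAmp
import Groth.Agent.Lib.Helper43.PerfAmp
import Groth.Agent.Lib.Helper2.LpullStalk
import Groth.Agent.Lib.Helper2.LpullRes
import Groth.Agent.S0913
import Groth.Agent.S6200
import Groth.Agent.S0914

/-!
# `M~` is perfect on `Spec A` iff `M` is perfect (helper15)
-/

set_option autoImplicit false
set_option linter.style.haveILetI false
universe u

open CategoryTheory CategoryTheory.Limits AlgebraicGeometry Opposite TopologicalSpace TensorProduct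
open CategoryTheory.Pretriangulated
attribute [local instance] HasDerivedCategory.standard

namespace Groth.Agent.Lib.Helper15.TildePerf

open Groth.Agent.Lib.Helper84.FlatBC Groth.Agent.Lib.Helper84.FlatAmp DRing

section Descent

variable {A S : Type u} [CommRing A] [CommRing S] (φ : A →+* S)

/-- faithfully flat descent of tor amplitude -/
theorem torAmp_of_extCx_of_faithfullyFlat (hφ : φ.FaithfullyFlat) (N : Cx A) (a b : ℤ)
    (h : HasTorAmplitudeIn S a b (toD ((extCx φ).obj N))) : HasTorAmplitudeIn A a b (toD N) := by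
  haveI : PreservesFiniteLimits (ext φ) := preservesFiniteLimits_ext φ hφ.flat
  letI := φ.toAlgebra
  haveI : Module.FaithfullyFlat A S := hφ
  refine Groth.Agent.Lib.Helper43.TorAmpDescent.descent (T := Unit) (fun _ => S) (fun _ => φ)
    ?_ ?_ N a b (fun _ => h)
  · intro M hM
    rw [ModuleCat.isZero_iff_subsingleton]
    have h1 : Subsingleton (S ⊗[A] M) := ModuleCat.isZero_iff_subsingleton.1 (hM ())
    exact (Module.FaithfullyFlat.subsingleton_tensorProduct_iff_right A S).1 h1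
  · intro M hM
    haveI : Module.Flat S (S ⊗[A] M) := hM ()
    exact Module.Flat.of_flat_tensorProduct (R := A) (M := M) S

end Descent

section Local

open Groth.Agent.Lib.Helper12.StalkExact Groth.Agent.Lib.Helper2.Lpull
  Groth.Agent.Lib.Helper2.DCohBase DerivedCategory

variable {X : Scheme.{u}}

/-- a complex which is locally (on `V`) isomorphic in `D` to a strictly perfect complex in `[a, b]`
has stalkwise tor amplitude in `[a, b]` at the points of `V` -/
theorem hasTorAmplitudeAt_id_of_local (F : CochainComplex X.Modules ℤ) (V : X.Opens)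
    (E : CochainComplex (V : Scheme.{u}).Modules ℤ) (hE : DCoh.IsStrictlyPerfect E) (a b : ℤ)
    (hab : DCoh.VanishesOutside E a b)
    (ε : Q.obj ((DCoh.restrictCx V).obj F) ≅ Q.obj E) (x' : (V : Scheme.{u})) :
    DerSch.HasTorAmplitudeAt (𝟙 X) a b F (V.ι.base x') := by
  rw [hasTorAmplitudeAt_id_iff]
  have h1 : HasTorAmplitudeIn ((V : Scheme.{u}).presheaf.stalk x') a b
      (toD ((stalkCx (V : Scheme.{u}) x').obj E)) := by
    refine ⟨_, fun i hi => ?_, fun i => ?_, ⟨Iso.refl _⟩⟩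
    · exact Functor.map_isZero (DerSch.stalkFunctor _ x') (hab i hi)
    · haveI := Groth.Agent.Lib.Helper2.RankSections.isQuasicoherent_of_isFinLocFree _ (hE.2 i)
      exact Groth.Agent.Lib.Helper2.FinLocFreeAff.isFlat_of_isFinLocFree _ (hE.2 i) x'
  have h2 := torAmp_of_iso h1 (stalkCxDIso ε x').symm
  have e1 : (stalkCx (V : Scheme.{u}) x').obj ((resCx V.ι).obj F) ≅
      (extCx (V.ι.stalkMap x').hom).obj ((stalkCx X (V.ι.base x')).obj F) :=
    (stalkCx (V : Scheme.{u}) x').mapIso ((resCxIsoPbCx V.ι).app F) ≪≫ stalkPbCxIso V.ι F x'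
  have h3 := torAmp_of_iso h2 (Q.mapIso e1)
  refine torAmp_of_extCx_of_faithfullyFlat _ (RingHom.FaithfullyFlat.of_bijective ?_) _ a b h3
  exact ConcreteCategory.bijective_of_isIso (V.ι.stalkMap x')

/-- on a quasi-compact scheme, a complex representing a perfect object has (uniform) stalkwise
finite tor amplitude -/
theorem exists_hasTorAmplitude_id_of_isPerfect [CompactSpace X] (F : CochainComplex X.Modules ℤ)
    (hF : DCoh.IsPerfect (Q.obj F)) : ∃ a b : ℤ, DerSch.HasTorAmplitude (𝟙 X) a b F := by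
  have key : ∀ x : X, ∃ (V : X.Opens) (a b : ℤ), x ∈ V ∧
      ∀ x' : (V : Scheme.{u}), DerSch.HasTorAmplitudeAt (𝟙 X) a b F (V.ι.base x') := by
    intro x
    obtain ⟨V, hxV, hV⟩ := hF x
    obtain ⟨E, hE, ⟨ε⟩⟩ := hV F ⟨Iso.refl _⟩
    obtain ⟨a, b, hab⟩ := hE.1
    exact ⟨V, a, b, hxV, fun x' => hasTorAmplitudeAt_id_of_local F V E hE a b hab ε x'⟩
  choose V a b hxV hV using key
  obtain ⟨s, hs⟩ := isCompact_univ.elim_finite_subcover (fun x => (V x : Set X))
    (fun x => (V x).isOpen) (fun x _ => Set.mem_iUnion.2 ⟨x, hxV x⟩)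
  obtain ⟨A, hA⟩ := (s.image (fun x => -a x)).exists_le
  obtain ⟨B, hB⟩ := (s.image b).exists_le
  refine ⟨-A, B, fun y => ?_⟩
  obtain ⟨x, hx⟩ := Set.mem_iUnion.1 (hs (Set.mem_univ y))
  obtain ⟨hxs, hyV⟩ := Set.mem_iUnion.1 hx
  have h1 := hV x ⟨y, hyV⟩
  have h2 := hA (-a x) (Finset.mem_image_of_mem (fun x => -a x) hxs)
  have h3 := hB (b x) (Finset.mem_image_of_mem b hxs)
  exact torAmp_mono h1 (by omega) (by omega)

end Local

section Main

open DerivedCategory Groth.Agent.Lib.Helper15.TildePC Groth.Agent.Lib.Helper15.TildeAmp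

variable (R : CommRingCat.{u}) [PreservesFiniteLimits (tilde.functor R)]

theorem isPerfect_of_tildeD (M : Dual.D R) (h : DCoh.IsPerfect ((DCoh.tildeD R).obj M)) :
    DRing.IsPerfect R M := by
  let K : Cx R := Q.objPreimage M
  let e : Q.obj K ≅ M := Q.objObjPreimageIso M
  let F := ((tilde.functor R).mapHomologicalComplex (ComplexShape.up ℤ)).obj K
  have eF : Q.obj F ≅ (DCoh.tildeD R).obj M := (tildeDQIso R K).symm ≪≫ (DCoh.tildeD R).mapIso e
  have hF : DCoh.IsPerfect (Q.obj F) :=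
    Groth.Agent.Lib.Helper2.DCohPerf.isPerfect_of_iso eF.symm h
  obtain ⟨a, b, hab⟩ := exists_hasTorAmplitude_id_of_isPerfect F hF
  have hpcS : ∀ m : ℤ, DCoh.IsPseudoCoherentD m ((DCoh.tildeD R).obj M) :=
    ((Groth.Agent.S0914.result _).1 h).1
  obtain ⟨d, hd⟩ := exists_bound_of_isPseudoCoherentD _ 0 (hpcS 0)
  haveI : (DCoh.toD (Spec R) F).IsLE d := by
    rw [DerivedCategory.isLE_iff]
    intro i hi
    exact IsZero.of_iso (hd i hi) ((homologyFunctor _ i).mapIso eF)
  obtain ⟨E', hE', hfl', ⟨e'⟩⟩ := (Groth.Agent.S6200.result F d a b).2 hab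
  have hflat : DCoh.HasFlatAmplitudeIn a b ((DCoh.tildeD R).obj M) := ⟨E', hE', hfl', ⟨e' ≪≫ eF⟩⟩
  have htor := (hasFlatAmplitudeIn_tildeD_iff R M a b).1 hflat
  have hpc := (isPseudoCoherentD_tildeD_iff R M (a - 1)).1 (hpcS (a - 1))
  obtain ⟨E, h1, h2, ⟨e3⟩⟩ :=
    Groth.Agent.Lib.Helper43.PerfAmp.exists_perfect_amplitude M a b hpc htor
  exact ⟨E, a, b, h1, h2, ⟨e3⟩⟩

theorem isPerfect_tildeD (M : Dual.D R) (h : DRing.IsPerfect R M) :
    DCoh.IsPerfect ((DCoh.tildeD R).obj M) := by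
  have hpc := Groth.Agent.Lib.Helper43.PerfAmp.pcAll_of_isPerfect h
  obtain ⟨E, a, b, hE, hfp, ⟨e⟩⟩ := h
  have htor : HasTorAmplitudeIn R a b M :=
    ⟨E, hE, fun i => by haveI := (hfp i).2; infer_instance, ⟨e⟩⟩
  have htor' : HasTorAmplitudeIn R (min a b) (max a b) M :=
    torAmp_mono htor (min_le_left _ _) (le_max_right _ _)
  exact Groth.Agent.S0913.result _ (min a b) (max a b) (le_trans (min_le_left _ _) (le_max_left _ _))
    ((hasFlatAmplitudeIn_tildeD_iff R M _ _).2 htor')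
    ((isPseudoCoherentD_tildeD_iff R M _).2 (hpc _))

theorem isPerfect_tildeD_iff (M : Dual.D R) :
    DCoh.IsPerfect ((DCoh.tildeD R).obj M) ↔ DRing.IsPerfect R M :=
  ⟨isPerfect_of_tildeD R M, isPerfect_tildeD R M⟩

end Main

end Groth.Agent.Lib.Helper15.TildePerf
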