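import Mathlib.CategoryTheory.Triangulated.TStructure.TruncLTGE
import Mathlib.CategoryTheory.Limits.Shapes.BinaryBiproducts

/-!
# Splitting an object along a t-structure (helper15)

If `X` is a "direct sum" of `A ∈ D^{≤ i-1}` and `B ∈ D^{≥ i+1}` (given by retraction data), then
`X ≅ τ_{≥ i+1} X ⊞ τ_{< i} X` compatibly with the truncation maps, and `τ_{≥ i+1} X ≅ B`.
-/

set_option autoImplicit false

namespace Groth.Agent.Lib.Helper15.TruncSplit

open CategoryTheory CategoryTheory.Limits Pretriangulated Triangulated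

variable {C : Type*} [Category C] [Preadditive C] [HasZeroObject C] [HasShift C ℤ]
  [∀ n : ℤ, (shiftFunctor C n).Additive] [Pretriangulated C] (t : TStructure C)

/-- `τ_{≥ i+1} X ≅ B` when `X = A ⊕ B` with `A ≤ i`, `B ≥ i+1`. -/
theorem isIso_truncGE_map (i : ℤ) {X A B : C} (ι' : A ⟶ X) (r : X ⟶ A) (s : B ⟶ X) (π' : X ⟶ B)
    (hsπ : s ≫ π' = 𝟙 B) (hsum : r ≫ ι' + π' ≫ s = 𝟙 X) [t.IsLE A i] :
    IsIso ((t.truncGE (i + 1)).map π') := by
  have hGA : IsZero ((t.truncGE (i + 1)).obj A) := t.isZero_truncGE_obj_of_isLE i (i + 1) rfl A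
  refine ⟨(t.truncGE (i + 1)).map s, ?_, ?_⟩
  · have h : π' ≫ s = 𝟙 X - r ≫ ι' := by rw [← hsum]; abel
    rw [← CategoryTheory.Functor.map_comp, h, Functor.map_sub, CategoryTheory.Functor.map_comp, CategoryTheory.Functor.map_id,
      hGA.eq_of_tgt ((t.truncGE (i + 1)).map r) 0, zero_comp, sub_zero]
  · rw [← CategoryTheory.Functor.map_comp, hsπ, CategoryTheory.Functor.map_id]

theorem exists_iso (i : ℤ) {X A B : C} (ι' : A ⟶ X) (r : X ⟶ A) (s : B ⟶ X) (π' : X ⟶ B)
    (hsr : s ≫ r = 0)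
    (hsum : r ≫ ι' + π' ≫ s = 𝟙 X) [t.IsLE A (i - 1)] [t.IsGE B (i + 1)]
    [HasBinaryBiproduct ((t.truncGE (i + 1)).obj X) ((t.truncLT i).obj X)] :
    ∃ e : X ≅ (t.truncGE (i + 1)).obj X ⊞ (t.truncLT i).obj X,
      e.hom ≫ biprod.fst = (t.truncGEπ (i + 1)).app X ∧
        (t.truncLTι i).app X ≫ e.hom = biprod.inr := by
  have hAi : t.IsLE A i := t.isLE_of_le A (i - 1) i (by lia)
  have hBi : t.IsGE B i := t.isGE_of_ge B i (i + 1) (by lia)
  have hGA : IsZero ((t.truncGE (i + 1)).obj A) := t.isZero_truncGE_obj_of_isLE i (i + 1) rfl A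
  have hTB : IsZero ((t.truncLT i).obj B) := t.isZero_truncLT_obj_of_isGE i B
  have hιA : IsIso ((t.truncLTι i).app A) :=
    (t.isLE_iff_isIso_truncLTι_app (i - 1) i (by lia) A).1 inferInstance
  have hπB : IsIso ((t.truncGEπ (i + 1)).app B) := inferInstance
  let ρ : X ⟶ (t.truncLT i).obj X := r ≫ inv ((t.truncLTι i).app A) ≫ (t.truncLT i).map ι'
  let γ : (t.truncGE (i + 1)).obj X ⟶ X :=
    (t.truncGE (i + 1)).map π' ≫ inv ((t.truncGEπ (i + 1)).app B) ≫ s
  have h1 : (t.truncGEπ (i + 1)).app X ≫ γ = π' ≫ s := by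
    dsimp only [γ]
    rw [← Category.assoc, t.truncGEπ_naturality]
    simp
  have h2 : ρ ≫ (t.truncLTι i).app X = r ≫ ι' := by
    dsimp only [ρ]
    have := (t.truncLTι i).naturality ι'
    dsimp at this
    rw [Category.assoc, Category.assoc, this]
    simp
  have h3 : γ ≫ (t.truncGEπ (i + 1)).app X = 𝟙 _ := by
    dsimp only [γ]
    have hn := t.truncGEπ_naturality (i + 1) s
    rw [Category.assoc, Category.assoc, ← hn, IsIso.inv_hom_id_assoc, ← CategoryTheory.Functor.map_comp]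
    have h : π' ≫ s = 𝟙 X - r ≫ ι' := by rw [← hsum]; abel
    rw [h, Functor.map_sub, CategoryTheory.Functor.map_comp, CategoryTheory.Functor.map_id,
      hGA.eq_of_tgt ((t.truncGE (i + 1)).map r) 0, zero_comp, sub_zero]
  have h4 : γ ≫ ρ = 0 := by
    dsimp only [γ, ρ]
    simp only [Category.assoc]
    rw [reassoc_of% hsr]
    simp
  have h5 : (t.truncLTι i).app X ≫ (t.truncGEπ (i + 1)).app X = 0 :=
    t.zero_of_isLE_of_isGE _ (i - 1) (i + 1) (by lia) inferInstance inferInstance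
  have h6 : (t.truncLTι i).app X ≫ ρ = 𝟙 _ := by
    dsimp only [ρ]
    have hn := (t.truncLTι i).naturality r
    dsimp at hn
    rw [← Category.assoc, ← hn, Category.assoc, IsIso.hom_inv_id_assoc, ← CategoryTheory.Functor.map_comp]
    have h : r ≫ ι' = 𝟙 X - π' ≫ s := by rw [← hsum]; abel
    rw [h, Functor.map_sub, CategoryTheory.Functor.map_comp, CategoryTheory.Functor.map_id,
      hTB.eq_of_tgt ((t.truncLT i).map π') 0, zero_comp, sub_zero]
  refine ⟨⟨biprod.lift ((t.truncGEπ (i + 1)).app X) ρ, biprod.desc γ ((t.truncLTι i).app X), ?_, ?_⟩,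
    ?_, ?_⟩
  · rw [biprod.lift_desc, h1, h2, ← hsum]; abel
  · ext
    · simp [h3]
    · simp [h4]
    · simp [h5]
    · simp [h6]
  · simp
  · ext
    · simp [h5]
    · simp [h6]

end Groth.Agent.Lib.Helper15.TruncSplit
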