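import Groth.Agent.Lib.Helper15.TruncSplit
import Groth.Agent.Lib.Helper15.LocalHomotopy
import Groth.Agent.Lib.Helper15.FibreSplit
import Groth.Agent.Lib.Helper15.LBCKFlat
import Groth.Agent.Lib.Helper15.StableIso
import Groth.Agent.Lib.Helper84.FlatBC

/-!
# Local splitting of truncations of a pseudo-coherent complex (Stacks 068U) (helper15)
-/

set_option autoImplicit false
universe u

namespace Groth.Agent.Lib.Helper15.TruncSplitMain

open CategoryTheory CategoryTheory.Limits DRing Groth.Agent.Lib.Helper84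
open Groth.Agent.Lib.Helper15

attribute [local instance] HasDerivedCategory.standard

variable {R : Type u} [CommRing R]

section ExtSmul

variable {S : Type u} [CommRing S] (φ : R →+* S)

lemma ext_map_smul {X Y : ModuleCat.{u} R} (r : R) (g : X ⟶ Y) :
    (ModuleCat.extendScalars.{u,u,u} φ).map (r • g) =
      φ r • (ModuleCat.extendScalars.{u,u,u} φ).map g := by
  apply ModuleCat.hom_ext
  apply LinearMap.ext
  intro t
  let L := ((ModuleCat.extendScalars.{u,u,u} φ).map (r • g)).hom
  let L' := (φ r • (ModuleCat.extendScalars.{u,u,u} φ).map g).hom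
  change L t = L' t
  induction t using TensorProduct.induction_on with
  | zero => exact (L.map_zero).trans (L'.map_zero).symm
  | tmul s m =>
    let _ := Module.compHom S φ
    change s ⊗ₜ[R] (r • g.hom m) = φ r • (s ⊗ₜ[R] g.hom m)
    rw [← TensorProduct.smul_tmul]
    rfl
  | add x y hx hy =>
    exact (L.map_add x y).trans (by rw [hx, hy]; exact (L'.map_add x y).symm)

end ExtSmul

/-- exactness of the fibre complex at `i`, in terms of `LinearMap.baseChange` -/
theorem fibre_exact (p : Ideal R) [p.IsPrime]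
    [DRing.HasLBaseChange (algebraMap R p.ResidueField)]
    (i : ℤ) (E : Cx R) (b : ℤ) (hb : VanishesAbove E b) (hff : TermwiseFiniteFree E)
    (hi : Subsingleton (Dual.HD p.ResidueField
      ((DRing.LBaseChange (algebraMap R p.ResidueField)).obj (toD E)) i)) :
    Function.Exact ((E.d (i - 1) i).hom.baseChange p.ResidueField)
      ((E.d i (i + 1)).hom.baseChange p.ResidueField) := by
  have hfl : ∀ q, Module.Flat R (E.X q) := fun q => by
    haveI := (hff q).2
    infer_instance
  let e := LBCKFlat.lbcIsoOfFlat (algebraMap R p.ResidueField) E b hb hfl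
  have h0 : IsZero ((DerivedCategory.homologyFunctor (ModuleCat.{u} p.ResidueField) i).obj
      ((DRing.LBaseChange (algebraMap R p.ResidueField)).obj (toD E))) :=
    ModuleCat.isZero_of_subsingleton _
  have hz : IsZero ((DerivedCategory.homologyFunctor (ModuleCat.{u} p.ResidueField) i).obj
      (toD (LDerived.extCx (algebraMap R p.ResidueField) E))) :=
    h0.of_iso ((DerivedCategory.homologyFunctor _ i).mapIso e.symm)
  have hz' : IsZero ((LDerived.extCx (algebraMap R p.ResidueField) E).homology i) :=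
    hz.of_iso ((DerivedCategory.homologyFunctorFactors _ i).app _).symm
  have hex : (LDerived.extCx (algebraMap R p.ResidueField) E).ExactAt i := by
    rw [HomologicalComplex.exactAt_iff_isZero_homology]
    exact hz'
  rw [(LDerived.extCx (algebraMap R p.ResidueField) E).exactAt_iff' (i - 1) i (i + 1)
    (by simp) (by simp)] at hex
  have hfe := (ShortComplex.ShortExact.moduleCat_exact_iff_function_exact _).1 hex
  refine (Function.Exact.iff_of_ladder_linearEquiv
    (e₁ := (PseudoCohBC.extModuleIso R p.ResidueField (E.X (i - 1))).toLinearEquiv)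
    (e₂ := (PseudoCohBC.extModuleIso R p.ResidueField (E.X i)).toLinearEquiv)
    (e₃ := (PseudoCohBC.extModuleIso R p.ResidueField (E.X (i + 1))).toLinearEquiv)
    ?_ ?_).2 hfe
  · apply LinearMap.ext
    intro t
    exact (StableIso.ext_conj p.ResidueField (E.d (i - 1) i) t).symm
  · apply LinearMap.ext
    intro t
    exact (StableIso.ext_conj p.ResidueField (E.d i (i + 1)) t).symm

section Main

variable (p : Ideal R) [p.IsPrime] (i : ℤ) (K E : Cx R) (b : ℤ)

theorem main (hb : VanishesAbove E b) (hff : TermwiseFiniteFree E) (φ : toD E ≅ toD K)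
    (hex : Function.Exact ((E.d (i - 1) i).hom.baseChange p.ResidueField)
      ((E.d i (i + 1)).hom.baseChange p.ResidueField)) :
    ∃ f : R, f ∉ p ∧
      let Kf := DRing.toD (((ModuleCat.extendScalars (algebraMap R (Localization.Away f))).mapHomologicalComplex
        (ComplexShape.up ℤ)).obj K)
      let t := (DerivedCategory.TStructure.t : Triangulated.TStructure (Dual.D (Localization.Away f)))
      let Kge := (t.truncGE (i + 1)).obj Kf
      let Klt := (t.truncLT i).obj Kf
      DRing.IsPerfect (Localization.Away f) Kge ∧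
        (∃ b : ℤ, DRing.HasTorAmplitudeIn (Localization.Away f) (i + 1) b Kge) ∧
        ∀ [HasBinaryBiproduct Kge Klt], ∃ e : Kf ≅ Kge ⊞ Klt,
          e.hom ≫ biprod.fst = (t.truncGEπ (i + 1)).app Kf ∧
            (t.truncLTι i).app Kf ≫ e.hom = biprod.inr := by
  haveI : ∀ q, Module.Finite R (E.X q) := fun q => (hff q).1
  haveI : ∀ q, Module.Free R (E.X q) := fun q => (hff q).2
  have hd : (E.d i (i + 1)).hom ∘ₗ (E.d (i - 1) i).hom = 0 := by
    rw [← ModuleCat.hom_comp, E.d_comp_d]
    rfl
  obtain ⟨f, hfp, σ₁, ρ₁, hσρ⟩ :=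
    FibreSplit.exists_local_homotopy p (E.d (i - 1) i).hom (E.d i (i + 1)).hom hd hex
  refine ⟨f, hfp, ?_⟩
  intro Kf t Kge Klt
  haveI : PreservesFiniteLimits (FlatBC.ext (algebraMap R (Localization.Away f))) :=
    FlatBC.preservesFiniteLimits_ext _ (RingHom.flat_algebraMap_iff.2 inferInstance)
  let E' : Cx (Localization.Away f) := (FlatBC.extCx (algebraMap R (Localization.Away f))).obj E
  let u : Localization.Away f := IsLocalization.Away.invSelf f
  have hu : u * algebraMap R (Localization.Away f) f = 1 := by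
    rw [mul_comm]
    exact IsLocalization.Away.mul_invSelf f
  let σ' : E'.X i ⟶ E'.X (i - 1) :=
    u • (FlatBC.ext (algebraMap R (Localization.Away f))).map (ModuleCat.ofHom σ₁)
  let ρ' : E'.X (i + 1) ⟶ E'.X i :=
    u • (FlatBC.ext (algebraMap R (Localization.Away f))).map (ModuleCat.ofHom ρ₁)
  have hloc0 : (FlatBC.ext (algebraMap R (Localization.Away f))).map (E.d i (i + 1)) ≫
        (u • (FlatBC.ext (algebraMap R (Localization.Away f))).map (ModuleCat.ofHom ρ₁)) +
      (u • (FlatBC.ext (algebraMap R (Localization.Away f))).map (ModuleCat.ofHom σ₁)) ≫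
        (FlatBC.ext (algebraMap R (Localization.Away f))).map (E.d (i - 1) i) =
      𝟙 ((FlatBC.ext (algebraMap R (Localization.Away f))).obj (E.X i)) := by
    have h1 : E.d i (i + 1) ≫ ModuleCat.ofHom ρ₁ + ModuleCat.ofHom σ₁ ≫ E.d (i - 1) i =
        f • 𝟙 (E.X i) := by
      apply ModuleCat.hom_ext
      rw [add_comm]
      exact hσρ
    rw [Linear.comp_smul, Linear.smul_comp, ← smul_add, ← CategoryTheory.Functor.map_comp,
      ← CategoryTheory.Functor.map_comp, ← Functor.map_add, h1, ext_map_smul, smul_smul, hu,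
      one_smul, CategoryTheory.Functor.map_id]
  have hloc : E'.d i (i + 1) ≫ ρ' + σ' ≫ E'.d (i - 1) i = 𝟙 _ := hloc0
  have H := LocalHomotopy.isLocalHomotopy_hhOf (E := E') (n := i - 1) (i := i) (k := i + 1)
    (σ := σ') (ρ := ρ') (by lia) rfl hloc
  obtain ⟨X₀, Y, iX, eX, iY, eY, hX1, hY1, hYX, hXz, hYz, ⟨ho⟩⟩ := LocalHomotopy.exists_split H
  let θ : Kf ≅ toD E' :=
    (FlatBC.bcToD (algebraMap R (Localization.Away f)) K).symm ≪≫
      (FlatBC.bc (algebraMap R (Localization.Away f))).mapIso φ.symm ≪≫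
        FlatBC.bcToD (algebraMap R (Localization.Away f)) E
  haveI : X₀.IsStrictlyLE (i - 1) := (X₀.isStrictlyLE_iff (i - 1)).2 (fun j hj => hXz j (by lia))
  haveI : Y.IsStrictlyGE (i + 1) := (Y.isStrictlyGE_iff (i + 1)).2 (fun j hj => hYz j (by lia))
  haveI hA : t.IsLE (DerivedCategory.Q.obj X₀) (i - 1) :=
    inferInstanceAs ((DerivedCategory.Q.obj X₀).IsLE (i - 1))
  haveI hB : t.IsGE (DerivedCategory.Q.obj Y) (i + 1) :=
    inferInstanceAs ((DerivedCategory.Q.obj Y).IsGE (i + 1))
  let ι' : DerivedCategory.Q.obj X₀ ⟶ Kf := DerivedCategory.Q.map iX ≫ θ.inv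
  let r : Kf ⟶ DerivedCategory.Q.obj X₀ := θ.hom ≫ DerivedCategory.Q.map eX
  let s : DerivedCategory.Q.obj Y ⟶ Kf := DerivedCategory.Q.map iY ≫ θ.inv
  let π' : Kf ⟶ DerivedCategory.Q.obj Y := θ.hom ≫ DerivedCategory.Q.map eY
  have hsr : s ≫ r = 0 := by
    dsimp only [s, r]
    rw [Category.assoc, Iso.inv_hom_id_assoc, ← CategoryTheory.Functor.map_comp, hYX,
      Functor.map_zero]
  have hsπ : s ≫ π' = 𝟙 _ := by
    dsimp only [s, π']
    rw [Category.assoc, Iso.inv_hom_id_assoc, ← CategoryTheory.Functor.map_comp, hY1,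
      CategoryTheory.Functor.map_id]
  have hsum : r ≫ ι' + π' ≫ s = 𝟙 _ := by
    have hQ := DerivedCategory.Q_map_eq_of_homotopy _ ho
    rw [Functor.map_add, CategoryTheory.Functor.map_comp, CategoryTheory.Functor.map_comp,
      CategoryTheory.Functor.map_id] at hQ
    dsimp only [r, ι', π', s]
    calc (θ.hom ≫ DerivedCategory.Q.map eX) ≫ DerivedCategory.Q.map iX ≫ θ.inv +
          (θ.hom ≫ DerivedCategory.Q.map eY) ≫ DerivedCategory.Q.map iY ≫ θ.inv
        = θ.hom ≫ (DerivedCategory.Q.map eX ≫ DerivedCategory.Q.map iX +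
            DerivedCategory.Q.map eY ≫ DerivedCategory.Q.map iY) ≫ θ.inv := by
          simp only [Category.assoc, Preadditive.comp_add, Preadditive.add_comp]
      _ = 𝟙 _ := by rw [hQ, Category.id_comp, Iso.hom_inv_id]
  have hfY : ∀ j, iY.f j ≫ eY.f j = 𝟙 _ := fun j => by
    rw [← HomologicalComplex.comp_f, hY1]
    rfl
  have hYvan : VanishesOutside Y (i + 1) b := by
    intro j hj
    rcases hj with hj | hj
    · exact hYz j (by lia)
    · have hE'z : IsZero (E'.X j) :=
        FlatBC.vanishesAbove_extCx (algebraMap R (Localization.Away f)) E b hb j hj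
      rw [IsZero.iff_id_eq_zero, ← hfY j, hE'z.eq_of_tgt (iY.f j) 0, zero_comp]
  have hYfp : TermwiseFiniteProjective Y := by
    intro j
    have hE' := FlatBC.termwiseFiniteFree_extCx (algebraMap R (Localization.Away f)) E hff j
    haveI := hE'.1
    haveI := hE'.2
    have hsurj : Function.Surjective (eY.f j).hom := fun y =>
      ⟨(iY.f j).hom y, by rw [← ModuleCat.comp_apply, hfY j]; rfl⟩
    exact ⟨Module.Finite.of_surjective (eY.f j).hom hsurj,
      Module.Projective.of_split (iY.f j).hom (eY.f j).hom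
        (by rw [← ModuleCat.hom_comp, hfY j]; rfl)⟩
  haveI hAi : t.IsLE (DerivedCategory.Q.obj X₀) i := t.isLE_of_le _ (i - 1) i (by lia)
  haveI := TruncSplit.isIso_truncGE_map t i ι' r s π' hsπ hsum
  let eG : Kge ≅ toD Y := asIso ((t.truncGE (i + 1)).map π') ≪≫
    (asIso ((t.truncGEπ (i + 1)).app (DerivedCategory.Q.obj Y))).symm
  refine ⟨⟨Y, i + 1, b, hYvan, hYfp, ⟨eG.symm⟩⟩, ⟨b, Y, hYvan, fun j => ?_, ⟨eG.symm⟩⟩, ?_⟩
  · haveI := (hYfp j).2
    infer_instance
  · intro _
    exact TruncSplit.exists_iso t i ι' r s π' hsr hsum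

end Main

end Groth.Agent.Lib.Helper15.TruncSplitMain
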