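import Groth.Agent.Lib.Helper84.NilPC
import Groth.Agent.Lib.Helper15.LBCFlat

/-!
# Dévissage along two ideals with zero product (helper15)

For surjections `φ₁ : A → B₁`, `φ₂ : A → B₂` with `ker φ₁ * ker φ₂ = 0`: boundedness above,
tor amplitude and pseudo-coherence of `K' ∈ D(A)` can be checked after derived base change to
`B₁` and `B₂`.  (Adaptation of helper84's `NilBdd`, `NilTorAmp`, `NilPC`.)
-/

set_option autoImplicit false
set_option linter.style.haveILetI false
universe u

open CategoryTheory CategoryTheory.Limits CategoryTheory.Pretriangulated DerivedCategory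
open DRing MonoidalCategory TensorProduct

attribute [local instance] HasDerivedCategory.standard

namespace Groth.Agent.Lib.Helper15.TwoIdeal

open Groth.Agent.Lib.Helper84 Groth.Agent.Lib.Helper84.TensCx Groth.Agent.Lib.Helper84.FlatAmp
  Groth.Agent.Lib.Helper84.NilTorAmp Groth.Agent.Lib.Helper84.NilBdd
  Groth.Agent.Lib.Helper15 Groth.Agent.Lib.Helper25.KFlat
  Groth.Agent.Lib.Helper15.PseudoCoh Groth.Agent.Lib.Helper43

section Module

variable {A : Type*} [CommRing A] {M : Type*} [AddCommGroup M] [Module A M]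

/-- Nakayama for two ideals with zero product -/
lemma eq_top_of_sup_smul_eq_top_two (I J : Ideal A) (hIJ : I * J = ⊥) (N : Submodule A M)
    (h₁ : N ⊔ I • (⊤ : Submodule A M) = ⊤) (h₂ : N ⊔ J • (⊤ : Submodule A M) = ⊤) : N = ⊤ := by
  rw [eq_top_iff]
  calc (⊤ : Submodule A M) = N ⊔ I • (⊤ : Submodule A M) := h₁.symm
    _ = N ⊔ I • (N ⊔ J • (⊤ : Submodule A M)) := by rw [h₂]
    _ = N ⊔ (I • N ⊔ I • (J • (⊤ : Submodule A M))) := by rw [Submodule.smul_sup]
    _ ≤ N := by
      rw [← Submodule.mul_smul, hIJ, Submodule.bot_smul, sup_bot_eq]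
      exact sup_le le_rfl Submodule.smul_le_right

variable {B : Type*} [CommRing B] [Algebra A B] (M)

/-- a finitely generated submodule of `M` generating `B ⊗ M` -/
lemma exists_fg_sup_smul_eq_top (hφ : Function.Surjective (algebraMap A B))
    [Module.Finite B (B ⊗[A] M)] :
    ∃ N : Submodule A M, N.FG ∧
      N ⊔ (RingHom.ker (algebraMap A B)) • (⊤ : Submodule A M) = ⊤ := by
  haveI : Module.Finite A B := Module.Finite.of_surjective (Algebra.linearMap A B) hφ
  haveI : Module.Finite A (B ⊗[A] M) := Module.Finite.trans B _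
  let η : M →ₗ[A] B ⊗[A] M := TensorProduct.mk A B M 1
  obtain ⟨S, hS⟩ := (Module.Finite.fg_top : (⊤ : Submodule A (B ⊗[A] M)).FG)
  choose c hc using NilFinite.exists_one_tmul (R := B) M hφ
  let N : Submodule A M := Submodule.span A (c '' (S : Set (B ⊗[A] M)))
  have hN : N.map η = ⊤ := by
    rw [Submodule.map_span, ← Set.image_comp]
    have : (η ∘ c) = id := by
      funext t
      exact (hc t).symm
    rw [this, Set.image_id, hS]
  refine ⟨N, Submodule.fg_span ((Set.toFinite _).image c), ?_⟩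
  rw [eq_top_iff]
  intro m _
  have : η m ∈ N.map η := by rw [hN]; exact Submodule.mem_top
  obtain ⟨x, hx, hxm⟩ := this
  have h0 : (1 : B) ⊗ₜ[A] (m - x) = 0 := by
    rw [tmul_sub]
    change η m - η x = 0
    rw [hxm, sub_self]
  have h1 := NilFinite.mem_smul_top_of_one_tmul_eq_zero M hφ (m - x) h0
  have : m = x + (m - x) := by abel
  rw [this]
  exact Submodule.add_mem_sup hx h1

end Module

section ModuleTwo

variable {A B₁ B₂ : Type*} [CommRing A] [CommRing B₁] [CommRing B₂] [Algebra A B₁] [Algebra A B₂]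
  (M : Type*) [AddCommGroup M] [Module A M]

/-- finiteness can be checked modulo two ideals with zero product -/
theorem finite_of_finite_tensor_two (h₁ : Function.Surjective (algebraMap A B₁))
    (h₂ : Function.Surjective (algebraMap A B₂))
    (hker : RingHom.ker (algebraMap A B₁) * RingHom.ker (algebraMap A B₂) = ⊥)
    [Module.Finite B₁ (B₁ ⊗[A] M)] [Module.Finite B₂ (B₂ ⊗[A] M)] : Module.Finite A M := by
  obtain ⟨N₁, hN₁, hs₁⟩ := exists_fg_sup_smul_eq_top (B := B₁) M h₁
  obtain ⟨N₂, hN₂, hs₂⟩ := exists_fg_sup_smul_eq_top (B := B₂) M h₂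
  have e₁ : (N₁ ⊔ N₂) ⊔ (RingHom.ker (algebraMap A B₁)) • (⊤ : Submodule A M) = ⊤ :=
    eq_top_iff.2 (hs₁.ge.trans (sup_le_sup_right (le_sup_left : N₁ ≤ N₁ ⊔ N₂) _))
  have e₂ : (N₁ ⊔ N₂) ⊔ (RingHom.ker (algebraMap A B₂)) • (⊤ : Submodule A M) = ⊤ :=
    eq_top_iff.2 (hs₂.ge.trans (sup_le_sup_right (le_sup_right : N₂ ≤ N₁ ⊔ N₂) _))
  have htop := eq_top_of_sup_smul_eq_top_two _ _ hker (N₁ ⊔ N₂) e₁ e₂
  refine ⟨?_⟩
  rw [← htop]
  exact hN₁.sup hN₂

end ModuleTwo

variable {A B B₁ B₂ : Type u} [CommRing A] [CommRing B] [CommRing B₁] [CommRing B₂]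
  (φ : A →+* B) (φ₁ : A →+* B₁) (φ₂ : A →+* B₂)

/-- the two-ideal dévissage in the module variable -/
lemma torVanP_two (hφ₁ : Function.Surjective φ₁) (hφ₂ : Function.Surjective φ₂)
    (hker : RingHom.ker φ₁ * RingHom.ker φ₂ = ⊥) {P : Cx A} (hP : TermwiseFlat P)
    {p : ℤ → Prop}
    (base₁ : ∀ N : ModuleCat.{u} B₁, TorVanP P p ((ModuleCat.restrictScalars φ₁).obj N))
    (base₂ : ∀ N : ModuleCat.{u} B₂, TorVanP P p ((ModuleCat.restrictScalars φ₂).obj N))
    (N' : ModuleCat.{u} A) : TorVanP P p N' := by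
  let I := RingHom.ker φ₁
  let M₁ : Submodule A N' := I • (⊤ : Submodule A N')
  let S : ShortComplex (ModuleCat.{u} A) :=
    ModuleCat.shortComplexOfCompEqZero M₁.subtype M₁.mkQ (by ext x; simp)
  have hS : S.ShortExact :=
    ModuleCat.shortComplex_shortExact S (LinearMap.exact_subtype_mkQ M₁)
      (Submodule.subtype_injective _) (Submodule.mkQ_surjective _)
  refine torVanP_of_shortExact hP S hS ?_ ?_
  · obtain ⟨N, ⟨e⟩⟩ := exists_res_iso φ₂ hφ₂ (ModuleCat.of A M₁) (by
      intro r hr x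
      have key : ∀ y ∈ I • (⊤ : Submodule A N'), r • y = 0 := by
        intro y hy
        refine Submodule.smul_induction_on hy ?_ ?_
        · intro i hi m _
          rw [← mul_smul]
          have : r * i = 0 := by
            have h1 : i * r ∈ RingHom.ker φ₁ * RingHom.ker φ₂ := Ideal.mul_mem_mul hi hr
            rw [hker] at h1
            rw [mul_comm]
            exact h1
          rw [this, zero_smul]
        · intro a b ha hb
          rw [smul_add, ha, hb, add_zero]
      exact Subtype.ext (key x.1 x.2))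
    exact torVanP_of_iso e (base₂ N)
  · obtain ⟨N, ⟨e⟩⟩ := exists_res_iso φ₁ hφ₁ (ModuleCat.of A (N' ⧸ M₁)) (by
      intro r hr x
      obtain ⟨y, rfl⟩ := Submodule.mkQ_surjective M₁ x
      rw [← map_smul, Submodule.mkQ_apply, Submodule.Quotient.mk_eq_zero]
      exact Submodule.smul_mem_smul hr Submodule.mem_top)
    exact torVanP_of_iso e (base₁ N)

section Base

variable [DRing.HasLBaseChange φ]

/-- the input for the dévissage coming from boundedness of the base change -/
lemma base_of_vanishesAbove (P : Cx A) [CochainComplex.IsKProjective P] (hKF : IsKFlat P)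
    (K' : Dual.D A) (e1 : toD P ≅ K') (b : ℤ) (E : Cx B) (hE : VanishesAbove E b)
    (hfl : TermwiseFlat E) (eE : toD E ≅ (DRing.LBaseChange φ).obj K') :
    ∀ N : ModuleCat.{u} B,
      TorVanP P (fun i => b < i) ((ModuleCat.restrictScalars φ).obj N) := by
  have e2 : (DRing.LBaseChange φ).obj K' ≅ toD (LDerived.extCx φ P) :=
    (DRing.LBaseChange φ).mapIso e1.symm ≪≫ LDerived.lbcIso φ P
  have hKF' : IsKFlat (LDerived.extCx φ P) := isKFlat_extCx φ P hKF
  intro N i hi
  refine (exactAt_tens_res_iff φ N P i).2 ?_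
  have e3 : (DRing.LTensor B N).obj ((DRing.LBaseChange φ).obj K') ≅
      toD ((tens N).obj (LDerived.extCx φ P)) :=
    (DRing.LTensor B N).mapIso e2 ≪≫ LTKFlat.ltIsoOfIsKFlat N _ hKF' ≪≫
      Q.mapIso (tensRightIso N _)
  have e5 : (DRing.LTensor B N).obj ((DRing.LBaseChange φ).obj K') ≅
      toD ((tens N).obj E) :=
    (DRing.LTensor B N).mapIso eE.symm ≪≫ LTKFlat.ltIsoOfFlat N E b hE hfl ≪≫
      Q.mapIso (tensRightIso N _)
  have h0 : ((tens N).obj E).ExactAt i := by
    refine ShortComplex.exact_of_isZero_X₂ _ ?_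
    change IsZero (N ⊗ E.X i)
    exact Functor.map_isZero (tensorLeft N) (hE i hi)
  exact exactAt_of_subsingleton_HD _ i
    (subsingleton_HD_of_iso (e5.symm ≪≫ e3) i (subsingleton_HD_of_exactAt _ i h0))

/-- the input for the dévissage coming from tor amplitude of the base change -/
lemma base_of_torAmp (P : Cx A) [CochainComplex.IsKProjective P] (hKF : IsKFlat P)
    (K' : Dual.D A) (e1 : toD P ≅ K') (a b : ℤ)
    (h : HasTorAmplitudeIn B a b ((DRing.LBaseChange φ).obj K')) :
    ∀ N : ModuleCat.{u} B,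
      TorVanP P (fun i => i < a ∨ b < i) ((ModuleCat.restrictScalars φ).obj N) := by
  have e2 : (DRing.LBaseChange φ).obj K' ≅ toD (LDerived.extCx φ P) :=
    (DRing.LBaseChange φ).mapIso e1.symm ≪≫ LDerived.lbcIso φ P
  have hKF' : IsKFlat (LDerived.extCx φ P) := isKFlat_extCx φ P hKF
  intro N i hi
  refine (exactAt_tens_res_iff φ N P i).2 ?_
  have h1 := (torAmp_iff_ltensor _ a b).1 h N i hi
  have e3 : (DRing.LTensor B N).obj ((DRing.LBaseChange φ).obj K') ≅
      toD ((tens N).obj (LDerived.extCx φ P)) :=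
    (DRing.LTensor B N).mapIso e2 ≪≫ LTKFlat.ltIsoOfIsKFlat N _ hKF' ≪≫
      Q.mapIso (tensRightIso N _)
  exact exactAt_of_subsingleton_HD _ i (subsingleton_HD_of_iso e3 i h1)

end Base

variable [DRing.HasLBaseChange φ₁] [DRing.HasLBaseChange φ₂]

/-- boundedness above can be checked modulo two ideals with zero product -/
theorem isLE_two (hφ₁ : Function.Surjective φ₁) (hφ₂ : Function.Surjective φ₂)
    (hker : RingHom.ker φ₁ * RingHom.ker φ₂ = ⊥) (K' : Dual.D A) (b : ℤ)
    (E₁ : Cx B₁) (hE₁ : VanishesAbove E₁ b) (hfl₁ : TermwiseFlat E₁)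
    (eE₁ : toD E₁ ≅ (DRing.LBaseChange φ₁).obj K')
    (E₂ : Cx B₂) (hE₂ : VanishesAbove E₂ b) (hfl₂ : TermwiseFlat E₂)
    (eE₂ : toD E₂ ≅ (DRing.LBaseChange φ₂).obj K') : K'.IsLE b := by
  obtain ⟨P, π, hP, hπ, hKF, hflat, -⟩ :=
    KProjRes.exists_kprojective_resolution (Q.objPreimage K')
  haveI := hP
  haveI : IsIso (Q.map π) := by
    rw [isIso_Q_map_iff_quasiIso]
    exact hπ
  have e1 : toD P ≅ K' := asIso (Q.map π) ≪≫ Q.objObjPreimageIso K'
  have hall : ∀ N' : ModuleCat.{u} A, TorVanP P (fun i => b < i) N' :=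
    torVanP_two φ₁ φ₂ hφ₁ hφ₂ hker hflat
      (base_of_vanishesAbove φ₁ P hKF K' e1 b E₁ hE₁ hfl₁ eE₁)
      (base_of_vanishesAbove φ₂ P hKF K' e1 b E₂ hE₂ hfl₂ eE₂)
  have hex : ∀ i : ℤ, b < i → P.ExactAt i := fun i hi =>
    exactAt_of_exactAt_tens_unit P i (hall _ i hi)
  have hle : (toD P).IsLE b := by
    rw [DerivedCategory.isLE_iff]
    intro i hi
    have := hex i hi
    rw [HomologicalComplex.exactAt_iff_isZero_homology] at this
    exact IsZero.of_iso this ((homologyFunctorFactors (ModuleCat.{u} A) i).app P)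
  exact TStructure.t.isLE_of_iso e1 b

/-- tor amplitude can be checked modulo two ideals with zero product -/
theorem torAmp_two (hφ₁ : Function.Surjective φ₁) (hφ₂ : Function.Surjective φ₂)
    (hker : RingHom.ker φ₁ * RingHom.ker φ₂ = ⊥) (K' : Dual.D A) (a b : ℤ)
    (h₁ : HasTorAmplitudeIn B₁ a b ((DRing.LBaseChange φ₁).obj K'))
    (h₂ : HasTorAmplitudeIn B₂ a b ((DRing.LBaseChange φ₂).obj K')) :
    HasTorAmplitudeIn A a b K' := by
  obtain ⟨P, π, hP, hπ, hKF, hflat, -⟩ :=
    KProjRes.exists_kprojective_resolution (Q.objPreimage K')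
  haveI := hP
  haveI : IsIso (Q.map π) := by
    rw [isIso_Q_map_iff_quasiIso]
    exact hπ
  have e1 : toD P ≅ K' := asIso (Q.map π) ≪≫ Q.objObjPreimageIso K'
  have hall : ∀ N' : ModuleCat.{u} A, TorVanP P (fun i => i < a ∨ b < i) N' :=
    torVanP_two φ₁ φ₂ hφ₁ hφ₂ hker hflat
      (base_of_torAmp φ₁ P hKF K' e1 a b h₁) (base_of_torAmp φ₂ P hKF K' e1 a b h₂)
  rw [torAmp_iff_ltensor]
  intro N' i hi
  have e4 : (DRing.LTensor A N').obj K' ≅ toD ((tens N').obj P) :=
    (DRing.LTensor A N').mapIso e1.symm ≪≫ LDerived.ltIso A N' P ≪≫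
      Q.mapIso (tensRightIso N' P)
  exact subsingleton_HD_of_iso e4.symm i (subsingleton_HD_of_exactAt _ i (hall N' i hi))

section PC

open Groth.Agent.Lib.Helper84.NilPC

/-- the top cohomology of the derived base change, through a free representative -/
lemma finite_ext_opcycles (φ : A →+* B) [DRing.HasLBaseChange φ] (X : Dual.D A) (j : ℤ)
    (G : Cx A) (hG : ∀ i : ℤ, j < i → IsZero (G.X i)) (hfree : ∀ q, Module.Free A (G.X q))
    (e : toD G ≅ X)
    (h : Module.Finite B
      ((homologyFunctor (ModuleCat.{u} B) j).obj ((DRing.LBaseChange φ).obj X))) :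
    Module.Finite B ((ModuleCat.extendScalars.{u, u, u} φ).obj (G.opcycles j)) := by
  have hfl : ∀ q, Module.Flat A (G.X q) := fun q => by
    haveI := hfree q
    infer_instance
  have eL : (DRing.LBaseChange φ).obj X ≅ toD (LDerived.extCx φ G) :=
    (DRing.LBaseChange φ).mapIso e.symm ≪≫ LBCKFlat.lbcIsoOfFlat φ G j hG hfl
  have hz : IsZero ((LDerived.extCx φ G).X (j + 1)) :=
    Functor.map_isZero (ModuleCat.extendScalars.{u, u, u} φ) (hG (j + 1) (by lia))
  have hd : (LDerived.extCx φ G).d j (j + 1) = 0 := hz.eq_of_tgt _ _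
  have i1 : (homologyFunctor (ModuleCat.{u} B) j).obj ((DRing.LBaseChange φ).obj X) ≅
      (ModuleCat.extendScalars.{u, u, u} φ).obj (G.opcycles j) :=
    (homologyFunctor (ModuleCat.{u} B) j).mapIso eL ≪≫ PCHomology.homologyIso _ j ≪≫
      (LDerived.extCx φ G).isoHomologyι j (j + 1) (by simp) hd ≪≫
        (extOpcyclesIso φ G (j - 1) j (by lia)).symm
  exact finite_of_iso i1 h

/-- module-level: finiteness descends along two surjections with zero product of kernels -/
lemma finite_of_finite_extendScalars_two (hφ₁ : Function.Surjective φ₁)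
    (hφ₂ : Function.Surjective φ₂) (hker : RingHom.ker φ₁ * RingHom.ker φ₂ = ⊥)
    (M : ModuleCat.{u} A)
    (h₁ : Module.Finite B₁ ((ModuleCat.extendScalars.{u, u, u} φ₁).obj M))
    (h₂ : Module.Finite B₂ ((ModuleCat.extendScalars.{u, u, u} φ₂).obj M)) :
    Module.Finite A M := by
  letI := φ₁.toAlgebra
  letI := φ₂.toAlgebra
  haveI : Module.Finite B₁ (TensorProduct A B₁ M) := h₁
  haveI : Module.Finite B₂ (TensorProduct A B₂ M) := h₂
  exact finite_of_finite_tensor_two (B₁ := B₁) (B₂ := B₂) M hφ₁ hφ₂ hker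

/-- finiteness of the top cohomology can be checked modulo two ideals with zero product -/
theorem finite_homology_two (hφ₁ : Function.Surjective φ₁) (hφ₂ : Function.Surjective φ₂)
    (hker : RingHom.ker φ₁ * RingHom.ker φ₂ = ⊥) (X : Dual.D A) (j : ℤ) [X.IsLE j]
    (h₁ : Module.Finite B₁
      ((homologyFunctor (ModuleCat.{u} B₁) j).obj ((DRing.LBaseChange φ₁).obj X)))
    (h₂ : Module.Finite B₂
      ((homologyFunctor (ModuleCat.{u} B₂) j).obj ((DRing.LBaseChange φ₂).obj X))) :
    Module.Finite A ((homologyFunctor (ModuleCat.{u} A) j).obj X) := by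
  obtain ⟨G, hG, hfree, ⟨e⟩⟩ := FreeRes.exists_free_representative X j
    (fun i hi => (DerivedCategory.isLE_iff X j).1 inferInstance i hi)
  have hd' : G.d j (j + 1) = 0 := (hG (j + 1) (by lia)).eq_of_tgt _ _
  have h2 : Module.Finite A (G.opcycles j) :=
    finite_of_finite_extendScalars_two φ₁ φ₂ hφ₁ hφ₂ hker _
      (finite_ext_opcycles φ₁ X j G hG hfree e h₁) (finite_ext_opcycles φ₂ X j G hG hfree e h₂)
  have i2 : G.opcycles j ≅ (homologyFunctor (ModuleCat.{u} A) j).obj X :=
    (G.isoHomologyι j (j + 1) (by simp) hd').symm ≪≫ (PCHomology.homologyIso G j).symm ≪≫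
      (homologyFunctor (ModuleCat.{u} A) j).mapIso e
  exact finite_of_iso i2 h2

/-- the top cohomology of the base change of the cone of an approximation is finite -/
lemma finite_homology_cone (φ : A →+* B) [DRing.HasLBaseChange φ] (K' : Dual.D A)
    (L : Cx A) (e : Q.obj L ≅ K') (t : ℤ) (h : PCAll B ((DRing.LBaseChange φ).obj K'))
    (j : ℤ) (F : Cx A) (α : F ⟶ L) (hF : DRing.VanishesOutside F (j + 1) t)
    (hff : ∀ i, Module.Finite A (F.X i) ∧ Module.Free A (F.X i))
    (hacyc : ∀ i : ℤ, j < i →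
      IsZero ((homologyFunctor (ModuleCat.{u} A) i).obj (Q.obj (CochainComplex.mappingCone α)))) :
    Module.Finite B ((homologyFunctor (ModuleCat.{u} B) j).obj
      ((DRing.LBaseChange φ).obj (Q.obj (CochainComplex.mappingCone α)))) := by
  haveI : (Q.obj (CochainComplex.mappingCone α)).IsLE j :=
    (DerivedCategory.isLE_iff _ j).2 hacyc
  have hT := DerivedCategory.mappingCone_triangle_distinguished α
  obtain ⟨δ, hT'⟩ := LDerivedTri.exists_distTriang_LBaseChange φ _ hT
  have h₁ : PCAll B ((DRing.LBaseChange φ).obj (Q.obj F)) := by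
    have eF : (DRing.LBaseChange φ).obj (toD F) ≅ toD (LDerived.extCx φ F) :=
      LBCKFlat.lbcIsoOfFlat φ F t (fun q hq => hF q (Or.inr hq)) (fun q => by
        haveI := (hff q).2
        infer_instance)
    refine PCAll.of_iso eF.symm (pcAll_of_finiteFree _ (j + 1) t ?_ ?_)
    · intro i hi
      exact Functor.map_isZero (ModuleCat.extendScalars.{u, u, u} φ) (hF i hi)
    · intro i
      exact finiteFree_extendScalars φ _ (hff i)
  have h₂ : PCAll B ((DRing.LBaseChange φ).obj (Q.obj L)) :=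
    PCAll.of_iso ((DRing.LBaseChange φ).mapIso e.symm) h
  have h₃ : PCAll B ((DRing.LBaseChange φ).obj (Q.obj (CochainComplex.mappingCone α))) :=
    PCAll.obj₃ _ hT' h₁ h₂
  haveI : ((DRing.LBaseChange φ).obj (Q.obj (CochainComplex.mappingCone α))).IsLE j :=
    LBCExact.isLE_LBaseChange φ _ j
  exact PCHomology.finite_homology_of_isPseudoCoherent _ j (h₃ j)
    ((DerivedCategory.isLE_iff _ j).1 inferInstance)

/-- pseudo-coherence of bounded above objects can be checked modulo two ideals with zero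
product -/
theorem pcAll_two (hφ₁ : Function.Surjective φ₁) (hφ₂ : Function.Surjective φ₂)
    (hker : RingHom.ker φ₁ * RingHom.ker φ₂ = ⊥) (K' : Dual.D A) (t : ℤ) [K'.IsLE t]
    (h₁ : PCAll B₁ ((DRing.LBaseChange φ₁).obj K'))
    (h₂ : PCAll B₂ ((DRing.LBaseChange φ₂).obj K')) : PCAll A K' := by
  intro m
  let L : Cx A := Q.objPreimage K'
  let e : Q.obj L ≅ K' := Q.objObjPreimageIso K'
  refine PCTower.isPseudoCoherent_of_finCond L e t m
    ((DerivedCategory.isLE_iff K' t).1 inferInstance) ?_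
  intro j _ _ F α hF hff hacyc
  haveI : (Q.obj (CochainComplex.mappingCone α)).IsLE j :=
    (DerivedCategory.isLE_iff _ j).2 hacyc
  exact finite_homology_two φ₁ φ₂ hφ₁ hφ₂ hker _ j
    (finite_homology_cone φ₁ K' L e t h₁ j F α hF hff hacyc)
    (finite_homology_cone φ₂ K' L e t h₂ j F α hF hff hacyc)

end PC

end Groth.Agent.Lib.Helper15.TwoIdeal
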